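import Mathlib

/-!
# The Schur multiplier of the alternating group

Canonical lifts of three cycles satisfy Carmichael's relations up to one central involution.
-/

set_option autoImplicit false

namespace CfsgLib.Clifford.AltSchur

open Equiv Equiv.Perm
open scoped commutatorElement

universe u v

/-- Carmichael's presentation bounds the order. -/
theorem carmichael_bound {K : Type u} [Group K] [Finite K] : ∀ (m : ℕ) (x : Fin m → K),
    (∀ i, x i ^ 3 = 1) → (∀ i j, i ≠ j → (x i * x j) * (x i * x j) = 1) →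
      2 * Nat.card (Subgroup.closure (Set.range x)) ≤ (m + 2).factorial := by
  intro m
  induction m with
  | zero =>
    intro x _ _
    rw [Set.range_eq_empty x, Subgroup.closure_empty, Subgroup.card_bot]
    decide
  | succ m ih =>
    intro x h3 h2
    classical
    set y := x (Fin.last m) with hy
    set H := Subgroup.closure (Set.range fun i : Fin m => x i.castSucc) with hH
    let r : Fin 3 ⊕ Fin m → K := Sum.elim (fun k => y ^ (k : ℕ)) (fun j => y ^ 2 * x j.castSucc)
    let S : Set K := Set.range fun p : H × (Fin 3 ⊕ Fin m) => (p.1 : K) * r p.2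
    have hy3 : y ^ 3 = 1 := h3 _
    have hinv : ∀ i, (x i)⁻¹ = x i * x i := fun i => by
      rw [inv_eq_iff_mul_eq_one, ← mul_assoc, ← pow_two, ← pow_succ]; exact h3 i
    have hflip : ∀ i j, i ≠ j → x i * x j = (x j)⁻¹ * (x i)⁻¹ := fun i j hij => by
      rw [← mul_inv_rev]; exact eq_inv_of_mul_eq_one_left (h2 i j hij)
    have hmemH : ∀ j : Fin m, x j.castSucc ∈ H := fun j => Subgroup.subset_closure ⟨j, rfl⟩
    have hne : ∀ j : Fin m, j.castSucc ≠ Fin.last m := fun j => (Fin.castSucc_lt_last j).ne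
    have hyy : y⁻¹ = y * y := hinv _
    have key : ∀ (s : Fin 3 ⊕ Fin m) (i : Fin (m + 1)), ∃ h ∈ H, ∃ t, r s * x i = h * r t := by
      intro s i
      rcases Fin.eq_castSucc_or_eq_last i with ⟨k, rfl⟩ | rfl
      · rcases s with s | j
        · fin_cases s
          · refine ⟨x k.castSucc, hmemH k, .inl 0, ?_⟩
            simp [r]
          · refine ⟨(x k.castSucc)⁻¹, inv_mem (hmemH k), .inl 2, ?_⟩
            simp only [r, Sum.elim_inl, Fin.isValue, pow_one]
            rw [hflip _ _ (hne k).symm, show x (Fin.last m) = y from rfl, hyy]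
            simp [pow_two]
          · refine ⟨1, one_mem _, .inr k, ?_⟩
            simp [r]
        · by_cases hjk : j = k
          · subst hjk
            refine ⟨x j.castSucc, hmemH j, .inl 1, ?_⟩
            simp only [r, Sum.elim_inl, Sum.elim_inr, Fin.isValue, Fin.val_one, pow_one, pow_two,
              mul_assoc]
            rw [← hinv j.castSucc, ← mul_assoc, ← hyy, show x j.castSucc * y = _ from
              hflip _ _ (hne j)]
          · refine ⟨x k.castSucc * (x j.castSucc)⁻¹, mul_mem (hmemH k) (inv_mem (hmemH j)),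
              .inr j, ?_⟩
            have hjk' : j.castSucc ≠ k.castSucc := fun e => hjk (Fin.castSucc_injective _ e)
            have e1 : x j.castSucc * x k.castSucc =
                (x k.castSucc)⁻¹ * (x j.castSucc)⁻¹ := hflip _ _ hjk'
            have e2 : x k.castSucc * y = y⁻¹ * (x k.castSucc)⁻¹ := hflip _ _ (hne k)
            have e3 : (x j.castSucc)⁻¹ = y * x j.castSucc * y := by
              refine inv_eq_of_mul_eq_one_right ?_
              have := h2 _ _ (hne j)
              rw [← hy] at this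
              simpa [mul_assoc] using this
            have e4 : y⁻¹ * (x k.castSucc)⁻¹ * (x j.castSucc)⁻¹ =
                x k.castSucc * (y * (x j.castSucc)⁻¹) := by
              rw [← mul_assoc, e2]
            calc r (.inr j) * x k.castSucc = y⁻¹ * (x j.castSucc * x k.castSucc) := by
                  simp only [r, Sum.elim_inr]; rw [hyy, pow_two]; simp [mul_assoc]
              _ = y⁻¹ * (x k.castSucc)⁻¹ * (x j.castSucc)⁻¹ := by rw [e1, mul_assoc]
              _ = x k.castSucc * (y * (x j.castSucc)⁻¹) := e4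
              _ = x k.castSucc * (x j.castSucc)⁻¹ * (y⁻¹ * x j.castSucc) := by
                  have e5 : y * x j.castSucc = (x j.castSucc)⁻¹ * y⁻¹ := hflip _ _ (hne j).symm
                  rw [mul_assoc]
                  congr 1
                  rw [← mul_assoc, ← e5, hinv, mul_assoc]
              _ = _ := by simp only [r, Sum.elim_inr]; rw [hyy, pow_two]
      · rcases s with s | j
        · fin_cases s
          · exact ⟨1, one_mem _, .inl 1, by simp [r, hy]⟩
          · exact ⟨1, one_mem _, .inl 2, by simp [r, hy, pow_two]⟩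
          · exact ⟨1, one_mem _, .inl 0, by
              simp only [r, Sum.elim_inl, Fin.isValue, one_mul]
              rw [← hy]
              simpa [← pow_succ] using hy3⟩
        · refine ⟨(x j.castSucc)⁻¹, inv_mem (hmemH j), .inr j, ?_⟩
          have e : x j.castSucc * y = y⁻¹ * (x j.castSucc)⁻¹ := hflip _ _ (hne j)
          simp only [r, Sum.elim_inr]
          rw [show y ^ 2 = y⁻¹ by rw [hyy, pow_two]]
          have e3 : (x j.castSucc)⁻¹ = y * x j.castSucc * y := by
            refine inv_eq_of_mul_eq_one_right ?_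
            have := h2 _ _ (hne j)
            rw [← hy] at this
            simpa [mul_assoc] using this
          show y⁻¹ * x j.castSucc * y = (x j.castSucc)⁻¹ * (y⁻¹ * x j.castSucc)
          calc y⁻¹ * x j.castSucc * y = y⁻¹ * (x j.castSucc * y) := mul_assoc _ _ _
            _ = y * (x j.castSucc)⁻¹ := by
                rw [e, ← mul_assoc, ← mul_inv_rev, ← hyy, inv_inv]
            _ = y * x j.castSucc * x j.castSucc := by rw [hinv, mul_assoc]
            _ = _ := by rw [e3]; group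
    have hS : ∀ g ∈ Subgroup.closure (Set.range x), g ∈ S := by
      intro g hg
      rw [← Subgroup.mem_toSubmonoid, Subgroup.closure_toSubmonoid_of_finite] at hg
      refine Submonoid.closure_induction_right ⟨⟨1, .inl 0⟩, by simp [r]⟩ ?_ hg
      rintro z _ _ ⟨i, rfl⟩ ⟨⟨h, s⟩, rfl⟩
      obtain ⟨h', hh', t, e⟩ := key s i
      exact ⟨⟨h * ⟨h', hh'⟩, t⟩, by simp [mul_assoc, e]⟩
    have hcard : Nat.card (Subgroup.closure (Set.range x)) ≤ Nat.card H * (3 + m) :=
      calc Nat.card (Subgroup.closure (Set.range x)) ≤ S.ncard := by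
            rw [← Nat.card_coe_set_eq]
            exact Nat.card_le_card_of_injective (fun g => ⟨g, hS g g.2⟩)
              fun a b e => Subtype.ext (congr_arg Subtype.val e :)
        _ ≤ Nat.card (H × (Fin 3 ⊕ Fin m)) := by
            rw [← Nat.card_coe_set_eq]; exact Finite.card_range_le _
        _ = _ := by simp [Nat.card_prod]
    have h' := ih (fun i => x i.castSucc) (fun i => h3 _)
      (fun i j hij => h2 _ _ fun e => hij (Fin.castSucc_injective _ e))
    rw [← hH] at h'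
    rw [show m + 1 + 2 = (m + 2) + 1 by omega, Nat.factorial_succ]
    calc 2 * Nat.card (Subgroup.closure (Set.range x)) ≤ 2 * (Nat.card H * (3 + m)) :=
          Nat.mul_le_mul_left 2 hcard
      _ = (2 * Nat.card H) * (m + 2 + 1) := by ring
      _ ≤ (m + 2).factorial * (m + 2 + 1) := Nat.mul_le_mul_right _ h'
      _ = _ := mul_comm _ _

variable {n : ℕ}

/-- The three cycle sending `x` to `y` to `z`. -/
def c3 (x y z : Fin n) : Perm (Fin n) := swap x y * swap y z

theorem c3_mem {x y z : Fin n} (hxy : x ≠ y) (hyz : y ≠ z) :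
    c3 x y z ∈ alternatingGroup (Fin n) := by
  rw [mem_alternatingGroup, c3, map_mul, sign_swap hxy, sign_swap hyz]; rfl

theorem c3_conj (g : Perm (Fin n)) (x y z : Fin n) :
    g * c3 x y z * g⁻¹ = c3 (g x) (g y) (g z) := by
  rw [c3, c3, swap_apply_apply, swap_apply_apply]; group

theorem c3_fst {x y z : Fin n} (hxy : x ≠ y) (hxz : x ≠ z) : c3 x y z x = y := by
  simp [c3, swap_apply_of_ne_of_ne hxy hxz]

theorem c3_snd {x y z : Fin n} (hxz : x ≠ z) (hyz : y ≠ z) : c3 x y z y = z := by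
  simp [c3, swap_apply_of_ne_of_ne hxz.symm hyz.symm]

theorem c3_thd (x y z : Fin n) : c3 x y z z = x := by simp [c3]

theorem c3_other {x y z w : Fin n} (h1 : w ≠ x) (h2 : w ≠ y) (h3 : w ≠ z) : c3 x y z w = w := by
  simp [c3, swap_apply_of_ne_of_ne h2 h3, swap_apply_of_ne_of_ne h1 h2]

theorem c3_inv {x y z : Fin n} (hxy : x ≠ y) (hxz : x ≠ z) (hyz : y ≠ z) :
    (c3 x y z)⁻¹ = c3 x z y := by
  rw [inv_eq_iff_mul_eq_one]
  refine Equiv.ext fun w => ?_
  rw [Perm.mul_apply, Perm.one_apply]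
  by_cases h1 : w = x
  · subst h1; rw [c3_fst hxz hxy, c3_thd]
  by_cases h2 : w = y
  · subst h2; rw [c3_thd, c3_fst hxy hxz]
  by_cases h3 : w = z
  · subst h3; rw [c3_snd hxy hyz.symm, c3_snd hxz hyz]
  rw [c3_other h1 h3 h2, c3_other h1 h2 h3]

theorem c3_cube {x y z : Fin n} (hxy : x ≠ y) (hxz : x ≠ z) (hyz : y ≠ z) : c3 x y z ^ 3 = 1 := by
  refine Equiv.ext fun w => ?_
  rw [pow_succ, pow_two, Perm.mul_apply, Perm.mul_apply, Perm.one_apply]
  by_cases h1 : w = x
  · subst h1; rw [c3_fst hxy hxz, c3_snd hxz hyz, c3_thd]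
  by_cases h2 : w = y
  · subst h2; rw [c3_snd hxz hyz, c3_thd, c3_fst hxy hxz]
  by_cases h3 : w = z
  · subst h3; rw [c3_thd, c3_fst hxy hxz, c3_snd hxz hyz]
  rw [c3_other h1 h2 h3, c3_other h1 h2 h3, c3_other h1 h2 h3]

theorem exists_c3 {p : Perm (Fin n)} (hp : p.IsThreeCycle) :
    ∃ x y z, x ≠ y ∧ x ≠ z ∧ y ≠ z ∧ p = c3 x y z := by
  obtain ⟨x, hx⟩ : p.support.Nonempty := by rw [← Finset.card_pos, hp.card_support]; norm_num
  have h3 : p ^ 3 = 1 := hp.orderOf ▸ pow_orderOf_eq_one p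
  have hx1 : p x ≠ x := mem_support.mp hx
  have h3' : ∀ w, p (p (p w)) = w := fun w => by
    have := Perm.congr_fun h3 w
    rwa [pow_succ, pow_two] at this
  have hx2 : p (p x) ≠ x := fun e => hx1 (by conv_rhs => rw [← h3' x]; rw [e])
  have hx3 : p x ≠ p (p x) := fun e => hx1 (p.injective e).symm
  refine ⟨x, p x, p (p x), Ne.symm hx1, Ne.symm hx2, hx3, Equiv.ext fun w => ?_⟩
  by_cases h1 : w = x
  · subst h1; rw [c3_fst (Ne.symm hx1) (Ne.symm hx2)]
  by_cases h2 : w = p x
  · subst h2; rw [c3_snd (Ne.symm hx2) hx3]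
  by_cases h4 : w = p (p x)
  · subst h4; rw [c3_thd, h3']
  rw [c3_other h1 h2 h4]
  by_contra hw
  have : ({x, p x, p (p x), w} : Finset (Fin n)) ⊆ p.support := by
    intro v hv
    simp only [Finset.mem_insert, Finset.mem_singleton] at hv
    rw [mem_support]
    rcases hv with rfl | rfl | rfl | rfl
    · exact hx1
    · exact fun e => hx1 (p.injective e)
    · exact fun e => hx1 (p.injective (p.injective e))
    · exact hw
  have := Finset.card_le_card this
  rw [hp.card_support] at this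
  simp [Ne.symm hx1, Ne.symm hx2, hx3, Ne.symm h1, Ne.symm h2, Ne.symm h4] at this

theorem exists_two_outside (F : Finset (Fin n)) (h : F.card + 2 ≤ n) :
    ∃ k l, k ≠ l ∧ k ∉ F ∧ l ∉ F := by
  obtain ⟨k, hk, l, hl, hkl⟩ := Finset.one_lt_card.mp
    (show 1 < Fᶜ.card by rw [Finset.card_compl, Fintype.card_fin]; omega)
  exact ⟨k, l, hkl, Finset.mem_compl.mp hk, Finset.mem_compl.mp hl⟩

/-- An even permutation inverting a three cycle and avoiding a given set. -/
theorem exists_inverter {x y z : Fin n} (hxy : x ≠ y) (hxz : x ≠ z) (hyz : y ≠ z)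
    (F : Finset (Fin n)) (hF : ({x, y, z} ∪ F).card + 2 ≤ n) (hd : ∀ w ∈ F, w ≠ y ∧ w ≠ z) :
    ∃ s ∈ alternatingGroup (Fin n), s * c3 x y z * s⁻¹ = (c3 x y z)⁻¹ ∧ ∀ w ∈ F, s w = w := by
  obtain ⟨k, l, hkl, hk, hl⟩ := exists_two_outside _ hF
  simp only [Finset.mem_union, Finset.mem_insert, Finset.mem_singleton, not_or] at hk hl
  obtain ⟨⟨hkx, hky, hkz⟩, hkF⟩ := hk
  obtain ⟨⟨hlx, hly, hlz⟩, hlF⟩ := hl
  refine ⟨swap y z * swap k l, ?_, ?_, fun w hw => ?_⟩
  · rw [mem_alternatingGroup, map_mul, sign_swap hyz, sign_swap hkl]; rfl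
  · rw [c3_conj, c3_inv hxy hxz hyz]
    simp [swap_apply_of_ne_of_ne (Ne.symm hkx) (Ne.symm hlx), swap_apply_of_ne_of_ne (Ne.symm hky) (Ne.symm hly),
      swap_apply_of_ne_of_ne (Ne.symm hkz) (Ne.symm hlz), swap_apply_of_ne_of_ne hxy hxz]
  · rw [Perm.mul_apply, swap_apply_of_ne_of_ne (fun e : w = k => hkF (e ▸ hw))
      (fun e : w = l => hlF (e ▸ hw)), swap_apply_of_ne_of_ne (hd w hw).1 (hd w hw).2]

theorem three_cycle_mem_of_gens {a b : Fin n} (hab : a ≠ b) {T : Subgroup (Perm (Fin n))}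
    (hT : ∀ i, i ≠ a → i ≠ b → c3 a b i ∈ T) : alternatingGroup (Fin n) ≤ T := by
  rw [← closure_three_cycles_eq_alternating, Subgroup.closure_le]
  have rot : ∀ x y z : Fin n, x ≠ y → x ≠ z → y ≠ z → c3 x y z = c3 y z x := by
    intro x y z h1 h2 h3
    calc c3 x y z = c3 x y z * c3 x y z * (c3 x y z)⁻¹ := by group
      _ = _ := by rw [c3_conj, c3_fst h1 h2, c3_snd h2 h3, c3_thd]
  have rev : ∀ x y z : Fin n, x ≠ y → x ≠ z → y ≠ z → c3 x z y ∈ T → c3 x y z ∈ T := by
    intro x y z h1 h2 h3 h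
    rw [← c3_inv h2 h1 h3.symm]; exact inv_mem h
  have hB : ∀ i j : Fin n, i ≠ j → i ≠ a → j ≠ a → i ≠ b → j ≠ b → c3 b i j ∈ T := by
    intro i j hij hia hja hib hjb
    have := mul_mem (mul_mem (hT i hia hib) (hT j hja hjb)) (inv_mem (hT i hia hib))
    rwa [c3_conj, c3_fst hab hia.symm, c3_snd hia.symm hib.symm, c3_other hja hjb hij.symm] at this
  have hA : ∀ i j : Fin n, i ≠ j → i ≠ a → j ≠ a → i ≠ b → j ≠ b → c3 a i j ∈ T := by
    intro i j hij hia hja hib hjb
    have := mul_mem (mul_mem (inv_mem (hT j hja hjb)) (hT i hia hib))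
      (inv_mem (inv_mem (hT j hja hjb)))
    rw [c3_conj, c3_inv hab hja.symm hjb.symm, c3_fst hja.symm hab, c3_thd,
      c3_other hia hij hib] at this
    rwa [← rot j a i hja hij.symm hia.symm]
  rintro p hp
  obtain ⟨x, y, z, hxy, hxz, hyz, rfl⟩ := exists_c3 hp
  -- move a distinguished point to the front
  have main : ∀ u v w : Fin n, u ≠ v → u ≠ w → v ≠ w → (u = a ∨ u = b) → c3 u v w ∈ T := by
    intro u v w h1 h2 h3 hu
    rcases hu with hu | hu <;> subst hu
    · by_cases hv : v = b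
      · subst hv; exact hT w h2.symm h3.symm
      by_cases hw : w = b
      · subst hw; exact rev _ _ _ h1 h2 h3 (hT v h1.symm hv)
      exact hA v w h3 h1.symm h2.symm hv hw
    · by_cases hv : v = a
      · subst hv
        rw [← rot w u v h2.symm h3.symm h1, ← rot v w u h3 h1.symm h2.symm]
        exact rev _ _ _ h3 h1.symm h2.symm (hT w h3.symm h2.symm)
      by_cases hw : w = a
      · subst hw
        rw [rot u v w h1 h2 h3, rot v w u h3 h1.symm h2.symm]
        exact hT v h3 h1.symm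
      exact hB v w h3 hv hw h1.symm h2.symm
  show c3 x y z ∈ T
  by_cases hx : x = a ∨ x = b
  · exact main _ _ _ hxy hxz hyz hx
  by_cases hy : y = a ∨ y = b
  · rw [rot x y z hxy hxz hyz]; exact main _ _ _ hyz hxy.symm hxz.symm hy
  by_cases hz : z = a ∨ z = b
  · rw [rot x y z hxy hxz hyz, rot y z x hyz hxy.symm hxz.symm]
    exact main _ _ _ hxz.symm hyz.symm hxy hz
  push Not at hx hy hz
  have := mul_mem (mul_mem (hT x hx.1 hx.2) (hB y z hyz hy.1 hz.1 hy.2 hz.2))
    (inv_mem (hT x hx.1 hx.2))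
  rwa [c3_conj, c3_snd hx.1.symm hx.2.symm, c3_other hy.1 hy.2 hxy.symm,
    c3_other hz.1 hz.2 hxz.symm] at this

variable {Γ : Type u} [Group Γ] (σ : Γ →* Perm (Fin n)) (hσ : σ.range = alternatingGroup (Fin n))
  (hc : σ.ker ≤ Subgroup.center Γ)

include hc in
theorem commute_ker {k : Γ} (hk : k ∈ σ.ker) (g : Γ) : g * k = k * g :=
  Subgroup.mem_center_iff.mp (hc hk) g

include hσ in
theorem exists_lift {p : Perm (Fin n)} (hp : p ∈ alternatingGroup (Fin n)) : ∃ g, σ g = p := by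
  rw [← hσ] at hp; exact hp

include hσ hc in
/-- Lifts of disjoint three cycles commute. -/
theorem disjoint_commute (hn : n = 5 ∨ 8 ≤ n) {x y z x' y' z' : Fin n} (h1 : x ≠ y) (h2 : x ≠ z)
    (h3 : y ≠ z) (h1' : x' ≠ y') (h2' : x' ≠ z') (h3' : y' ≠ z')
    (hd : ∀ w ∈ ({x', y', z'} : Finset (Fin n)), w ∉ ({x, y, z} : Finset (Fin n)))
    {U Y : Γ} (hU : σ U = c3 x y z) (hY : σ Y = c3 x' y' z') : Y * U = U * Y := by
  have h6 : ({x, y, z} ∪ {x', y', z'} : Finset (Fin n)).card = 6 := by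
    rw [Finset.card_union_of_disjoint (Finset.disjoint_right.mpr fun w hw => hd w hw),
      Finset.card_eq_three.mpr ⟨x, y, z, h1, h2, h3, rfl⟩,
      Finset.card_eq_three.mpr ⟨x', y', z', h1', h2', h3', rfl⟩]
  have hn8 : 8 ≤ n := by
    have := Finset.card_le_univ ({x, y, z} ∪ {x', y', z'} : Finset (Fin n))
    rw [h6, Fintype.card_fin] at this
    omega
  have hd' : ∀ w ∈ ({x', y', z'} : Finset (Fin n)), w ≠ x ∧ w ≠ y ∧ w ≠ z := fun w hw => by
    simpa using hd w hw
  obtain ⟨s, hs, hsx, hsw⟩ := exists_inverter h1 h2 h3 {x', y', z'} (by omega)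
    fun w hw => (hd' w hw).2
  obtain ⟨S, rfl⟩ := exists_lift σ hσ hs
  set C := Y * U * Y⁻¹ * U⁻¹ with hC
  suffices hC1 : C = 1 by
    calc Y * U = C * (U * Y) := by rw [hC]; group
      _ = U * Y := by rw [hC1, one_mul]
  have cfix : σ Y * σ U * (σ Y)⁻¹ = σ U := by
    rw [hU, c3_conj, hY]
    have hf : ∀ w ∈ ({x, y, z} : Finset (Fin n)), c3 x' y' z' w = w := fun w hw =>
      c3_other (fun e => hd x' (by simp) (e ▸ hw)) (fun e => hd y' (by simp) (e ▸ hw))
        (fun e => hd z' (by simp) (e ▸ hw))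
    rw [hf x (by simp), hf y (by simp), hf z (by simp)]
  have hCk : C ∈ σ.ker := by
    rw [MonoidHom.mem_ker, hC, map_mul, map_mul, map_mul, map_inv, map_inv, cfix, mul_inv_cancel]
  -- conjugation by `S`
  have hSU : S * U * S⁻¹ * U ∈ σ.ker := by
    rw [MonoidHom.mem_ker, map_mul, map_mul, map_mul, map_inv, hU, hsx, inv_mul_cancel]
  have hSY : S * Y * S⁻¹ * Y⁻¹ ∈ σ.ker := by
    rw [MonoidHom.mem_ker, map_mul, map_mul, map_mul, map_inv, map_inv, hY, c3_conj,
      hsw x' (by simp), hsw y' (by simp), hsw z' (by simp), mul_inv_cancel]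
  have hc' : ∀ k ∈ σ.ker, ∀ g : Γ, g * k = k * g := fun _ hk g => commute_ker σ hc hk g
  have hYU : Y * U * Y⁻¹ = C * U := by rw [hC]; group
  obtain ⟨k, hk, ek⟩ : ∃ k ∈ σ.ker, S * U * S⁻¹ = k * U⁻¹ :=
    ⟨_, hSU, by group⟩
  obtain ⟨l, hl, el⟩ : ∃ l ∈ σ.ker, S * Y * S⁻¹ = l * Y :=
    ⟨_, hSY, by group⟩
  have eC : C = C⁻¹ := by
    calc C = S * C * S⁻¹ := by rw [hc' C hCk S, mul_inv_cancel_right]
      _ = (S * Y * S⁻¹) * (S * U * S⁻¹) * (S * Y * S⁻¹)⁻¹ * (S * U * S⁻¹)⁻¹ := by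
          rw [hC]; group
      _ = l * (Y * k) * U⁻¹ * Y⁻¹ * l⁻¹ * (U * k⁻¹) := by rw [ek, el]; group
      _ = (Y * U * Y⁻¹)⁻¹ * U := by
          rw [hc' k hk Y, show l * (k * Y) * U⁻¹ * Y⁻¹ * l⁻¹ * (U * k⁻¹) =
            l * (k * (Y * U⁻¹ * Y⁻¹ * l⁻¹ * U)) * k⁻¹ by group,
            ← hc' k hk (Y * U⁻¹ * Y⁻¹ * l⁻¹ * U), ← mul_assoc l, mul_inv_cancel_right,
            ← hc' l hl, show Y * U⁻¹ * Y⁻¹ * l⁻¹ * U * l = Y * U⁻¹ * Y⁻¹ * l⁻¹ * (U * l) by group,
            hc' l hl U]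
          group
      _ = C⁻¹ := by rw [hYU, mul_inv_rev, mul_assoc, ← hc' C⁻¹ (inv_mem hCk) U, ← mul_assoc]; group
  have hU3 : U ^ 3 ∈ σ.ker := by rw [MonoidHom.mem_ker, map_pow, hU, c3_cube h1 h2 h3]
  have hcomm : Commute C U := (hc' C hCk U).symm
  have eC3 : C ^ 3 = 1 := by
    have : (C * U) ^ 3 = U ^ 3 := by
      rw [← hYU, conj_pow, hc' _ hU3 Y, mul_inv_cancel_right]
    rwa [hcomm.mul_pow, mul_eq_right] at this
  have eC2 : C * C = 1 := by rwa [eq_inv_iff_mul_eq_one] at eC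
  rwa [pow_succ, pow_two, eC2, one_mul] at eC3

include hσ hc in
/-- Lifts centralising a three cycle centralise its lifts. -/
theorem centralize_lift (hn : n = 5 ∨ 8 ≤ n) {x y z : Fin n} (h1 : x ≠ y) (h2 : x ≠ z) (h3 : y ≠ z)
    {U g : Γ} (hU : σ U = c3 x y z) (hg : σ g * σ U = σ U * σ g) : g * U = U * g := by
  classical
  have hc' : ∀ k ∈ σ.ker, ∀ g : Γ, g * k = k * g := fun _ hk g => commute_ker σ hc hk g
  set W := (Subgroup.centralizer ({U} : Set Γ)).map σ with hW
  suffices hgW : σ g ∈ W by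
    obtain ⟨h, hh, e⟩ := hgW
    have hk : h⁻¹ * g ∈ σ.ker := by rw [MonoidHom.mem_ker, map_mul, map_inv, e, inv_mul_cancel]
    have hh' : h * U = U * h := Subgroup.mem_centralizer_singleton_iff.mp hh
    calc g * U = h * ((h⁻¹ * g) * U) := by group
      _ = h * (U * (h⁻¹ * g)) := by rw [hc' _ hk U]
      _ = U * g := by rw [← mul_assoc, hh']; group
  -- reduce to a permutation fixing the three points
  let P : Fin n → Prop := fun w => w ∉ ({x, y, z} : Finset (Fin n))
  have hfix : ∀ q ∈ alternatingGroup (Fin n), (∀ w ∈ ({x, y, z} : Finset (Fin n)), q w = w) → q ∈ W := by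
    intro q hq hqf
    have hq2 : ∀ w, P (q w) ↔ P w := by
      intro w
      refine not_iff_not.mpr ⟨fun h => ?_, fun h => (hqf w h).symm ▸ h⟩
      rwa [q.injective (hqf (q w) h)] at h
    have hsup : ∀ w, q w ≠ w → P w := fun w hw hmem => hw (hqf w hmem)
    have e : ofSubtype (q.subtypePerm hq2) = q := ofSubtype_subtypePerm hq2 hsup
    have hmem : q.subtypePerm hq2 ∈ alternatingGroup {w // P w} := by
      rw [mem_alternatingGroup, ← sign_ofSubtype, e]; exact hq
    rw [← closure_three_cycles_eq_alternating] at hmem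
    rw [← e]
    suffices Subgroup.closure {r : Perm {w // P w} | r.IsThreeCycle} ≤ W.comap ofSubtype from
      this hmem
    rw [Subgroup.closure_le]
    intro r hr
    have hr' : (ofSubtype r).IsThreeCycle := by
      rw [IsThreeCycle, cycleType_ofSubtype]; exact hr
    obtain ⟨x', y', z', a1, a2, a3, er⟩ := exists_c3 hr'
    obtain ⟨Y, hY⟩ := exists_lift σ hσ (c3_mem a1 a3)
    refine ⟨Y, ?_, hY.trans er.symm⟩
    refine Subgroup.mem_centralizer_singleton_iff.mpr
      (disjoint_commute σ hσ hc hn h1 h2 h3 a1 a2 a3 (fun w hw => ?_) hU hY)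
    intro hw'
    have hw2 : ofSubtype r w = w := ofSubtype_apply_of_not_mem r fun h => h hw'
    rw [er] at hw2
    simp only [Finset.mem_insert, Finset.mem_singleton] at hw
    rcases hw with rfl | rfl | rfl
    · rw [c3_fst a1 a2] at hw2; exact a1 hw2.symm
    · rw [c3_snd a2 a3] at hw2; exact a3 hw2.symm
    · rw [c3_thd] at hw2; exact a2 hw2
  have hUW : σ U ∈ W := ⟨U, Subgroup.mem_centralizer_singleton_iff.mpr rfl, rfl⟩
  set q := σ g with hq
  have hqA : q ∈ alternatingGroup (Fin n) := hσ ▸ ⟨g, rfl⟩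
  rw [hU] at hg
  have hsupp : q x = x ∨ q x = y ∨ q x = z := by
    by_contra h
    push Not at h
    have := Perm.congr_fun hg x
    rw [Perm.mul_apply, Perm.mul_apply, c3_fst h1 h2, c3_other h.1 h.2.1 h.2.2] at this
    exact h1 (q.injective this).symm
  obtain ⟨k, hk⟩ : ∃ k : ℕ, q x = (c3 x y z ^ k) x := by
    rcases hsupp with e | e | e
    · exact ⟨0, by rw [e, pow_zero, Perm.one_apply]⟩
    · exact ⟨1, by rw [e, pow_one, c3_fst h1 h2]⟩
    · exact ⟨2, by rw [e, pow_two, Perm.mul_apply, c3_fst h1 h2, c3_snd h2 h3]⟩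
  obtain ⟨p, hp⟩ : ∃ p, p = (c3 x y z ^ k)⁻¹ * q := ⟨_, rfl⟩
  have hpx : p x = x := by
    rw [hp, Perm.mul_apply, hk, ← Perm.mul_apply, inv_mul_cancel, Perm.one_apply]
  have hpc : Commute p (c3 x y z) :=
    hp ▸ ((Commute.refl (c3 x y z)).pow_left k).inv_left.mul_left hg
  have hpy : p y = y := by
    have := Perm.congr_fun hpc.eq x
    rwa [Perm.mul_apply, Perm.mul_apply, hpx, c3_fst h1 h2] at this
  have hpz : p z = z := by
    have := Perm.congr_fun hpc.eq y
    rwa [Perm.mul_apply, Perm.mul_apply, hpy, c3_snd h2 h3] at this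
  have hpW : p ∈ W := hfix p
    (hp ▸ mul_mem (inv_mem (pow_mem (c3_mem h1 h3) k)) hqA) fun w hw => by
      simp only [Finset.mem_insert, Finset.mem_singleton] at hw
      rcases hw with rfl | rfl | rfl <;> assumption
  have : q = c3 x y z ^ k * p := by rw [hp]; group
  rw [this, ← hU]
  exact mul_mem (pow_mem hUW k) hpW

/-- Canonical lifts. -/
def Good (U : Γ) : Prop := U ^ 3 = 1 ∧ ∃ S, S * U * S⁻¹ = U⁻¹

theorem Good.conj {U : Γ} (h : Good U) (g : Γ) : Good (g * U * g⁻¹) := by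
  obtain ⟨h3, S, hS⟩ := h
  refine ⟨by rw [conj_pow, h3, mul_one, mul_inv_cancel], g * S * g⁻¹, ?_⟩
  rw [show g * S * g⁻¹ * (g * U * g⁻¹) * (g * S * g⁻¹)⁻¹ = g * (S * U * S⁻¹) * g⁻¹ by group, hS]
  group

theorem Good.inv {U : Γ} (h : Good U) : Good U⁻¹ := by
  obtain ⟨h3, S, hS⟩ := h
  exact ⟨by rw [inv_pow, h3, inv_one], S, by rw [inv_inv, ← conj_inv, hS, inv_inv]⟩

include hσ hc in
theorem exists_good (hn : 5 ≤ n) {x y z : Fin n} (h1 : x ≠ y) (h2 : x ≠ z) (h3 : y ≠ z) :
    ∃ U, σ U = c3 x y z ∧ Good U := by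
  have hc' : ∀ k ∈ σ.ker, ∀ g : Γ, g * k = k * g := fun _ hk g => commute_ker σ hc hk g
  obtain ⟨U, hU⟩ := exists_lift σ hσ (c3_mem h1 h3)
  obtain ⟨s, hs, hsx, -⟩ := exists_inverter h1 h2 h3 ∅ (by
    rw [Finset.union_empty, Finset.card_eq_three.mpr ⟨x, y, z, h1, h2, h3, rfl⟩]; omega) (by simp)
  obtain ⟨S, rfl⟩ := exists_lift σ hσ hs
  set c := S * U * S⁻¹ * U with hcdef
  have hck : c ∈ σ.ker := by
    rw [MonoidHom.mem_ker, hcdef, map_mul, map_mul, map_mul, map_inv, hU, hsx, inv_mul_cancel]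
  set a := U ^ 3 with ha
  have hak : a ∈ σ.ker := by rw [MonoidHom.mem_ker, ha, map_pow, hU, c3_cube h1 h2 h3]
  have hSU : S * U * S⁻¹ = c * U⁻¹ := by rw [hcdef]; group
  have hac : a * a = c ^ 3 := by
    have e : a = (c * U⁻¹) ^ 3 := by
      rw [← hSU, conj_pow, hc' a hak S, mul_inv_cancel_right]
    calc a * a = (c * U⁻¹) ^ 3 * U ^ 3 := by rw [← e, ha]
      _ = c ^ 3 := by
          rw [Commute.mul_pow (hc' c hck U⁻¹).symm, inv_pow, inv_mul_cancel_right]
  set w := c * a⁻¹ with hw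
  have hwk : w ∈ σ.ker := mul_mem hck (inv_mem hak)
  refine ⟨w * U, by rw [map_mul, MonoidHom.mem_ker.mp hwk, one_mul, hU], ?_, S, ?_⟩
  · rw [Commute.mul_pow (hc' w hwk U).symm, hw,
      Commute.mul_pow (hc' c hck a⁻¹).symm, ← hac, ← ha]
    group
  · have hw2 : w * w * c = 1 := by
      rw [hw, show c * a⁻¹ * (c * a⁻¹) * c = c * a⁻¹ * (c * (a⁻¹ * c)) by group,
        hc' c hck a⁻¹, show c * a⁻¹ * (c * (c * a⁻¹)) = c * (a⁻¹ * (c * c)) * a⁻¹ by group,
        hc' _ (mul_mem hck hck) a⁻¹, ← mul_assoc c, ← mul_assoc c, ← pow_two, ← pow_succ, ← hac]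
      group
    calc S * (w * U) * S⁻¹ = w * (S * U * S⁻¹) := by rw [← mul_assoc S, hc' w hwk S]; group
      _ = w * c * U⁻¹ := by rw [hSU]; exact (mul_assoc w c U⁻¹).symm
      _ = (w * U)⁻¹ := by
          rw [mul_inv_rev, hc' _ (inv_mem hwk) U⁻¹]
          congr 1
          exact eq_inv_of_mul_eq_one_right (by rw [← mul_assoc]; exact hw2)

include hσ hc in
theorem good_unique (hn : n = 5 ∨ 8 ≤ n) {x y z : Fin n} (h1 : x ≠ y) (h2 : x ≠ z) (h3 : y ≠ z)
    {U V : Γ} (hU : σ U = c3 x y z) (hV : σ V = c3 x y z) (gU : Good U) (gV : Good V) : U = V := by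
  have hc' : ∀ k ∈ σ.ker, ∀ g : Γ, g * k = k * g := fun _ hk g => commute_ker σ hc hk g
  obtain ⟨hU3, S, hS⟩ := gU
  obtain ⟨hV3, T, hT⟩ := gV
  set w := V * U⁻¹ with hw
  have hwk : w ∈ σ.ker := by rw [MonoidHom.mem_ker, hw, map_mul, map_inv, hU, hV, mul_inv_cancel]
  have hVw : V = w * U := by rw [hw]; group
  have hw3 : w ^ 3 = 1 := by
    rwa [hVw, Commute.mul_pow (hc' w hwk U).symm, hU3, mul_one] at hV3
  have hTU : T * U * T⁻¹ = (w * w)⁻¹ * U⁻¹ := by
    rw [hVw, ← mul_assoc T, hc' w hwk T, mul_inv_rev, hc' _ (inv_mem hwk) U⁻¹] at hT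
    calc T * U * T⁻¹ = w⁻¹ * (w * T * U * T⁻¹) := by group
      _ = _ := by rw [hT]; group
  have hkk : (w * w)⁻¹ ∈ σ.ker := inv_mem (mul_mem hwk hwk)
  have hcen : (S⁻¹ * T) * U = U * (S⁻¹ * T) := by
    refine centralize_lift σ hσ hc hn h1 h2 h3 hU ?_
    have e1 := congrArg σ hTU
    have e2 := congrArg σ hS
    rw [map_mul (f := σ) ((w * w)⁻¹) U⁻¹, MonoidHom.mem_ker.mp hkk, one_mul] at e1
    simp only [map_mul, map_inv] at e1 e2 ⊢
    calc (σ S)⁻¹ * σ T * σ U = (σ S)⁻¹ * (σ T * σ U * (σ T)⁻¹) * σ T := by group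
      _ = (σ S)⁻¹ * (σ S * σ U * (σ S)⁻¹) * σ T := by rw [e1, e2]
      _ = _ := by group
  have hw2 : w * w = 1 := by
    have h4 : T * U * T⁻¹ = S * U * S⁻¹ := by
      calc T * U * T⁻¹ = S * ((S⁻¹ * T) * U) * T⁻¹ := by group
        _ = S * U * S⁻¹ := by rw [hcen]; group
    rw [hTU, hS, mul_eq_right, inv_eq_one] at h4
    exact h4
  rw [pow_succ, pow_two, hw2, one_mul] at hw3
  rw [hVw, hw3, one_mul]

include hσ hc in
theorem card_ker_le (m : ℕ) (hm : n = m + 2) (hn : n = 5 ∨ 8 ≤ n) [Finite Γ]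
    (hd : σ.ker ≤ commutator Γ) : Nat.card σ.ker ≤ 2 := by
  classical
  subst hm
  have hc' : ∀ k ∈ σ.ker, ∀ g : Γ, g * k = k * g := fun _ hk g => commute_ker σ hc hk g
  let a : Fin (m + 2) := ⟨0, by omega⟩
  let b : Fin (m + 2) := ⟨1, by omega⟩
  let ι : Fin m → Fin (m + 2) := fun i => ⟨i.1 + 2, by omega⟩
  have hab : a ≠ b := by simp [a, b]
  have hai : ∀ i, a ≠ ι i := fun i => by simp [a, ι, Fin.ext_iff]
  have hbi : ∀ i, b ≠ ι i := fun i => by simp [b, ι, Fin.ext_iff]
  have hι : Function.Injective ι := fun i j e => by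
    simp [ι, Fin.ext_iff] at e; exact Fin.ext e
  choose L hL gL using fun i => exists_good σ hσ hc (by omega) hab (hai i) (hbi i)
  have huniq : ∀ (g : Γ) (i i' : Fin m), σ g a = a → σ g b = b → σ g (ι i) = ι i' →
      g * L i * g⁻¹ = L i' := fun g i i' e1 e2 e3 => by
    refine good_unique σ hσ hc hn hab (hai i') (hbi i') ?_ (hL i') ((gL i).conj g) (gL i')
    rw [map_mul, map_mul, map_inv, hL, c3_conj, e1, e2, e3]
  -- the products of two generators square into the centre
  have hprod : ∀ i j, i ≠ j → (L i * L j) * (L i * L j) ∈ σ.ker := by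
    intro i j hij
    have hne : ι i ≠ ι j := fun e => hij (hι e)
    rw [MonoidHom.mem_ker, map_mul, map_mul, hL, hL]
    refine Equiv.ext fun w => ?_
    simp only [Perm.mul_apply, Perm.one_apply]
    by_cases w1 : w = a
    · subst w1
      rw [c3_fst hab (hai j), c3_snd (hai i) (hbi i), c3_other (hai i).symm (hbi i).symm hne,
        c3_thd]
    by_cases w2 : w = b
    · subst w2
      rw [c3_snd (hai j) (hbi j), c3_other (hai j).symm (hbi j).symm hne.symm, c3_thd,
        c3_fst hab (hai i)]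
    by_cases w3 : w = ι i
    · subst w3
      rw [c3_other (hai i).symm (hbi i).symm hne, c3_thd, c3_fst hab (hai j),
        c3_snd (hai i) (hbi i)]
    by_cases w4 : w = ι j
    · subst w4
      rw [c3_thd, c3_fst hab (hai i), c3_snd (hai j) (hbi j),
        c3_other (hai j).symm (hbi j).symm hne.symm]
    rw [c3_other w1 w2 w4, c3_other w1 w2 w3, c3_other w1 w2 w4, c3_other w1 w2 w3]
  have hsymm : ∀ i j, i ≠ j → (L j * L i) * (L j * L i) = (L i * L j) * (L i * L j) := by
    intro i j hij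
    calc (L j * L i) * (L j * L i) = (L i)⁻¹ * ((L i * L j) * (L i * L j)) * L i := by group
      _ = _ := by rw [hc' _ (hprod i j hij) (L i)⁻¹, inv_mul_cancel_right]
  have hm3 : 3 ≤ m := by omega
  let i₀ : Fin m := ⟨0, by omega⟩
  let j₀ : Fin m := ⟨1, by omega⟩
  have hij₀ : i₀ ≠ j₀ := by simp [i₀, j₀]
  set z := (L i₀ * L j₀) * (L i₀ * L j₀) with hz
  have hzk : z ∈ σ.ker := hprod _ _ hij₀
  have hconst : ∀ i j, i ≠ j → (L i * L j) * (L i * L j) = z := by
    intro i j hij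
    have hne₀ : ι i₀ ≠ ι j₀ := fun e => hij₀ (hι e)
    set π₁ := swap (ι i) (ι i₀) with hπ₁
    set π₂ := swap (π₁ (ι j)) (ι j₀) with hπ₂
    set π := π₂ * π₁ with hπ
    have hj1 : π₁ (ι j) ≠ ι i₀ := fun e => hij (hι (π₁.injective (e.trans (by simp [hπ₁]))).symm)
    have fix1 : ∀ w, (∀ l, w ≠ ι l) → π w = w := by
      intro w hw
      have h' : π₁ w = w := swap_apply_of_ne_of_ne (hw _) (hw _)
      rw [hπ, Perm.mul_apply, h', hπ₂, swap_apply_of_ne_of_ne ?_ (hw _)]
      intro e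
      exact hw j (π₁.injective (h'.trans e))
    have ei : π (ι i) = ι i₀ := by
      rw [hπ, Perm.mul_apply, hπ₁, swap_apply_left, hπ₂, swap_apply_of_ne_of_ne hj1.symm hne₀]
    have ej : π (ι j) = ι j₀ := by rw [hπ, Perm.mul_apply, hπ₂, swap_apply_left]
    have main : ∀ (p : Perm (Fin (m + 2))) (i' j' : Fin m), i' ≠ j' →
        p ∈ alternatingGroup _ → p a = a → p b = b → p (ι i) = ι i' → p (ι j) = ι j' →
        (L i * L j) * (L i * L j) = (L i' * L j') * (L i' * L j') := by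
      intro p i' j' _ hp e1 e2 e3 e4
      obtain ⟨g, rfl⟩ := exists_lift σ hσ hp
      calc (L i * L j) * (L i * L j) = g * ((L i * L j) * (L i * L j)) * g⁻¹ := by
            rw [hc' _ (hprod i j hij) g, mul_inv_cancel_right]
        _ = (g * L i * g⁻¹) * (g * L j * g⁻¹) * ((g * L i * g⁻¹) * (g * L j * g⁻¹)) := by group
        _ = _ := by rw [huniq g i i' e1 e2 e3, huniq g j j' e1 e2 e4]
    rcases Int.units_eq_one_or (Perm.sign π) with hs | hs
    · exact main π i₀ j₀ hij₀ (mem_alternatingGroup.mpr hs) (fix1 a hai) (fix1 b hbi) ei ej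
    · rw [main (swap (ι i₀) (ι j₀) * π) j₀ i₀ hij₀.symm ?_ ?_ ?_ ?_ ?_, hsymm i₀ j₀ hij₀]
      · rw [mem_alternatingGroup, map_mul, sign_swap hne₀, hs]; rfl
      · rw [Perm.mul_apply, fix1 a hai, swap_apply_of_ne_of_ne (hai _) (hai _)]
      · rw [Perm.mul_apply, fix1 b hbi, swap_apply_of_ne_of_ne (hbi _) (hbi _)]
      · rw [Perm.mul_apply, ei, swap_apply_left]
      · rw [Perm.mul_apply, ej, swap_apply_right]
  have hz2 : z * z = 1 := by
    have hne₀ : ι i₀ ≠ ι j₀ := fun e => hij₀ (hι e)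
    obtain ⟨g, hg⟩ := exists_lift σ hσ (show swap a b * swap (ι i₀) (ι j₀) ∈ alternatingGroup _ by
      rw [mem_alternatingGroup, map_mul, sign_swap hab, sign_swap hne₀]; rfl)
    have e : ∀ i i', σ g (ι i) = ι i' → g * L i * g⁻¹ = (L i')⁻¹ := by
      intro i i' hi
      have ea : σ g a = b := by
        rw [hg, Perm.mul_apply, swap_apply_of_ne_of_ne (hai _) (hai _), swap_apply_left]
      have eb : σ g b = a := by
        rw [hg, Perm.mul_apply, swap_apply_of_ne_of_ne (hbi _) (hbi _), swap_apply_right]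
      refine good_unique σ hσ hc hn hab.symm (hbi i') (hai i') ?_ ?_ ((gL i).conj g) (gL i').inv
      · rw [map_mul, map_mul, map_inv, hL, c3_conj, ea, eb, hi]
      · rw [map_inv, hL, c3_inv hab (hai i') (hbi i')]
        calc c3 a (ι i') b = c3 a (ι i') b * c3 a (ι i') b * (c3 a (ι i') b)⁻¹ := by group
          _ = c3 (ι i') b a := by
              rw [c3_conj, c3_fst (hai i') hab, c3_snd hab (hbi i').symm, c3_thd]
          _ = c3 (ι i') b a * c3 (ι i') b a * (c3 (ι i') b a)⁻¹ := by group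
          _ = _ := by
              rw [c3_conj, c3_fst (hbi i').symm (hai i').symm, c3_snd (hai i').symm hab.symm,
                c3_thd]
    have e1 := e i₀ j₀ (by
      rw [hg, Perm.mul_apply, swap_apply_left, swap_apply_of_ne_of_ne (hai _).symm (hbi _).symm])
    have e2 := e j₀ i₀ (by
      rw [hg, Perm.mul_apply, swap_apply_right, swap_apply_of_ne_of_ne (hai _).symm (hbi _).symm])
    refine mul_eq_one_iff_eq_inv.mpr ?_
    calc z = g * z * g⁻¹ := by rw [hc' z hzk g, mul_inv_cancel_right]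
      _ = (g * L i₀ * g⁻¹) * (g * L j₀ * g⁻¹) * ((g * L i₀ * g⁻¹) * (g * L j₀ * g⁻¹)) := by
          rw [hz]; group
      _ = z⁻¹ := by rw [e1, e2, hz]; group
  -- the generators generate
  set K := Subgroup.closure (Set.range L) with hK
  have hsurj : ∀ g : Γ, ∃ k ∈ K, k⁻¹ * g ∈ σ.ker := by
    intro g
    have hmem : σ g ∈ K.map σ := by
      refine three_cycle_mem_of_gens hab (fun i hia hib => ?_) (hσ ▸ ⟨g, rfl⟩)
      have h2 : 2 ≤ i.1 := by
        by_contra h
        rcases (show i.1 = 0 ∨ i.1 = 1 by omega) with h' | h'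
        · exact hia (Fin.ext h')
        · exact hib (Fin.ext h')
      have hlt : i.1 - 2 < m := by omega
      refine ⟨L ⟨i.1 - 2, hlt⟩, Subgroup.subset_closure ⟨_, rfl⟩, ?_⟩
      rw [hL]
      congr 1
      exact Fin.ext (by simp [ι]; omega)
    obtain ⟨k, hk, e⟩ := hmem
    exact ⟨k, hk, by rw [MonoidHom.mem_ker, map_mul, map_inv, e, inv_mul_cancel]⟩
  have hKtop : K = ⊤ := by
    have hcomm : commutator Γ ≤ K := by
      rw [commutator_eq_closure, Subgroup.closure_le]
      rintro _ ⟨g, h, rfl⟩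
      obtain ⟨k, hk, hkg⟩ := hsurj g
      obtain ⟨l, hl, hlh⟩ := hsurj h
      have : ⁅g, h⁆ = ⁅k, l⁆ := by
        obtain ⟨u, hu, rfl⟩ : ∃ u ∈ σ.ker, g = k * u := ⟨_, hkg, by group⟩
        obtain ⟨v, hv, rfl⟩ : ∃ v ∈ σ.ker, h = l * v := ⟨_, hlh, by group⟩
        simp only [commutatorElement_def, mul_inv_rev]
        rw [show k * u * (l * v) * (u⁻¹ * k⁻¹) * (v⁻¹ * l⁻¹) =
          k * (u * (l * v)) * (u⁻¹ * k⁻¹) * (v⁻¹ * l⁻¹) by group, ← hc' u hu,
          show k * (l * v * u) * (u⁻¹ * k⁻¹) * (v⁻¹ * l⁻¹) =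
            k * l * (v * k⁻¹) * v⁻¹ * l⁻¹ by group, ← hc' v hv]
        group
      rw [this]
      exact mul_mem (mul_mem (mul_mem hk hl) (inv_mem hk)) (inv_mem hl)
    rw [eq_top_iff]
    intro g _
    obtain ⟨k, hk, hkg⟩ := hsurj g
    rw [show g = k * (k⁻¹ * g) by group]
    exact mul_mem hk (hcomm (hd hkg))
  haveI : (Subgroup.zpowers z).Normal := ⟨fun u hu g => by
    rwa [hc' u ((Subgroup.zpowers_le.mpr hzk) hu) g, mul_inv_cancel_right]⟩
  let q := QuotientGroup.mk' (Subgroup.zpowers z)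
  have hQ := carmichael_bound m (fun i => q (L i)) (fun i => by rw [← map_pow, (gL i).1, map_one])
    (fun i j hij => by
      rw [← map_mul, ← map_mul, hconst i j hij]
      exact (QuotientGroup.eq_one_iff _).mpr (Subgroup.mem_zpowers z))
  rw [Set.range_comp' q L, ← MonoidHom.map_closure, ← hK, hKtop,
    Subgroup.map_top_of_surjective q (QuotientGroup.mk'_surjective _), Subgroup.card_top] at hQ
  have hG : Nat.card Γ = Nat.card (Γ ⧸ Subgroup.zpowers z) * Nat.card (Subgroup.zpowers z) :=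
    Subgroup.card_eq_card_quotient_mul_card_subgroup _
  have hz' : Nat.card (Subgroup.zpowers z) ≤ 2 := by
    rw [Nat.card_zpowers]
    exact orderOf_le_of_pow_eq_one two_pos (by rw [pow_two, hz2])
  have hA : 2 * Nat.card (alternatingGroup (Fin (m + 2))) = (m + 2).factorial := by
    haveI : Nontrivial (Fin (m + 2)) := Fin.nontrivial_iff_two_le.mpr (by omega)
    rw [two_mul_nat_card_alternatingGroup, Nat.card_perm, Nat.card_fin]
  have hΓ : Nat.card Γ = Nat.card (alternatingGroup (Fin (m + 2))) * Nat.card σ.ker := by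
    rw [← hσ, ← Subgroup.index_ker, mul_comm, Subgroup.card_mul_index]
  have h1 : Nat.card Γ ≤ Nat.card (Γ ⧸ Subgroup.zpowers z) * 2 :=
    hG ▸ Nat.mul_le_mul_left _ hz'
  have hpos : 0 < Nat.card (alternatingGroup (Fin (m + 2))) := Nat.card_pos
  rw [hΓ] at h1
  by_contra hlt
  push Not at hlt
  have := Nat.mul_le_mul_left (Nat.card (alternatingGroup (Fin (m + 2)))) hlt
  nlinarith

/-- Transfer into a subgroup: kernel powers by the index lie in its derived subgroup. -/
theorem pow_index_mem {Γ : Type u} [Group Γ] [Finite Γ] (M : Subgroup Γ) {z : Γ}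
    (hz : z ∈ Subgroup.center Γ) (hzd : z ∈ commutator Γ) : z ^ M.index ∈ ⁅M, M⁆ := by
  have key : ∀ (k : ℕ) (g₀ : Γ), g₀⁻¹ * z ^ k * g₀ ∈ M → g₀⁻¹ * z ^ k * g₀ = z ^ k :=
    fun k g₀ _ => by
      rw [mul_assoc, ← Subgroup.mem_center_iff.mp (pow_mem hz k) g₀, inv_mul_cancel_left]
  have h1 : MonoidHom.transfer (H := M) (Abelianization.of (G := M)) z = 1 :=
    MonoidHom.mem_ker.mp (Abelianization.commutator_subset_ker _ hzd)
  rw [MonoidHom.transfer_eq_pow _ z key, ← MonoidHom.mem_ker, Abelianization.ker_of] at h1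
  rw [← Subgroup.map_subtype_commutator]
  exact ⟨_, h1, rfl⟩

include hσ hc in
theorem card_ker_le_four (h4 : n = 4) [Finite Γ] (hd : σ.ker ≤ commutator Γ) :
    Nat.card σ.ker ≤ 2 := by
  subst h4
  have hc' : ∀ k ∈ σ.ker, ∀ g : Γ, g * k = k * g := fun _ hk g => commute_ker σ hc hk g
  obtain ⟨U, hU⟩ := exists_lift σ hσ
    (show swap (0 : Fin 4) 1 * swap 2 3 ∈ alternatingGroup (Fin 4) by rw [mem_alternatingGroup]; decide)
  obtain ⟨W, hW⟩ := exists_lift σ hσ
    (show swap (0 : Fin 4) 2 * swap 1 3 ∈ alternatingGroup (Fin 4) by rw [mem_alternatingGroup]; decide)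
  obtain ⟨T, hT⟩ := exists_lift σ hσ
    (show swap (0 : Fin 4) 1 * swap 1 2 ∈ alternatingGroup (Fin 4) by rw [mem_alternatingGroup]; decide)
  have hU2 : U * U ∈ σ.ker := by rw [MonoidHom.mem_ker, map_mul, hU]; decide
  set c := ⁅U, W⁆ with hcdef
  have hck : c ∈ σ.ker := by rw [MonoidHom.mem_ker, hcdef, map_commutatorElement, hU, hW]; decide
  have hc2 : c * c = 1 := by
    calc c * c = U * c * (W * U⁻¹ * W⁻¹) := by rw [hc' c hck U, hcdef, commutatorElement_def]; group
      _ = (U * U) * W * (U * U)⁻¹ * W⁻¹ := by rw [hcdef, commutatorElement_def]; group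
      _ = 1 := by rw [← hc' _ hU2 W]; group
  -- the four group
  set V : Subgroup Γ := Subgroup.closure ({U, W} ∪ (σ.ker : Set Γ)) with hV
  haveI : (Subgroup.zpowers c).Normal := ⟨fun u hu g => by
    rwa [hc' u ((Subgroup.zpowers_le.mpr hck) hu) g, mul_inv_cancel_right]⟩
  have hVV : ⁅V, V⁆ ≤ Subgroup.zpowers c := by
    set q := QuotientGroup.mk' (Subgroup.zpowers c) with hq
    have hqc : q U * q W = q W * q U := by
      rw [← commutatorElement_eq_one_iff_mul_comm, ← map_commutatorElement]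
      exact (QuotientGroup.eq_one_iff _).mpr (Subgroup.mem_zpowers c)
    have hall : ∀ x ∈ ({U, W} ∪ (σ.ker : Set Γ)), ∀ y ∈ ({U, W} ∪ (σ.ker : Set Γ)),
        q x * q y = q y * q x := by
      rintro x (hx | hx) y (hy | hy)
      · simp only [Set.mem_insert_iff, Set.mem_singleton_iff] at hx hy
        rcases hx with rfl | rfl <;> rcases hy with rfl | rfl
        exacts [rfl, hqc, hqc.symm, rfl]
      · rw [← map_mul, ← map_mul, hc' y hy x]
      · rw [← map_mul, ← map_mul, hc' x hx y]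
      · rw [← map_mul, ← map_mul, hc' x hx y]
    rw [Subgroup.commutator_le]
    intro x hx y hy
    rw [← QuotientGroup.eq_one_iff (N := Subgroup.zpowers c), ← QuotientGroup.mk'_apply, ← hq,
      map_commutatorElement, commutatorElement_eq_one_iff_mul_comm]
    have hmap : V.map q ≤ Subgroup.centralizer (V.map q : Set _) := by
      rw [hV, MonoidHom.map_closure, Subgroup.centralizer_closure, Subgroup.closure_le]
      rintro _ ⟨x, hx, rfl⟩ _ ⟨y, hy, rfl⟩
      exact hall y hy x hx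
    exact hmap ⟨y, hy, rfl⟩ (q x) ⟨x, hx, rfl⟩
  have hVidx : ∀ S : Subgroup (Perm (Fin 4)), S ≤ alternatingGroup (Fin 4) →
      Nat.card (S.comap σ) = Nat.card S * Nat.card σ.ker := by
    intro S hS
    have h1 := Subgroup.card_mul_index (σ.ker.subgroupOf (S.comap σ))
    rw [Nat.card_congr (Subgroup.subgroupOfEquivOfLe (Subgroup.ker_le_comap σ S)).toEquiv] at h1
    rw [← h1, mul_comm]
    congr 1
    rw [← Subgroup.relIndex, Subgroup.relIndex_ker]
    rw [Subgroup.map_comap_eq_self (hσ.symm ▸ hS)]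
  haveI : Nontrivial (Fin 4) := Fin.nontrivial_iff_two_le.mpr (by omega)
  have hA : Nat.card (alternatingGroup (Fin 4)) = 12 := by
    have := two_mul_nat_card_alternatingGroup (α := Fin 4)
    rw [Nat.card_perm, Nat.card_fin, show Nat.factorial 4 = 24 from rfl] at this
    omega
  have hΓ : Nat.card Γ = 12 * Nat.card σ.ker := by
    rw [← hA, ← hσ, ← Subgroup.index_ker, mul_comm, Subgroup.card_mul_index]
  have hkpos : 0 < Nat.card σ.ker := Nat.card_pos
  have hidx : ∀ (S : Subgroup (Perm (Fin 4))) (d : ℕ), S ≤ alternatingGroup (Fin 4) →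
      Nat.card S * d = 12 → (S.comap σ).index = d := by
    intro S d hS hd'
    have h1 := Subgroup.card_mul_index (S.comap σ)
    rw [hVidx S hS, hΓ, ← hd'] at h1
    have hS0 : 0 < Nat.card S := Nat.card_pos
    exact Nat.eq_of_mul_eq_mul_left (Nat.mul_pos hS0 hkpos) (h1.trans (by ring))
  let p : Perm (Fin 4) := swap (0 : Fin 4) 1 * swap 1 2
  have hp3 : Nat.card (Subgroup.zpowers p) = 3 := by
    rw [Nat.card_zpowers]; exact orderOf_eq_prime (by decide) (by decide)
  let S4 : Subgroup (Perm (Fin 4)) := Subgroup.closure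
    {swap (0 : Fin 4) 1 * swap 2 3, swap (0 : Fin 4) 2 * swap 1 3}
  have hS4V : S4.comap σ ≤ V := by
    intro g hg
    have hg' : σ g ∈ V.map σ := by
      refine (Subgroup.closure_le _).mpr ?_ hg
      rintro _ (rfl | rfl)
      · exact ⟨U, Subgroup.subset_closure (Or.inl (Or.inl rfl)), hU⟩
      · exact ⟨W, Subgroup.subset_closure (Or.inl (Or.inr rfl)), hW⟩
    obtain ⟨v, hv, e⟩ := hg'
    rw [show g = v * (v⁻¹ * g) by group]
    refine mul_mem hv (Subgroup.subset_closure (Or.inr ?_))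
    show σ (v⁻¹ * g) = 1
    rw [map_mul, map_inv, e, inv_mul_cancel]
  have hS4A : S4 ≤ alternatingGroup (Fin 4) := by
    refine (Subgroup.closure_le _).mpr ?_
    rintro _ (rfl | rfl) <;> rw [SetLike.mem_coe, mem_alternatingGroup] <;> decide
  have hS4 : Nat.card S4 = 4 := by
    let F : Finset (Perm (Fin 4)) := {1, swap (0 : Fin 4) 1 * swap 2 3, swap (0 : Fin 4) 2 * swap 1 3,
      swap (0 : Fin 4) 3 * swap 1 2}
    let T' : Subgroup (Perm (Fin 4)) :=
      { carrier := F, one_mem' := by decide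
        mul_mem' := fun {x y} hx hy => (by decide : ∀ x ∈ F, ∀ y ∈ F, x * y ∈ F) x hx y hy
        inv_mem' := fun {x} hx => (by decide : ∀ x ∈ F, x⁻¹ ∈ F) x hx }
    have e : S4 = T' := by
      refine le_antisymm ((Subgroup.closure_le _).mpr ?_) ?_
      · rintro _ (rfl | rfl)
        · show _ ∈ F; decide
        · show _ ∈ F; decide
      · intro x (hx : x ∈ F)
        simp only [F, Finset.mem_insert, Finset.mem_singleton] at hx
        rcases hx with rfl | rfl | rfl | rfl
        · exact one_mem _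
        · exact Subgroup.subset_closure (Or.inl rfl)
        · exact Subgroup.subset_closure (Or.inr rfl)
        · rw [show swap (0 : Fin 4) 3 * swap 1 2 = (swap (0 : Fin 4) 1 * swap 2 3) *
            (swap (0 : Fin 4) 2 * swap 1 3) by decide]
          exact mul_mem (Subgroup.subset_closure (Or.inl rfl)) (Subgroup.subset_closure (Or.inr rfl))
    rw [e]
    show Nat.card (F : Set (Perm (Fin 4))) = 4
    rw [Nat.card_coe_set_eq, Set.ncard_coe_finset]
    decide
  have hle : σ.ker ≤ Subgroup.zpowers c := by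
    intro z hz
    have h3 : z ^ 3 ∈ Subgroup.zpowers c := by
      have := pow_index_mem (S4.comap σ) (hc hz) (hd hz)
      rw [hidx S4 3 hS4A (by rw [hS4])] at this
      exact hVV (Subgroup.commutator_mono hS4V hS4V this)
    have h4 : z ^ 4 = 1 := by
      have := pow_index_mem ((Subgroup.zpowers p).comap σ) (hc hz) (hd hz)
      rw [hidx _ 4 (Subgroup.zpowers_le.mpr (by rw [mem_alternatingGroup]; decide)) (by rw [hp3])] at this
      refine Subgroup.mem_bot.mp (Subgroup.commutator_le.mpr ?_ this)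
      intro x hx y hy
      obtain ⟨i, hi⟩ := hx
      obtain ⟨j, hj⟩ := hy
      rw [Subgroup.mem_bot, commutatorElement_eq_one_iff_mul_comm]
      obtain ⟨u, hu, rfl⟩ : ∃ u ∈ σ.ker, x = T ^ i * u := ⟨(T ^ i)⁻¹ * x, by
        rw [MonoidHom.mem_ker, map_mul, map_inv, map_zpow, hT, ← hi]; exact inv_mul_cancel _,
        by group⟩
      obtain ⟨v, hv, rfl⟩ : ∃ v ∈ σ.ker, y = T ^ j * v := ⟨(T ^ j)⁻¹ * y, by
        rw [MonoidHom.mem_ker, map_mul, map_inv, map_zpow, hT, ← hj]; exact inv_mul_cancel _,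
        by group⟩
      exact ((((Commute.refl T).zpow_zpow i j).mul_left (hc' _ hu _).symm).mul_right
        ((hc' v hv _ : Commute _ v)))
    rw [show z = z ^ 4 * (z ^ 3)⁻¹ by group, h4, one_mul]
    exact inv_mem h3
  refine (Subgroup.card_le_of_le hle).trans ?_
  rw [Nat.card_zpowers]
  exact orderOf_le_of_pow_eq_one two_pos (by rw [pow_two, hc2])

end CfsgLib.Clifford.AltSchur
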