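import Mathlib
import Cfsg.Agent.Lib.Geom.Clifford

/-!
The double cover of the alternating group inside the Clifford algebra of the sum of squares
over the field with seven elements (in which two is a square).
-/

set_option autoImplicit false

namespace CfsgLib.Clifford.AltCover

open CliffordAlgebra (ι reverse involute contractLeft evenOdd)
open QuadraticMap (polar)
open scoped commutatorElement

instance fact7 : Fact (Nat.Prime 7) := ⟨by norm_num⟩

variable (n : ℕ)

/-- The sum of squares. -/
noncomputable def Q : QuadraticForm (ZMod 7) (Fin n → ZMod 7) :=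
  QuadraticMap.weightedSumSquares (ZMod 7) fun _ : Fin n => (1 : ZMod 7)

theorem Q_apply (x : Fin n → ZMod 7) : Q n x = ∑ i, x i * x i := by
  simp [Q, QuadraticMap.weightedSumSquares_apply]

theorem polar_Q (x y : Fin n → ZMod 7) : polar (Q n) x y = 2 * ∑ i, x i * y i := by
  simp only [QuadraticMap.polar, Q_apply, Pi.add_apply, Finset.mul_sum, ← Finset.sum_sub_distrib]
  exact Finset.sum_congr rfl fun i _ => by ring

/-- The permutation action on vectors. -/
def perm (σ : Equiv.Perm (Fin n)) (x : Fin n → ZMod 7) : Fin n → ZMod 7 := fun i => x (σ⁻¹ i)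

theorem perm_mul (σ τ : Equiv.Perm (Fin n)) (x : Fin n → ZMod 7) :
    perm n (σ * τ) x = perm n σ (perm n τ x) := by funext i; simp [perm, Equiv.Perm.mul_apply]

theorem perm_one (x : Fin n → ZMod 7) : perm n 1 x = x := by funext i; simp [perm]

/-- The unit root attached to a pair of points. -/
def root (i j : Fin n) : Fin n → ZMod 7 := fun k => (if k = i then 5 else 0) - (if k = j then 5 else 0)

theorem sum_root_mul (i j : Fin n) (x : Fin n → ZMod 7) :
    ∑ k, root n i j k * x k = 5 * (x i - x j) := by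
  simp only [root, sub_mul, Finset.sum_sub_distrib, ite_mul, zero_mul, Finset.sum_ite_eq',
    Finset.mem_univ, if_true]
  ring

theorem Q_root {i j : Fin n} (h : i ≠ j) : Q n (root n i j) = 1 := by
  rw [Q_apply, sum_root_mul]
  simp [root, h, h.symm]
  decide

theorem ι_root_sq {i j : Fin n} (h : i ≠ j) :
    ι (Q n) (root n i j) * ι (Q n) (root n i j) = 1 := by
  rw [CliffordAlgebra.ι_sq_scalar, Q_root n h, map_one]

theorem root_mul_ι {i j : Fin n} (h : i ≠ j) (x : Fin n → ZMod 7) :
    ι (Q n) (root n i j) * ι (Q n) x =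
      -(ι (Q n) (perm n (Equiv.swap i j) x) * ι (Q n) (root n i j)) := by
  have e : perm n (Equiv.swap i j) x = x - (3 * (x i - x j)) • root n i j := by
    funext k
    simp only [perm, Equiv.swap_inv, Pi.sub_apply, Pi.smul_apply, smul_eq_mul, root]
    have h15 : (3 : ZMod 7) * 5 = 1 := by decide
    by_cases hi : k = i
    · subst hi
      rw [Equiv.swap_apply_left, if_pos rfl, if_neg h]
      linear_combination (x k - x j) * h15
    by_cases hj : k = j
    · subst hj
      rw [Equiv.swap_apply_right, if_neg hi, if_pos rfl]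
      linear_combination -(x i - x k) * h15
    rw [Equiv.swap_apply_of_ne_of_ne hi hj, if_neg hi, if_neg hj]
    ring
  have hp : polar (Q n) (root n i j) x = 3 * (x i - x j) := by
    rw [polar_Q, sum_root_mul, ← mul_assoc]
    congr 1
  rw [e, map_sub, map_smul, sub_mul, smul_mul_assoc, ι_root_sq n h, CliffordAlgebra.ι_mul_ι_comm,
    hp, Algebra.algebraMap_eq_smul_one]
  abel

theorem perm_root (σ : Equiv.Perm (Fin n)) (i j : Fin n) :
    perm n σ (root n i j) = root n (σ i) (σ j) := by
  funext k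
  simp only [perm, root, Equiv.Perm.inv_def, Equiv.symm_apply_eq]

/-- The even spinor lifts of even permutations. -/
noncomputable def cover : Subgroup (alternatingGroup (Fin n) × (CliffordAlgebra (Q n))ˣ) where
  carrier := {p | (p.2 : CliffordAlgebra (Q n)) ∈ evenOdd (Q n) 0 ∧
    (p.2 : CliffordAlgebra (Q n)) * reverse (p.2 : CliffordAlgebra (Q n)) = 1 ∧
    ∀ x, (p.2 : CliffordAlgebra (Q n)) * ι (Q n) x =
      ι (Q n) (perm n (p.1 : Equiv.Perm (Fin n)) x) * (p.2 : CliffordAlgebra (Q n))}
  one_mem' := ⟨CliffordAlgebra.one_le_evenOdd_zero _ (Submodule.one_le.1 le_rfl),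
    by simp [CliffordAlgebra.reverse.map_one], fun x => by simp [perm_one]⟩
  mul_mem' := by
    rintro ⟨σ, u⟩ ⟨τ, w⟩ ⟨hu0, hu1, hu⟩ ⟨hw0, hw1, hw⟩
    refine ⟨?_, ?_, fun x => ?_⟩
    · have := CliffordAlgebra.evenOdd_mul_le (Q n) 0 0 (Submodule.mul_mem_mul hu0 hw0)
      rwa [add_zero] at this
    · simp only [Prod.mk_mul_mk, Units.val_mul, CliffordAlgebra.reverse.map_mul]
      rw [mul_assoc, ← mul_assoc (w : CliffordAlgebra (Q n)), hw1, one_mul, hu1]
    · simp only [Prod.mk_mul_mk, Units.val_mul, Subgroup.coe_mul, perm_mul]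
      rw [mul_assoc, hw x, ← mul_assoc, hu, mul_assoc]
  inv_mem' := by
    rintro ⟨σ, u⟩ ⟨hu0, hu1, hu⟩
    have hinv : ((u⁻¹ : (CliffordAlgebra (Q n))ˣ) : CliffordAlgebra (Q n)) =
        reverse (u : CliffordAlgebra (Q n)) := by
      rw [← mul_one ((u⁻¹ : (CliffordAlgebra (Q n))ˣ) : CliffordAlgebra (Q n)), ← hu1,
        Units.inv_mul_cancel_left]
    refine ⟨?_, ?_, fun x => ?_⟩
    · simp only [Prod.inv_mk, hinv]
      exact (CliffordAlgebra.reverse_mem_evenOdd_iff (Q := Q n)).mpr hu0
    · simp only [Prod.inv_mk]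
      rw [hinv, CliffordAlgebra.reverse_reverse, ← hinv, Units.inv_mul]
    · simp only [Prod.inv_mk, Subgroup.coe_inv]
      rw [Units.inv_mul_eq_iff_eq_mul, ← mul_assoc, hu, ← perm_mul, mul_inv_cancel, perm_one,
        mul_assoc, Units.mul_inv, mul_one]

theorem exists_lift (σ : Equiv.Perm (Fin n)) :
    ∃ (k : ℕ) (u : (CliffordAlgebra (Q n))ˣ), Equiv.Perm.sign σ = (-1) ^ k ∧
      (u : CliffordAlgebra (Q n)) ∈ evenOdd (Q n) (k : ZMod 2) ∧
      (u : CliffordAlgebra (Q n)) * reverse (u : CliffordAlgebra (Q n)) = 1 ∧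
      ∀ x, (u : CliffordAlgebra (Q n)) * ι (Q n) x =
        ((-1 : ZMod 7) ^ k) • (ι (Q n) (perm n σ x) * (u : CliffordAlgebra (Q n))) := by
  induction σ using Equiv.Perm.swap_induction_on with
  | one =>
    exact ⟨0, 1, by simp, by
      rw [Nat.cast_zero, Units.val_one]
      exact CliffordAlgebra.one_le_evenOdd_zero _ (Submodule.one_le.1 le_rfl),
      by simp [CliffordAlgebra.reverse.map_one], fun x => by simp [perm_one]⟩
  | swap_mul f i j hij ih =>
    obtain ⟨k, u, hs, hm, hr, hc⟩ := ih
    refine ⟨k + 1, ⟨_, _, ι_root_sq n hij, ι_root_sq n hij⟩ * u, ?_, ?_, ?_, fun x => ?_⟩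
    · rw [map_mul, Equiv.Perm.sign_swap hij, hs, pow_succ']
    · rw [Units.val_mul, Nat.cast_succ, add_comm]
      exact CliffordAlgebra.evenOdd_mul_le _ _ _
        (Submodule.mul_mem_mul (CliffordAlgebra.ι_mem_evenOdd_one _ _) hm)
    · rw [Units.val_mul, CliffordAlgebra.reverse.map_mul, mul_assoc,
        ← mul_assoc (u : CliffordAlgebra (Q n)), hr, one_mul, Units.val_mk, CliffordAlgebra.reverse_ι,
        ι_root_sq n hij]
    · rw [Units.val_mul, mul_assoc, hc, mul_smul_comm, Units.val_mk, ← mul_assoc,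
        root_mul_ι n hij, ← perm_mul, pow_succ, neg_mul, mul_assoc, smul_neg, mul_neg_one, neg_smul]

/-- The projection to the alternating group. -/
noncomputable def proj : cover n →* alternatingGroup (Fin n) :=
  (MonoidHom.fst _ _).comp (cover n).subtype

theorem proj_surjective : Function.Surjective (proj n) := by
  intro σ
  obtain ⟨k, u, hs, hm, hr, hc⟩ := exists_lift n σ
  have hk : Even k := by
    rw [Equiv.Perm.mem_alternatingGroup.mp σ.2] at hs
    rcases Nat.even_or_odd k with h | h
    · exact h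
    · rw [h.neg_one_pow] at hs
      exact absurd hs (by decide)
  refine ⟨⟨(σ, u), ?_, hr, fun x => ?_⟩, rfl⟩
  · rwa [(ZMod.natCast_eq_zero_iff_even).2 hk] at hm
  · rw [hc x, hk.neg_one_pow, one_smul]

/-- The central involution. -/
noncomputable def zed : cover n :=
  ⟨(1, -1), by
    refine ⟨?_, ?_, fun x => ?_⟩
    · simp only [Units.val_neg, Units.val_one]
      exact neg_mem (CliffordAlgebra.one_le_evenOdd_zero _ (Submodule.one_le.1 le_rfl))
    · simp [CliffordAlgebra.reverse.map_one]
    · simp [perm_one]⟩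

theorem one_ne_neg_one : (1 : CliffordAlgebra (Q n)) ≠ -1 := by
  intro h
  have : algebraMap (ZMod 7) (CliffordAlgebra (Q n)) 1 = algebraMap _ _ (-1) := by
    rw [map_neg, map_one]; exact h
  exact absurd (CfsgLib.Geom.cliff_algebraMap_injective (Q n) this) (by decide)

theorem eq_one_or_zed {g : cover n} (hg : proj n g = 1) : g = 1 ∨ g = zed n := by
  obtain ⟨⟨σ, u⟩, h0, h1, hu⟩ := g
  have hσ : σ = 1 := hg
  subst hσ
  have hcon : ∀ d : Module.Dual (ZMod 7) (Fin n → ZMod 7),
      contractLeft d (u : CliffordAlgebra (Q n)) = 0 := by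
    intro d
    have hd : (Q n).polarBilin (fun i => 4 * d (Pi.single i 1)) = d := by
      refine LinearMap.ext fun y => ?_
      rw [QuadraticMap.polarBilin_apply_apply, polar_Q, Finset.mul_sum]
      conv_rhs => rw [← Finset.univ_sum_single y, map_sum]
      refine Finset.sum_congr rfl fun i _ => ?_
      rw [show (Pi.single i (y i) : Fin n → ZMod 7) = y i • Pi.single i 1 by
        rw [← Pi.single_smul, smul_eq_mul, mul_one], map_smul, smul_eq_mul, ← mul_assoc, ← mul_assoc,
        show (2 : ZMod 7) * 4 = 1 by decide, one_mul, mul_comm]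
    rw [← hd, ← CfsgLib.Geom.ι_mul_sub_involute, CliffordAlgebra.involute_eq_of_mem_even h0]
    have := hu fun i => 4 * d (Pi.single i 1)
    simp only [OneMemClass.coe_one, perm_one] at this
    rw [this, sub_self]
  obtain ⟨c, hc⟩ := CfsgLib.Geom.scalar_of_contractLeft_eq_zero (Q n) _ hcon
  have h1' : c * c = 1 := by
    refine CfsgLib.Geom.cliff_algebraMap_injective (Q n) ?_
    rw [map_mul, map_one]
    simpa [hc, CliffordAlgebra.reverse.commutes] using h1
  rcases mul_self_eq_one_iff.mp h1' with rfl | rfl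
  · exact Or.inl (Subtype.ext (Prod.ext rfl (Units.ext (by simpa using hc))))
  · exact Or.inr (Subtype.ext (Prod.ext rfl (Units.ext (by simpa [zed] using hc))))

theorem zed_central : zed n ∈ Subgroup.center (cover n) := by
  rw [Subgroup.mem_center_iff]
  intro g
  exact Subtype.ext (Prod.ext (by simp [zed]) (Units.ext (by simp [zed])))

theorem orderOf_zed : orderOf (zed n) = 2 := by
  refine orderOf_eq_prime (Subtype.ext (Prod.ext (by simp [zed]) (Units.ext (by simp [zed])))) ?_
  intro h
  have := congrArg (fun g : cover n => (g.1.2 : CliffordAlgebra (Q n))) h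
  simp [zed] at this
  exact one_ne_neg_one n this.symm

/-- The lift of the product of two disjoint transpositions. -/
noncomputable def pairLift {i j k l : Fin n} (hij : i ≠ j) (hkl : k ≠ l) : cover n :=
  ⟨(⟨Equiv.swap i j * Equiv.swap k l, by
      rw [Equiv.Perm.mem_alternatingGroup, map_mul, Equiv.Perm.sign_swap hij,
        Equiv.Perm.sign_swap hkl]; decide⟩,
    ⟨_, _, ι_root_sq n hij, ι_root_sq n hij⟩ * ⟨_, _, ι_root_sq n hkl, ι_root_sq n hkl⟩), by
    refine ⟨?_, ?_, fun x => ?_⟩
    · have := CliffordAlgebra.evenOdd_mul_le (Q n) 1 1 (Submodule.mul_mem_mul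
        (CliffordAlgebra.ι_mem_evenOdd_one _ (root n i j))
        (CliffordAlgebra.ι_mem_evenOdd_one _ (root n k l)))
      exact this
    · simp only [Units.val_mul, Units.val_mk, CliffordAlgebra.reverse.map_mul,
        CliffordAlgebra.reverse_ι]
      rw [mul_assoc, ← mul_assoc (ι (Q n) (root n k l)), ι_root_sq n hkl, one_mul, ι_root_sq n hij]
    · simp only [Units.val_mul, Units.val_mk, perm_mul]
      rw [mul_assoc, root_mul_ι n hkl, mul_neg, ← mul_assoc, root_mul_ι n hij]
      simp [mul_assoc]⟩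

theorem zed_mem_commutator (hn : 4 ≤ n) : zed n ∈ commutator (cover n) := by
  obtain ⟨m, rfl⟩ : ∃ m, n = m + 4 := ⟨n - 4, by omega⟩
  let a : Fin (m + 4) := ⟨0, by omega⟩
  let b : Fin (m + 4) := ⟨1, by omega⟩
  let c : Fin (m + 4) := ⟨2, by omega⟩
  let d : Fin (m + 4) := ⟨3, by omega⟩
  have hab : a ≠ b := by simp [a, b, Fin.ext_iff]
  have hac : a ≠ c := by simp [a, c, Fin.ext_iff]
  have had : a ≠ d := by simp [a, d, Fin.ext_iff]
  have hbc : b ≠ c := by simp [b, c, Fin.ext_iff]
  have hbd : b ≠ d := by simp [b, d, Fin.ext_iff]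
  have hcd : c ≠ d := by simp [c, d, Fin.ext_iff]
  set A := pairLift (m + 4) hab hcd with hA
  set B := pairLift (m + 4) hac hbd with hB
  have hσa : (Equiv.swap a b * Equiv.swap c d) a = b := by
    simp [Equiv.Perm.mul_apply, Equiv.swap_apply_def, hac, had]
  have hσb : (Equiv.swap a b * Equiv.swap c d) b = a := by
    simp [Equiv.Perm.mul_apply, Equiv.swap_apply_def, hbc, hbd, hab.symm]
  have hσc : (Equiv.swap a b * Equiv.swap c d) c = d := by
    simp [Equiv.Perm.mul_apply, Equiv.swap_apply_def, had.symm, hbd.symm]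
  have hσd : (Equiv.swap a b * Equiv.swap c d) d = c := by
    simp [Equiv.Perm.mul_apply, Equiv.swap_apply_def, hac.symm, hbc.symm, hcd.symm]
  have hanti : ι (Q (m + 4)) (root (m + 4) b d) * ι (Q (m + 4)) (root (m + 4) a c) =
      -(ι (Q (m + 4)) (root (m + 4) a c) * ι (Q (m + 4)) (root (m + 4) b d)) := by
    rw [CliffordAlgebra.ι_mul_ι_comm, polar_Q, sum_root_mul]
    simp [root, hab.symm, hbc, had.symm, hcd.symm]
  have hu : (A * B).1.2 = -(B * A).1.2 := by
    refine Units.ext ?_
    have hA3 := A.2.2.2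
    simp only [Subgroup.coe_mul, Prod.snd_mul, Units.val_mul, Units.val_neg]
    set u := (A.1.2 : CliffordAlgebra (Q (m + 4))) with hu
    show u * (ι (Q (m + 4)) (root (m + 4) a c) * ι (Q (m + 4)) (root (m + 4) b d)) =
      -(ι (Q (m + 4)) (root (m + 4) a c) * ι (Q (m + 4)) (root (m + 4) b d) * u)
    rw [← mul_assoc, hA3, mul_assoc, hA3, ← mul_assoc, perm_root, perm_root]
    show ι (Q (m + 4)) (root (m + 4) ((Equiv.swap a b * Equiv.swap c d) a)
        ((Equiv.swap a b * Equiv.swap c d) c)) *
      ι (Q (m + 4)) (root (m + 4) ((Equiv.swap a b * Equiv.swap c d) b)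
        ((Equiv.swap a b * Equiv.swap c d) d)) * u = _
    rw [hσa, hσb, hσc, hσd, hanti, neg_mul]
  have hmul : A * B = zed (m + 4) * (B * A) := by
    refine Subtype.ext (Prod.ext ?_ ?_)
    · show A.1.1 * B.1.1 = 1 * (B.1.1 * A.1.1)
      rw [one_mul]
      refine Subtype.ext ?_
      show Equiv.swap a b * Equiv.swap c d * (Equiv.swap a c * Equiv.swap b d) =
        Equiv.swap a c * Equiv.swap b d * (Equiv.swap a b * Equiv.swap c d)
      set σ := Equiv.swap a b * Equiv.swap c d with hσ
      rw [← mul_assoc, Equiv.mul_swap_eq_swap_mul σ a c, hσa, hσc, mul_assoc (Equiv.swap b d) σ,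
        Equiv.mul_swap_eq_swap_mul σ b d, hσb, hσd, ← mul_assoc,
        Equiv.mul_swap_eq_swap_mul (Equiv.swap b d) a c,
        Equiv.swap_apply_of_ne_of_ne hab had, Equiv.swap_apply_of_ne_of_ne hbc.symm hcd]
    · refine hu.trans (Units.ext ?_)
      simp [zed]
  have hz : zed (m + 4) = ⁅A, B⁆ := by
    rw [commutatorElement_def, hmul]; group
  rw [hz, commutator_def]
  exact Subgroup.commutator_mem_commutator (Subgroup.mem_top _) (Subgroup.mem_top _)

theorem main (hn : 4 ≤ n) : ∃ (Γ : Type) (_ : Group Γ) (_ : Finite Γ) (z : Γ)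
    (_ : z ∈ Subgroup.center Γ), orderOf z = 2 ∧ z ∈ commutator Γ ∧
    ∃ _ : (Subgroup.zpowers z).Normal,
      Nonempty (Γ ⧸ Subgroup.zpowers z ≃* alternatingGroup (Fin n)) := by
  have hker : (proj n).ker = Subgroup.zpowers (zed n) := by
    refine le_antisymm (fun g hg => ?_) (Subgroup.zpowers_le.mpr rfl)
    rcases eq_one_or_zed n hg with rfl | rfl
    · exact one_mem _
    · exact Subgroup.mem_zpowers _
  haveI : Finite (proj n).ker := by
    rw [hker]
    exact Nat.finite_of_card_ne_zero (by rw [Nat.card_zpowers, orderOf_zed]; norm_num)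
  haveI : Finite (cover n ⧸ (proj n).ker) :=
    Finite.of_equiv _ (QuotientGroup.quotientKerEquivOfSurjective _ (proj_surjective n)).symm.toEquiv
  haveI : Finite (cover n) := Finite.of_subgroup_quotient (proj n).ker
  haveI hnorm : (Subgroup.zpowers (zed n)).Normal := hker ▸ inferInstance
  exact ⟨cover n, inferInstance, inferInstance, zed n, zed_central n, orderOf_zed n,
    zed_mem_commutator n hn, hnorm,
    ⟨(QuotientGroup.quotientMulEquivOfEq hker.symm).trans
      (QuotientGroup.quotientKerEquivOfSurjective _ (proj_surjective n))⟩⟩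

end CfsgLib.Clifford.AltCover
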