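import Cfsg.Prelude.Def_OddOrderChar
import Cfsg.Agent.Lib.Char.Induce
import Cfsg.Agent.S1496
import Cfsg.Agent.S1498

/-!
# The Dade map: value formula, isometry and integrality
-/

namespace CfsgLib.Clifford.Dade

open scoped Classical ComplexConjugate

universe u

variable {G : Type u} [Group G] [Fintype G] {A : Set G} {L : Subgroup G} {H : G → Subgroup G}

theorem commute_of_mem (hD : Cfsg.DadeHypothesis A L H) {a : G} (ha : a ∈ A) {u : G} (hu : u ∈ H a) :
    u * a = a * u :=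
  Subgroup.mem_centralizer_singleton_iff.mp (hD.le_centralizer a ha hu)

theorem self_mem (hD : Cfsg.DadeHypothesis A L H) {a : G} (ha : a ∈ A) :
    a ∈ L ⊓ Subgroup.centralizer ({a} : Set G) :=
  ⟨hD.subset ha, Subgroup.mem_centralizer_singleton_iff.mpr rfl⟩

theorem orderOf_coprime (hD : Cfsg.DadeHypothesis A L H) {a b : G} (ha : a ∈ A) (hb : b ∈ A) :
    Nat.Coprime (orderOf b) (Nat.card (H a)) :=
  ((hD.coprime a ha b hb).symm).coprime_dvd_left (Subgroup.orderOf_dvd_natCard _ (self_mem hD hb))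

theorem part_eq (hD : Cfsg.DadeHypothesis A L H) {a b u v g : G} (ha : a ∈ A) (hb : b ∈ A)
    (hu : u ∈ H a) (hv : v ∈ H b) (h : g * (a * u) * g⁻¹ = b * v) : g * a * g⁻¹ = b := by
  have hc2 : Nat.Coprime (Nat.lcm (orderOf a) (orderOf b)) (Nat.card (H a) * Nat.card (H b)) :=
    Nat.Coprime.coprime_dvd_left (Nat.lcm_dvd_mul _ _)
      (Nat.Coprime.mul_left
        (Nat.Coprime.mul_right (orderOf_coprime hD ha ha) (orderOf_coprime hD hb ha))
        (Nat.Coprime.mul_right (orderOf_coprime hD ha hb) (orderOf_coprime hD hb hb)))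
  obtain ⟨m, hm1, hm0⟩ := Nat.chineseRemainder hc2 1 0
  have hp : ∀ c ∈ A, ∀ s ∈ H c, orderOf c ∣ Nat.lcm (orderOf a) (orderOf b) →
      Nat.card (H c) ∣ Nat.card (H a) * Nat.card (H b) → (c * s) ^ m = c := by
    intro c hc s hs h1 h2
    rw [Commute.mul_pow (show Commute c s from (commute_of_mem hD hc hs).symm),
      orderOf_dvd_iff_pow_eq_one.mp (((Subgroup.orderOf_dvd_natCard (H c) hs).trans h2).trans
        (Nat.modEq_zero_iff_dvd.mp hm0)), mul_one, ← pow_mod_orderOf, hm1.of_dvd h1, pow_mod_orderOf,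
      pow_one]
  have := congr_arg (· ^ m) h
  simpa only [conj_pow, hp a ha u hu (Nat.dvd_lcm_left _ _) (dvd_mul_right _ _),
    hp b hb v hv (Nat.dvd_lcm_right _ _) (dvd_mul_left _ _)] using this

theorem conj_mem_H' (hD : Cfsg.DadeHypothesis A L H) {a x u : G} (ha : a ∈ A) (hx : x ∈ L)
    (hu : u ∈ H a) : x * u * x⁻¹ ∈ H (x * a * x⁻¹) := by
  rw [Cfsg.Agent.S1498.result A L H hD a ha x hx]
  exact ⟨u, hu, rfl⟩

theorem card_H_conj (hD : Cfsg.DadeHypothesis A L H) {a x : G} (ha : a ∈ A) (hx : x ∈ L) :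
    Nat.card (H (x * a * x⁻¹)) = Nat.card (H a) := by
  rw [Cfsg.Agent.S1498.result A L H hD a ha x hx,
    Nat.card_congr (Subgroup.equivMapOfInjective _ _ (MulEquiv.injective _)).symm.toEquiv]

theorem normalizes (hD : Cfsg.DadeHypothesis A L H) {a : G} (ha : a ∈ A) :
    L ⊓ Subgroup.centralizer ({a} : Set G) ≤ Subgroup.normalizer (H a : Set G) := by
  intro c hc h
  refine ⟨fun hh => hD.conj_mem_H a ha c hc.2 h hh, fun hh => ?_⟩
  simpa [mul_assoc] using hD.conj_mem_H a ha c⁻¹ ((Subgroup.centralizer _).inv_mem hc.2) _ hh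

theorem card_sup {K N : Subgroup G} (hn : N ≤ Subgroup.normalizer (K : Set G)) (hd : K ⊓ N = ⊥) :
    Nat.card ↥(K ⊔ N) = Nat.card K * Nat.card N := by
  rw [← Nat.card_prod]
  refine (Nat.card_eq_of_bijective (fun p : K × N => (⟨(p.1 : G) * p.2,
    Subgroup.mul_mem_sup p.1.2 p.2.2⟩ : ↥(K ⊔ N))) ⟨fun p q h => ?_, fun z => ?_⟩).symm
  · have h1 : (p.1 : G) * p.2 = q.1 * q.2 := congr_arg Subtype.val h
    have h2 := Subgroup.mul_injective_of_disjoint (disjoint_iff.mpr hd) (a₁ := p) (a₂ := q) h1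
    exact h2
  · have hz : (z : G) ∈ ((K ⊔ N : Subgroup G) : Set G) := z.2
    rw [Subgroup.coe_mul_of_right_le_normalizer_left K N hn] at hz
    obtain ⟨k, hk, n, hn', he⟩ := hz
    exact ⟨(⟨k, hk⟩, ⟨n, hn'⟩), Subtype.ext he⟩

theorem card_centralizer (hD : Cfsg.DadeHypothesis A L H) {a : G} (ha : a ∈ A) :
    Nat.card ↥(Subgroup.centralizer ({a} : Set G)) =
      Nat.card (H a) * Nat.card ↥(L ⊓ Subgroup.centralizer ({a} : Set G)) := by
  rw [← card_sup (normalizes hD ha) (hD.inf_eq_bot a ha), hD.sup_eq a ha]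

theorem dadeIsometry_apply (hD : Cfsg.DadeHypothesis A L H) {α : L → ℂ}
    (hα : Cfsg.IsClassFunction L α) {a : L} (ha : (a : G) ∈ A) {x g u : G} (hu : u ∈ H a)
    (h : x * g * x⁻¹ = a * u) : Cfsg.dadeIsometry A L H α g = α a := by
  have hex : ∃ b : L, (b : G) ∈ A ∧ ∃ y : G, ∃ v ∈ H (b : G), y * g * y⁻¹ = (b : G) * v :=
    ⟨a, ha, x, u, hu, h⟩
  rw [Cfsg.dadeIsometry, dif_pos hex]
  obtain ⟨hb, y, v, hv, hy⟩ := Classical.choose_spec hex
  set b := Classical.choose hex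
  have h2 : (y * x⁻¹) * ((a : G) * u) * (y * x⁻¹)⁻¹ = b * v := by rw [← hy, ← h]; group
  have h3 := part_eq hD ha hb hu hv h2
  obtain ⟨l, hl, hle⟩ := hD.fusion a ha (y * x⁻¹) (h3.symm ▸ hb)
  rw [show b = ⟨l, hl⟩ * a * (⟨l, hl⟩ : L)⁻¹ from Subtype.ext (by rw [← h3, ← hle]; rfl), hα]

theorem dadeIsometry_eq_zero {α : L → ℂ} {g : G}
    (h : ∀ a ∈ A, ∀ x : G, ∀ u ∈ H a, x * g * x⁻¹ ≠ a * u) :
    Cfsg.dadeIsometry A L H α g = 0 := by
  rw [Cfsg.dadeIsometry, dif_neg]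
  rintro ⟨a, ha, x, u, hu, he⟩
  exact h a ha x u hu he

theorem dadeIsometry_isClassFunction (hD : Cfsg.DadeHypothesis A L H) {α : L → ℂ}
    (hα : Cfsg.IsClassFunction L α) : Cfsg.IsClassFunction G (Cfsg.dadeIsometry A L H α) := by
  intro g z
  by_cases h : ∃ a ∈ A, ∃ x : G, ∃ u ∈ H a, x * g * x⁻¹ = a * u
  · obtain ⟨a, ha, x, u, hu, he⟩ := h
    rw [dadeIsometry_apply hD hα (a := ⟨a, hD.subset ha⟩) ha hu he,
      dadeIsometry_apply hD hα (a := ⟨a, hD.subset ha⟩) ha (x := x * z⁻¹) hu (by rw [← he]; group)]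
  · push Not at h
    rw [dadeIsometry_eq_zero h, dadeIsometry_eq_zero]
    intro a ha x u hu he
    exact h a ha (x * z) u hu (by rw [← he]; group)

/-- The number of pairs `(y, b)` over a given element of the Dade support. -/
theorem card_fibre (hD : Cfsg.DadeHypothesis A L H) {a x u : G} (ha : a ∈ A) (hu : u ∈ H a) :
    (Finset.univ.filter fun p : G × G =>
      p.2 ∈ A ∧ p.1⁻¹ * (x * (a * u) * x⁻¹) * p.1 * p.2⁻¹ ∈ H p.2).card =
      Nat.card L * Nat.card (H a) := by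
  set C := Subgroup.centralizer ({a} : Set G) with hC
  set S := Finset.univ.filter fun p : G × G =>
    p.2 ∈ A ∧ p.1⁻¹ * (x * (a * u) * x⁻¹) * p.1 * p.2⁻¹ ∈ H p.2
  have hcom : ∀ c ∈ C, c * a * c⁻¹ = a := fun c hc =>
    mul_inv_eq_iff_eq_mul.mpr (Subgroup.mem_centralizer_singleton_iff.mp hc)
  let f : L × C → G × G := fun p => (x * p.2 * (p.1 : G)⁻¹, p.1 * a * (p.1 : G)⁻¹)
  have hmaps : ∀ p, f p ∈ S := by
    rintro ⟨l, c⟩
    simp only [S, f, Finset.mem_filter, Finset.mem_univ, true_and]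
    refine ⟨hD.conj_mem l l.2 a ha, ?_⟩
    have h1 := conj_mem_H' hD ha l.2 (hD.conj_mem_H a ha (c : G)⁻¹ (C.inv_mem c.2) u hu)
    refine (congr_arg (· ∈ H ((l : G) * a * (l : G)⁻¹)) ?_).mpr h1
    calc _ = (l : G) * ((c : G)⁻¹ * a * (c : G)⁻¹⁻¹ * ((c : G)⁻¹ * u * (c : G)⁻¹⁻¹) * a⁻¹) *
        (l : G)⁻¹ := by group
      _ = _ := by
          rw [hcom _ (C.inv_mem c.2), ← commute_of_mem hD ha
            (hD.conj_mem_H a ha (c : G)⁻¹ (C.inv_mem c.2) u hu)]
          group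
  have hfib : ∀ s ∈ S, (Finset.univ.filter fun p => f p = s).card = Nat.card ↥(L ⊓ C) := by
    rintro ⟨y, b⟩ hs
    simp only [S, Finset.mem_filter, Finset.mem_univ, true_and] at hs
    obtain ⟨hb, hv⟩ := hs
    set v := y⁻¹ * (x * (a * u) * x⁻¹) * y * b⁻¹ with hvdef
    have h1 : (y⁻¹ * x) * (a * u) * (y⁻¹ * x)⁻¹ = b * v := by
      rw [← commute_of_mem hD hb hv, hvdef]; group
    have h2 := part_eq hD ha hb hu hv h1
    obtain ⟨l, hl, hle⟩ := hD.fusion a ha (y⁻¹ * x) (h2.symm ▸ hb)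
    rw [h2] at hle
    have hc : x⁻¹ * y * l ∈ C := by
      rw [hC, Subgroup.mem_centralizer_singleton_iff, ← mul_inv_eq_iff_eq_mul]
      calc x⁻¹ * y * l * a * (x⁻¹ * y * l)⁻¹ = (x⁻¹ * y) * (l * a * l⁻¹) * (x⁻¹ * y)⁻¹ := by group
        _ = a := by rw [hle, ← h2]; group
    rw [← Nat.card_eq_finsetCard]
    refine Nat.card_eq_of_bijective (fun p => ⟨l⁻¹ * (p.1.1 : G), ?_⟩) ⟨?_, ?_⟩
    · have hp := (Finset.mem_filter.mp p.2).2
      simp only [f, Prod.mk.injEq] at hp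
      refine ⟨L.mul_mem (L.inv_mem hl) p.1.1.2, Subgroup.mem_centralizer_singleton_iff.mpr ?_⟩
      rw [← mul_inv_eq_iff_eq_mul]
      calc l⁻¹ * (p.1.1 : G) * a * (l⁻¹ * (p.1.1 : G))⁻¹
          = l⁻¹ * ((p.1.1 : G) * a * (p.1.1 : G)⁻¹) * l := by group
        _ = a := by rw [hp.2, ← hle]; group
    · rintro ⟨⟨l1, c1⟩, h1'⟩ ⟨⟨l2, c2⟩, h2'⟩ he
      have e : (l1 : G) = l2 := mul_left_cancel (congr_arg Subtype.val he)
      have p1 := (Finset.mem_filter.mp h1').2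
      have p2 := (Finset.mem_filter.mp h2').2
      simp only [f, Prod.mk.injEq] at p1 p2
      have e2 := p1.1.trans p2.1.symm
      rw [e] at e2
      exact Subtype.ext (Prod.ext (Subtype.ext e)
        (Subtype.ext (mul_left_cancel (mul_right_cancel e2))))
    · intro z
      refine ⟨⟨(⟨l * z, L.mul_mem hl z.2.1⟩, ⟨x⁻¹ * y * l * z, C.mul_mem hc z.2.2⟩), ?_⟩, ?_⟩
      · simp only [Finset.mem_filter, Finset.mem_univ, true_and, f, Prod.mk.injEq]
        refine ⟨by group, ?_⟩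
        calc l * (z : G) * a * (l * (z : G))⁻¹ = l * ((z : G) * a * (z : G)⁻¹) * l⁻¹ := by group
          _ = b := by rw [hcom _ z.2.2, hle]
      · exact Subtype.ext (inv_mul_cancel_left _ _)
  have htot := Finset.card_eq_sum_card_fiberwise (s := (Finset.univ : Finset (L × C))) (t := S)
    (f := f) (fun p _ => hmaps p)
  rw [Finset.sum_congr rfl hfib, Finset.sum_const, smul_eq_mul, Finset.card_univ,
    ← Nat.card_eq_fintype_card, Nat.card_prod, card_centralizer hD ha, ← mul_assoc] at htot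
  exact (Nat.eq_of_mul_eq_mul_right Nat.card_pos htot).symm

/-- The Dade map as a double sum. -/
theorem dadeIsometry_eq_sum (hD : Cfsg.DadeHypothesis A L H) {α : L → ℂ}
    (hα : Cfsg.IsClassFunction L α) (g : G) :
    Cfsg.dadeIsometry A L H α g = (Nat.card L : ℂ)⁻¹ * ∑ p : G × G,
      if p.2 ∈ A ∧ p.1⁻¹ * g * p.1 * p.2⁻¹ ∈ H p.2
      then Cfsg.extendByZero L α p.2 * (Nat.card (H p.2) : ℂ)⁻¹ else 0 := by
  rw [← Finset.sum_filter]
  by_cases h : ∃ a ∈ A, ∃ x : G, ∃ u ∈ H a, x * g * x⁻¹ = a * u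
  · obtain ⟨a, ha, x, u, hu, he⟩ := h
    have hg : g = x⁻¹ * (a * u) * x⁻¹⁻¹ := by rw [← he]; group
    rw [dadeIsometry_apply hD hα (a := ⟨a, hD.subset ha⟩) ha hu he]
    rw [Finset.sum_congr rfl (g := fun _ =>
      α ⟨a, hD.subset ha⟩ * (Nat.card (H a) : ℂ)⁻¹)]
    · rw [Finset.sum_const, hg, card_fibre hD ha hu, nsmul_eq_mul]
      have h1 : (Nat.card L : ℂ) ≠ 0 := Nat.cast_ne_zero.mpr Nat.card_pos.ne'
      have h2 : (Nat.card (H a) : ℂ) ≠ 0 := Nat.cast_ne_zero.mpr Nat.card_pos.ne'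
      push_cast
      field_simp
    · rintro ⟨y, b⟩ hp
      obtain ⟨hb, hv⟩ := (Finset.mem_filter.mp hp).2
      dsimp only at hb hv
      have h1 : (y⁻¹ * x⁻¹) * (a * u) * (y⁻¹ * x⁻¹)⁻¹ = b * (y⁻¹ * g * y * b⁻¹) := by
        rw [← commute_of_mem hD hb hv, hg]; group
      have h2 := part_eq hD ha hb hu hv h1
      obtain ⟨l, hl, hle⟩ := hD.fusion a ha (y⁻¹ * x⁻¹) (h2.symm ▸ hb)
      rw [h2] at hle
      show Cfsg.extendByZero L α b * _ = _
      rw [Char.extendByZero_of_mem α (hD.subset hb),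
        show Nat.card (H b) = Nat.card (H a) by rw [← hle, card_H_conj hD ha hl]]
      congr 1
      rw [show (⟨b, hD.subset hb⟩ : L) = ⟨l, hl⟩ * ⟨a, hD.subset ha⟩ * (⟨l, hl⟩ : L)⁻¹ from
        Subtype.ext hle.symm, hα]
  · push Not at h
    rw [dadeIsometry_eq_zero h, Finset.sum_eq_zero, mul_zero]
    rintro ⟨y, b⟩ hp
    obtain ⟨hb, hv⟩ := (Finset.mem_filter.mp hp).2
    dsimp only at hb hv
    exact absurd (by rw [← commute_of_mem hD hb hv]; group) (h b hb y⁻¹ _ hv)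

/-- Adjointness of the Dade map with averaging over cosets. -/
theorem classInner_dadeIsometry (hD : Cfsg.DadeHypothesis A L H) [Fintype L] {α : L → ℂ}
    (hα : Cfsg.IsClassFunction L α) (hαA : ∀ x : L, (x : G) ∉ A → α x = 0)
    {χ : G → ℂ} {ψ : L → ℂ} (hχ : Cfsg.IsClassFunction G χ)
    (hψ : ∀ a : L, (a : G) ∈ A →
      ψ a = (Nat.card (H a) : ℂ)⁻¹ * ∑ᶠ u ∈ (H a : Set G), χ (a * u)) :
    Cfsg.classInner (Cfsg.dadeIsometry A L H α) χ = Cfsg.classInner α ψ := by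
  have hinner : ∀ y b : G, b ∈ A →
      (∑ g : G, if y⁻¹ * g * y * b⁻¹ ∈ H b then conj (χ g) else 0) =
        ∑ u ∈ Finset.univ.filter (· ∈ H b), conj (χ (b * u)) := by
    intro y b hb
    rw [Finset.sum_filter]
    refine Fintype.sum_equiv
      ((MulAut.conj y⁻¹).toEquiv.trans (Equiv.mulRight b⁻¹)) _ _ fun g => ?_
    simp only [Equiv.trans_apply, MulEquiv.toEquiv_eq_coe, EquivLike.coe_coe, MulAut.conj_apply,
      Equiv.coe_mulRight, inv_inv]
    split_ifs with h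
    · rw [← commute_of_mem hD hb h, inv_mul_cancel_right]
      congr 1
      have := hχ g y⁻¹
      rw [inv_inv] at this
      exact this.symm
    · rfl
  have hGne : (Nat.card G : ℂ) ≠ 0 := Nat.cast_ne_zero.mpr Nat.card_pos.ne'
  have key : ∑ g : G, Cfsg.dadeIsometry A L H α g * conj (χ g) = (Nat.card L : ℂ)⁻¹ *
      ((Nat.card G : ℂ) * ∑ b : G, if b ∈ A then Cfsg.extendByZero L α b *
        (Nat.card (H b) : ℂ)⁻¹ * ∑ u ∈ Finset.univ.filter (· ∈ H b), conj (χ (b * u)) else 0) := by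
    simp only [dadeIsometry_eq_sum hD hα]
    simp only [mul_assoc (Nat.card L : ℂ)⁻¹, Finset.sum_mul, ← Finset.mul_sum]
    congr 1
    rw [Finset.sum_comm, Fintype.sum_prod_type, Finset.sum_congr rfl (fun y _ =>
      Finset.sum_congr rfl (g := fun b : G => if b ∈ A then Cfsg.extendByZero L α b *
        (Nat.card (H b) : ℂ)⁻¹ * ∑ u ∈ Finset.univ.filter (· ∈ H b), conj (χ (b * u)) else 0)
        fun b _ => ?_), Finset.sum_const, nsmul_eq_mul, Finset.card_univ, ← Nat.card_eq_fintype_card]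
    by_cases hb : b ∈ A
    · rw [if_pos hb, ← hinner y b hb, Finset.mul_sum]
      refine Finset.sum_congr rfl fun g _ => ?_
      simp only [hb, true_and]
      split_ifs <;> ring
    · simp [hb]
  rw [Char.classInner_def, Char.classInner_def, key, mul_left_comm, ← mul_assoc (Nat.card G : ℂ)⁻¹,
    inv_mul_cancel₀ hGne, one_mul]
  congr 1
  rw [← Finset.sum_subset (Finset.subset_univ (Finset.univ.filter fun b : G => b ∈ L))
    fun b _ hb => if_neg fun h => hb (Finset.mem_filter.mpr ⟨Finset.mem_univ _, hD.subset h⟩),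
    Finset.sum_subtype _ (p := fun b : G => b ∈ L) fun b => by simp]
  refine Finset.sum_congr rfl fun l _ => ?_
  split_ifs with hl
  · rw [hψ l hl, Char.extendByZero_of_mem α l.2, map_mul, map_inv₀, map_natCast,
      finsum_mem_eq_toFinset_sum, map_sum, mul_assoc]
    congr 2
    exact Finset.sum_congr (by ext; simp) fun _ _ => rfl
  · rw [hαA l hl, zero_mul]

/-- The Dade map preserves inner products of supported class functions. -/
theorem classInner_dadeIsometry_dadeIsometry (hD : Cfsg.DadeHypothesis A L H) [Fintype L]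
    {α β : L → ℂ} (hα : Cfsg.IsClassFunction L α) (hαA : ∀ x : L, (x : G) ∉ A → α x = 0)
    (hβ : Cfsg.IsClassFunction L β) :
    Cfsg.classInner (Cfsg.dadeIsometry A L H α) (Cfsg.dadeIsometry A L H β) =
      Cfsg.classInner α β := by
  refine classInner_dadeIsometry hD hα hαA (dadeIsometry_isClassFunction hD hβ) fun a ha => ?_
  have : ∀ u ∈ (H a : Set G), Cfsg.dadeIsometry A L H β ((a : G) * u) = β a := fun u hu =>
    dadeIsometry_apply hD hβ ha (x := 1) hu (by group)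
  rw [finsum_mem_congr rfl this, finsum_mem_eq_toFinset_sum, Finset.sum_const, nsmul_eq_mul,
    show ((H a : Set G).toFinset.card) = Nat.card (H a) by
      rw [← Set.ncard_eq_toFinset_card', ← Nat.card_coe_set_eq]; rfl, ← mul_assoc,
    inv_mul_cancel₀ (Nat.cast_ne_zero.mpr Nat.card_pos.ne'), one_mul]

end CfsgLib.Clifford.Dade
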