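import Cfsg.Agent.Lib.Clifford.Dade
import Cfsg.Agent.Lib.Char.Inner
import Mathlib.Algebra.BigOperators.Group.Finset.Powerset

/-!
# The Dade image of a virtual character is a virtual character
-/

namespace CfsgLib.Clifford.Dade

open scoped Classical ComplexConjugate

universe u

variable {G : Type u} [Group G] [Fintype G] {A : Set G} {L : Subgroup G} {H : G → Subgroup G}

variable (A L H)

/-- The intersection of the subgroups attached to the members of `B`. -/
def capH (B : Finset G) : Subgroup G := ⨅ b ∈ B, H b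

/-- The stabiliser of `B` in `L`. -/
def stabL (B : Finset G) : Subgroup G := L ⊓ Subgroup.normalizer (B : Set G)

variable {A L H}

theorem mem_capH {B : Finset G} {h : G} : h ∈ capH H B ↔ ∀ b ∈ B, h ∈ H b := by
  simp [capH, Subgroup.mem_iInf]

theorem mem_stabL {B : Finset G} {l : G} :
    l ∈ stabL L B ↔ l ∈ L ∧ ∀ h, h ∈ B ↔ l * h * l⁻¹ ∈ B := by
  rw [stabL, Subgroup.mem_inf]
  exact and_congr_right fun _ => Iff.rfl

theorem stabL_le_normalizer (hD : Cfsg.DadeHypothesis A L H) {B : Finset G} (hB : ↑B ⊆ A) :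
    stabL L B ≤ Subgroup.normalizer (capH H B : Set G) := by
  have key : ∀ l ∈ stabL L B, ∀ h ∈ capH H B, l * h * l⁻¹ ∈ capH H B := by
    intro l hl h hh
    rw [mem_capH] at hh ⊢
    intro b hb
    have hm := (mem_stabL.mp hl).2 (l⁻¹ * b * l)
    have e : l * (l⁻¹ * b * l) * l⁻¹ = b := by group
    rw [e] at hm
    have h1 := conj_mem_H' hD (hB (hm.mpr hb)) (mem_stabL.mp hl).1 (hh _ (hm.mpr hb))
    rwa [e] at h1
  intro l hl h
  refine ⟨key l hl h, fun hh => ?_⟩
  simpa [mul_assoc] using key l⁻¹ ((stabL L B).inv_mem hl) _ hh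

theorem capH_inf_stabL (hD : Cfsg.DadeHypothesis A L H) {B : Finset G} (hB : ↑B ⊆ A)
    (hne : B.Nonempty) : capH H B ⊓ stabL L B = ⊥ := by
  rw [Subgroup.eq_bot_iff_forall]
  rintro h ⟨hh, hl⟩
  obtain ⟨b, hb⟩ := hne
  have h1 := mem_capH.mp hh b hb
  have h2 : h ∈ H b ⊓ (L ⊓ Subgroup.centralizer ({b} : Set G)) :=
    ⟨h1, (mem_stabL.mp hl).1, hD.le_centralizer b (hB hb) h1⟩
  rwa [hD.inf_eq_bot b (hB hb), Subgroup.mem_bot] at h2

/-- The restriction to `stabL L B`, inflated to the semidirect product. -/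
noncomputable def part (A : Set G) (L : Subgroup G) (H : G → Subgroup G) (α : L → ℂ)
    (B : Finset G) (g : G) : ℂ :=
  ((Nat.card (capH H B) : ℂ) * (Nat.card (stabL L B) : ℂ))⁻¹ * ∑ x : G,
    ∑ l ∈ Finset.univ.filter (fun l => l ∈ A ∧ l ∈ stabL L B),
      if x⁻¹ * g * x * l⁻¹ ∈ capH H B then Cfsg.extendByZero L α l else 0

theorem isGeneralized_part (hD : Cfsg.DadeHypothesis A L H) [Fintype L] {α : L → ℂ}
    (hα : Cfsg.IsGeneralizedCharacter L α) (hαA : ∀ x : L, (x : G) ∉ A → α x = 0)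
    {B : Finset G} (hB : ↑B ⊆ A) (hne : B.Nonempty) :
    Cfsg.IsGeneralizedCharacter G (part A L H α B) := by
  set K := capH H B
  set N := stabL L B
  have hn : N ≤ Subgroup.normalizer (K : Set G) := stabL_le_normalizer hD hB
  have hd : K ⊓ N = ⊥ := capH_inf_stabL hD hB hne
  have hM : ∀ z : ↥(K ⊔ N), ∃ l : N, (z : G) * (l : G)⁻¹ ∈ K := by
    intro z
    have hz : (z : G) ∈ ((K ⊔ N : Subgroup G) : Set G) := z.2
    rw [Subgroup.coe_mul_of_right_le_normalizer_left K N hn] at hz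
    obtain ⟨k, hk, n, hn', he⟩ := hz
    exact ⟨⟨n, hn'⟩, by simpa [← he] using hk⟩
  choose π hπ using hM
  have huniq : ∀ (z : ↥(K ⊔ N)) (l : N), (z : G) * (l : G)⁻¹ ∈ K → π z = l := by
    intro z l hl
    have h1 : (π z : G) * (l : G)⁻¹ ∈ K ⊓ N := by
      refine ⟨?_, N.mul_mem (π z).2 (N.inv_mem l.2)⟩
      have := K.mul_mem (K.inv_mem (hπ z)) hl
      simpa [mul_assoc] using this
    rw [hd, Subgroup.mem_bot, mul_inv_eq_one] at h1
    exact Subtype.ext h1
  let π' : ↥(K ⊔ N) →* L := (Subgroup.inclusion (inf_le_left : N ≤ L)).comp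
    (MonoidHom.mk' π fun z z' => huniq _ _ (by
      have h1 := K.mul_mem (hπ z) ((hn (π z).2 _).mp (hπ z'))
      show (z : G) * z' * ((π z : G) * π z')⁻¹ ∈ K
      simpa [mul_assoc] using h1))
  have hgen : Cfsg.IsGeneralizedCharacter ↥(K ⊔ N) (α ∘ π') := by
    obtain ⟨a, b, ha, hb, rfl⟩ := hα
    exact ⟨a ∘ π', b ∘ π', Char.isCharacter_comp ha π', Char.isCharacter_comp hb π', rfl⟩
  convert Char.isGeneralized_indFun (K ⊔ N) hgen using 1
  funext g
  rw [part, Char.indFun_def, card_sup hn hd, Nat.cast_mul]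
  congr 1
  refine Finset.sum_congr rfl fun x _ => ?_
  by_cases hz : x⁻¹ * g * x ∈ K ⊔ N
  · rw [Char.extendByZero_of_mem _ hz, Finset.sum_eq_single (π ⟨_, hz⟩ : G)]
    · rw [if_pos (hπ ⟨_, hz⟩), Char.extendByZero_of_mem α (inf_le_left (a := L) (π ⟨_, hz⟩).2)]
      rfl
    · intro l hl hne'
      refine if_neg fun h => hne' ?_
      rw [huniq ⟨_, hz⟩ ⟨l, (Finset.mem_filter.mp hl).2.2⟩ h]
    · intro hnot
      have hnA : (π ⟨_, hz⟩ : G) ∉ A := fun h =>
        hnot (Finset.mem_filter.mpr ⟨Finset.mem_univ _, h, (π ⟨_, hz⟩).2⟩)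
      rw [if_pos (hπ ⟨_, hz⟩), Char.extendByZero_of_mem α (inf_le_left (a := L) (π ⟨_, hz⟩).2),
        hαA _ hnA]
  · rw [Char.extendByZero_of_not_mem _ hz, Finset.sum_eq_zero]
    intro l hl
    refine if_neg fun h => hz ?_
    have h1 := Subgroup.mul_mem_sup h (Finset.mem_filter.mp hl).2.2
    simpa [mul_assoc] using h1

/-- Conjugation of finite subsets. -/
noncomputable def conjSet (k : G) (B : Finset G) : Finset G :=
  B.map (MulAut.conj k).toEquiv.toEmbedding

theorem mem_conjSet {k : G} {B : Finset G} {h : G} : h ∈ conjSet k B ↔ k⁻¹ * h * k ∈ B := by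
  rw [conjSet, Finset.mem_map_equiv]
  rfl

theorem conjSet_conjSet (a b : G) (B : Finset G) : conjSet a (conjSet b B) = conjSet (a * b) B := by
  ext h
  simp [mem_conjSet, mul_assoc]

theorem conjSet_one (B : Finset G) : conjSet 1 B = B := by ext h; simp [mem_conjSet]

theorem conjSet_eq_self_iff {l : G} {B : Finset G} (hl : l ∈ L) :
    conjSet l B = B ↔ l ∈ stabL L B := by
  rw [mem_stabL, and_iff_right hl]
  refine ⟨fun h a => ?_, fun h => ?_⟩
  · conv_rhs => rw [← h, mem_conjSet]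
    simp [mul_assoc]
  · ext a
    rw [mem_conjSet, h (l⁻¹ * a * l)]
    simp [mul_assoc]

theorem conjSet_subset (hD : Cfsg.DadeHypothesis A L H) {k : G} (hk : k ∈ L) {B : Finset G}
    (hB : ↑B ⊆ A) : ↑(conjSet k B) ⊆ A := fun h hh => by
  have := hD.conj_mem k hk _ (hB (mem_conjSet.mp hh))
  simpa [mul_assoc] using this

theorem conj_mem_capH (hD : Cfsg.DadeHypothesis A L H) {k : G} (hk : k ∈ L) {B : Finset G}
    (hB : ↑B ⊆ A) {h : G} : k * h * k⁻¹ ∈ capH H (conjSet k B) ↔ h ∈ capH H B := by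
  simp only [mem_capH, mem_conjSet]
  refine ⟨fun h1 b hb => ?_, fun h1 b hb => ?_⟩
  · have h2 := conj_mem_H' hD (hD.conj_mem k hk b (hB hb)) (L.inv_mem hk)
      (h1 (k * b * k⁻¹) (by simpa [mul_assoc] using hb))
    simpa [mul_assoc] using h2
  · have h2 := conj_mem_H' hD (hB hb) hk (h1 _ hb)
    simpa [mul_assoc] using h2

theorem conj_mem_stabL {k : G} (hk : k ∈ L) {B : Finset G} {l : G} :
    k * l * k⁻¹ ∈ stabL L (conjSet k B) ↔ l ∈ stabL L B := by
  simp only [mem_stabL, mem_conjSet]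
  refine and_congr ⟨fun h => ?_, fun h => L.mul_mem (L.mul_mem hk h) (L.inv_mem hk)⟩
    ⟨fun h a => ?_, fun h a => ?_⟩
  · simpa [mul_assoc] using L.mul_mem (L.mul_mem (L.inv_mem hk) h) hk
  · simpa [mul_assoc] using h (k * a * k⁻¹)
  · simpa [mul_assoc] using h (k⁻¹ * a * k)

theorem card_stabL_conjSet {k : G} (hk : k ∈ L) (B : Finset G) :
    Nat.card (stabL L (conjSet k B)) = Nat.card (stabL L B) :=
  (Nat.card_congr ((MulAut.conj k).toEquiv.subtypeEquiv
    fun _ => (conj_mem_stabL hk).symm)).symm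

theorem part_conjSet (hD : Cfsg.DadeHypothesis A L H) {α : L → ℂ} (hα : Cfsg.IsClassFunction L α)
    {k : G} (hk : k ∈ L) {B : Finset G} (hB : ↑B ⊆ A) (g : G) :
    part A L H α (conjSet k B) g = part A L H α B g := by
  have hA : ∀ l, k * l * k⁻¹ ∈ A ↔ l ∈ A := fun l =>
    ⟨fun h => by simpa [mul_assoc] using hD.conj_mem k⁻¹ (L.inv_mem hk) _ h, hD.conj_mem k hk l⟩
  have hext : ∀ l, Cfsg.extendByZero L α (k * l * k⁻¹) = Cfsg.extendByZero L α l := by
    intro l
    by_cases hl : l ∈ L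
    · rw [Char.extendByZero_of_mem α hl,
        Char.extendByZero_of_mem α (L.mul_mem (L.mul_mem hk hl) (L.inv_mem hk))]
      exact hα ⟨l, hl⟩ ⟨k, hk⟩
    · rw [Char.extendByZero_of_not_mem α hl, Char.extendByZero_of_not_mem]
      intro h
      exact hl (by simpa [mul_assoc] using L.mul_mem (L.mul_mem (L.inv_mem hk) h) hk)
  have hcap : Nat.card (capH H (conjSet k B)) = Nat.card (capH H B) :=
    (Nat.card_congr ((MulAut.conj k).toEquiv.subtypeEquiv
      fun _ => (conj_mem_capH hD hk hB).symm)).symm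
  unfold part
  rw [hcap, card_stabL_conjSet hk]
  congr 1
  refine (Fintype.sum_equiv (Equiv.mulRight k⁻¹) _ _ fun x => ?_).symm
  refine Finset.sum_equiv (MulAut.conj k).toEquiv (fun l => ?_) fun l _ => ?_
  · simp only [MulEquiv.toEquiv_eq_coe, EquivLike.coe_coe, MulAut.conj_apply, Finset.mem_filter,
      Finset.mem_univ, true_and, hA, conj_mem_stabL hk]
  · simp only [MulEquiv.toEquiv_eq_coe, EquivLike.coe_coe, MulAut.conj_apply, Equiv.coe_mulRight,
      hext]
    have e : (x * k⁻¹)⁻¹ * g * (x * k⁻¹) * (k * l * k⁻¹)⁻¹ =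
        k * (x⁻¹ * g * x * l⁻¹) * k⁻¹ := by group
    rw [e, if_congr (conj_mem_capH hD hk hB) rfl rfl]

/-- Number of conjugators sending `g` into the coset `capH H B * l`. -/
noncomputable def hit (H : G → Subgroup G) (g : G) (B : Finset G) (l : G) : Finset G :=
  Finset.univ.filter fun x : G => x⁻¹ * g * x * l⁻¹ ∈ capH H B

theorem capH_insert (B : Finset G) (l : G) : capH H (insert l B) = H l ⊓ capH H B := by
  ext h
  simp [mem_capH, Subgroup.mem_inf]

theorem card_hit (hD : Cfsg.DadeHypothesis A L H) (g : G) {B : Finset G} (hB : ↑B ⊆ A)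
    (hne : B.Nonempty) {l : G} (hlA : l ∈ A) (hlN : l ∈ stabL L B) :
    (Nat.card (capH H B) : ℂ)⁻¹ * (hit H g B l).card =
      (Nat.card (capH H (insert l B)) : ℂ)⁻¹ * (hit H g (insert l B) l).card := by
  set K := capH H B
  set K' := capH H (insert l B)
  obtain ⟨b, hb⟩ := hne
  have hcop : Nat.Coprime (orderOf l) (Nat.card K) :=
    (orderOf_coprime hD (hB hb) hlA).coprime_dvd_right
      (Subgroup.card_dvd_of_le fun h hh => mem_capH.mp hh b hb)
  have hnor := stabL_le_normalizer hD hB hlN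
  have hcoph : ∀ c ∈ K, c * l = l * c → c ∈ H l := by
    intro c hc hcl
    have h1 : c ∈ ((H l ⊔ (L ⊓ Subgroup.centralizer ({l} : Set G)) : Subgroup G) : Set G) := by
      rw [hD.sup_eq l hlA]; exact Subgroup.mem_centralizer_singleton_iff.mpr hcl
    rw [Subgroup.coe_mul_of_right_le_normalizer_left _ _ (normalizes hD hlA)] at h1
    obtain ⟨h, hh, m, hm, he⟩ := h1
    change h * m = c at he
    obtain ⟨n, hn⟩ : ∃ n, n = Nat.card K := ⟨_, rfl⟩
    have hpow : ∀ j : ℕ, ∃ h' ∈ H l, (h * m) ^ j = h' * m ^ j := by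
      intro j
      induction j with
      | zero => exact ⟨1, one_mem _, by simp⟩
      | succ j ih =>
        obtain ⟨h', hh', he'⟩ := ih
        refine ⟨h' * (m ^ j * h * (m ^ j)⁻¹),
          mul_mem hh' (hD.conj_mem_H l hlA _ (pow_mem hm.2 j) h hh), ?_⟩
        rw [pow_succ, he', pow_succ]; group
    obtain ⟨h', hh', he'⟩ := hpow n
    have hc1 : c ^ n = 1 := orderOf_dvd_iff_pow_eq_one.mp (hn ▸ Subgroup.orderOf_dvd_natCard K hc)
    rw [show h * m = c from he, hc1] at he'
    have hm1 : m ^ n ∈ H l ⊓ (L ⊓ Subgroup.centralizer ({l} : Set G)) := by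
      refine ⟨?_, pow_mem hm n⟩
      rw [eq_inv_of_mul_eq_one_right he'.symm]
      exact (H l).inv_mem hh'
    rw [hD.inf_eq_bot l hlA, Subgroup.mem_bot] at hm1
    have hc' : Nat.Coprime (orderOf m) n := hn ▸
      (((hD.coprime b (hB hb) l hlA).symm).coprime_dvd_left
        (Subgroup.orderOf_dvd_natCard _ hm)).coprime_dvd_right
          (Subgroup.card_dvd_of_le fun h hh => mem_capH.mp hh b hb)
    have : m = 1 := orderOf_eq_one_iff.mp
      (Nat.eq_one_of_dvd_coprimes hc' dvd_rfl (orderOf_dvd_of_pow_eq_one hm1))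
    rw [← he, this, mul_one]
    exact hh
  have hK' : ∀ c, c ∈ K' ↔ c ∈ K ∧ c * l = l * c := fun c => by
    show c ∈ capH H (insert l B) ↔ _
    rw [capH_insert]
    exact ⟨fun h => ⟨h.2, commute_of_mem hD hlA h.1⟩, fun h => ⟨hcoph c h.1 h.2, h.1⟩⟩
  have hfix : ∀ c ∈ K', ∀ d ∈ K', (c * l) * (d * l)⁻¹ ∈ K' := fun c hc d hd => by
    simpa [mul_assoc] using K'.mul_mem hc (K'.inv_mem hd)
  let P : Finset (G × G) := Finset.univ.filter fun p =>
    p.2 ∈ K ∧ p.2⁻¹ * (p.1⁻¹ * g * p.1) * p.2 * l⁻¹ ∈ K'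
  have hP1 : P.card = (hit H g (insert l B) l).card * Nat.card K := by
    rw [Nat.card_eq_fintype_card, Fintype.card_subtype, ← Finset.card_product]
    refine Finset.card_equiv ⟨fun p => (p.1 * p.2, p.2), fun p => (p.1 * p.2⁻¹, p.2),
      fun p => by simp, fun p => by simp⟩ fun p => ?_
    simp only [P, hit, Equiv.coe_fn_mk, Finset.mem_product, Finset.mem_filter, Finset.mem_univ,
      true_and, mul_inv_rev, mul_assoc]
    exact and_comm
  have hP2 : P.card = (hit H g B l).card * Nat.card K' := by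
    have hmaps : ∀ p ∈ P, p.1 ∈ hit H g B l := by
      intro p hp
      obtain ⟨hk, hz⟩ := (Finset.mem_filter.mp hp).2
      have h1 := ((hK' _).mp hz).1
      have h2 := (hnor p.2⁻¹).mp (K.inv_mem hk)
      refine Finset.mem_filter.mpr ⟨Finset.mem_univ _, ?_⟩
      have h3 := K.mul_mem (K.mul_mem hk h1) h2
      simpa [mul_assoc] using h3
    rw [Finset.card_eq_sum_card_fiberwise (f := Prod.fst) (t := hit H g B l) (s := P)
      (fun p hp => hmaps p hp)]
    refine Finset.sum_const_nat fun x hx => ?_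
    have hx' : x⁻¹ * g * x * l⁻¹ ∈ K := (Finset.mem_filter.mp hx).2
    obtain ⟨k, hk, c, hc, hcl, he⟩ := Cfsg.Agent.S1496.result K l hnor hcop _ hx'
    rw [inv_mul_cancel_right] at he
    rw [← Nat.card_eq_finsetCard]
    refine Nat.card_eq_of_bijective (fun p => ⟨k * p.1.2, ?_⟩) ⟨?_, ?_⟩
    · obtain ⟨hp, hp1⟩ := Finset.mem_filter.mp p.2
      obtain ⟨hk', hz⟩ := (Finset.mem_filter.mp hp).2
      rw [hp1] at hz
      refine (hK' _).mpr ⟨K.mul_mem hk hk', ?_⟩
      set k' := p.1.2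
      set d := k'⁻¹ * (x⁻¹ * g * x) * k' * l⁻¹ with hd
      obtain ⟨hdK, hdl⟩ := (hK' d).mp hz
      obtain ⟨m, hm1, hm0⟩ := Nat.chineseRemainder hcop 1 0
      have hp' : ∀ e ∈ K, e * l = l * e → (e * l) ^ m = l := fun e he' hel => by
        rw [(show Commute e l from hel).mul_pow,
          orderOf_dvd_iff_pow_eq_one.mp ((Subgroup.orderOf_dvd_natCard K he').trans
            (Nat.modEq_zero_iff_dvd.mp hm0)), one_mul, ← pow_mod_orderOf, hm1, pow_mod_orderOf,
          pow_one]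
      have e1 : k * k' * (d * l) * (k * k')⁻¹ = c * l := by rw [← he, hd]; group
      have e2 := congr_arg (· ^ m) e1
      simp only [conj_pow, hp' d hdK hdl, hp' c hc hcl] at e2
      exact mul_inv_eq_iff_eq_mul.mp e2
    · rintro ⟨⟨x1, k1⟩, h1⟩ ⟨⟨x2, k2⟩, h2⟩ h
      have hx1 : x1 = x := (Finset.mem_filter.mp h1).2
      have hx2 : x2 = x := (Finset.mem_filter.mp h2).2
      have e : k1 = k2 := mul_left_cancel (congr_arg Subtype.val h)
      subst hx1 hx2 e
      rfl
    · intro d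
      obtain ⟨hdK, hdl⟩ := (hK' _).mp d.2
      refine ⟨⟨(x, k⁻¹ * d), ?_⟩, Subtype.ext (mul_inv_cancel_left _ _)⟩
      refine Finset.mem_filter.mpr ⟨Finset.mem_filter.mpr ⟨Finset.mem_univ _,
        K.mul_mem (K.inv_mem hk) hdK, ?_⟩, rfl⟩
      have h1 := K'.mul_mem (K'.mul_mem (K'.inv_mem d.2) ((hK' c).mpr ⟨hc, hcl⟩)) d.2
      refine (congr_arg (· ∈ K') ?_).mpr h1
      show (k⁻¹ * (d : G))⁻¹ * (x⁻¹ * g * x) * (k⁻¹ * d) * l⁻¹ = _
      calc _ = (d : G)⁻¹ * (k * (x⁻¹ * g * x) * k⁻¹) * d * l⁻¹ := by group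
        _ = (d : G)⁻¹ * c * (l * d) * l⁻¹ := by rw [he]; group
        _ = _ := by rw [← hdl]; group
  have h := hP1.symm.trans hP2
  have h1 : (Nat.card K : ℂ) ≠ 0 := Nat.cast_ne_zero.mpr Nat.card_pos.ne'
  have h2 : (Nat.card K' : ℂ) ≠ 0 := Nat.cast_ne_zero.mpr Nat.card_pos.ne'
  rw [inv_mul_eq_iff_eq_mul₀ h1, mul_left_comm, eq_inv_mul_iff_mul_eq₀ h2]
  rw [mul_comm (Nat.card K' : ℂ), mul_comm (Nat.card K : ℂ)]
  exact_mod_cast h.symm

theorem stabL_insert_iff {B : Finset G} {l : G} :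
    l ∈ stabL L (insert l B) ↔ l ∈ stabL L (B.erase l) := by
  simp only [mem_stabL, Finset.mem_insert, Finset.mem_erase]
  refine and_congr_right fun _ => forall_congr' fun h => ?_
  have e : l * h * l⁻¹ = l ↔ h = l :=
    ⟨fun h1 => mul_left_cancel (mul_inv_eq_iff_eq_mul.mp h1), fun h1 => by subst h1; group⟩
  by_cases hh : h = l <;> simp [hh, e]

theorem dadeIsometry_eq_alternating (hD : Cfsg.DadeHypothesis A L H) {α : L → ℂ}
    (hα : Cfsg.IsClassFunction L α) (g : G) :
    ∑ B ∈ (Finset.univ.filter (· ∈ A)).powerset.filter (·.Nonempty),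
      (-1 : ℂ) ^ (B.card + 1) * (Nat.card (stabL L B) : ℂ) * part A L H α B g =
        (Nat.card L : ℂ) * Cfsg.dadeIsometry A L H α g := by
  set A' := Finset.univ.filter (· ∈ A) with hA'
  have hsub : ∀ B ∈ A'.powerset, ↑B ⊆ A := fun B hB b hb =>
    (Finset.mem_filter.mp (Finset.mem_powerset.mp hB hb)).2
  let q : G → Finset G → ℂ := fun l B =>
    if l ∈ stabL L B then (-1 : ℂ) ^ (B.card + 1) *
      ((Nat.card (capH H (insert l B)) : ℂ)⁻¹ * (hit H g (insert l B) l).card) else 0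
  have hpart : ∀ B ∈ A'.powerset.filter (·.Nonempty),
      (-1 : ℂ) ^ (B.card + 1) * (Nat.card (stabL L B) : ℂ) * part A L H α B g =
        ∑ l ∈ A', Cfsg.extendByZero L α l * q l B := by
    intro B hB
    obtain ⟨hBp, hne⟩ := Finset.mem_filter.mp hB
    rw [part, Finset.sum_comm,
      show (Finset.univ.filter fun l => l ∈ A ∧ l ∈ stabL L B) =
        A'.filter (· ∈ stabL L B) by rw [hA', Finset.filter_filter],
      Finset.sum_filter, Finset.mul_sum, Finset.mul_sum]
    refine Finset.sum_congr rfl fun l hl => ?_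
    simp only [q]
    split_ifs with hN
    · rw [← card_hit hD g (hsub B hBp) hne (Finset.mem_filter.mp hl).2 hN, ← Finset.sum_filter,
        Finset.sum_const, nsmul_eq_mul]
      have h1 : (Nat.card (stabL L B) : ℂ) ≠ 0 := Nat.cast_ne_zero.mpr Nat.card_pos.ne'
      rw [mul_inv, hit]
      field_simp
    · ring
  rw [Finset.sum_congr rfl hpart, Finset.sum_comm, dadeIsometry_eq_sum hD hα, ← mul_assoc,
    mul_inv_cancel₀ (Nat.cast_ne_zero.mpr Nat.card_pos.ne'), one_mul, Fintype.sum_prod_type,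
    Finset.sum_comm (s := (Finset.univ : Finset G)),
    ← Finset.sum_subset (Finset.subset_univ A') fun b _ hb => Finset.sum_eq_zero fun y _ =>
      if_neg fun h => hb (by simp [hA', h.1])]
  refine Finset.sum_congr rfl fun l hl => ?_
  rw [← Finset.mul_sum]
  have hlA : l ∈ A := (Finset.mem_filter.mp hl).2
  have hneg : ∀ B : Finset G, l ∉ B → q l (insert l B) = -q l B := by
    intro B h
    have hiff : l ∈ stabL L (insert l B) ↔ l ∈ stabL L B := by
      rw [stabL_insert_iff, Finset.erase_eq_of_notMem h]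
    simp only [q, hiff, Finset.insert_idem, Finset.card_insert_of_notMem h]
    split_ifs <;> ring
  have hinv : ∑ B ∈ A'.powerset, q l B = 0 := by
    refine Finset.sum_involution (fun B _ => if l ∈ B then B.erase l else insert l B)
      (fun B _ => ?_) (fun B _ _ h => ?_) (fun B hB => ?_) fun B _ => ?_
    · by_cases h : l ∈ B
      · rw [if_pos h]
        have := hneg (B.erase l) (Finset.notMem_erase l B)
        rw [Finset.insert_erase h] at this
        rw [this, neg_add_cancel]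
      · rw [if_neg h, hneg B h, add_neg_cancel]
    · split_ifs at h with h1
      · exact (Finset.erase_ne_self.mpr h1) h
      · exact h1 (h ▸ Finset.mem_insert_self l B)
    · rw [Finset.mem_powerset] at hB ⊢
      split_ifs
      · exact (Finset.erase_subset _ _).trans hB
      · exact Finset.insert_subset hl hB
    · by_cases h : l ∈ B <;> simp [h]
  have hempty : q l ∅ = -((Nat.card (H l) : ℂ)⁻¹ * (hit H g {l} l).card) := by
    have h1 : capH H {l} = H l := by ext h; simp [mem_capH]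
    simp only [q]
    rw [if_pos (mem_stabL.mpr ⟨hD.subset hlA, by simp⟩), insert_empty_eq, h1]
    simp
  have hsplit : ∑ B ∈ A'.powerset.filter (·.Nonempty), q l B = -q l ∅ := by
    rw [← sub_eq_zero, sub_neg_eq_add, ← hinv,
      ← Finset.add_sum_erase _ _ (Finset.empty_mem_powerset A'), add_comm]
    congr 1
    refine Finset.sum_congr ?_ fun _ _ => rfl
    ext B
    simp [Finset.nonempty_iff_ne_empty, and_comm]
  rw [hsplit, hempty, neg_neg]
  have h1 : capH H {l} = H l := by ext h; simp [mem_capH]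
  rw [show (∑ y : G, if l ∈ A ∧ y⁻¹ * g * y * l⁻¹ ∈ H l
      then Cfsg.extendByZero L α l * (Nat.card (H l) : ℂ)⁻¹ else 0) =
        (hit H g {l} l).card • (Cfsg.extendByZero L α l * (Nat.card (H l) : ℂ)⁻¹) by
    rw [← Finset.sum_filter, Finset.sum_const, hit, h1]
    congr 2
    ext y
    simp [hlA]]
  rw [nsmul_eq_mul]
  ring

theorem isGeneralized_dadeIsometry (hD : Cfsg.DadeHypothesis A L H) [Fintype L] {α : L → ℂ}
    (hα : Cfsg.IsGeneralizedCharacter L α) (hαA : ∀ x : L, (x : G) ∉ A → α x = 0) :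
    Cfsg.IsGeneralizedCharacter G (Cfsg.dadeIsometry A L H α) := by
  have hcl := Char.isGeneralized_isClassFunction hα
  set S := (Finset.univ.filter (· ∈ A)).powerset.filter (·.Nonempty) with hS
  have hmem : ∀ {B}, B ∈ S ↔ ↑B ⊆ A ∧ B.Nonempty := fun {B} => by
    simp [hS, Finset.subset_iff, Set.subset_def]
  let orb : Finset G → Finset (Finset G) := fun B => Finset.univ.image fun l : L => conjSet (l : G) B
  have hrep : ∀ O ∈ S.image orb, ∃ B ∈ S, orb B = O := fun O hO => Finset.mem_image.mp hO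
  choose! rep hrepS hrepO using hrep
  have horb : ∀ B, ∀ k ∈ L, orb (conjSet k B) = orb B := by
    intro B k hk
    ext C
    simp only [orb, Finset.mem_image, Finset.mem_univ, true_and, conjSet_conjSet]
    exact ⟨fun ⟨l, hl⟩ => ⟨l * ⟨k, hk⟩, hl⟩, fun ⟨l, hl⟩ =>
      ⟨l * (⟨k, hk⟩ : L)⁻¹, by rw [← hl]; simp [mul_assoc]⟩⟩
  suffices e : Cfsg.dadeIsometry A L H α = ∑ O ∈ S.image orb,
      (((-1 : ℤ) ^ ((rep O).card + 1) : ℤ) : ℂ) • part A L H α (rep O) by
    rw [e]
    exact Char.isGeneralized_sum _ fun O hO => Char.isGeneralized_zsmul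
      (isGeneralized_part hD hα hαA (hmem.mp (hrepS O hO)).1 (hmem.mp (hrepS O hO)).2) _
  funext g
  refine mul_left_cancel₀ (Nat.cast_ne_zero.mpr (Nat.card_pos (α := L)).ne') ?_
  rw [← dadeIsometry_eq_alternating hD hcl g, ← Finset.sum_fiberwise_of_maps_to
    (fun B hB => Finset.mem_image_of_mem orb hB), Finset.sum_apply, Finset.mul_sum]
  refine Finset.sum_congr rfl fun O hO => ?_
  obtain ⟨hsub, hne⟩ := hmem.mp (hrepS O hO)
  have hfib : S.filter (fun B => orb B = O) = orb (rep O) := by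
    ext C
    rw [Finset.mem_filter]
    refine ⟨fun h => ?_, fun h => ?_⟩
    · rw [hrepO O hO, ← h.2]
      exact Finset.mem_image.mpr ⟨1, Finset.mem_univ _, conjSet_one C⟩
    · obtain ⟨k, -, rfl⟩ := Finset.mem_image.mp h
      exact ⟨hmem.mpr ⟨conjSet_subset hD k.2 hsub, Finset.map_nonempty.mpr hne⟩,
        (horb _ _ k.2).trans (hrepO O hO)⟩
  rw [hfib, Finset.sum_congr rfl (g := fun _ => (-1 : ℂ) ^ ((rep O).card + 1) *
    (Nat.card (stabL L (rep O)) : ℂ) * part A L H α (rep O) g)]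
  · have hcard : (Finset.univ : Finset L).card = (orb (rep O)).card * Nat.card (stabL L (rep O)) := by
      rw [Finset.card_eq_sum_card_fiberwise (f := fun l : L => conjSet (l : G) (rep O))
        (t := orb (rep O)) fun l hl => Finset.mem_image_of_mem _ hl]
      refine Finset.sum_const_nat fun C hC => ?_
      obtain ⟨l₀, -, rfl⟩ := Finset.mem_image.mp hC
      rw [← Nat.card_eq_finsetCard]
      refine Nat.card_eq_of_bijective (fun p => ⟨((l₀⁻¹ * p.1 : L) : G), ?_⟩) ⟨?_, ?_⟩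
      · have hp := (Finset.mem_filter.mp p.2).2
        rw [← conjSet_eq_self_iff (l₀⁻¹ * p.1).2, Subgroup.coe_mul, ← conjSet_conjSet, hp,
          conjSet_conjSet]
        simp [conjSet_one]
      · intro p q h
        exact Subtype.ext (mul_left_cancel (Subtype.ext (congr_arg Subtype.val h :)))
      · intro z
        have hzL : (z : G) ∈ L := (mem_stabL.mp z.2).1
        refine ⟨⟨l₀ * ⟨z, hzL⟩, Finset.mem_filter.mpr ⟨Finset.mem_univ _, ?_⟩⟩,
          Subtype.ext (by simp)⟩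
        rw [Subgroup.coe_mul, ← conjSet_conjSet, (conjSet_eq_self_iff hzL).mpr z.2]
    rw [Finset.sum_const, nsmul_eq_mul, Nat.card_eq_fintype_card (α := L), ← Finset.card_univ, hcard,
      Pi.smul_apply, smul_eq_mul]
    push_cast
    ring
  · intro C hC
    obtain ⟨k, -, rfl⟩ := Finset.mem_image.mp hC
    rw [part_conjSet hD hcl k.2 hsub, card_stabL_conjSet k.2, show (conjSet (k : G) (rep O)).card =
      (rep O).card from Finset.card_map _]

end CfsgLib.Clifford.Dade
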