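import Cfsg.Agent.Lib.Clifford.Coherence

/-!
# Consequences of the axioms of a coherence system
-/

namespace CfsgLib.Clifford.Coh

open scoped ComplexConjugate

universe u v

variable {L : Type u} [Group L] [Fintype L] {G : Type v} [Group G] [Fintype G]
variable {S : Set (L → ℂ)} {τ : (L → ℂ) → (G → ℂ)} {R : (L → ℂ) → Finset (G → ℂ)}
variable (hS : Cfsg.IsCoherenceSystem S τ R) {χ φ : L → ℂ}

include hS

theorem ne_zero (hχ : χ ∈ S) : χ ≠ 0 := fun h =>
  hS.conj_ne χ hχ (funext fun x => by simp [Cfsg.conjFun, h])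

theorem exists_deg (hχ : χ ∈ S) : ∃ d : ℕ, 0 < d ∧ χ 1 = d ∧ Cfsg.conjFun χ 1 = d := by
  obtain ⟨d, ρ, hρ⟩ := hS.isCharacter χ hχ
  refine ⟨d, Nat.pos_of_ne_zero fun h0 => ne_zero hS hχ ?_, ?_, ?_⟩
  · subst h0
    funext g
    rw [← hρ]
    simp [Representation.character, Subsingleton.elim (ρ g) 0]
  · rw [← hρ, Representation.char_one, Module.finrank_fin_fun]
  · simp [Cfsg.conjFun, ← hρ, Representation.char_one]

theorem exists_norm (hχ : χ ∈ S) : ∃ n : ℕ, 0 < n ∧ Cfsg.classInner χ χ = n := by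
  obtain ⟨n, hn⟩ := Char.classInner_isCharacter_nat (hS.isCharacter χ hχ) (hS.isCharacter χ hχ)
  refine ⟨n, Nat.pos_of_ne_zero fun h0 => ne_zero hS hχ
    (Char.classInner_self_eq_zero (by rw [hn, h0, Nat.cast_zero])), hn⟩

theorem sub_mem (hχ : χ ∈ S) (hφ : φ ∈ S) (h : χ 1 = φ 1) :
    χ - φ ∈ Cfsg.zspanOn S ({1}ᶜ : Set L) :=
  mem_zspanOn_compl.mpr ⟨Submodule.sub_mem _ (mem_zspan_of_mem hχ) (mem_zspan_of_mem hφ),
    by simp [h]⟩

theorem conj_sub_mem (hχ : χ ∈ S) : χ - Cfsg.conjFun χ ∈ Cfsg.zspanOn S ({1}ᶜ : Set L) :=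
  sub_mem hS hχ (hS.conj_mem χ hχ) (by
    obtain ⟨d, -, h1, h2⟩ := exists_deg hS hχ
    rw [h1, h2])

/-- `R χ` has twice as many members as the norm of `χ`. -/
theorem card_R (hχ : χ ∈ S) {n : ℕ} (hn : Cfsg.classInner χ χ = n) : (R χ).card = 2 * n := by
  have hmem := conj_sub_mem hS hχ
  have h := hS.isometry.2.2.1 _ hmem _ hmem
  rw [hS.sum_eq χ hχ, Char.classInner_sum_left] at h
  simp only [Char.classInner_sum_right] at h
  rw [Finset.sum_congr rfl (g := fun _ => (1 : ℂ)) (fun a ha => by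
    rw [Finset.sum_eq_single a (fun b hb hne => by
      rw [hS.orthonormal χ hχ a ha b hb, if_neg hne.symm]) (fun h => absurd ha h),
      hS.orthonormal χ hχ a ha a ha, if_pos rfl])] at h
  have hne := (hS.conj_ne χ hχ).symm
  simp only [Char.classInner_sub_left, Char.classInner_sub_right, classInner_conjFun, hn,
    hS.orthogonal χ hχ _ (hS.conj_mem χ hχ) hne,
    hS.orthogonal _ (hS.conj_mem χ hχ) χ hχ hne.symm, Finset.sum_const, nsmul_eq_mul, mul_one,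
    sub_zero, zero_sub, sub_neg_eq_add] at h
  have h' : (R χ).card = n + n := by exact_mod_cast h
  omega

theorem R_disjoint (hχ : χ ∈ S) (hφ : φ ∈ S) (h1 : φ ≠ χ) (h2 : φ ≠ Cfsg.conjFun χ) :
    Disjoint (R χ) (R φ) := Finset.disjoint_left.mpr fun a ha ha' => by
  have h := hS.disjoint χ hχ φ hφ (hS.orthogonal φ hφ χ hχ h1)
    (hS.orthogonal φ hφ _ (hS.conj_mem χ hχ) h2) a ha' a ha
  rw [hS.orthonormal χ hχ a ha a ha, if_pos rfl] at h
  exact one_ne_zero h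

theorem R_perp {ω : L → ℂ} (hω : ω ∈ S) (hχ : χ ∈ S) (h1 : ω ≠ χ) (h2 : ω ≠ Cfsg.conjFun χ)
    {a b : G → ℂ} (ha : a ∈ R ω) (hb : b ∈ R χ) : Cfsg.classInner a b = 0 :=
  hS.disjoint χ hχ ω hω (hS.orthogonal ω hω χ hχ h1)
    (hS.orthogonal ω hω _ (hS.conj_mem χ hχ) h2) a ha b hb

theorem R_orth_real (hχ : χ ∈ S) {a b : G → ℂ} (ha : a ∈ R χ) (hb : b ∈ R χ) :
    Cfsg.classInner a b = if a = b then ((1 : ℝ) : ℂ) else 0 := by
  classical
  rw [hS.orthonormal χ hχ a ha b hb, Complex.ofReal_one]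

/-- An isometry on a conjugation closed part sends a member into the span of its `R`. -/
theorem image_perp {S₁ : Set (L → ℂ)} (hS₁ : S₁ ⊆ S) {τ₁ : (L → ℂ) → (G → ℂ)}
    (hτ₁ : Cfsg.IsLinearIsometryOn (Cfsg.zspan S₁) τ₁)
    (hag : ∀ α ∈ Cfsg.zspanOn S₁ ({1}ᶜ : Set L), τ₁ α = τ α) (hφ : φ ∈ S₁)
    (hφc : Cfsg.conjFun φ ∈ S₁) (hχ : χ ∈ S) (h1 : φ ≠ χ) (h2 : φ ≠ Cfsg.conjFun χ)
    {b : G → ℂ} (hb : b ∈ R χ) : Cfsg.classInner (τ₁ φ) b = 0 := by
  classical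
  have hφS := hS₁ hφ
  obtain ⟨n, hn0, hn⟩ := exists_norm hS hφS
  have hmem : φ - Cfsg.conjFun φ ∈ Cfsg.zspanOn S₁ ({1}ᶜ : Set L) :=
    ⟨Submodule.sub_mem _ (mem_zspan_of_mem hφ) (mem_zspan_of_mem hφc),
      (conj_sub_mem hS hφS).2⟩
  have hgen := hτ₁.2.2.2 φ (mem_zspan_of_mem hφ)
  choose! c hc using fun a (ha : a ∈ R φ) =>
    Char.classInner_isGeneralized_int hgen (hS.virtual φ hφS a ha)
  have hsum : ∑ a ∈ R φ, c a = (n : ℤ) := by
    have h := hτ₁.2.2.1 φ (mem_zspan_of_mem hφ) _ hmem.1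
    rw [hag _ hmem, hS.sum_eq φ hφS, Char.classInner_sum_right, Char.classInner_sub_right, hn,
      hS.orthogonal φ hφS _ (hS.conj_mem φ hφS) (hS.conj_ne φ hφS).symm, sub_zero,
      Finset.sum_congr rfl hc] at h
    exact_mod_cast h
  obtain ⟨hle, heq⟩ := bessel (R φ) id (fun _ => (1 : ℝ)) (τ₁ φ)
    (fun a ha b hb => R_orth_real hS hφS ha hb) (fun _ _ => one_pos) (fun a => (c a : ℝ))
    (fun a ha => by rw [id, hc a ha, Complex.ofReal_intCast]) n
    (by rw [hτ₁.2.2.1 φ (mem_zspan_of_mem hφ) φ (mem_zspan_of_mem hφ), hn, Complex.ofReal_natCast])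
  have h' : (n : ℝ) ≤ ∑ a ∈ R φ, (c a : ℝ) ^ 2 / 1 := by
    have := sum_le_sum_sq (R φ) c
    rw [hsum] at this
    simp only [div_one]
    exact_mod_cast this
  rw [heq h', Char.classInner_sum_left]
  refine Finset.sum_eq_zero fun a ha => ?_
  rw [Char.classInner_smul_left, id, R_perp hS hφS hχ h1 h2 ha hb, mul_zero]

/-- Structure of the image of a degree zero difference of two members. -/
theorem diff_structure (hχ : χ ∈ S) (hφ : φ ∈ S) (h1 : φ ≠ χ) (h2 : φ ≠ Cfsg.conjFun χ)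
    (hdeg : χ 1 = φ 1) {n : ℕ} (hn : Cfsg.classInner χ χ = n) :
    (∃ E ⊆ R χ, E.card = n ∧ ∀ a ∈ R χ,
      (a ∈ E → Cfsg.classInner (τ (χ - φ)) a = 1) ∧
      (a ∉ E → Cfsg.classInner (τ (χ - φ)) a = 0)) ∧
    ∀ ω ∈ S, ω ≠ χ → ω ≠ Cfsg.conjFun χ → ω ≠ φ → ω ≠ Cfsg.conjFun φ →
      ∀ b ∈ R ω, Cfsg.classInner (τ (χ - φ)) b = 0 := by
  classical
  obtain ⟨m, hm0, hm⟩ := exists_norm hS hφ
  have hmem := sub_mem hS hχ hφ hdeg
  have hχ' := hS.conj_mem χ hχ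
  have hφ' := hS.conj_mem φ hφ
  have h3 : χ ≠ Cfsg.conjFun φ := fun h => h2 (by rw [h, conjFun_conjFun])
  set ψ := τ (χ - φ)
  have hgen := hS.isometry.2.2.2 _ hmem
  have hd := R_disjoint hS hχ hφ h1 h2
  choose! c hc using fun a (ha : Cfsg.IsGeneralizedCharacter G a) =>
    Char.classInner_isGeneralized_int hgen ha
  have hv : ∀ a ∈ R χ ∪ R φ, Cfsg.IsGeneralizedCharacter G a := fun a ha =>
    (Finset.mem_union.mp ha).elim (hS.virtual χ hχ a) (hS.virtual φ hφ a)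
  have hs1 : ∑ a ∈ R χ, c a = (n : ℤ) := by
    have h := hS.isometry.2.2.1 _ hmem _ (conj_sub_mem hS hχ)
    rw [hS.sum_eq χ hχ, Char.classInner_sum_right,
      Finset.sum_congr rfl fun a ha => hc a (hS.virtual χ hχ a ha)] at h
    simp only [Char.classInner_sub_left, Char.classInner_sub_right, hn,
      hS.orthogonal χ hχ _ hχ' (hS.conj_ne χ hχ).symm, hS.orthogonal φ hφ χ hχ h1,
      hS.orthogonal φ hφ _ hχ' h2, sub_zero] at h
    exact_mod_cast h
  have hs2 : ∑ a ∈ R φ, c a = -(m : ℤ) := by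
    have h := hS.isometry.2.2.1 _ hmem _ (conj_sub_mem hS hφ)
    rw [hS.sum_eq φ hφ, Char.classInner_sum_right,
      Finset.sum_congr rfl fun a ha => hc a (hS.virtual φ hφ a ha)] at h
    simp only [Char.classInner_sub_left, Char.classInner_sub_right, hm,
      hS.orthogonal χ hχ φ hφ h1.symm, hS.orthogonal χ hχ _ hφ' h3,
      hS.orthogonal φ hφ _ hφ' (hS.conj_ne φ hφ).symm, sub_zero, zero_sub] at h
    exact_mod_cast h
  have hN : Cfsg.classInner ψ ψ = (((n : ℝ) + m : ℝ) : ℂ) := by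
    rw [hS.isometry.2.2.1 _ hmem _ hmem]
    simp only [Char.classInner_sub_left, Char.classInner_sub_right, hm, hn,
      hS.orthogonal χ hχ φ hφ h1.symm, hS.orthogonal φ hφ χ hχ h1]
    push_cast
    ring
  obtain ⟨hle, heq⟩ := bessel (R χ ∪ R φ) id (fun _ => (1 : ℝ)) ψ (fun a ha b hb => by
      rcases Finset.mem_union.mp ha with ha | ha <;> rcases Finset.mem_union.mp hb with hb | hb
      · exact R_orth_real hS hχ ha hb
      · rw [if_neg (Finset.disjoint_iff_ne.mp hd a ha b hb)]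
        exact R_perp hS hχ hφ h1.symm h3 ha hb
      · rw [if_neg (Finset.disjoint_iff_ne.mp hd b hb a ha).symm]
        exact R_perp hS hφ hχ h1 h2 ha hb
      · exact R_orth_real hS hφ ha hb)
    (fun _ _ => one_pos) (fun a => (c a : ℝ))
    (fun a ha => by rw [id, hc a (hv a ha), Complex.ofReal_intCast]) _ hN
  have hq1 := sum_le_sum_sq (R χ) c
  have hq2 := sum_le_sum_sq (R φ) fun a => -c a
  rw [Finset.sum_neg_distrib, hs2, neg_neg] at hq2
  simp only [neg_sq] at hq2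
  rw [hs1] at hq1
  simp only [div_one, Finset.sum_union hd] at hle heq
  have hle' : ∑ a ∈ R χ, c a ^ 2 + ∑ a ∈ R φ, c a ^ 2 ≤ (n : ℤ) + m := by exact_mod_cast hle
  have hexp := heq (by exact_mod_cast (by omega : (n : ℤ) + m ≤
    ∑ a ∈ R χ, c a ^ 2 + ∑ a ∈ R φ, c a ^ 2))
  have h01 := coeff_zero_one (R χ) c (by rw [hs1]; omega)
  refine ⟨⟨(R χ).filter fun a => c a = 1, Finset.filter_subset _ _, ?_, fun a ha => ⟨?_, ?_⟩⟩, ?_⟩
  · have h : ∑ a ∈ R χ, c a = (((R χ).filter fun a => c a = 1).card : ℤ) := by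
      rw [Finset.card_filter, Nat.cast_sum]
      refine Finset.sum_congr rfl fun a ha => ?_
      rcases h01 a ha with h | h <;> simp [h]
    rw [hs1] at h
    exact_mod_cast h.symm
  · intro h
    rw [hc a (hS.virtual χ hχ a ha), (Finset.mem_filter.mp h).2, Int.cast_one]
  · intro h
    rw [hc a (hS.virtual χ hχ a ha), (h01 a ha).resolve_right fun h' =>
      h (Finset.mem_filter.mpr ⟨ha, h'⟩), Int.cast_zero]
  · intro ω hω hω1 hω2 hω3 hω4 b hb
    have e1 : χ ≠ Cfsg.conjFun ω := fun h => hω2 (by rw [h, conjFun_conjFun])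
    have e2 : φ ≠ Cfsg.conjFun ω := fun h => hω4 (by rw [h, conjFun_conjFun])
    rw [hexp, Char.classInner_add_left, Char.classInner_sum_left, Char.classInner_sum_left,
      Finset.sum_eq_zero fun a ha => ?_, Finset.sum_eq_zero fun a ha => ?_, add_zero]
    · rw [Char.classInner_smul_left, id, R_perp hS hφ hω hω3.symm e2 ha hb, mul_zero]
    · rw [Char.classInner_smul_left, id, R_perp hS hχ hω hω1.symm e1 ha hb, mul_zero]

end CfsgLib.Clifford.Coh
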