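import Mathlib
import Cfsg.Prelude.Def_OddOrderChar
import Cfsg.Prelude.Def_OddOrderLocal
import Cfsg.Agent.Lib.Char.Induce
import Cfsg.Agent.Lib.Char.Inner

/-!
# Linear characters of a direct product `W₁ ⊔ W₂` and the functions `(1 - φ)(1 - ψ)`
-/

set_option autoImplicit false

open scoped ComplexConjugate

namespace CfsgLib.Clifford

variable {G : Type*} [Group G] {W₁ W₂ : Subgroup G}

/-- `(1 - φ)(1 - ψ)`, expanded. -/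
def tiFun (φ ψ : ↥(W₁ ⊔ W₂) →* ℂˣ) : ↥(W₁ ⊔ W₂) → ℂ :=
  fun w => 1 - (φ w : ℂ) - (ψ w : ℂ) + (φ w : ℂ) * (ψ w : ℂ)

theorem tiFun_eq_zero (φ ψ : ↥(W₁ ⊔ W₂) →* ℂˣ)
    (hφ : ∀ w : ↥(W₁ ⊔ W₂), (w : G) ∈ W₂ → φ w = 1)
    (hψ : ∀ w : ↥(W₁ ⊔ W₂), (w : G) ∈ W₁ → ψ w = 1) (w : ↥(W₁ ⊔ W₂))
    (hw : (w : G) ∈ W₁ ∨ (w : G) ∈ W₂) : tiFun φ ψ w = 0 := by
  rcases hw with h | h
  · simp [tiFun, hψ w h]
  · simp [tiFun, hφ w h]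

/-- A linear character trivial on both factors is trivial. -/
theorem hom_eq_one_of_sup (f : ↥(W₁ ⊔ W₂) →* ℂˣ)
    (h1 : ∀ w : ↥(W₁ ⊔ W₂), (w : G) ∈ W₁ → f w = 1)
    (h2 : ∀ w : ↥(W₁ ⊔ W₂), (w : G) ∈ W₂ → f w = 1) : f = 1 := by
  have hle : W₁ ⊔ W₂ ≤ f.ker.map (W₁ ⊔ W₂).subtype :=
    sup_le (fun a ha => ⟨⟨a, Subgroup.mem_sup_left ha⟩, h1 _ ha, rfl⟩)
      (fun b hb => ⟨⟨b, Subgroup.mem_sup_right hb⟩, h2 _ hb, rfl⟩)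
  ext w
  obtain ⟨v, hv, he⟩ := hle w.2
  rw [← Subtype.ext (show (v : G) = w from he)]
  simpa using congr_arg Units.val (hv : f v = 1)

/-- Every linear character of `W₁ ⊔ W₂ = W₁ × W₂` is a product of one trivial on `W₂` and one
trivial on `W₁`. -/
theorem exists_hom_mul (hdisj : W₁ ⊓ W₂ = ⊥) (hcomm : ∀ a ∈ W₁, ∀ b ∈ W₂, a * b = b * a)
    (ω : ↥(W₁ ⊔ W₂) →* ℂˣ) :
    ∃ φ ψ : ↥(W₁ ⊔ W₂) →* ℂˣ, (∀ w : ↥(W₁ ⊔ W₂), (w : G) ∈ W₂ → φ w = 1) ∧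
      (∀ w : ↥(W₁ ⊔ W₂), (w : G) ∈ W₁ → ψ w = 1) ∧ ω = φ * ψ := by
  let i₁ := Subgroup.inclusion (le_sup_left : W₁ ≤ W₁ ⊔ W₂)
  let i₂ := Subgroup.inclusion (le_sup_right : W₂ ≤ W₁ ⊔ W₂)
  let e : W₁ × W₂ →* ↥(W₁ ⊔ W₂) :=
    MonoidHom.noncommCoprod i₁ i₂ fun a b => Subtype.ext (hcomm a a.2 b b.2)
  have hinj : Function.Injective e := by
    rw [injective_iff_map_eq_one]
    rintro ⟨a, b⟩ h
    have h' : (a : G) * b = 1 := congr_arg Subtype.val h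
    have ha : (a : G) ∈ W₁ ⊓ W₂ :=
      ⟨a.2, by rw [eq_inv_of_mul_eq_one_left h']; exact W₂.inv_mem b.2⟩
    rw [hdisj, Subgroup.mem_bot] at ha
    rw [ha, one_mul] at h'
    exact Prod.ext (Subtype.ext ha) (Subtype.ext h')
  have hsurj : Function.Surjective e := by
    intro z
    have : (z : G) ∈ ((W₁ ⊔ W₂).subtype.comp e).range := by
      refine (sup_le ?_ ?_ : W₁ ⊔ W₂ ≤ ((W₁ ⊔ W₂).subtype.comp e).range) z.2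
      · exact fun a ha => ⟨(⟨a, ha⟩, 1), mul_one a⟩
      · exact fun b hb => ⟨(1, ⟨b, hb⟩), one_mul b⟩
    obtain ⟨p, hp⟩ := this
    exact ⟨p, Subtype.ext hp⟩
  let E : W₁ × W₂ ≃* ↥(W₁ ⊔ W₂) := MulEquiv.ofBijective e ⟨hinj, hsurj⟩
  let φ : ↥(W₁ ⊔ W₂) →* ℂˣ :=
    (ω.comp i₁).comp ((MonoidHom.fst W₁ W₂).comp E.symm.toMonoidHom)
  have hφe : ∀ p : W₁ × W₂, φ (e p) = ω (i₁ p.1) := fun p => by
    have : E.symm (e p) = p := E.symm_apply_apply p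
    show ω (i₁ (E.symm (e p)).1) = _
    rw [this]
  have hφ1 : ∀ w : ↥(W₁ ⊔ W₂), (w : G) ∈ W₁ → φ w = ω w := fun w hw => by
    have he : w = e (⟨w, hw⟩, 1) := Subtype.ext (mul_one (w : G)).symm
    conv_lhs => rw [he, hφe]
    rfl
  have hφ2 : ∀ w : ↥(W₁ ⊔ W₂), (w : G) ∈ W₂ → φ w = 1 := fun w hw => by
    have he : w = e (1, ⟨w, hw⟩) := Subtype.ext (one_mul (w : G)).symm
    conv_lhs => rw [he, hφe]
    simp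
  refine ⟨φ, φ⁻¹ * ω, hφ2, fun w hw => ?_, MonoidHom.ext fun w => ?_⟩
  · simp [hφ1 w hw]
  · simp

/-- The basic orthogonality: `⟨(1-φ)(1-ψ), φ'ψ'⟩` for nontrivial arguments. -/
theorem classInner_tiFun [Fintype ↥(W₁ ⊔ W₂)]
    (φ ψ φ' ψ' : ↥(W₁ ⊔ W₂) →* ℂˣ) (hne' : φ' ≠ 1) (hne : ψ' ≠ 1)
    (hφ : ∀ w : ↥(W₁ ⊔ W₂), (w : G) ∈ W₂ → φ w = 1)
    (hψ : ∀ w : ↥(W₁ ⊔ W₂), (w : G) ∈ W₁ → ψ w = 1)
    (hφ' : ∀ w : ↥(W₁ ⊔ W₂), (w : G) ∈ W₂ → φ' w = 1)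
    (hψ' : ∀ w : ↥(W₁ ⊔ W₂), (w : G) ∈ W₁ → ψ' w = 1) :
    Cfsg.classInner (tiFun φ ψ) (fun w => ((φ' * ψ') w : ℂ)) =
      if φ = φ' ∧ ψ = ψ' then 1 else 0 := by
  classical
  let c : (↥(W₁ ⊔ W₂) →* ℂˣ) → (↥(W₁ ⊔ W₂) → ℂ) := fun f w => (f w : ℂ)
  have hinner : ∀ f f' : ↥(W₁ ⊔ W₂) →* ℂˣ,
      Cfsg.classInner (c f) (c f') = if f = f' then 1 else 0 := fun f f' => by
    rw [CfsgLib.Char.irr_classInner (CfsgLib.Char.isIrrCharacter_linear f)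
      (CfsgLib.Char.isIrrCharacter_linear f')]
    exact if_congr ⟨fun h => MonoidHom.ext fun w => Units.ext (congr_fun h w),
      fun h => h ▸ rfl⟩ rfl rfl
  have hsep : ∀ a b a' b' : ↥(W₁ ⊔ W₂) →* ℂˣ,
      (∀ w : ↥(W₁ ⊔ W₂), (w : G) ∈ W₂ → a w = 1) → (∀ w : ↥(W₁ ⊔ W₂), (w : G) ∈ W₁ → b w = 1) →
      (∀ w : ↥(W₁ ⊔ W₂), (w : G) ∈ W₂ → a' w = 1) → (∀ w : ↥(W₁ ⊔ W₂), (w : G) ∈ W₁ → b' w = 1) →
      a * b = a' * b' → a = a' ∧ b = b' := by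
    intro a b a' b' ha hb ha' hb' h
    have h1 : a⁻¹ * a' = 1 := hom_eq_one_of_sup _ (fun w hw => by
      have := DFunLike.congr_fun h w
      simp only [MonoidHom.mul_apply, hb w hw, hb' w hw, mul_one] at this
      simp [this]) (fun w hw => by simp [ha w hw, ha' w hw])
    have ha'' : a = a' := inv_mul_eq_one.mp h1
    subst ha''
    exact ⟨rfl, mul_left_cancel h⟩
  have one1 : ∀ w : ↥(W₁ ⊔ W₂), (w : G) ∈ W₁ → (1 : ↥(W₁ ⊔ W₂) →* ℂˣ) w = 1 := fun _ _ => rfl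
  have one2 : ∀ w : ↥(W₁ ⊔ W₂), (w : G) ∈ W₂ → (1 : ↥(W₁ ⊔ W₂) →* ℂˣ) w = 1 := fun _ _ => rfl
  have e1 : (1 : ↥(W₁ ⊔ W₂) →* ℂˣ) ≠ φ' * ψ' := fun h =>
    hne (hsep 1 1 φ' ψ' one2 one1 hφ' hψ' ((MonoidHom.ext fun w => by simp).trans h)).2.symm
  have e2 : φ ≠ φ' * ψ' := fun h =>
    hne (hsep φ 1 φ' ψ' hφ one1 hφ' hψ' ((MonoidHom.ext fun w => by simp).trans h)).2.symm
  have e3 : ψ ≠ φ' * ψ' := fun h =>
    hne' (hsep 1 ψ φ' ψ' one2 hψ hφ' hψ' ((MonoidHom.ext fun w => by simp).trans h)).1.symm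
  have hexp : tiFun φ ψ = c 1 - c φ - c ψ + c (φ * ψ) := by
    funext w; simp [tiFun, c]
  show Cfsg.classInner (tiFun φ ψ) (c (φ' * ψ')) = _
  rw [hexp, CfsgLib.Char.classInner_add_left, CfsgLib.Char.classInner_sub_left,
    CfsgLib.Char.classInner_sub_left, hinner, hinner, hinner, hinner, if_neg e1, if_neg e2, if_neg e3,
    sub_zero, sub_zero, zero_add]
  exact if_congr ⟨hsep φ ψ φ' ψ' hφ hψ hφ' hψ', fun h => by rw [h.1, h.2]⟩ rfl rfl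

/-- The product of a `tiFun` with a linear character is a combination of `tiFun`s. -/
theorem tiFun_mul (φ₀ ψ₀ φ ψ : ↥(W₁ ⊔ W₂) →* ℂˣ) (w : ↥(W₁ ⊔ W₂)) :
    tiFun φ₀ ψ₀ w * ((φ * ψ) w : ℂ) = tiFun (φ₀ * φ) (ψ₀ * ψ) w - tiFun (φ₀ * φ) ψ w
      - tiFun φ (ψ₀ * ψ) w + tiFun φ ψ w := by
  simp [tiFun]; ring

/-- The four-term relation coming from the induction identity of a cyclic TI family. -/
theorem cyclicTI_relation [Fintype G] {χ : (↥(W₁ ⊔ W₂) →* ℂˣ) → (G → ℂ)}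
    (hχ : Cfsg.IsCyclicTIFamily W₁ W₂ χ) [Fintype ↥(W₁ ⊔ W₂)] {θ : G → ℂ}
    (hθ : Cfsg.IsClassFunction G θ) (φ ψ : ↥(W₁ ⊔ W₂) →* ℂˣ)
    (hφ : ∀ w : ↥(W₁ ⊔ W₂), (w : G) ∈ W₂ → φ w = 1)
    (hψ : ∀ w : ↥(W₁ ⊔ W₂), (w : G) ∈ W₁ → ψ w = 1) :
    Cfsg.classInner (fun w : ↥(W₁ ⊔ W₂) => θ w) (tiFun φ ψ) =
      Cfsg.classInner θ (χ 1) - Cfsg.classInner θ (χ φ) - Cfsg.classInner θ (χ ψ)
        + Cfsg.classInner θ (χ (φ * ψ)) := by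
  by_cases h1 : φ = 1
  · subst h1
    have : tiFun (1 : ↥(W₁ ⊔ W₂) →* ℂˣ) ψ = 0 := by funext w; simp [tiFun]
    rw [this, CfsgLib.Char.classInner_zero_right, show (1 : ↥(W₁ ⊔ W₂) →* ℂˣ) * ψ = ψ from MonoidHom.ext fun w => by simp]
    ring
  by_cases h2 : ψ = 1
  · subst h2
    have : tiFun φ (1 : ↥(W₁ ⊔ W₂) →* ℂˣ) = 0 := by funext w; simp [tiFun]
    rw [this, CfsgLib.Char.classInner_zero_right, show φ * (1 : ↥(W₁ ⊔ W₂) →* ℂˣ) = φ from MonoidHom.ext fun w => by simp]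
    ring
  have h := CfsgLib.Char.frobenius_reciprocity (W₁ ⊔ W₂) (tiFun φ ψ) θ hθ
  have hi : Cfsg.indFun (W₁ ⊔ W₂) (tiFun φ ψ) =
      χ 1 - χ φ - χ ψ + χ (φ * ψ) := by
    refine (hχ.induced_eq φ ψ h1 h2 hφ hψ).trans ?_
    funext g
    simp [hχ.map_one]
  rw [hi] at h
  have h' := congr_arg conj h
  rw [CfsgLib.Char.classInner_conj_symm, CfsgLib.Char.classInner_conj_symm] at h'
  rw [← h', CfsgLib.Char.classInner_add_right, CfsgLib.Char.classInner_sub_right,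
    CfsgLib.Char.classInner_sub_right]

end CfsgLib.Clifford
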