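import Cfsg.Prelude.Def_OddOrderChar
import Cfsg.Agent.Lib.Char.Inner

/-!
# Coherence of sets of characters

Spans of orthogonal families, extending an isometry from the images of an orthogonal family,
and Bessel's inequality in the form used by the coherence theorems.
-/

namespace CfsgLib.Clifford.Coh

open scoped ComplexConjugate

universe u v

section Span

variable {X : Type u} {S T : Set (X → ℂ)} {A : Set X}

theorem mem_zspan_of_mem {α : X → ℂ} (h : α ∈ S) : α ∈ Cfsg.zspan S := Submodule.subset_span h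

theorem zspan_mono (h : S ⊆ T) : Cfsg.zspan S ⊆ Cfsg.zspan T := Submodule.span_mono h

theorem zspanOn_mono (h : S ⊆ T) : Cfsg.zspanOn S A ⊆ Cfsg.zspanOn T A :=
  fun _ hα => ⟨zspan_mono h hα.1, hα.2⟩

theorem zspanOn_add {α β : X → ℂ} (hα : α ∈ Cfsg.zspanOn S A) (hβ : β ∈ Cfsg.zspanOn S A) :
    α + β ∈ Cfsg.zspanOn S A :=
  ⟨Submodule.add_mem _ hα.1 hβ.1, fun x hx => by simp [hα.2 x hx, hβ.2 x hx]⟩

theorem zspanOn_zero : (0 : X → ℂ) ∈ Cfsg.zspanOn S A :=
  ⟨Submodule.zero_mem _, fun _ _ => rfl⟩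

theorem zspanOn_zsmul {α : X → ℂ} (n : ℤ) (hα : α ∈ Cfsg.zspanOn S A) :
    n • α ∈ Cfsg.zspanOn S A :=
  ⟨Submodule.smul_mem _ n hα.1, fun x hx => by simp [hα.2 x hx]⟩

theorem zspanOn_sub {α β : X → ℂ} (hα : α ∈ Cfsg.zspanOn S A) (hβ : β ∈ Cfsg.zspanOn S A) :
    α - β ∈ Cfsg.zspanOn S A :=
  ⟨Submodule.sub_mem _ hα.1 hβ.1, fun x hx => by simp [hα.2 x hx, hβ.2 x hx]⟩

theorem zspanOn_sum {ι : Type*} (s : Finset ι) (f : ι → X → ℂ)
    (h : ∀ i ∈ s, f i ∈ Cfsg.zspanOn S A) : ∑ i ∈ s, f i ∈ Cfsg.zspanOn S A :=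
  Finset.sum_induction _ (· ∈ Cfsg.zspanOn S A) (fun _ _ => zspanOn_add) zspanOn_zero h

/-- Membership in the combinations vanishing at a point. -/
theorem mem_zspanOn_compl {a : X} {α : X → ℂ} :
    α ∈ Cfsg.zspanOn S ({a}ᶜ : Set X) ↔ α ∈ Cfsg.zspan S ∧ α a = 0 := by
  simp [Cfsg.zspanOn]

theorem exists_coeff {s : Finset (X → ℂ)} {α : X → ℂ}
    (h : α ∈ Cfsg.zspan (↑s : Set (X → ℂ))) : ∃ k : (X → ℂ) → ℤ, α = ∑ x ∈ s, k x • x := by
  obtain ⟨k, -, hk⟩ := Submodule.mem_span_finset.mp h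
  exact ⟨k, hk.symm⟩

theorem sum_mem_zspan {s : Finset (X → ℂ)} (k : (X → ℂ) → ℤ) :
    ∑ x ∈ s, k x • x ∈ Cfsg.zspan (↑s : Set (X → ℂ)) :=
  Submodule.sum_mem _ fun _ hx => Submodule.smul_mem _ _ (Submodule.subset_span hx)

end Span

variable {L : Type u} [Group L] [Fintype L] {G : Type v} [Group G] [Fintype G]

theorem classInner_zsmul_left (n : ℤ) (φ ψ : G → ℂ) :
    Cfsg.classInner (n • φ) ψ = (n : ℂ) * Cfsg.classInner φ ψ := by
  rw [← Int.cast_smul_eq_zsmul ℂ n φ, Char.classInner_smul_left]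

theorem classInner_zsmul_right (n : ℤ) (φ ψ : G → ℂ) :
    Cfsg.classInner φ (n • ψ) = (n : ℂ) * Cfsg.classInner φ ψ := by
  rw [← Int.cast_smul_eq_zsmul ℂ n ψ, Char.classInner_smul_right, map_intCast]

theorem classInner_conjFun (φ ψ : G → ℂ) :
    Cfsg.classInner (Cfsg.conjFun φ) (Cfsg.conjFun ψ) = Cfsg.classInner ψ φ := by
  simp [Char.classInner_def, Cfsg.conjFun, mul_comm]

theorem conjFun_conjFun {X : Type*} (φ : X → ℂ) : Cfsg.conjFun (Cfsg.conjFun φ) = φ :=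
  funext fun x => Complex.conj_conj (φ x)

section Iso

variable {E : Set (L → ℂ)} {τ : (L → ℂ) → (G → ℂ)}

theorem iso_sub (hE : ∀ α ∈ E, ∀ n : ℤ, n • α ∈ E) (hτ : Cfsg.IsLinearIsometryOn E τ)
    {α β : L → ℂ} (hα : α ∈ E) (hβ : β ∈ E) : τ (α - β) = τ α - τ β := by
  have h1 : -β = (-1 : ℤ) • β := by simp
  rw [sub_eq_add_neg, h1, hτ.1 α hα _ (hE β hβ (-1)), hτ.2.1 β hβ]
  simp [sub_eq_add_neg]

theorem iso_sum {ι : Type*} (s : Finset ι) (f : ι → L → ℂ) (h0 : (0 : L → ℂ) ∈ E)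
    (hadd : ∀ α ∈ E, ∀ β ∈ E, α + β ∈ E) (hτ : Cfsg.IsLinearIsometryOn E τ)
    (h : ∀ i ∈ s, f i ∈ E) : τ (∑ i ∈ s, f i) = ∑ i ∈ s, τ (f i) := by
  classical
  induction s using Finset.induction_on with
  | empty =>
    have h2 := hτ.2.1 0 h0 0
    simpa using h2
  | insert a t ha ih =>
    have ht : ∀ i ∈ t, f i ∈ E := fun i hi => h i (Finset.mem_insert_of_mem hi)
    rw [Finset.sum_insert ha, Finset.sum_insert ha,
      hτ.1 _ (h a (Finset.mem_insert_self _ _)) _ (Finset.sum_induction _ (· ∈ E)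
        (fun a b ha hb => hadd a ha b hb) h0 ht), ih ht]

variable {S : Set (L → ℂ)} {A : Set L} (hτ : Cfsg.IsLinearIsometryOn (Cfsg.zspanOn S A) τ)
include hτ

theorem iso_zspanOn_sub {α β : L → ℂ} (hα : α ∈ Cfsg.zspanOn S A) (hβ : β ∈ Cfsg.zspanOn S A) :
    τ (α - β) = τ α - τ β :=
  iso_sub (fun _ h n => zspanOn_zsmul n h) hτ hα hβ

theorem iso_zspanOn_sum {ι : Type*} (s : Finset ι) (f : ι → L → ℂ)
    (h : ∀ i ∈ s, f i ∈ Cfsg.zspanOn S A) : τ (∑ i ∈ s, f i) = ∑ i ∈ s, τ (f i) :=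
  iso_sum s f zspanOn_zero (fun _ ha _ hb => zspanOn_add ha hb) hτ h

omit hτ in
theorem iso_zspan_sub (hτ : Cfsg.IsLinearIsometryOn (Cfsg.zspan S) τ) {α β : L → ℂ}
    (hα : α ∈ Cfsg.zspan S) (hβ : β ∈ Cfsg.zspan S) : τ (α - β) = τ α - τ β :=
  iso_sub (fun _ h n => Submodule.smul_mem _ n h) hτ hα hβ

omit hτ in
theorem iso_zspan_sum (hτ : Cfsg.IsLinearIsometryOn (Cfsg.zspan S) τ) {ι : Type*} (s : Finset ι)
    (f : ι → L → ℂ) (h : ∀ i ∈ s, f i ∈ Cfsg.zspan S) :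
    τ (∑ i ∈ s, f i) = ∑ i ∈ s, τ (f i) :=
  iso_sum s f (Submodule.zero_mem _) (fun _ ha _ hb => Submodule.add_mem _ ha hb) hτ h

end Iso

section Extend

variable (s : Finset (L → ℂ)) (f : (L → ℂ) → (G → ℂ))

/-- The linear map sending each member of an orthogonal family to a prescribed function. -/
noncomputable def ext (α : L → ℂ) : G → ℂ :=
  ∑ x ∈ s, (Cfsg.classInner α x / Cfsg.classInner x x) • f x

theorem classInner_combo {s : Finset (L → ℂ)}
    (horth : ∀ x ∈ s, ∀ y ∈ s, x ≠ y → Cfsg.classInner x y = 0) (k : (L → ℂ) → ℤ)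
    {x : L → ℂ} (hx : x ∈ s) :
    Cfsg.classInner (∑ y ∈ s, k y • y) x = (k x : ℂ) * Cfsg.classInner x x := by
  rw [Char.classInner_sum_left, Finset.sum_eq_single x]
  · rw [classInner_zsmul_left]
  · intro y hy hne
    rw [classInner_zsmul_left, horth y hy x hx hne, mul_zero]
  · exact fun h => absurd hx h

omit [Group G] [Fintype G] in
theorem ext_combo (horth : ∀ x ∈ s, ∀ y ∈ s, x ≠ y → Cfsg.classInner x y = 0)
    (hne : ∀ x ∈ s, x ≠ 0) (k : (L → ℂ) → ℤ) :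
    ext s f (∑ x ∈ s, k x • x) = ∑ x ∈ s, k x • f x := by
  refine Finset.sum_congr rfl fun x hx => ?_
  rw [classInner_combo horth k hx,
    mul_div_cancel_right₀ _ (fun h => hne x hx (Char.classInner_self_eq_zero h)),
    Int.cast_smul_eq_zsmul]

omit [Group G] [Fintype G] in
theorem ext_of_mem (horth : ∀ x ∈ s, ∀ y ∈ s, x ≠ y → Cfsg.classInner x y = 0)
    (hne : ∀ x ∈ s, x ≠ 0) {x : L → ℂ} (hx : x ∈ s) : ext s f x = f x := by
  classical
  have h := ext_combo s f horth hne (fun y => if y = x then 1 else 0)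
  simpa [hx] using h

/-- An orthogonal family with images having the same inner products gives coherence. -/
theorem coherent_of_images (horth : ∀ x ∈ s, ∀ y ∈ s, x ≠ y → Cfsg.classInner x y = 0)
    (hne : ∀ x ∈ s, x ≠ 0) (hgen : ∀ x ∈ s, Cfsg.IsGeneralizedCharacter G (f x))
    (hgram : ∀ x ∈ s, ∀ y ∈ s, Cfsg.classInner (f x) (f y) = Cfsg.classInner x y)
    (A : Set L) (τ : (L → ℂ) → (G → ℂ))
    (hnz : ∃ α ∈ Cfsg.zspanOn (↑s : Set (L → ℂ)) A, α ≠ 0)
    (hag : ∀ k : (L → ℂ) → ℤ, (∑ x ∈ s, k x • x) ∈ Cfsg.zspanOn (↑s : Set (L → ℂ)) A →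
      ∑ x ∈ s, k x • f x = τ (∑ x ∈ s, k x • x)) :
    Cfsg.IsCoherent (↑s : Set (L → ℂ)) A τ := by
  refine ⟨hnz, ext s f, ⟨fun α _ β _ => ?_, fun α _ n => ?_, fun α hα β hβ => ?_, fun α hα => ?_⟩,
    fun α hα => ?_⟩
  · simp only [ext, Char.classInner_add_left, add_div, add_smul, Finset.sum_add_distrib]
  · simp only [ext, classInner_zsmul_left, Finset.smul_sum, mul_div_assoc, mul_smul,
      Int.cast_smul_eq_zsmul]
  · obtain ⟨k, rfl⟩ := exists_coeff hα
    obtain ⟨l, rfl⟩ := exists_coeff hβ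
    simp only [ext_combo s f horth hne, Char.classInner_sum_left, Char.classInner_sum_right]
    refine Finset.sum_congr rfl fun x hx => Finset.sum_congr rfl fun y hy => ?_
    rw [classInner_zsmul_left, classInner_zsmul_left, classInner_zsmul_right,
      classInner_zsmul_right, hgram y hy x hx]
  · obtain ⟨k, rfl⟩ := exists_coeff hα
    rw [ext_combo s f horth hne]
    exact Char.isGeneralized_sum _ fun x hx => by
      rw [← Int.cast_smul_eq_zsmul ℂ]
      exact Char.isGeneralized_zsmul (hgen x hx) (k x)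
  · obtain ⟨k, rfl⟩ := exists_coeff hα.1
    rw [ext_combo s f horth hne]
    exact hag k hα

/-- Pairwise orthogonal nonzero functions form a finite set. -/
theorem finite_of_orthogonal {S : Set (L → ℂ)}
    (horth : ∀ x ∈ S, ∀ y ∈ S, x ≠ y → Cfsg.classInner x y = 0) (hne : ∀ x ∈ S, x ≠ 0) :
    S.Finite := by
  have hli : LinearIndependent ℂ ((↑) : S → L → ℂ) := by
    rw [linearIndependent_iff']
    intro t g hg i hi
    have h := congr_arg (fun z => Cfsg.classInner z (i : L → ℂ)) hg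
    simp only [Char.classInner_sum_left, Char.classInner_smul_left, Char.classInner_zero_left] at h
    rw [Finset.sum_eq_single i (fun j _ hj => by
      rw [horth j j.2 i i.2 (fun e => hj (Subtype.ext e)), mul_zero]) (fun h' => absurd hi h')] at h
    exact (mul_eq_zero.mp h).resolve_right
      fun h' => hne i i.2 (Char.classInner_self_eq_zero h')
  exact LinearIndependent.setFinite hli

end Extend

section Bessel

variable {ι : Type*} [DecidableEq ι] (s : Finset ι) (v : ι → G → ℂ) (n : ι → ℝ) (ψ : G → ℂ)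

/-- Bessel's inequality, with equality only on the span. -/
theorem bessel (horth : ∀ i ∈ s, ∀ j ∈ s,
      Cfsg.classInner (v i) (v j) = if i = j then (n i : ℂ) else 0)
    (hn : ∀ i ∈ s, 0 < n i) (c : ι → ℝ) (hc : ∀ i ∈ s, Cfsg.classInner ψ (v i) = (c i : ℂ))
    (N : ℝ) (hN : Cfsg.classInner ψ ψ = (N : ℂ)) :
    ∑ i ∈ s, c i ^ 2 / n i ≤ N ∧
      (N ≤ ∑ i ∈ s, c i ^ 2 / n i → ψ = ∑ i ∈ s, ((c i / n i : ℝ) : ℂ) • v i) := by
  set r := ψ - ∑ i ∈ s, ((c i / n i : ℝ) : ℂ) • v i with hr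
  have hcr : ∀ i ∈ s, Cfsg.classInner (v i) ψ = (c i : ℂ) := fun i hi => by
    rw [← Char.classInner_conj_symm, hc i hi, Complex.conj_ofReal]
  have h1 : Cfsg.classInner r r = ((N - ∑ i ∈ s, c i ^ 2 / n i : ℝ) : ℂ) := by
    simp only [hr, Char.classInner_sub_left, Char.classInner_sub_right, Char.classInner_sum_left,
      Char.classInner_sum_right, Char.classInner_smul_left, Char.classInner_smul_right,
      Complex.conj_ofReal, hN]
    have e1 : ∑ i ∈ s, ((c i / n i : ℝ) : ℂ) * Cfsg.classInner ψ (v i) =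
        ((∑ i ∈ s, c i ^ 2 / n i : ℝ) : ℂ) := by
      push_cast
      exact Finset.sum_congr rfl fun i hi => by rw [hc i hi]; ring
    have e2 : ∑ i ∈ s, ((c i / n i : ℝ) : ℂ) * Cfsg.classInner (v i) ψ =
        ((∑ i ∈ s, c i ^ 2 / n i : ℝ) : ℂ) := by
      push_cast
      exact Finset.sum_congr rfl fun i hi => by rw [hcr i hi]; ring
    have e3 : ∑ i ∈ s, ((c i / n i : ℝ) : ℂ) *
        ∑ j ∈ s, ((c j / n j : ℝ) : ℂ) * Cfsg.classInner (v j) (v i) =
        ((∑ i ∈ s, c i ^ 2 / n i : ℝ) : ℂ) := by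
      push_cast
      refine Finset.sum_congr rfl fun i hi => ?_
      rw [Finset.sum_eq_single i (fun j hj hji => by rw [horth j hj i hi, if_neg hji, mul_zero])
        (fun h => absurd hi h), horth i hi i hi, if_pos rfl]
      have : (n i : ℂ) ≠ 0 := by exact_mod_cast (hn i hi).ne'
      field_simp
    simp only [mul_sub, Finset.sum_sub_distrib]
    rw [e1, e2, e3]
    push_cast
    ring
  have h2 : (0 : ℝ) ≤ N - ∑ i ∈ s, c i ^ 2 / n i := by
    have h := congr_arg Complex.re h1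
    rw [Char.classInner_self_eq_norm, Complex.ofReal_re, Complex.ofReal_re] at h
    rw [← h]
    positivity
  refine ⟨by linarith, fun hle => ?_⟩
  have h3 : r = 0 := Char.classInner_self_eq_zero (by
    rw [h1, show N - ∑ i ∈ s, c i ^ 2 / n i = 0 by linarith, Complex.ofReal_zero])
  rwa [hr, sub_eq_zero] at h3

omit [DecidableEq ι] in
/-- Integers with equal sum and square sum bound are zeros and ones. -/
theorem coeff_zero_one (c : ι → ℤ) (h : ∑ i ∈ s, c i ^ 2 ≤ ∑ i ∈ s, c i) :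
    ∀ i ∈ s, c i = 0 ∨ c i = 1 := by
  have hnn : ∀ i, 0 ≤ c i * (c i - 1) := fun i => by
    rcases le_or_gt (c i) 0 with h0 | h0
    · exact mul_nonneg_of_nonpos_of_nonpos h0 (by omega)
    · exact mul_nonneg h0.le (by omega)
  intro i hi
  have h0 : ∑ i ∈ s, c i * (c i - 1) = 0 := by
    refine le_antisymm ?_ (Finset.sum_nonneg fun i _ => hnn i)
    calc ∑ i ∈ s, c i * (c i - 1) = ∑ i ∈ s, c i ^ 2 - ∑ i ∈ s, c i := by
          rw [← Finset.sum_sub_distrib]; exact Finset.sum_congr rfl fun i _ => by ring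
      _ ≤ 0 := by omega
  have := (Finset.sum_eq_zero_iff_of_nonneg fun i _ => hnn i).mp h0 i hi
  rcases mul_eq_zero.mp this with h1 | h1
  · exact Or.inl h1
  · exact Or.inr (by omega)

omit [DecidableEq ι] in
/-- The sum is at most the sum of squares. -/
theorem sum_le_sum_sq (c : ι → ℤ) : ∑ i ∈ s, c i ≤ ∑ i ∈ s, c i ^ 2 :=
  Finset.sum_le_sum fun i _ => by
    rcases le_or_gt (c i) 0 with h0 | h0
    · exact h0.trans (sq_nonneg _)
    · nlinarith

end Bessel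

end CfsgLib.Clifford.Coh
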