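import Mathlib.GroupTheory.Transfer

/-!
# Transfer evaluated on elements of a normal subgroup inside `H`
-/

namespace CfsgLib.Clifford

open Subgroup Subgroup.leftTransversals MulAction

variable {G : Type*} [Group G] {H : Subgroup G} {A : Type*} [CommGroup A] (φ : H →* A)

/-- If every conjugate of `m` lies in `H` and has the same image `a`, the transfer of `m` is
`a ^ [G : H]`. -/
theorem transfer_eq_pow_of_forall_conj [H.FiniteIndex] (m : G) (a : A)
    (hmem : ∀ t : G, t⁻¹ * m * t ∈ H) (hval : ∀ t : G, φ ⟨t⁻¹ * m * t, hmem t⟩ = a) :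
    MonoidHom.transfer φ m = a ^ H.index := by
  classical
  let T : H.LeftTransversal := default
  let := H.fintypeQuotientOfFiniteIndex
  rw [MonoidHom.transfer_def φ T m, diff]
  rw [Subgroup.index, Nat.card_eq_fintype_card, ← Finset.card_univ, ← Finset.prod_const]
  refine Finset.prod_congr rfl fun q _ => ?_
  have hfix : m⁻¹ • q = q := by
    induction q using QuotientGroup.induction_on with
    | _ t =>
      rw [MulAction.Quotient.smul_mk, smul_eq_mul, QuotientGroup.eq]
      have := hmem t
      have h2 : (m⁻¹ * t)⁻¹ * t = t⁻¹ * m * t := by group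
      rwa [h2]
  rw [← hval ((T.2.leftQuotientEquiv q : T.1) : G)]
  congr 1
  apply Subtype.ext
  simp only [smul_apply_eq_smul_apply_inv_smul, smul_eq_mul, hfix, mul_assoc]

end CfsgLib.Clifford
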