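import Cfsg.Agent.Lib.Char.Column
import Cfsg.Agent.Lib.Clifford.Transfer
import Mathlib.LinearAlgebra.Determinant
import Mathlib.GroupTheory.NoncommCoprod

/-!
# The group of intertwiners of an invariant irreducible representation of a normal subgroup

For `N` normal in `G` and a representation `ρ` of `N` on `V`, `intertwiners ρ` consists of the pairs
`(g, A)` with `A (ρ n) A⁻¹ = ρ (g n g⁻¹)`.  If `ρ` is irreducible and its character is `G`-invariant
it is a central extension of `G` by `ℂˣ`.  Splittings of it modulo `N` are extensions of `ρ`.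
-/

namespace CfsgLib.Clifford

open Module

variable {G : Type*} [Group G] {N : Subgroup G} [hN : N.Normal]
variable {V : Type*} [AddCommGroup V] [Module ℂ V]

/-- Conjugation of elements of the normal subgroup `N` by an element of the group. -/
def conjN (g : G) (n : N) : N := ⟨g * n * g⁻¹, hN.conj_mem (n : G) n.2 g⟩

@[simp] theorem coe_conjN (g : G) (n : N) : ((conjN g n : N) : G) = g * n * g⁻¹ := rfl

theorem conjN_mul (g h : G) (n : N) : conjN (g * h) n = conjN g (conjN h n) :=
  Subtype.ext (by simp [mul_assoc, mul_inv_rev])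

theorem conjN_one (n : N) : conjN (1 : G) n = n := Subtype.ext (by simp)

/-- A representation as a homomorphism into the units of the endomorphism ring. -/
def repUnits {H : Type*} [Group H] (ρ : Representation ℂ H V) : H →* (Module.End ℂ V)ˣ :=
  MonoidHom.toHomUnits ρ

@[simp] theorem coe_repUnits {H : Type*} [Group H] (ρ : Representation ℂ H V) (h : H) :
    ((repUnits ρ h : (Module.End ℂ V)ˣ) : Module.End ℂ V) = ρ h := rfl

/-- The scalar operators, as units. -/
def scalarUnits : ℂˣ →* (Module.End ℂ V)ˣ :=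
  Units.map (algebraMap ℂ (Module.End ℂ V)).toMonoidHom

@[simp] theorem coe_scalarUnits (z : ℂˣ) :
    ((scalarUnits z : (Module.End ℂ V)ˣ) : Module.End ℂ V) = algebraMap ℂ _ (z : ℂ) := rfl

theorem scalarUnits_comm (z : ℂˣ) (A : (Module.End ℂ V)ˣ) :
    scalarUnits z * A = A * scalarUnits z :=
  Units.ext (Algebra.commutes (z : ℂ) (A : Module.End ℂ V))

theorem scalarUnits_injective [Nontrivial V] :
    Function.Injective (scalarUnits : ℂˣ →* (Module.End ℂ V)ˣ) := fun a b h =>
  Units.ext ((algebraMap ℂ (Module.End ℂ V)).injective (congr_arg Units.val h))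

variable (ρ : Representation ℂ N V)

/-- The pairs `(g, A)` where `A` carries `ρ` to its conjugate by `g`. -/
def intertwiners : Subgroup (G × (Module.End ℂ V)ˣ) where
  carrier := {p | ∀ n : N, p.2 * repUnits ρ n = repUnits ρ (conjN p.1 n) * p.2}
  one_mem' := fun n => by simp [conjN_one]
  mul_mem' := fun {a b} ha hb n => by
    simp only [Prod.snd_mul, Prod.fst_mul, conjN_mul]
    rw [mul_assoc, hb, ← mul_assoc, ha, mul_assoc]
  inv_mem' := fun {a} ha n => by
    simp only [Prod.snd_inv, Prod.fst_inv]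
    have h := ha (conjN a.1⁻¹ n)
    rw [← conjN_mul, mul_inv_cancel, conjN_one] at h
    rw [inv_mul_eq_iff_eq_mul, ← mul_assoc, h, mul_assoc, mul_inv_cancel, mul_one]

theorem mem_intertwiners {p : G × (Module.End ℂ V)ˣ} :
    p ∈ intertwiners ρ ↔ ∀ n : N, p.2 * repUnits ρ n = repUnits ρ (conjN p.1 n) * p.2 := Iff.rfl

/-- The projection to `G`. -/
def proj : intertwiners ρ →* G := (MonoidHom.fst _ _).comp (intertwiners ρ).subtype

/-- The operator part. -/
def opUnits : intertwiners ρ →* (Module.End ℂ V)ˣ :=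
  (MonoidHom.snd _ _).comp (intertwiners ρ).subtype

/-- The scalars inside the group of intertwiners. -/
def scalarEmb : ℂˣ →* intertwiners ρ :=
  MonoidHom.codRestrict ((MonoidHom.inr G _).comp scalarUnits) _ fun z n => by
    simp only [MonoidHom.comp_apply, MonoidHom.inr_apply, conjN_one, scalarUnits_comm]

/-- `N` inside the group of intertwiners. -/
def normalEmb : N →* intertwiners ρ :=
  MonoidHom.codRestrict (N.subtype.prod (repUnits ρ)) _ fun m n => by
    simp only [MonoidHom.prod_apply, Subgroup.coe_subtype]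
    rw [← map_mul, ← map_mul]
    congr 1
    exact Subtype.ext (by simp [mul_assoc])

@[simp] theorem proj_scalarEmb (z : ℂˣ) : proj ρ (scalarEmb ρ z) = 1 := rfl

@[simp] theorem proj_normalEmb (n : N) : proj ρ (normalEmb ρ n) = n := rfl

@[simp] theorem opUnits_scalarEmb (z : ℂˣ) : opUnits ρ (scalarEmb ρ z) = scalarUnits z := rfl

@[simp] theorem opUnits_normalEmb (n : N) : opUnits ρ (normalEmb ρ n) = repUnits ρ n := rfl

theorem intertwiners_ext {e f : intertwiners ρ} (h1 : proj ρ e = proj ρ f)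
    (h2 : opUnits ρ e = opUnits ρ f) : e = f := Subtype.ext (Prod.ext h1 h2)

theorem opUnits_mul_rep (e : intertwiners ρ) (n : N) :
    opUnits ρ e * repUnits ρ n = repUnits ρ (conjN (proj ρ e) n) * opUnits ρ e := e.2 n

theorem conj_normalEmb (e : intertwiners ρ) (n : N) :
    e * normalEmb ρ n * e⁻¹ = normalEmb ρ (conjN (proj ρ e) n) := by
  refine intertwiners_ext ρ (by simp) ?_
  rw [map_mul, map_mul, map_inv, opUnits_normalEmb, opUnits_normalEmb, opUnits_mul_rep,
    mul_inv_cancel_right]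

theorem scalarEmb_comm (z : ℂˣ) (e : intertwiners ρ) :
    scalarEmb ρ z * e = e * scalarEmb ρ z :=
  intertwiners_ext ρ (by simp) (by simp [scalarUnits_comm])

section Schur

variable [FiniteDimensional ℂ V] [hirr : ρ.IsIrreducible]

/-- Schur: an operator commuting with `ρ` is a scalar. -/
theorem exists_scalar_of_commute (T : Module.End ℂ V) (hT : ∀ n, T * ρ n = ρ n * T) :
    ∃ c : ℂ, T = algebraMap ℂ _ c := by
  let I : Representation.IntertwiningMap ρ ρ := ⟨T, fun n => hT n⟩
  obtain ⟨c, hc⟩ :=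
    (Representation.IsIrreducible.algebraMap_intertwiningMap_bijective_of_isAlgClosed
      (ρ := ρ) (k := ℂ)).2 I
  refine ⟨c, LinearMap.ext fun v => ?_⟩
  have := congr_arg (fun J : Representation.IntertwiningMap ρ ρ => J.toLinearMap v) hc
  simpa [I, Algebra.algebraMap_eq_smul_one] using this.symm

theorem proj_eq_one_iff (e : intertwiners ρ) : proj ρ e = 1 ↔ ∃ z, e = scalarEmb ρ z := by
  refine ⟨fun h => ?_, fun ⟨z, hz⟩ => by simp [hz]⟩
  have := Char.nontrivial_of_isIrreducible ρ
  obtain ⟨c, hc⟩ := exists_scalar_of_commute ρ (opUnits ρ e : Module.End ℂ V) fun n => by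
    have := congr_arg Units.val (opUnits_mul_rep ρ e n)
    simpa [h, conjN_one] using this
  have hc0 : c ≠ 0 := by
    intro h0
    rw [h0, map_zero] at hc
    exact (opUnits ρ e).ne_zero hc
  exact ⟨Units.mk0 c hc0, intertwiners_ext ρ (by simp [h]) (Units.ext (by simp [hc]))⟩

theorem scalarEmb_injective : Function.Injective (scalarEmb ρ) := fun a b h => by
  have := Char.nontrivial_of_isIrreducible ρ
  exact scalarUnits_injective (congr_arg (opUnits ρ) h)

/-- Irreducible representations with equal characters are conjugate. -/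
theorem exists_unit_of_char_eq {H : Type*} [Group H] [Finite H]
    (σ τ : Representation ℂ H V) [σ.IsIrreducible] [τ.IsIrreducible]
    (h : σ.character = τ.character) :
    ∃ A : (Module.End ℂ V)ˣ, ∀ x, A * repUnits σ x = repUnits τ x * A := by
  have : Fintype H := Fintype.ofFinite H
  have h1 : finrank ℂ (Representation.IntertwiningMap σ τ) = 1 := by
    have h2 := Char.classInner_char_eq_finrank σ τ
    rw [← h, Char.irr_classInner_self (Char.isIrrCharacter_of_rep σ)] at h2
    exact_mod_cast h2.symm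
  obtain ⟨f, hf⟩ := (finrank_pos_iff_exists_ne_zero (R := ℂ)).mp (h1 ▸ Nat.one_pos)
  have hb := (Representation.IsIrreducible.bijective_or_eq_zero f).resolve_right hf
  obtain ⟨A, hA⟩ := (Module.End.isUnit_iff f.toLinearMap).mpr hb
  exact ⟨A, fun x => Units.ext (by simpa [hA, Module.End.mul_eq_comp] using f.isIntertwining' x)⟩

/-- The projection to `G` is onto when the character is invariant. -/
theorem proj_surjective [Finite N]
    (hinv : ∀ (g : G) (n : N), ρ.character (conjN g n) = ρ.character n) :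
    Function.Surjective (proj ρ) := by
  intro g
  let c : N →* N :=
    { toFun := conjN g, map_one' := Subtype.ext (by simp), map_mul' := fun a b => Subtype.ext (by simp [mul_assoc]) }
  have hc : Function.Surjective c := fun m => ⟨conjN g⁻¹ m, Subtype.ext (by simp [c, mul_assoc])⟩
  have : Representation.IsIrreducible (ρ.comp c : Representation ℂ N V) :=
    Char.isIrreducible_comp_surjective ρ c hc
  obtain ⟨A, hA⟩ := exists_unit_of_char_eq ρ (ρ.comp c : Representation ℂ N V)
    (funext fun n => (hinv g n).symm)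
  exact ⟨⟨(g, A), fun n => (hA n).trans (congr_arg (· * A) (Units.ext rfl))⟩, rfl⟩

omit hirr in
theorem surjective_of_invariant_of_extension (σ : Representation ℂ G V)
    (hσ : ∀ n : N, σ n = ρ n) : Function.Surjective (proj ρ) := fun g =>
  ⟨⟨(g, repUnits σ g), fun n => Units.ext (by
    simp only [Units.val_mul, coe_repUnits, ← hσ, coe_conjN, ← map_mul, inv_mul_cancel_right])⟩, rfl⟩

variable (hsurj : Function.Surjective (proj ρ))
include hsurj

/-- A splitting modulo `N` gives an extension of `ρ`. -/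
theorem exists_extension_of_splitting (φ : intertwiners ρ →* ℂˣ)
    (hz : ∀ z, φ (scalarEmb ρ z) = z) (hn : ∀ n, φ (normalEmb ρ n) = 1) :
    ∃ σ : Representation ℂ G V, ∀ n : N, σ n = ρ n := by
  let ψ : intertwiners ρ →* (Module.End ℂ V)ˣ :=
    MonoidHom.mk' (fun e => scalarUnits (φ e)⁻¹ * opUnits ρ e) fun a b => by
      simp only [map_mul, map_inv, mul_inv]
      simp only [mul_assoc]
      congr 1
      rw [← mul_assoc, ← mul_assoc, ← map_inv, scalarUnits_comm]
  have hker : (proj ρ).ker ≤ ψ.ker := fun e he => by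
    obtain ⟨z, rfl⟩ := (proj_eq_one_iff ρ e).mp he
    simp [ψ, MonoidHom.mem_ker, hz]
  let σ' : G →* (Module.End ℂ V)ˣ := (proj ρ).liftOfSurjective hsurj ⟨ψ, hker⟩
  refine ⟨(Units.coeHom _).comp σ', fun n => ?_⟩
  have : σ' (proj ρ (normalEmb ρ n)) = ψ (normalEmb ρ n) :=
    MonoidHom.liftOfRightInverse_comp_apply _ _ _ _ _
  change ((σ' (n : G) : (Module.End ℂ V)ˣ) : Module.End ℂ V) = ρ n
  rw [← proj_normalEmb ρ n, this]
  simp [ψ, hn]

omit hirr hsurj [FiniteDimensional ℂ V] in
/-- The exponents `r` for which `z ↦ z ^ r` extends to the intertwiners trivially on `N`. -/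
def splitExps : AddSubgroup ℤ where
  carrier := {r | ∃ φ : intertwiners ρ →* ℂˣ,
    (∀ z, φ (scalarEmb ρ z) = z ^ r) ∧ ∀ n, φ (normalEmb ρ n) = 1}
  zero_mem' := ⟨1, by simp, by simp⟩
  add_mem' := fun {a b} ⟨φ, h1, h2⟩ ⟨φ', h1', h2'⟩ =>
    ⟨φ * φ', fun z => by simp [h1, h1', zpow_add], fun n => by simp [h2, h2']⟩
  neg_mem' := fun {a} ⟨φ, h1, h2⟩ => ⟨φ⁻¹, fun z => by simp [h1], fun n => by simp [h2]⟩

omit hirr hsurj [FiniteDimensional ℂ V] in
theorem mem_splitExps {r : ℤ} : r ∈ splitExps ρ ↔ ∃ φ : intertwiners ρ →* ℂˣ,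
    (∀ z, φ (scalarEmb ρ z) = z ^ r) ∧ ∀ n, φ (normalEmb ρ n) = 1 := Iff.rfl

/-- `ρ` extends if `1` is a split exponent. -/
theorem exists_extension_of_one_mem (h : (1 : ℤ) ∈ splitExps ρ) :
    ∃ σ : Representation ℂ G V, ∀ n : N, σ n = ρ n := by
  obtain ⟨φ, h1, h2⟩ := (mem_splitExps ρ).mp h
  exact exists_extension_of_splitting ρ hsurj φ (fun z => by simp [h1]) h2

omit hirr hsurj in
/-- The degree is a split exponent when the determinant extends. -/
theorem finrank_mem_splitExps (μ : G →* ℂˣ)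
    (hμ : ∀ n : N, (μ n : ℂ) = LinearMap.det (ρ n)) : (finrank ℂ V : ℤ) ∈ splitExps ρ := by
  refine ⟨((Units.map LinearMap.det).comp (opUnits ρ)) * ((μ.comp (proj ρ))⁻¹),
    fun z => ?_, fun n => ?_⟩
  · refine Units.ext ?_
    simp [Algebra.algebraMap_eq_smul_one, Module.End.one_eq_id]
  · refine mul_inv_eq_one.mpr (Units.ext ?_)
    simpa using (hμ n).symm

/-- The index of a subgroup to which `ρ` extends is a split exponent. -/
theorem index_mem_splitExps (P : Subgroup G) [P.FiniteIndex] (hNP : N ≤ P)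
    (σ : Representation ℂ P V) (hσ : ∀ n : N, σ ⟨n, hNP n.2⟩ = ρ n) :
    (P.index : ℤ) ∈ splitExps ρ := by
  have hidx : (P.comap (proj ρ)).index = P.index := P.index_comap_of_surjective hsurj
  have : (P.comap (proj ρ)).FiniteIndex := ⟨by rw [hidx]; exact Subgroup.FiniteIndex.index_ne_zero⟩
  -- the scalar by which an intertwiner differs from the extension
  have hex : ∀ e : P.comap (proj ρ), ∃ z : ℂˣ,
      opUnits ρ (e : intertwiners ρ) = scalarUnits z * repUnits σ ⟨proj ρ e, e.2⟩ := by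
    intro e
    let f : intertwiners ρ := ⟨(proj ρ e, repUnits σ ⟨proj ρ e, e.2⟩), fun n => Units.ext (by
      simp only [Units.val_mul, coe_repUnits, ← hσ, ← map_mul]
      congr 1
      exact Subtype.ext (by simp [mul_assoc]))⟩
    obtain ⟨z, hz⟩ := (proj_eq_one_iff ρ (e * f⁻¹)).mp (by simp [f, proj])
    refine ⟨z, ?_⟩
    have := congr_arg (opUnits ρ) hz
    rw [map_mul, map_inv, opUnits_scalarEmb, mul_inv_eq_iff_eq_mul] at this
    exact this
  choose c hc using hex
  have := Char.nontrivial_of_isIrreducible ρ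
  let f : P.comap (proj ρ) →* ℂˣ := MonoidHom.mk' c fun a b => by
    apply scalarUnits_injective (V := V)
    have key : repUnits σ ⟨proj ρ (a * b : P.comap (proj ρ)), (a * b).2⟩ =
        repUnits σ ⟨proj ρ a, a.2⟩ * repUnits σ ⟨proj ρ b, b.2⟩ := by
      rw [← map_mul]; congr 1
    have h := hc (a * b)
    rw [key] at h
    rw [Subgroup.coe_mul, map_mul, hc a, hc b] at h
    apply mul_right_cancel (b := repUnits σ ⟨proj ρ a, a.2⟩ * repUnits σ ⟨proj ρ b, b.2⟩)
    rw [← h, map_mul (scalarUnits)]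
    simp only [mul_assoc]
    congr 1
    rw [← mul_assoc, ← mul_assoc, ← scalarUnits_comm]
  refine ⟨MonoidHom.transfer f, fun z => ?_, fun n => ?_⟩
  · have hmem : ∀ t : intertwiners ρ, t⁻¹ * scalarEmb ρ z * t ∈ P.comap (proj ρ) := fun t => by
      simp
    rw [transfer_eq_pow_of_forall_conj f (scalarEmb ρ z) z hmem fun t => ?_, hidx, zpow_natCast]
    apply scalarUnits_injective (V := V)
    have h := hc ⟨_, hmem t⟩
    have e1 : t⁻¹ * scalarEmb ρ z * t = scalarEmb ρ z := by
      rw [mul_assoc, scalarEmb_comm, inv_mul_cancel_left]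
    have e2 : (⟨proj ρ (t⁻¹ * scalarEmb ρ z * t), hmem t⟩ : P) = 1 :=
      Subtype.ext (by simp [e1])
    simp only [e2, map_one, mul_one] at h
    change scalarUnits (c ⟨_, hmem t⟩) = scalarUnits z
    simp only [e1, opUnits_scalarEmb] at h ⊢
    exact h.symm
  · have e1 : ∀ t : intertwiners ρ, t⁻¹ * normalEmb ρ n * t =
        normalEmb ρ (conjN (proj ρ t⁻¹) n) := fun t => by
      rw [← conj_normalEmb, inv_inv]
    have hmem : ∀ t : intertwiners ρ, t⁻¹ * normalEmb ρ n * t ∈ P.comap (proj ρ) := fun t => by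
      rw [Subgroup.mem_comap, e1, proj_normalEmb]
      exact hNP (Subtype.coe_prop _)
    rw [transfer_eq_pow_of_forall_conj f (normalEmb ρ n) 1 hmem fun t => ?_, one_pow]
    apply scalarUnits_injective (V := V)
    have h := hc ⟨_, hmem t⟩
    simp only [e1, opUnits_normalEmb, proj_normalEmb] at h
    have e2 : repUnits σ ⟨((conjN (proj ρ t⁻¹) n : N) : G), hNP (Subtype.coe_prop _)⟩ =
        repUnits ρ (conjN (proj ρ t⁻¹) n) := Units.ext (hσ _)
    rw [e2, eq_comm, mul_eq_right] at h
    change scalarUnits (c ⟨_, hmem t⟩) = scalarUnits 1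
    simp only [e1, map_one]
    exact h

theorem index_self_mem_splitExps [N.FiniteIndex] : (N.index : ℤ) ∈ splitExps ρ :=
  index_mem_splitExps ρ hsurj N le_rfl ρ fun _ => rfl

/-- A splitting exists when the quotient is cyclic. -/
theorem one_mem_splitExps_of_isCyclic [IsCyclic (G ⧸ N)] [N.FiniteIndex] :
    (1 : ℤ) ∈ splitExps ρ := by
  obtain ⟨q, hq⟩ := IsCyclic.exists_zpow_surjective (G := G ⧸ N)
  obtain ⟨g₀, rfl⟩ := QuotientGroup.mk'_surjective N q
  obtain ⟨e₀, rfl⟩ := hsurj g₀
  have : Finite (G ⧸ N) := Subgroup.finite_quotient_of_finiteIndex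
  set m := orderOf (QuotientGroup.mk' N (proj ρ e₀)) with hm
  have hmpos : 0 < m := orderOf_pos _
  have hpm : proj ρ e₀ ^ m ∈ N := by
    rw [← QuotientGroup.eq_one_iff (N := N)]
    change QuotientGroup.mk' N (proj ρ e₀ ^ m) = 1
    rw [map_pow, hm, pow_orderOf_eq_one]
  obtain ⟨c, hc⟩ := (proj_eq_one_iff ρ ((normalEmb ρ ⟨_, hpm⟩)⁻¹ * e₀ ^ m)).mp (by simp)
  obtain ⟨w, hw⟩ := IsAlgClosed.exists_pow_nat_eq (c : ℂ) hmpos
  have hw0 : w ≠ 0 := fun h => c.ne_zero (by rw [← hw, h, zero_pow hmpos.ne'])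
  let R : Subgroup (intertwiners ρ) := (normalEmb ρ).range
  have hR : R.Normal := ⟨by
    rintro _ ⟨n, rfl⟩ e
    exact ⟨conjN (proj ρ e) n, (conj_normalEmb ρ e n).symm⟩⟩
  let π := QuotientGroup.mk' R
  let θ : ℂˣ × Multiplicative ℤ →* intertwiners ρ ⧸ R :=
    MonoidHom.noncommCoprod (π.comp (scalarEmb ρ)) (zpowersHom _ (π e₀)) fun z k => by
      simp only [MonoidHom.comp_apply, zpowersHom_apply, ← map_zpow]
      exact (Commute.map (scalarEmb_comm ρ z (e₀ ^ k.toAdd)) π)
  let ψ : ℂˣ × Multiplicative ℤ →* ℂˣ :=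
    MonoidHom.coprod (MonoidHom.id _) (zpowersHom _ (Units.mk0 w hw0))
  have hdec : ∀ e : intertwiners ρ, ∃ (z : ℂˣ) (n : N) (k : ℤ),
      e = scalarEmb ρ z * normalEmb ρ n * e₀ ^ k := by
    intro e
    obtain ⟨k, hk⟩ := hq (QuotientGroup.mk' N (proj ρ e))
    change QuotientGroup.mk' N (proj ρ e₀) ^ k = _ at hk
    have hmem : proj ρ (e * e₀ ^ (-k)) ∈ N := by
      rw [← QuotientGroup.eq_one_iff (N := N)]
      change QuotientGroup.mk' N _ = 1
      rw [map_mul, map_mul, ← hk, map_zpow, map_zpow, ← zpow_add, add_neg_cancel, zpow_zero]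
    obtain ⟨z, hz⟩ := (proj_eq_one_iff ρ ((e * e₀ ^ (-k)) * (normalEmb ρ ⟨_, hmem⟩)⁻¹)).mp
      (by simp)
    refine ⟨z, ⟨_, hmem⟩, k, ?_⟩
    rw [← hz]; group
  have hθ : Function.Surjective θ := by
    rintro ⟨e⟩
    obtain ⟨z, n, k, rfl⟩ := hdec e
    refine ⟨(z, Multiplicative.ofAdd k), ?_⟩
    change θ _ = π _
    have : π (normalEmb ρ n) = 1 := (QuotientGroup.eq_one_iff _).mpr ⟨n, rfl⟩
    simp [θ, map_mul, map_zpow, this]
  have hker : θ.ker ≤ ψ.ker := by
    rintro ⟨z, k⟩ h
    simp only [θ, MonoidHom.mem_ker, MonoidHom.noncommCoprod_apply, MonoidHom.comp_apply,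
      zpowersHom_apply, ← map_zpow, ← map_mul] at h
    obtain ⟨n, hn⟩ := (QuotientGroup.eq_one_iff _).mp h
    have h2 := congr_arg (fun e => QuotientGroup.mk' N (proj ρ e)) hn
    simp only [proj_normalEmb, map_mul, map_zpow, proj_scalarEmb, map_one, one_mul] at h2
    rw [show QuotientGroup.mk' N (n : G) = 1 from (QuotientGroup.eq_one_iff _).mpr n.2] at h2
    obtain ⟨j, hj⟩ := orderOf_dvd_iff_zpow_eq_one.mpr h2.symm
    rw [← hm] at hj
    have he₀ : e₀ ^ m = normalEmb ρ ⟨_, hpm⟩ * scalarEmb ρ c := by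
      rw [← hc, mul_inv_cancel_left]
    rw [hj, zpow_mul, zpow_natCast, he₀,
      Commute.mul_zpow (Commute.symm (scalarEmb_comm ρ c _)), ← map_zpow, ← map_zpow] at hn
    have hn' : normalEmb ρ n = normalEmb ρ (⟨proj ρ e₀ ^ m, hpm⟩ ^ j) * scalarEmb ρ (z * c ^ j) := by
      rw [hn, map_mul (scalarEmb ρ), ← mul_assoc, scalarEmb_comm, mul_assoc]
    have h3 := congr_arg (proj ρ) hn'
    simp only [proj_normalEmb, map_mul, proj_scalarEmb, mul_one] at h3
    rw [Subtype.ext h3, left_eq_mul] at hn'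
    have h4 : z * c ^ j = 1 := scalarEmb_injective ρ (by rw [hn', map_one])
    have h5 : Units.mk0 w hw0 ^ (m : ℤ) = c := Units.ext (by simpa using hw)
    simp [ψ, MonoidHom.mem_ker, hj, zpow_mul, h5, h4]
  let φ := ((θ.liftOfSurjective hθ ⟨ψ, hker⟩)).comp π
  have hlift : ∀ x, (θ.liftOfSurjective hθ ⟨ψ, hker⟩) (θ x) = ψ x := fun x =>
    MonoidHom.liftOfRightInverse_comp_apply _ _ _ _ _
  refine ⟨φ, fun z => ?_, fun n => ?_⟩
  · have h := hlift (z, 1)
    simp only [θ, ψ, MonoidHom.noncommCoprod_apply, MonoidHom.coprod_apply, map_one, mul_one,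
      MonoidHom.comp_apply, MonoidHom.id_apply] at h
    rw [zpow_one]
    exact h
  · change θ.liftOfSurjective hθ ⟨ψ, hker⟩ (π (normalEmb ρ n)) = 1
    rw [show π (normalEmb ρ n) = 1 from (QuotientGroup.eq_one_iff _).mpr ⟨n, rfl⟩, map_one]

end Schur

end CfsgLib.Clifford
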