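import Cfsg.Prelude.Def_CharExt
import Cfsg.Agent.Lib.Clifford.Intertwiner

/-!
# Extending invariant irreducible characters and linear characters from normal subgroups
-/

namespace CfsgLib.Clifford

open Module

universe u

variable {G : Type u} [Group G]

/-- A representation whose character has norm one is irreducible. -/
theorem isIrreducible_of_classInner_self [Fintype G] {V : Type*} [AddCommGroup V] [Module ℂ V]
    [FiniteDimensional ℂ V] (ρ : Representation ℂ G V)
    (h : Cfsg.classInner ρ.character ρ.character = 1) : ρ.IsIrreducible := by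
  have hV : 0 < finrank ℂ V := by
    rw [Nat.pos_iff_ne_zero]
    intro h0
    have : Subsingleton V := Module.finrank_zero_iff.mp h0
    have hz : ρ.character = 0 := funext fun g => by
      simp [Representation.character, Subsingleton.elim (ρ g) 0]
    rw [hz, Char.classInner_zero_left] at h
    exact zero_ne_one h
  have : Nontrivial (Subrepresentation ρ) := ⟨⟨⊥, ⊤, fun hbt => by
    have h2 := finrank_top ℂ V
    rw [← show (⊥ : Submodule ℂ V) = ⊤ from congr_arg Subrepresentation.toSubmodule hbt,
      finrank_bot] at h2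
    omega⟩⟩
  refine ⟨fun p => ?_⟩
  by_contra hp
  push Not at hp
  obtain ⟨q, hq⟩ := exists_isCompl p
  have hqb : q ≠ ⊥ := fun h0 => hp.2 (by simpa [h0] using hq.sup_eq_top)
  set a := p.toRepresentation.character
  set b := q.toRepresentation.character
  have ha : Cfsg.IsCharacter G a := Char.isCharacter_of_rep _
  have hb : Cfsg.IsCharacter G b := Char.isCharacter_of_rep _
  have hne : ∀ (r : Subrepresentation ρ), r ≠ ⊥ →
      Cfsg.classInner r.toRepresentation.character r.toRepresentation.character ≠ 0 := by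
    intro r hr h0
    have := congr_fun (Char.classInner_self_eq_zero h0) 1
    rw [Representation.char_one, Pi.zero_apply, Nat.cast_eq_zero] at this
    exact (Char.finrank_pos_of_ne_bot r hr).ne' this
  obtain ⟨i, hi⟩ := Char.classInner_isCharacter_nat ha ha
  obtain ⟨j, hj⟩ := Char.classInner_isCharacter_nat hb hb
  obtain ⟨k, hk⟩ := Char.classInner_isCharacter_nat ha hb
  obtain ⟨l, hl⟩ := Char.classInner_isCharacter_nat hb ha
  rw [Char.char_compl p q hq, Char.classInner_add_left, Char.classInner_add_right,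
    Char.classInner_add_right, hi, hj, hk, hl] at h
  have h1 : i + k + (l + j) = 1 := by exact_mod_cast h
  have h2 : i ≠ 0 := fun h0 => hne p hp.1 (by rw [hi, h0, Nat.cast_zero])
  have h3 : j ≠ 0 := fun h0 => hne q hqb (by rw [hj, h0, Nat.cast_zero])
  omega

theorem isIrrCharacter_of_classInner_self [Fintype G] {χ : G → ℂ} (hχ : Cfsg.IsCharacter G χ)
    (h : Cfsg.classInner χ χ = 1) : Cfsg.IsIrrCharacter G χ := by
  obtain ⟨n, ρ, rfl⟩ := hχ
  exact ⟨n, ρ, isIrreducible_of_classInner_self ρ h, rfl⟩

/-- A representation whose restriction is irreducible is irreducible. -/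
theorem isIrreducible_of_comp {H : Type*} [Group H] {V : Type*} [AddCommGroup V] [Module ℂ V]
    (σ : Representation ℂ G V) (f : H →* G)
    (h : Representation.IsIrreducible (σ.comp f : Representation ℂ H V)) : σ.IsIrreducible := by
  refine { exists_pair_ne := ⟨⊥, ⊤, fun hbt => ?_⟩, eq_bot_or_eq_top := fun p => ?_ }
  · have := h.exists_pair_ne
    obtain ⟨a, b, hab⟩ := this
    refine hab (Subrepresentation.toSubmodule_injective ?_)
    have hVbt : (⊥ : Submodule ℂ V) = ⊤ := congr_arg Subrepresentation.toSubmodule hbt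
    exact (subsingleton_of_bot_eq_top hVbt).elim _ _
  · let q : Subrepresentation (σ.comp f : Representation ℂ H V) :=
      ⟨p.toSubmodule, fun h => p.apply_mem_toSubmodule (f h)⟩
    rcases h.eq_bot_or_eq_top q with hq | hq
    · exact Or.inl (Subrepresentation.toSubmodule_injective
        (congr_arg Subrepresentation.toSubmodule hq :))
    · exact Or.inr (Subrepresentation.toSubmodule_injective
        (congr_arg Subrepresentation.toSubmodule hq :))

/-- A character whose restriction is irreducible is irreducible. -/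
theorem isIrrCharacter_of_restrict {H : Subgroup G} [Finite H] {χ : G → ℂ}
    (hχ : Cfsg.IsCharacter G χ) (h : Cfsg.IsIrrCharacter H (fun x : H => χ x)) :
    Cfsg.IsIrrCharacter G χ := by
  obtain ⟨n, σ, rfl⟩ := hχ
  have : Fintype H := Fintype.ofFinite H
  exact ⟨n, σ, isIrreducible_of_comp σ H.subtype
    (isIrreducible_of_classInner_self (σ.comp H.subtype) (Char.irr_classInner_self h)), rfl⟩

section Linear

/-- A homomorphism into `ℂˣ` attached to a character of degree one. -/
theorem exists_hom_of_linear {lam : G → ℂ} (h : Cfsg.IsCharacter G lam) (h1 : lam 1 = 1) :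
    ∃ f : G →* ℂˣ, ∀ g, (f g : ℂ) = lam g := by
  obtain ⟨n, ρ, rfl⟩ := h
  rw [Representation.char_one, finrank_fin_fun] at h1
  have hn : n = 1 := by exact_mod_cast h1
  subst hn
  refine ⟨(Units.map LinearMap.det).comp (repUnits ρ), fun g => ?_⟩
  simp only [MonoidHom.comp_apply, Units.coe_map, coe_repUnits, Representation.character]
  rw [← LinearMap.det_toMatrix', LinearMap.trace_eq_matrix_trace ℂ (Pi.basisFun ℂ (Fin 1)),
    LinearMap.toMatrix_eq_toMatrix', Matrix.det_fin_one, Matrix.trace_fin_one]

theorem isCharacter_of_hom (f : G →* ℂˣ) :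
    Cfsg.IsCharacter G (fun g => (f g : ℂ)) :=
  Char.irr_isCharacter (Char.isIrrCharacter_linear f)

/-- The order of a linear character as a function is the order of the homomorphism. -/
theorem orderOf_coe_hom (f : G →* ℂˣ) : orderOf (fun g => (f g : ℂ)) = orderOf f :=
  orderOf_injective
    ({ toFun := fun h g => (h g : ℂ), map_one' := funext fun g => by simp,
       map_mul' := fun a b => funext fun g => by simp } : (G →* ℂˣ) →* G → ℂ)
    (fun a b h => MonoidHom.ext fun g => Units.ext (congr_fun h g)) f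

theorem pow_natCard_eq_one [Finite G] (f : G →* ℂˣ) : f ^ Nat.card G = 1 :=
  MonoidHom.ext fun g => by rw [MonoidHom.pow_apply, ← map_pow, pow_card_eq_one', map_one]; rfl

theorem orderOf_dvd_natCard [Finite G] (f : G →* ℂˣ) : orderOf f ∣ Nat.card G :=
  orderOf_dvd_of_pow_eq_one (pow_natCard_eq_one f)

variable {N : Subgroup G} [hN : N.Normal] (lam : N →* ℂˣ)

omit hN in
/-- The exponents `r` such that `lam ^ r` extends to the whole group. -/
def linearExps : AddSubgroup ℤ where
  carrier := {r | ∃ μ : G →* ℂˣ, ∀ n : N, μ n = lam n ^ r}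
  zero_mem' := ⟨1, by simp⟩
  add_mem' := fun {_ _} ⟨μ, h⟩ ⟨μ', h'⟩ => ⟨μ * μ', fun n => by simp [h, h', zpow_add]⟩
  neg_mem' := fun {_} ⟨μ, h⟩ => ⟨μ⁻¹, fun n => by simp [h]⟩

omit hN in
theorem mem_linearExps {r : ℤ} :
    r ∈ linearExps lam ↔ ∃ μ : G →* ℂˣ, ∀ n : N, μ n = lam n ^ r := Iff.rfl

omit hN in
theorem orderOf_mem_linearExps : (orderOf lam : ℤ) ∈ linearExps lam :=
  ⟨1, fun n => by rw [zpow_natCast, ← MonoidHom.pow_apply, pow_orderOf_eq_one]; rfl⟩

/-- The index of a subgroup to which the invariant linear character extends lies in `linearExps`. -/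
theorem index_mem_linearExps (hinv : ∀ (g : G) (n : N), lam (conjN g n) = lam n)
    (P : Subgroup G) [P.FiniteIndex] (hNP : N ≤ P) (ν : P →* ℂˣ)
    (hν : ∀ n : N, ν ⟨n, hNP n.2⟩ = lam n) : (P.index : ℤ) ∈ linearExps lam := by
  refine ⟨MonoidHom.transfer ν, fun n => ?_⟩
  have hmem : ∀ t : G, t⁻¹ * (n : G) * t ∈ P := fun t => hNP (hN.conj_mem' _ n.2 t)
  rw [transfer_eq_pow_of_forall_conj ν (n : G) (lam n) hmem fun t => ?_, zpow_natCast]
  rw [← hinv t⁻¹ n, ← hν]
  congr 1
  exact Subtype.ext (by simp)

theorem index_self_mem_linearExps [N.FiniteIndex]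
    (hinv : ∀ (g : G) (n : N), lam (conjN g n) = lam n) : (N.index : ℤ) ∈ linearExps lam :=
  index_mem_linearExps lam hinv N le_rfl lam fun _ => rfl

/-- An invariant linear character of order prime to the index extends uniquely with the same
order. -/
theorem exists_linear_extension [Finite G] (hinv : ∀ (g : G) (n : N), lam (conjN g n) = lam n)
    (hcop : Nat.Coprime N.index (orderOf lam)) :
    ∃ μ : G →* ℂˣ, (∀ n : N, μ n = lam n) ∧ orderOf μ = orderOf lam ∧
      ∀ μ' : G →* ℂˣ, (∀ n : N, μ' n = lam n) → Nat.Coprime N.index (orderOf μ') → μ' = μ := by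
  obtain ⟨μ₀, hμ₀⟩ := index_self_mem_linearExps lam hinv
  -- two characters agreeing on `N` differ by one killed by the index
  have hpow : ∀ μ : G →* ℂˣ, (∀ n : N, μ n = 1) → μ ^ N.index = 1 := fun μ h =>
    MonoidHom.ext fun g => by
      rw [MonoidHom.pow_apply, ← map_pow]
      exact h ⟨_, N.pow_index_mem g⟩
  set o := orderOf lam with ho
  -- a character restricting to `lam ^ index` with order dividing `o`
  obtain ⟨a, b, hab⟩ := (Int.isCoprime_iff_gcd_eq_one.mpr
    (by simpa [Int.gcd_natCast_natCast] using hcop) : IsCoprime (N.index : ℤ) o)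
  have hlo : ∀ n : N, lam n ^ o = 1 := fun n => by
    rw [← MonoidHom.pow_apply, ho, pow_orderOf_eq_one]; rfl
  have hμ₁o : ∀ g, (μ₀ g ^ N.index) ^ o = 1 := fun g => by
    have := DFunLike.congr_fun (hpow (μ₀ ^ o) fun n => by
      rw [MonoidHom.pow_apply, hμ₀, zpow_natCast, ← pow_mul, mul_comm, pow_mul, hlo, one_pow]) g
    simp only [MonoidHom.pow_apply, MonoidHom.one_apply] at this
    rw [← pow_mul, mul_comm, pow_mul, this]
  let μ : G →* ℂˣ := (μ₀ ^ N.index) ^ (a * a)
  have hμN : ∀ n : N, μ n = lam n := fun n => by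
    have h1 : lam n ^ (o : ℤ) = 1 := by
      rw [zpow_natCast, ← MonoidHom.pow_apply, ho, pow_orderOf_eq_one]; rfl
    simp only [μ, MonoidHom.zpow_apply, MonoidHom.pow_apply, hμ₀, ← zpow_natCast, ← zpow_mul]
    have e : (N.index : ℤ) * N.index * (a * a) = 1 + (o : ℤ) * (b * b * o - 2 * b) := by
      linear_combination (a * N.index + (1 - b * o)) * hab
    rw [e, zpow_add, zpow_one, zpow_mul, h1, one_zpow, mul_one]
  have hord : orderOf μ ∣ o := orderOf_dvd_of_pow_eq_one (MonoidHom.ext fun g => by
    simp only [μ, MonoidHom.pow_apply, MonoidHom.zpow_apply, MonoidHom.one_apply]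
    rw [← zpow_natCast, ← zpow_mul, mul_comm, zpow_mul, zpow_natCast, hμ₁o, one_zpow])
  refine ⟨μ, hμN, Nat.dvd_antisymm hord (orderOf_dvd_of_pow_eq_one
    (MonoidHom.ext fun n => ?_)), fun μ' h' hc' => ?_⟩
  · rw [MonoidHom.pow_apply, ← hμN n, ← MonoidHom.pow_apply, pow_orderOf_eq_one]; rfl
  · have h1 : (μ' / μ) ^ N.index = 1 := hpow _ fun n => by simp [h', hμN]
    have h2 : (μ' / μ) ^ (orderOf μ' * orderOf μ) = 1 := MonoidHom.ext fun g => by
      have e1 : μ' g ^ orderOf μ' = 1 := by rw [← MonoidHom.pow_apply, pow_orderOf_eq_one]; rfl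
      have e2 : μ g ^ orderOf μ = 1 := by rw [← MonoidHom.pow_apply, pow_orderOf_eq_one]; rfl
      rw [MonoidHom.pow_apply, MonoidHom.div_apply, div_pow, pow_mul, e1, one_pow, mul_comm,
        pow_mul, e2, one_pow, div_one]
      rfl
    have hc : Nat.Coprime N.index (orderOf μ' * orderOf μ) :=
      hc'.mul_right (Nat.Coprime.coprime_dvd_right hord hcop)
    have h3 := Nat.dvd_gcd (orderOf_dvd_of_pow_eq_one (x := μ' / μ) h1)
      (orderOf_dvd_of_pow_eq_one (x := μ' / μ) h2)
    rw [hc.gcd_eq_one, Nat.dvd_one, orderOf_eq_one_iff] at h3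
    exact MonoidHom.ext fun g => div_eq_one.mp (DFunLike.congr_fun h3 g)

end Linear

section Irr

variable {N : Subgroup G} [hN : N.Normal]

/-- An element of `1` obtained from coprime members. -/
theorem one_mem_of_coprime {S : AddSubgroup ℤ} {a b : ℕ} (ha : (a : ℤ) ∈ S) (hb : (b : ℤ) ∈ S)
    (h : Nat.Coprime a b) : (1 : ℤ) ∈ S := by
  obtain ⟨x, y, hxy⟩ := (Int.isCoprime_iff_gcd_eq_one.mpr
    (by simpa [Int.gcd_natCast_natCast] using h) : IsCoprime (a : ℤ) b)
  rw [← hxy]
  simpa using add_mem (S.zsmul_mem ha x) (S.zsmul_mem hb y)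

/-- A subgroup of `ℤ` containing a positive number and, for each prime, a non-multiple of it. -/
theorem one_mem_of_forall_prime {S : AddSubgroup ℤ}
    (h : ∀ p : ℕ, p.Prime → ∃ r ∈ S, ¬ (p : ℤ) ∣ r) : (1 : ℤ) ∈ S := by
  obtain ⟨a, rfl⟩ := Int.subgroup_cyclic S
  suffices a.natAbs = 1 by
    rcases Int.natAbs_eq_iff.mp this with rfl | rfl
    · exact AddSubgroup.mem_closure_singleton_self _
    · simpa using neg_mem (AddSubgroup.mem_closure_singleton_self (-1 : ℤ))
  by_contra hne
  obtain ⟨p, hp, hpa⟩ := Nat.exists_prime_and_dvd hne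
  obtain ⟨r, hr, hpr⟩ := h p hp
  obtain ⟨k, rfl⟩ := AddSubgroup.mem_closure_singleton.mp hr
  exact hpr (Dvd.dvd.mul_left (Int.natCast_dvd.mpr hpa) k)

/-- `detChar` of an irreducible character can be computed in any representation affording it. -/
theorem detChar_eq [Finite G] {n : ℕ} (σ : Representation ℂ G (Fin n → ℂ)) [σ.IsIrreducible] :
    Cfsg.detChar σ.character = fun g => LinearMap.det (σ g) := by
  have h : Cfsg.IsCharacter G σ.character := ⟨n, σ, rfl⟩
  rw [Cfsg.detChar, dif_pos h]
  have hspec := Classical.choose_spec (Classical.choose_spec h)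
  set τ := Classical.choose (Classical.choose_spec h)
  have hm : Classical.choose h = n := by
    have := congr_fun hspec 1
    rw [Representation.char_one, Representation.char_one, finrank_fin_fun, finrank_fin_fun] at this
    exact_mod_cast this
  clear_value τ
  revert τ
  generalize Classical.choose h = m at hm
  subst hm
  intro τ hτ
  have : Fintype G := Fintype.ofFinite G
  have : τ.IsIrreducible := isIrreducible_of_classInner_self τ
    (by rw [hτ]; exact Char.irr_classInner_self (Char.isIrrCharacter_of_rep σ))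
  obtain ⟨A, hA⟩ := exists_unit_of_char_eq τ σ hτ
  funext g
  have := congr_arg (fun x : (Module.End ℂ (Fin m → ℂ))ˣ => LinearMap.det (x : Module.End ℂ (Fin m → ℂ))) (hA g)
  simp only [Units.val_mul, coe_repUnits, map_mul] at this
  rw [mul_comm (LinearMap.det (σ g))] at this
  exact mul_left_cancel₀ ((Units.map LinearMap.det A).ne_zero :) this

variable [Finite G] {n : ℕ} (ρ : Representation ℂ N (Fin n → ℂ)) [ρ.IsIrreducible]

omit hN in
/-- An extension of the representation gives an irreducible character extending the character. -/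
theorem isIrrCharacter_extension (σ : Representation ℂ G (Fin n → ℂ)) (hσ : ∀ m : N, σ m = ρ m) :
    Cfsg.IsIrrCharacter G σ.character ∧ ∀ m : N, σ.character m = ρ.character m := by
  have h : ∀ m : N, σ.character m = ρ.character m := fun m => by
    simp [Representation.character, hσ]
  refine ⟨isIrrCharacter_of_restrict (H := N) ⟨n, σ, rfl⟩ ?_, h⟩
  rw [funext h]
  exact Char.isIrrCharacter_of_rep ρ

omit hN in
/-- A character extension comes from an extension of the representation. -/
theorem exists_rep_extension {P : Subgroup G} (hNP : N ≤ P) {η : P → ℂ}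
    (hη : Cfsg.IsCharacter P η) (hres : ∀ m : N, η ⟨m, hNP m.2⟩ = ρ.character m) :
    ∃ σ : Representation ℂ P (Fin n → ℂ), ∀ m : N, σ ⟨m, hNP m.2⟩ = ρ m := by
  obtain ⟨k, τ, rfl⟩ := hη
  have hk : k = n := by
    have := hres 1
    simp only [OneMemClass.coe_one] at this
    rw [show (⟨1, hNP (one_mem N)⟩ : P) = 1 from rfl, Representation.char_one,
      Representation.char_one, finrank_fin_fun, finrank_fin_fun] at this
    exact_mod_cast this
  subst hk
  let τ' : Representation ℂ N (Fin k → ℂ) := τ.comp (Subgroup.inclusion hNP)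
  have hτ' : τ'.character = ρ.character := funext fun m => hres m
  have : Fintype N := Fintype.ofFinite N
  have : τ'.IsIrreducible := isIrreducible_of_classInner_self τ'
    (by rw [hτ']; exact Char.irr_classInner_self (Char.isIrrCharacter_of_rep ρ))
  obtain ⟨A, hA⟩ := exists_unit_of_char_eq τ' ρ hτ'
  refine ⟨(Units.coeHom _).comp ((MulAut.conj A).toMonoidHom.comp (repUnits τ)), fun m => ?_⟩
  have h : A * repUnits τ ⟨m, hNP m.2⟩ * A⁻¹ = repUnits ρ m := by
    rw [mul_inv_eq_iff_eq_mul]; exact hA m
  exact congr_arg Units.val h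

/-- The main extension criterion, in character form. -/
theorem exists_irr_extension (hinv : ∀ (g : G) (m : N), ρ.character (conjN g m) = ρ.character m)
    (h : (1 : ℤ) ∈ splitExps ρ) :
    ∃ χ : G → ℂ, Cfsg.IsIrrCharacter G χ ∧ ∀ m : N, χ m = ρ.character m := by
  obtain ⟨σ, hσ⟩ := exists_extension_of_one_mem ρ (proj_surjective ρ hinv) h
  exact ⟨_, isIrrCharacter_extension ρ σ hσ⟩

/-- If the determinant extends and the degree is prime to the index, the character extends. -/
theorem exists_irr_extension_of_det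
    (hinv : ∀ (g : G) (m : N), ρ.character (conjN g m) = ρ.character m) (μ : G →* ℂˣ)
    (hμ : ∀ m : N, (μ m : ℂ) = LinearMap.det (ρ m)) (hcop : Nat.Coprime N.index n) :
    ∃ χ : G → ℂ, Cfsg.IsIrrCharacter G χ ∧ ∀ m : N, χ m = ρ.character m := by
  refine exists_irr_extension ρ hinv (one_mem_of_coprime
    (index_self_mem_splitExps ρ (proj_surjective ρ hinv)) ?_ hcop)
  simpa [finrank_fin_fun] using finrank_mem_splitExps ρ μ hμ

end Irr

end CfsgLib.Clifford
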