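import Cfsg.Agent.Lib.Char.Induce
import Cfsg.Agent.Lib.Clifford.Extension

/-!
# Conjugate characters, inertia groups, the Clifford correspondence
-/

namespace CfsgLib.Clifford

open Module
open scoped ComplexConjugate

universe u

variable {G : Type u} [Group G]

/-- An irreducible constituent of a character can be split off. -/
theorem exists_add_of_constituent [Fintype G] {F χ : G → ℂ} (hF : Cfsg.IsCharacter G F)
    (hχ : Cfsg.IsIrrCharacter G χ) (h : Cfsg.classInner F χ ≠ 0) :
    ∃ R : G → ℂ, Cfsg.IsCharacter G R ∧ F = χ + R := by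
  classical
  refine ⟨F - χ, Char.isCharacter_of_nat ?_ fun μ hμ => ?_, (add_sub_cancel χ F).symm⟩
  · intro a b
    simp [Char.isCharacter_isClassFunction hF a b, Char.irr_isClassFunction hχ a b]
  · obtain ⟨k, hk⟩ := Char.classInner_isCharacter_nat hF (Char.irr_isCharacter hμ)
    rw [Char.classInner_sub_left, hk, Char.irr_classInner hχ hμ]
    split_ifs with he
    · subst he
      have : k ≠ 0 := fun h0 => h (by rw [hk, h0, Nat.cast_zero])
      exact ⟨k - 1, by rw [Nat.cast_sub (by omega), Nat.cast_one]⟩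
    · exact ⟨k, by simp⟩

/-- Some constituent of a character of `T` lies over a constituent of its restriction. -/
theorem exists_constituent_over [Fintype G] {H : Subgroup G} [Fintype H] {F : G → ℂ}
    (hF : Cfsg.IsCharacter G F) {θ : H → ℂ}
    (h : Cfsg.classInner (fun x : H => F x) θ ≠ 0) :
    ∃ ψ, Cfsg.IsIrrCharacter G ψ ∧ Cfsg.classInner F ψ ≠ 0 ∧
      Cfsg.classInner (fun x : H => ψ x) θ ≠ 0 := by
  have := Fintype.ofFinite (Cfsg.IrrCharacter G)
  by_contra hcon
  push Not at hcon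
  refine h ?_
  have e : (fun x : H => F x) = ∑ ψ : Cfsg.IrrCharacter G,
      Cfsg.classInner F ψ • fun x : H => (ψ : G → ℂ) x := by
    funext x
    rw [Char.classFunction_apply_eq_sum (Char.isCharacter_isClassFunction hF), Finset.sum_apply]
    rfl
  rw [e, Char.classInner_sum_left]
  refine Finset.sum_eq_zero fun ψ _ => ?_
  rw [Char.classInner_smul_left]
  rcases eq_or_ne (Cfsg.classInner F ψ) 0 with h0 | h0
  · rw [h0, zero_mul]
  · rw [hcon ψ ψ.2 h0, mul_zero]

variable {N : Subgroup G} [hN : N.Normal]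

/-- The conjugate of a function on a normal subgroup. -/
def conjFn (g : G) (θ : N → ℂ) : N → ℂ := fun n => θ (conjN g n)

theorem conjFn_apply (g : G) (θ : N → ℂ) (n : N) : conjFn g θ n = θ (conjN g n) := rfl

theorem conjFn_conjFn (g h : G) (θ : N → ℂ) : conjFn g (conjFn h θ) = conjFn (h * g) θ :=
  funext fun n => by simp [conjFn, conjN_mul]

theorem conjFn_one (θ : N → ℂ) : conjFn 1 θ = θ := funext fun n => by simp [conjFn, conjN_one]

theorem isIrrCharacter_conjFn {θ : N → ℂ} (hθ : Cfsg.IsIrrCharacter N θ) (g : G) :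
    Cfsg.IsIrrCharacter N (conjFn g θ) :=
  Char.isIrrCharacter_comp_surjective hθ
    { toFun := conjN g, map_one' := Subtype.ext (by simp),
      map_mul' := fun a b => Subtype.ext (by simp [mul_assoc]) }
    fun m => ⟨conjN g⁻¹ m, Subtype.ext (by simp [mul_assoc])⟩

theorem isCharacter_restrict_conj {χ : G → ℂ} (hχ : Cfsg.IsClassFunction G χ) (g : G) :
    conjFn g (fun n : N => χ n) = fun n : N => χ n :=
  funext fun n => hχ n g

/-- The inertia group. -/
def inertia (θ : N → ℂ) : Subgroup G where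
  carrier := {g | ∀ n, θ (conjN g n) = θ n}
  one_mem' := fun n => by rw [conjN_one]
  mul_mem' := fun {a b} ha hb n => by rw [conjN_mul, ha, hb]
  inv_mem' := fun {a} ha n => by
    have := ha (conjN a⁻¹ n)
    rwa [← conjN_mul, mul_inv_cancel, conjN_one, eq_comm] at this

theorem mem_inertia {θ : N → ℂ} {g : G} : g ∈ inertia θ ↔ ∀ n, θ (conjN g n) = θ n := Iff.rfl

theorem mem_inertia_iff_conjFn {θ : N → ℂ} {g : G} : g ∈ inertia θ ↔ conjFn g θ = θ :=
  ⟨fun h => funext h, fun h n => congr_fun h n⟩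

theorem le_inertia {θ : N → ℂ} (hθ : Cfsg.IsClassFunction N θ) : N ≤ inertia θ := fun m hm n => by
  have h := hθ n ⟨m, hm⟩
  convert h using 2
  exact Subtype.ext (by simp)

variable [Fintype G] [Fintype N]

omit [Fintype G] [Fintype N] in
theorem extendByZero_conj (θ : N → ℂ) (x : G) (n : N) :
    Cfsg.extendByZero N θ (x⁻¹ * n * x) = conjFn x⁻¹ θ n := by
  rw [Char.extendByZero_of_mem θ (hN.conj_mem' _ n.2 x)]
  exact congr_arg θ (Subtype.ext (by simp))

/-- The restriction of an induced function to the normal subgroup. -/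
theorem indFun_restrict (θ : N → ℂ) :
    (fun n : N => Cfsg.indFun N θ n) = (Nat.card N : ℂ)⁻¹ • ∑ x : G, conjFn x θ := by
  funext n
  simp only [Char.indFun_def, extendByZero_conj, Pi.smul_apply, Finset.sum_apply, smul_eq_mul]
  congr 1
  exact Fintype.sum_equiv (Equiv.inv G) _ _ fun x => rfl

omit [Fintype N] in
theorem indFun_eq_zero_of_not_mem (θ : N → ℂ) {g : G} (hg : g ∉ N) : Cfsg.indFun N θ g = 0 := by
  rw [Char.indFun_def, Finset.sum_eq_zero, mul_zero]
  intro x _
  refine Char.extendByZero_of_not_mem θ fun h => hg ?_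
  have h2 := hN.conj_mem _ h x
  convert h2 using 1
  group

omit [Fintype N] in
theorem indFun_conjFn (θ : N → ℂ) (g : G) : Cfsg.indFun N (conjFn g θ) = Cfsg.indFun N θ := by
  funext y
  simp only [Char.indFun_def]
  congr 1
  refine Fintype.sum_equiv (Equiv.mulRight g⁻¹) _ _ fun x => ?_
  simp only [Equiv.coe_mulRight, mul_inv_rev, inv_inv]
  have e : g * x⁻¹ * y * (x * g⁻¹) = g * (x⁻¹ * y * x) * g⁻¹ := by group
  rw [e]
  by_cases h : x⁻¹ * y * x ∈ N
  · rw [Char.extendByZero_of_mem _ h, Char.extendByZero_of_mem _ (hN.conj_mem _ h g)]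
    rfl
  · rw [Char.extendByZero_of_not_mem _ h, Char.extendByZero_of_not_mem]
    intro h2
    have h3 := hN.conj_mem' _ h2 g
    exact h (by convert h3 using 1; group)

open scoped Classical in
theorem classInner_indFun_restrict {θ φ : N → ℂ} (hθ : Cfsg.IsIrrCharacter N θ)
    (hφ : Cfsg.IsIrrCharacter N φ) :
    Cfsg.classInner (fun n : N => Cfsg.indFun N θ n) φ =
      (Nat.card N : ℂ)⁻¹ * (Nat.card {x : G // conjFn x θ = φ} : ℂ) := by
  rw [indFun_restrict, Char.classInner_smul_left, Char.classInner_sum_left,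
    Finset.sum_congr rfl fun x _ => Char.irr_classInner (isIrrCharacter_conjFn hθ x) hφ,
    Finset.sum_boole]
  congr 2
  rw [Nat.card_eq_fintype_card, Fintype.card_subtype]

theorem classInner_indFun_indFun {θ φ : N → ℂ} (hθ : Cfsg.IsIrrCharacter N θ)
    (hφ : Cfsg.IsIrrCharacter N φ) :
    Cfsg.classInner (Cfsg.indFun N θ) (Cfsg.indFun N φ) =
      (Nat.card N : ℂ)⁻¹ * (Nat.card {x : G // conjFn x φ = θ} : ℂ) := by
  rw [Char.frobenius_reciprocity N θ _ (Char.indFun_isClassFunction N φ),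
    ← Char.classInner_conj_symm, classInner_indFun_restrict hφ hθ]
  rw [map_mul, map_inv₀, map_natCast, map_natCast]

/-- Two irreducible constituents of the restriction of an irreducible character are conjugate. -/
theorem exists_conj_of_constituents {χ : G → ℂ} (hχ : Cfsg.IsIrrCharacter G χ) {θ φ : N → ℂ}
    (hθ : Cfsg.IsIrrCharacter N θ) (hφ : Cfsg.IsIrrCharacter N φ)
    (h1 : Cfsg.classInner (fun n : N => χ n) θ ≠ 0)
    (h2 : Cfsg.classInner (fun n : N => χ n) φ ≠ 0) : ∃ g : G, conjFn g θ = φ := by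
  by_contra hcon
  push Not at hcon
  have h3 : Cfsg.classInner (Cfsg.indFun N θ) χ ≠ 0 := by
    rw [Char.frobenius_reciprocity N θ χ (Char.irr_isClassFunction hχ)]
    intro h0
    apply h1
    rw [← Char.classInner_conj_symm, h0, map_zero]
  obtain ⟨R, hR, hRe⟩ := exists_add_of_constituent
    (Char.isCharacter_indFun N (Char.irr_isCharacter hθ)) hχ h3
  have h4 : Cfsg.classInner (fun n : N => Cfsg.indFun N θ n) φ = 0 := by
    rw [classInner_indFun_restrict hθ hφ]
    have : IsEmpty {x : G // conjFn x θ = φ} := ⟨fun x => hcon x.1 x.2⟩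
    simp
  obtain ⟨i, hi⟩ := Char.classInner_isCharacter_nat
    (Char.isCharacter_restrict (Char.irr_isCharacter hχ) N) (Char.irr_isCharacter hφ)
  obtain ⟨j, hj⟩ := Char.classInner_isCharacter_nat (Char.isCharacter_restrict hR N)
    (Char.irr_isCharacter hφ)
  rw [hRe, show (fun n : N => (χ + R) (n : G)) = (fun n : N => χ n) + fun n : N => R n from rfl,
    Char.classInner_add_left, hi, hj] at h4
  have : i = 0 := by
    have : i + j = 0 := by exact_mod_cast h4
    omega
  exact h2 (by rw [hi, this, Nat.cast_zero])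

/-- Over an invariant constituent the restriction is a multiple of it. -/
theorem restrict_eq_smul_of_invariant {χ : G → ℂ} (hχ : Cfsg.IsIrrCharacter G χ) {θ : N → ℂ}
    (hθ : Cfsg.IsIrrCharacter N θ) (hinv : ∀ g, conjFn g θ = θ)
    (h : Cfsg.classInner (fun n : N => χ n) θ ≠ 0) :
    (fun n : N => χ n) = Cfsg.classInner (fun n : N => χ n) θ • θ := by
  classical
  have := Fintype.ofFinite (Cfsg.IrrCharacter N)
  conv_lhs => rw [Char.classFunction_eq_sum
    (Char.isCharacter_isClassFunction (Char.isCharacter_restrict (Char.irr_isCharacter hχ) N))]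
  rw [Finset.sum_eq_single (⟨θ, hθ⟩ : Cfsg.IrrCharacter N)]
  · intro φ _ hne
    rcases eq_or_ne (Cfsg.classInner (fun n : N => χ n) φ.1) 0 with h0 | h0
    · rw [h0, zero_smul]
    · obtain ⟨g, hg⟩ := exists_conj_of_constituents hχ hθ φ.2 h h0
      exact absurd (Subtype.ext (hg.symm.trans (hinv g))) hne
  · simp

variable (T : Subgroup G) [Fintype T] (hNT : N ≤ T) {θ : N → ℂ}

omit [Fintype G] [Fintype N] [Fintype T] in
theorem subgroupOf_conjFn_eq (hT : ∀ g, g ∈ T ↔ conjFn g θ = θ) (t : T)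
    (n : N.subgroupOf T) :
    θ ⟨(((t * n * t⁻¹ : T)) : G), hN.conj_mem _ (Subgroup.mem_subgroupOf.mp n.2) _⟩ =
      θ ⟨((n : T) : G), Subgroup.mem_subgroupOf.mp n.2⟩ :=
  congr_fun ((hT t).mp t.2) ⟨_, Subgroup.mem_subgroupOf.mp n.2⟩

omit [Fintype G] in
/-- A character of the inertia group over `θ` restricts to a multiple of `θ`. -/
theorem restrict_eq_smul_inertia (hθ : Cfsg.IsIrrCharacter N θ)
    (hT : ∀ g, g ∈ T ↔ conjFn g θ = θ) {ψ : T → ℂ} (hψ : Cfsg.IsIrrCharacter T ψ)
    (h : Cfsg.classInner (fun n : N => ψ ⟨(n : G), hNT n.2⟩) θ ≠ 0) :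
    (fun n : N => ψ ⟨(n : G), hNT n.2⟩) =
      Cfsg.classInner (fun n : N => ψ ⟨(n : G), hNT n.2⟩) θ • θ := by
  have := Fintype.ofFinite (N.subgroupOf T)
  let e : N.subgroupOf T ≃* N := Subgroup.subgroupOfEquivOfLe hNT
  let θ' : N.subgroupOf T → ℂ := θ ∘ e
  have hθ' : Cfsg.IsIrrCharacter (N.subgroupOf T) θ' :=
    Char.isIrrCharacter_comp_surjective hθ e.toMonoidHom e.surjective
  have hin : Cfsg.classInner (fun m : N.subgroupOf T => ψ m) θ' =
      Cfsg.classInner (fun n : N => ψ ⟨(n : G), hNT n.2⟩) θ := by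
    rw [Char.classInner_def, Char.classInner_def, Nat.card_congr e.toEquiv]
    congr 1
    exact Fintype.sum_equiv e.toEquiv _ _ fun m => rfl
  have h1 := restrict_eq_smul_of_invariant (N := N.subgroupOf T) hψ hθ'
    (fun t => funext fun m => subgroupOf_conjFn_eq T hT t m) (by rwa [hin])
  funext n
  have h2 := congr_fun h1 (e.symm n)
  rw [hin] at h2
  simp only [Pi.smul_apply, θ', Function.comp_apply, MulEquiv.apply_symm_apply] at h2 ⊢
  exact h2

/-- The restriction to `N` of a character induced from the inertia group. -/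
theorem indFun_inertia_restrict (hθ : Cfsg.IsIrrCharacter N θ)
    (hT : ∀ g, g ∈ T ↔ conjFn g θ = θ) {ψ : T → ℂ} (hψ : Cfsg.IsIrrCharacter T ψ)
    (h : Cfsg.classInner (fun n : N => ψ ⟨(n : G), hNT n.2⟩) θ ≠ 0) :
    Cfsg.classInner (fun n : N => Cfsg.indFun T ψ n) θ =
      Cfsg.classInner (fun n : N => ψ ⟨(n : G), hNT n.2⟩) θ := by
  classical
  have h1 := restrict_eq_smul_inertia T hNT hθ hT hψ h
  set a := Cfsg.classInner (fun n : N => ψ ⟨(n : G), hNT n.2⟩) θ
  have e : (fun n : N => Cfsg.indFun T ψ n) =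
      ((Nat.card T : ℂ)⁻¹ * a) • ∑ x : G, conjFn x θ := by
    funext n
    simp only [Char.indFun_def, Pi.smul_apply, Finset.sum_apply, smul_eq_mul, mul_assoc,
      Finset.mul_sum]
    refine Fintype.sum_equiv (Equiv.inv G) _ _ fun x => ?_
    rw [← mul_assoc (x⁻¹), Char.extendByZero_of_mem ψ (hNT (hN.conj_mem' _ n.2 x))]
    have h2 := congr_fun h1 (conjN x⁻¹ n)
    simp only [Pi.smul_apply, smul_eq_mul, coe_conjN, inv_inv] at h2
    rw [show (⟨x⁻¹ * n * x, hNT (hN.conj_mem' _ n.2 x)⟩ : T) =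
      ⟨((conjN x⁻¹ n : N) : G), hNT (Subtype.coe_prop _)⟩ from Subtype.ext (by simp)]
    simp only [Equiv.inv_apply, conjFn_apply, ← h2]
    congr 2
    exact Subtype.ext (by simp)
  rw [e, Char.classInner_smul_left, Char.classInner_sum_left,
    Finset.sum_congr rfl fun x _ => Char.irr_classInner (isIrrCharacter_conjFn hθ x) hθ,
    Finset.sum_boole]
  have hcard : ((Finset.univ : Finset G).filter fun x => conjFn x θ = θ).card = Nat.card T := by
    rw [Nat.card_eq_fintype_card, ← Fintype.card_subtype]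
    exact Fintype.card_congr (Equiv.subtypeEquivRight fun x => (hT x).symm)
  rw [hcard, mul_assoc, mul_comm a, inv_mul_cancel_left₀ (by exact_mod_cast Nat.card_pos.ne')]

/-- Clifford correspondence: irreducibility, and recovery from the induced character. -/
theorem indFun_inertia (hθ : Cfsg.IsIrrCharacter N θ)
    (hT : ∀ g, g ∈ T ↔ conjFn g θ = θ) {ψ : T → ℂ} (hψ : Cfsg.IsIrrCharacter T ψ)
    (h : Cfsg.classInner (fun n : N => ψ ⟨(n : G), hNT n.2⟩) θ ≠ 0) :
    Cfsg.IsIrrCharacter G (Cfsg.indFun T ψ) ∧ ∀ ψ' : T → ℂ, Cfsg.IsIrrCharacter T ψ' →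
      Cfsg.classInner (fun n : N => ψ' ⟨(n : G), hNT n.2⟩) θ ≠ 0 →
      Cfsg.classInner (Cfsg.indFun T ψ) (Cfsg.indFun T ψ') ≠ 0 → ψ = ψ' := by
  have hFc : Cfsg.IsCharacter G (Cfsg.indFun T ψ) :=
    Char.isCharacter_indFun T (Char.irr_isCharacter hψ)
  set F : T → ℂ := fun t => Cfsg.indFun T ψ t with hFdef
  have hF : Cfsg.IsCharacter T F := Char.isCharacter_restrict hFc T
  have hnorm : Cfsg.classInner (Cfsg.indFun T ψ) (Cfsg.indFun T ψ) = Cfsg.classInner ψ F :=
    Char.frobenius_reciprocity T ψ _ (Char.indFun_isClassFunction T ψ)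
  have hne : Cfsg.classInner F ψ ≠ 0 := by
    rw [← Char.classInner_conj_symm, ← hnorm, Char.classInner_conj_symm]
    intro h0
    have := congr_fun (Char.classInner_self_eq_zero h0) 1
    rw [Char.indFun_apply_one, Pi.zero_apply, mul_eq_zero] at this
    exact this.elim (by exact_mod_cast Subgroup.index_ne_zero_of_finite)
      (Char.irr_apply_one_ne_zero hψ)
  obtain ⟨R, hR, hRe⟩ := exists_add_of_constituent hF hψ hne
  have hR0 : Cfsg.classInner (fun n : N => R ⟨(n : G), hNT n.2⟩) θ = 0 := by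
    have h1 := indFun_inertia_restrict T hNT hθ hT hψ h
    rw [show (fun n : N => Cfsg.indFun T ψ n) = (fun n : N => ψ ⟨(n : G), hNT n.2⟩) +
      fun n : N => R ⟨(n : G), hNT n.2⟩ from funext fun n => congr_fun hRe ⟨(n : G), hNT n.2⟩,
      Char.classInner_add_left, add_eq_left] at h1
    exact h1
  have hR1 : ∀ ψ' : T → ℂ, Cfsg.IsIrrCharacter T ψ' →
      Cfsg.classInner (fun n : N => ψ' ⟨(n : G), hNT n.2⟩) θ ≠ 0 →
      Cfsg.classInner R ψ' = 0 := by
    intro ψ' hψ' h'
    by_contra hcon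
    obtain ⟨R', hR', hRe'⟩ := exists_add_of_constituent hR hψ' hcon
    obtain ⟨i, hi⟩ := Char.classInner_isCharacter_nat
      (Char.isCharacter_comp (Char.irr_isCharacter hψ') (Subgroup.inclusion hNT))
      (Char.irr_isCharacter hθ)
    obtain ⟨j, hj⟩ := Char.classInner_isCharacter_nat
      (Char.isCharacter_comp hR' (Subgroup.inclusion hNT)) (Char.irr_isCharacter hθ)
    rw [show (fun n : N => R ⟨(n : G), hNT n.2⟩) =
      (ψ' ∘ Subgroup.inclusion hNT) + (R' ∘ Subgroup.inclusion hNT) from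
      funext fun n => congr_fun hRe' ⟨(n : G), hNT n.2⟩, Char.classInner_add_left, hi, hj] at hR0
    have : i + j = 0 := by exact_mod_cast hR0
    exact h' ((show Cfsg.classInner (fun n : N => ψ' ⟨(n : G), hNT n.2⟩) θ = (i : ℂ) from hi).trans
      (by rw [show i = 0 by omega, Nat.cast_zero]))
  refine ⟨Char.isIrrCharacter_iff.mpr ⟨hFc, ?_⟩, fun ψ' hψ' h' hne' => ?_⟩
  · rw [hnorm, ← Char.classInner_conj_symm, hRe, Char.classInner_add_left,
      Char.irr_classInner_self hψ, hR1 ψ hψ h]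
    simp
  · by_contra hd
    apply hne'
    rw [← Char.classInner_conj_symm, Char.frobenius_reciprocity T ψ' _
      (Char.indFun_isClassFunction T ψ), ← hFdef, Char.classInner_conj_symm, hRe,
      Char.classInner_add_left, Char.irr_classInner_ne hψ hψ' hd, hR1 ψ' hψ' h', add_zero]

/-- Clifford correspondence: surjectivity and multiplicities. -/
theorem exists_indFun_inertia (hθ : Cfsg.IsIrrCharacter N θ)
    (hT : ∀ g, g ∈ T ↔ conjFn g θ = θ) {χ : G → ℂ} (hχ : Cfsg.IsIrrCharacter G χ)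
    (h : Cfsg.classInner (fun n : N => χ n) θ ≠ 0) :
    ∃ ψ : T → ℂ, Cfsg.IsIrrCharacter T ψ ∧ Cfsg.indFun T ψ = χ ∧
      Cfsg.classInner (fun n : N => ψ ⟨(n : G), hNT n.2⟩) θ =
        Cfsg.classInner (fun n : N => χ n) θ := by
  have := Fintype.ofFinite (N.subgroupOf T)
  let e : N.subgroupOf T ≃* N := Subgroup.subgroupOfEquivOfLe hNT
  have hin : ∀ f : T → ℂ, Cfsg.classInner (fun m : N.subgroupOf T => f m) (θ ∘ e) =
      Cfsg.classInner (fun n : N => f ⟨(n : G), hNT n.2⟩) θ := fun f => by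
    rw [Char.classInner_def, Char.classInner_def, Nat.card_congr e.toEquiv]
    congr 1
    exact Fintype.sum_equiv e.toEquiv _ _ fun m => rfl
  obtain ⟨ψ, hψ, hψχ, hψθ⟩ := exists_constituent_over (H := N.subgroupOf T)
    (Char.isCharacter_restrict (Char.irr_isCharacter hχ) T) (θ := θ ∘ e)
    (by rw [hin (fun t => χ t)]; exact h)
  rw [hin] at hψθ
  obtain ⟨hirr, -⟩ := indFun_inertia T hNT hθ hT hψ hψθ
  have heq : Cfsg.indFun T ψ = χ := by
    by_contra hne
    apply hψχ
    rw [← Char.classInner_conj_symm, ← Char.frobenius_reciprocity T ψ χ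
      (Char.irr_isClassFunction hχ), Char.irr_classInner_ne hirr hχ hne, map_zero]
  exact ⟨ψ, hψ, heq, by rw [← heq, indFun_inertia_restrict T hNT hθ hT hψ hψθ]⟩

end CfsgLib.Clifford
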