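import Cfsg.Agent.Lib.Clifford.Correspondence

/-!
# Small lemmas on constituents
-/

namespace CfsgLib.Clifford

open Module
open scoped ComplexConjugate

universe u

variable {G : Type u} [Group G]

theorem norm_char_le_one [Finite G] {χ : G → ℂ} (hχ : Cfsg.IsCharacter G χ) (g : G) :
    ‖χ g‖ ≤ (χ 1).re ∧ (χ 1).im = 0 := by
  obtain ⟨n, ρ, rfl⟩ := hχ
  rw [Representation.char_one]
  exact ⟨by simpa using Char.norm_char_le ρ g, by simp⟩

theorem re_char_le_one [Finite G] {χ : G → ℂ} (hχ : Cfsg.IsCharacter G χ) (g : G) :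
    (χ g).re ≤ (χ 1).re :=
  (Complex.re_le_norm _).trans (norm_char_le_one hχ g).1

/-- If a sum of two characters contains `a` in its kernel, so does each. -/
theorem char_eq_one_of_add [Finite G] {θ R : G → ℂ} (hθ : Cfsg.IsCharacter G θ)
    (hR : Cfsg.IsCharacter G R) {a : G} (h : θ a + R a = θ 1 + R 1) : θ a = θ 1 := by
  have h1 := re_char_le_one hθ a
  have h2 := re_char_le_one hR a
  have h3 : (θ a).re + (R a).re = (θ 1).re + (R 1).re := by
    rw [← Complex.add_re, h, Complex.add_re]
  obtain ⟨h4, h5⟩ := norm_char_le_one hθ a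
  have h6 : (θ a).re = (θ 1).re := by linarith
  refine Complex.ext h6 ?_
  rw [h5]
  have h7 : ‖θ a‖ = |(θ a).re| := le_antisymm
    (h4.trans (h6 ▸ le_abs_self _)) (Complex.abs_re_le_norm _)
  exact (Complex.abs_re_eq_norm.mp h7.symm)

/-- Every irreducible constituent of a character has its kernel above the kernel of the sum. -/
theorem constituent_eq_one [Fintype G] {F χ : G → ℂ} (hF : Cfsg.IsCharacter G F)
    (hχ : Cfsg.IsIrrCharacter G χ) (h : Cfsg.classInner F χ ≠ 0) {a : G} (ha : F a = F 1) :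
    χ a = χ 1 := by
  obtain ⟨R, hR, rfl⟩ := exists_add_of_constituent hF hχ h
  exact char_eq_one_of_add (Char.irr_isCharacter hχ) hR ha

variable {N : Subgroup G} [hN : N.Normal]

/-- An irreducible character has an irreducible constituent on every subgroup. -/
theorem exists_irr_constituent [Fintype G] {F : G → ℂ} (hF : Cfsg.IsCharacter G F) (h1 : F ≠ 0) :
    ∃ χ, Cfsg.IsIrrCharacter G χ ∧ Cfsg.classInner F χ ≠ 0 := by
  by_contra hcon
  push Not at hcon
  exact h1 (Char.classFunction_eq_zero (Char.isCharacter_isClassFunction hF) hcon)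

omit hN in
theorem exists_irr_constituent_restrict [Fintype G] [Fintype N] {χ : G → ℂ}
    (hχ : Cfsg.IsIrrCharacter G χ) :
    ∃ θ, Cfsg.IsIrrCharacter N θ ∧ Cfsg.classInner (fun n : N => χ n) θ ≠ 0 :=
  exists_irr_constituent (Char.isCharacter_restrict (Char.irr_isCharacter hχ) N) fun h0 =>
    Char.irr_apply_one_ne_zero hχ (by simpa using congr_fun h0 1)

end CfsgLib.Clifford
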