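import Mathlib
import Cfsg.Agent.Lib.Char.Orthogonality
import Cfsg.Agent.Lib.Char.Basic

/-!
# Sums of an irreducible character over products of two conjugacy classes
-/

set_option autoImplicit false

open scoped ComplexConjugate

namespace CfsgLib.Clifford

/-- `∑_{x ∈ aᴳ} ∑_{y ∈ bᴳ} χ (x * y) = |aᴳ| |bᴳ| χ(a) χ(b) / χ(1)`. -/
theorem sum_class_mul_eq {G : Type*} [Group G] [Fintype G] [DecidableRel (IsConj : G → G → Prop)]
    {χ : G → ℂ} (hχ : Cfsg.IsIrrCharacter G χ) (a b : G) :
    ∑ x ∈ Finset.univ.filter (IsConj a), ∑ y ∈ Finset.univ.filter (IsConj b), χ (x * y) =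
      ((Finset.univ.filter (IsConj a)).card : ℂ) * ((Finset.univ.filter (IsConj b)).card : ℂ)
        * (χ a * χ b / χ 1) := by
  obtain ⟨n, ρ, hρ, rfl⟩ := hχ
  have hop : ∀ u : G, ∑ x ∈ Finset.univ.filter (IsConj u), ρ x =
      (((Finset.univ.filter (IsConj u)).card : ℂ) * ρ.character u / ρ.character 1) •
        (LinearMap.id : (Fin n → ℂ) →ₗ[ℂ] _) := by
    intro u
    let f : G → ℂ := fun g => if IsConj u g⁻¹ then 1 else 0
    have hf : Cfsg.IsClassFunction G f := fun g k => by
      have : IsConj u (k * g * k⁻¹)⁻¹ ↔ IsConj u g⁻¹ :=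
        have e : IsConj g⁻¹ (k * g * k⁻¹)⁻¹ := isConj_iff.mpr ⟨k, by group⟩
        ⟨fun h => h.trans e.symm, fun h => h.trans e⟩
      simp only [f, this]
    have h1 : CfsgLib.Char.classOp f ρ = ∑ x ∈ Finset.univ.filter (IsConj u), ρ x := by
      unfold CfsgLib.Char.classOp
      rw [← Equiv.sum_comp (Equiv.inv G), Finset.sum_filter]
      refine Finset.sum_congr rfl fun x _ => ?_
      simp [f]
      exact if_congr (by rw [inv_inv]) rfl rfl
    rw [← h1, CfsgLib.Char.classOp_eq_scalar hf ρ, Representation.char_one]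
    congr 2
    rw [Cfsg.classInner, ← mul_assoc, mul_inv_cancel₀ CfsgLib.Char.natCard_ne_zero, one_mul,
      ← Equiv.sum_comp (Equiv.inv G)]
    simp only [f, Equiv.inv_apply, inv_inv, ite_mul, one_mul, zero_mul]
    rw [← Finset.sum_filter, ← nsmul_eq_mul, ← Finset.sum_const]
    refine Finset.sum_congr rfl fun x hx => ?_
    rw [← CfsgLib.Char.char_inv (CfsgLib.Char.isCharacter_of_rep ρ), inv_inv]
    exact (CfsgLib.Char.isClassFunction_isConj
      (CfsgLib.Char.isCharacter_isClassFunction (CfsgLib.Char.isCharacter_of_rep ρ))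
      (Finset.mem_filter.mp hx).2).symm
  have hd : ρ.character 1 ≠ 0 := CfsgLib.Char.irr_apply_one_ne_zero ⟨n, ρ, hρ, rfl⟩
  have h2 : ∑ x ∈ Finset.univ.filter (IsConj a), ∑ y ∈ Finset.univ.filter (IsConj b),
      ρ.character (x * y) = LinearMap.trace ℂ _ ((∑ x ∈ Finset.univ.filter (IsConj a), ρ x) *
        (∑ y ∈ Finset.univ.filter (IsConj b), ρ y)) := by
    simp only [Finset.mul_sum, Finset.sum_mul, map_sum, Representation.character, map_mul]
    exact Finset.sum_comm
  rw [h2, hop a, hop b, smul_mul_smul_comm, map_smul]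
  change _ • LinearMap.trace ℂ _ (LinearMap.id.comp LinearMap.id) = _
  rw [LinearMap.id_comp, LinearMap.trace_id, smul_eq_mul, ← Representation.char_one (ρ := ρ)]
  field_simp

end CfsgLib.Clifford
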