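import Mathlib
import Cfsg.Agent.Lib.Clifford.ClassSum
import Cfsg.Agent.Lib.Clifford.Constituents
import Cfsg.Agent.Lib.Char.Induce
import Cfsg.Agent.Lib.Char.Inner
import Cfsg.Agent.Lib.Char.Linear

/-!
# Brauer–Suzuki: Sylow 2-subgroups generalized quaternion of order at least 16
-/

set_option autoImplicit false

open scoped ComplexConjugate commutatorElement
open Subgroup

namespace CfsgLib.Clifford.Quat

variable {G : Type*} [Group G] {S : Sylow 2 G} {n : ℕ}

/-- Generator of order `2 ^ (n + 3)`. -/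
def gen (e : (S : Subgroup G) ≃* QuaternionGroup (2 ^ (n + 2))) : G :=
  (e.symm (QuaternionGroup.a 1) : (S : Subgroup G))

/-- An element of order 4 inverting `gen`. -/
def flip (e : (S : Subgroup G) ≃* QuaternionGroup (2 ^ (n + 2))) : G :=
  (e.symm (QuaternionGroup.xa 0) : (S : Subgroup G))

variable (e : (S : Subgroup G) ≃* QuaternionGroup (2 ^ (n + 2)))
include e

theorem gen_mem : gen e ∈ (S : Subgroup G) := Subtype.coe_prop _

theorem flip_mem : flip e ∈ (S : Subgroup G) := Subtype.coe_prop _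

theorem orderOf_gen : orderOf (gen e) = 2 ^ (n + 3) := by
  rw [gen, Subgroup.orderOf_coe, MulEquiv.orderOf_eq, QuaternionGroup.orderOf_a_one]
  ring

theorem gen_pow_eq (j : ℕ) : gen e ^ j = (e.symm (QuaternionGroup.a (j : ZMod _)) : (S : Subgroup G)) := by
  rw [gen, ← SubgroupClass.coe_pow, ← map_pow, QuaternionGroup.a_one_pow]

theorem mem_cases {s : G} (hs : s ∈ (S : Subgroup G)) :
    (∃ j : ℕ, s = gen e ^ j) ∨ ∃ j : ℕ, s = flip e * gen e ^ j := by
  rcases hq : e ⟨s, hs⟩ with i | i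
  · left
    refine ⟨i.val, ?_⟩
    rw [gen_pow_eq, ZMod.natCast_zmod_val, ← hq, MulEquiv.symm_apply_apply]
  · right
    refine ⟨i.val, ?_⟩
    rw [gen_pow_eq, ZMod.natCast_zmod_val, flip, ← Subgroup.coe_mul, ← map_mul,
      QuaternionGroup.xa_mul_a, zero_add, ← hq, MulEquiv.symm_apply_apply]

theorem flip_conj : flip e * gen e * (flip e)⁻¹ = (gen e)⁻¹ := by
  rw [mul_inv_eq_iff_eq_mul, eq_inv_mul_iff_mul_eq, flip, gen, ← Subgroup.coe_mul,
    ← Subgroup.coe_mul, ← map_mul, ← map_mul, QuaternionGroup.xa_mul_a, zero_add,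
    QuaternionGroup.a_mul_xa, sub_self]

theorem flip_conj_pow (j : ℕ) : flip e * gen e ^ j * (flip e)⁻¹ = (gen e ^ j)⁻¹ := by
  rw [← conj_pow, flip_conj, inv_pow]

theorem flip_sq : flip e * flip e = gen e ^ (2 ^ (n + 2)) := by
  rw [gen_pow_eq, flip, ← Subgroup.coe_mul, ← map_mul, QuaternionGroup.xa_mul_xa, sub_zero, add_zero]

theorem orderOf_flip_mul (j : ℕ) : orderOf (flip e * gen e ^ j) = 4 := by
  rw [gen_pow_eq, flip, ← Subgroup.coe_mul, Subgroup.orderOf_coe, ← map_mul, MulEquiv.orderOf_eq,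
    QuaternionGroup.xa_mul_a, QuaternionGroup.orderOf_xa]

theorem gen_pow_ne_one {j : ℕ} (h0 : 0 < j) (hj : j < 2 ^ (n + 3)) : gen e ^ j ≠ 1 :=
  pow_ne_one_of_lt_orderOf h0.ne' (by rwa [orderOf_gen e])

/-- The unique involution of `S`. -/
theorem eq_of_sq_eq_one {s : G} (hs : s ∈ (S : Subgroup G)) (h : s * s = 1) :
    s = 1 ∨ s = gen e ^ (2 ^ (n + 2)) := by
  rcases mem_cases e hs with ⟨j, rfl⟩ | ⟨j, rfl⟩
  · rw [← pow_add, ← orderOf_dvd_iff_pow_eq_one, orderOf_gen e, pow_succ,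
      show j + j = j * 2 by ring, Nat.mul_dvd_mul_iff_right two_pos] at h
    obtain ⟨k, rfl⟩ := h
    have h2 : gen e ^ (2 * 2 ^ (n + 2)) = 1 := by
      rw [← pow_succ', ← orderOf_gen e, pow_orderOf_eq_one]
    rcases Nat.even_or_odd k with ⟨l, rfl⟩ | ⟨l, rfl⟩
    · left
      rw [show 2 ^ (n + 2) * (l + l) = 2 * 2 ^ (n + 2) * l by ring, pow_mul, h2, one_pow]
    · right
      rw [show 2 ^ (n + 2) * (2 * l + 1) = 2 * 2 ^ (n + 2) * l + 2 ^ (n + 2) by ring, pow_add,
        pow_mul, h2, one_pow, one_mul]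
  · exfalso
    have := orderOf_dvd_of_pow_eq_one (by rw [pow_two, h] : (flip e * gen e ^ j) ^ 2 = 1)
    rw [orderOf_flip_mul] at this
    norm_num at this

theorem orderOf_central : orderOf (gen e ^ (2 ^ (n + 2))) = 2 := by
  rw [orderOf_pow' _ (pow_ne_zero _ two_ne_zero), orderOf_gen e,
    Nat.gcd_eq_right (pow_dvd_pow 2 (by omega)), Nat.pow_div (by omega) two_pos,
    show n + 3 - (n + 2) = 1 by omega, pow_one]

variable {D : Subgroup G}

theorem commutator_eq : ⁅(S : Subgroup G), (S : Subgroup G)⁆ = zpowers (gen e ^ 2) := by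
  refine le_antisymm (commutator_le.mpr fun u hu v hv => ?_) ?_
  · have key : ∀ p q : QuaternionGroup (2 ^ (n + 2)), ∃ k : ZMod (2 * 2 ^ (n + 2)),
        ⁅p, q⁆ = QuaternionGroup.a (k + k) := by
      have hm : ((2 ^ (n + 2) : ℕ) : ZMod (2 * 2 ^ (n + 2))) + ((2 ^ (n + 2) : ℕ) : ZMod _) = 0 := by
        rw [← Nat.cast_add, ← two_mul, ZMod.natCast_self]
      have ia : ∀ i, (QuaternionGroup.a i : QuaternionGroup (2 ^ (n + 2)))⁻¹ = QuaternionGroup.a (-i) :=
        fun _ => rfl
      have ix : ∀ i, (QuaternionGroup.xa i : QuaternionGroup (2 ^ (n + 2)))⁻¹ =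
          QuaternionGroup.xa (((2 ^ (n + 2) : ℕ) : ZMod _) + i) := fun _ => rfl
      rintro (i | i) (j | j)
      · refine ⟨0, ?_⟩
        simp [commutatorElement_def, ia]
      · refine ⟨i, ?_⟩
        simp only [commutatorElement_def, ia, ix, QuaternionGroup.a_mul_xa, QuaternionGroup.xa_mul_a,
          QuaternionGroup.xa_mul_xa, QuaternionGroup.a.injEq]
        linear_combination hm
      · refine ⟨-j, ?_⟩
        simp only [commutatorElement_def, ia, ix, QuaternionGroup.a_mul_xa, QuaternionGroup.xa_mul_a,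
          QuaternionGroup.xa_mul_xa, QuaternionGroup.a_mul_a, QuaternionGroup.a.injEq]
        linear_combination hm
      · refine ⟨j - i, ?_⟩
        simp only [commutatorElement_def, ix, QuaternionGroup.a_mul_xa, QuaternionGroup.xa_mul_xa,
          QuaternionGroup.xa_mul_a, QuaternionGroup.a.injEq]
        linear_combination hm
    obtain ⟨k, hk⟩ := key (e ⟨u, hu⟩) (e ⟨v, hv⟩)
    rw [← map_commutatorElement, ← MulEquiv.eq_symm_apply] at hk
    have h2 : ⁅u, v⁆ = (e.symm (QuaternionGroup.a (k + k)) : (S : Subgroup G)) :=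
      congr_arg Subtype.val hk
    refine mem_zpowers_iff.mpr ⟨k.val, ?_⟩
    rw [zpow_natCast, ← pow_mul, gen_pow_eq, h2, Nat.cast_mul, Nat.cast_ofNat, ZMod.natCast_zmod_val, two_mul k]
  · rw [zpowers_le]
    have h := (⁅(S : Subgroup G), (S : Subgroup G)⁆).inv_mem
      (commutator_mem_commutator (flip_mem e) (gen_mem e))
    rw [commutatorElement_def, flip_conj] at h
    simpa [pow_two] using h

theorem card_D (hD : D = ⁅(S : Subgroup G), (S : Subgroup G)⁆) : Nat.card D = 2 ^ (n + 2) := by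
  rw [hD, commutator_eq e, Nat.card_zpowers, orderOf_pow' _ two_ne_zero, orderOf_gen e,
    Nat.gcd_eq_right (dvd_pow_self 2 (by omega))]
  rw [pow_succ, Nat.mul_div_cancel _ two_pos]

theorem gen_sq_mem (hD : D = ⁅(S : Subgroup G), (S : Subgroup G)⁆) : gen e ^ 2 ∈ D := by
  rw [hD, commutator_eq e]; exact mem_zpowers _

theorem gen_mem_centralizer (hD : D = ⁅(S : Subgroup G), (S : Subgroup G)⁆) :
    gen e ∈ centralizer (D : Set G) := by
  rw [mem_centralizer_iff, hD, commutator_eq e]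
  intro g hg
  obtain ⟨k, rfl⟩ := hg
  exact ((Commute.refl (gen e)).pow_left 2).zpow_left k

theorem S_le_normalizer (hD : D = ⁅(S : Subgroup G), (S : Subgroup G)⁆) :
    (S : Subgroup G) ≤ normalizer (D : Set G) := by
  have hone : ∀ s ∈ (S : Subgroup G), ∀ d ∈ D, s * d * s⁻¹ ∈ D := by
    intro s hs d hd
    rw [hD] at hd ⊢
    have hdS : d ∈ (S : Subgroup G) := (commutator_le.mpr fun a ha b hb => by
      rw [commutatorElement_def]
      exact mul_mem (mul_mem (mul_mem ha hb) (inv_mem ha)) (inv_mem hb)) hd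
    have : s * d * s⁻¹ = ⁅s, d⁆ * d := by rw [commutatorElement_def]; group
    rw [this]
    exact mul_mem (commutator_mem_commutator hs hdS) hd
  intro s hs d
  refine ⟨hone s hs d, fun h => ?_⟩
  simpa [mul_assoc] using hone s⁻¹ (inv_mem hs) _ h

theorem mem_zpowers_of_centralizes (hD : D = ⁅(S : Subgroup G), (S : Subgroup G)⁆) {s : G}
    (hs : s ∈ (S : Subgroup G)) (hc : s ∈ centralizer (D : Set G)) : s ∈ zpowers (gen e) := by
  rcases mem_cases e hs with ⟨j, rfl⟩ | ⟨j, rfl⟩
  · exact pow_mem (mem_zpowers _) j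
  · exfalso
    have h := mem_centralizer_iff.mp hc _ (gen_sq_mem e hD)
    have h1 : flip e * gen e ^ 2 * (flip e)⁻¹ = gen e ^ 2 := by
      rw [mul_inv_eq_iff_eq_mul]
      refine mul_right_cancel (b := gen e ^ j) ?_
      rw [mul_assoc (gen e ^ 2), h, mul_assoc, mul_assoc, ← pow_add, ← pow_add, add_comm]
    rw [flip_conj_pow, inv_eq_iff_mul_eq_one, ← pow_add] at h1
    have h4 := Nat.le_of_dvd (by norm_num) (orderOf_dvd_of_pow_eq_one h1)
    rw [orderOf_gen e] at h4
    have : 2 ^ 3 ≤ 2 ^ (n + 3) := Nat.pow_le_pow_right two_pos (by omega)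
    omega

variable [Finite G]

omit e in
theorem exists_conj_mem {R : Subgroup G} (hR : IsPGroup 2 R) :
    ∃ g : G, ∀ r ∈ R, g * r * g⁻¹ ∈ (S : Subgroup G) := by
  obtain ⟨T, hT⟩ := hR.exists_le_sylow
  obtain ⟨g, hg⟩ := MulAction.exists_smul_eq G T S
  refine ⟨g, fun r hr => ?_⟩
  rw [← hg]
  exact ⟨r, hT hr, rfl⟩

/-- A 2-subgroup of `C(D)` containing the generator is `⟨gen⟩`. -/
theorem two_group_eq (hD : D = ⁅(S : Subgroup G), (S : Subgroup G)⁆) {R : Subgroup G}
    (hR : IsPGroup 2 R) (hRC : R ≤ centralizer (D : Set G)) (hgen : gen e ∈ R) :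
    R = zpowers (gen e) := by
  refine le_antisymm (fun r hr => ?_) (zpowers_le.mpr hgen)
  obtain ⟨g, hg⟩ := exists_conj_mem (S := S) hR
  obtain ⟨j, hj⟩ : ∃ j : ℕ, g * gen e * g⁻¹ = gen e ^ j := by
    rcases mem_cases e (hg _ hgen) with h | ⟨j, hj⟩
    · exact h
    · exfalso
      have h1 : orderOf (g * gen e * g⁻¹) = orderOf (gen e) :=
        MulEquiv.orderOf_eq (MulAut.conj g) (gen e)
      rw [hj, orderOf_flip_mul, orderOf_gen e] at h1
      have : 2 ^ 3 ≤ 2 ^ (n + 3) := Nat.pow_le_pow_right two_pos (by omega)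
      omega
  have hD' : ∀ d ∈ D, ∃ d' ∈ D, g * d' * g⁻¹ = d := by
    let f : D → D := fun d => ⟨g * d * g⁻¹, by
      have hd : (d : G) ∈ zpowers (gen e ^ 2) := by rw [← commutator_eq e, ← hD]; exact d.2
      obtain ⟨k, hk⟩ := mem_zpowers_iff.mp hd
      rw [← hk, ← conj_zpow, ← conj_pow, hj, ← pow_mul, mul_comm, pow_mul]
      exact zpow_mem (pow_mem (gen_sq_mem e hD) j) k⟩
    have hf : Function.Injective f := fun a b h =>
      Subtype.ext (mul_left_cancel (mul_right_cancel (congr_arg Subtype.val h)))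
    intro d hd
    obtain ⟨d', hd'⟩ := Finite.surjective_of_injective hf ⟨d, hd⟩
    exact ⟨d', d'.2, congr_arg Subtype.val hd'⟩
  have hc : g * r * g⁻¹ ∈ centralizer (D : Set G) := by
    rw [mem_centralizer_iff]
    intro d hd
    obtain ⟨d', hd', rfl⟩ := hD' d hd
    have := mem_centralizer_iff.mp (hRC hr) d' hd'
    calc g * d' * g⁻¹ * (g * r * g⁻¹) = g * (d' * r) * g⁻¹ := by group
      _ = g * (r * d') * g⁻¹ := by rw [this]
      _ = _ := by group
  have hmap : zpowers (gen e) ≤ (zpowers (gen e)).map (MulAut.conj g).toMonoidHom := by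
    refine (Subgroup.eq_of_le_of_card_ge ?_ ?_).ge
    · rw [MonoidHom.map_zpowers, zpowers_le]
      show g * gen e * g⁻¹ ∈ zpowers (gen e)
      rw [hj]
      exact pow_mem (mem_zpowers _) j
    · exact (card_map_of_injective (MulEquiv.injective (MulAut.conj g))).ge
  obtain ⟨w, hw, he⟩ := hmap (mem_zpowers_of_centralizes e hD (hg r hr) hc)
  exact (show w = r from (MulAut.conj g).injective he) ▸ hw

/-- Every 2-subgroup of `C(D)` is cyclic. -/
theorem isCyclic_two_group (hD : D = ⁅(S : Subgroup G), (S : Subgroup G)⁆) {R : Subgroup G}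
    (hR : IsPGroup 2 R) (hRC : R ≤ centralizer (D : Set G)) : IsCyclic R := by
  set C := centralizer (D : Set G)
  have hA : zpowers (gen e) ≤ C := zpowers_le.mpr (gen_mem_centralizer e hD)
  have hA2 : IsPGroup 2 (zpowers (gen e)) :=
    IsPGroup.of_card (n := n + 3) (by rw [Nat.card_zpowers, orderOf_gen e])
  obtain ⟨P, hP⟩ := (hA2.of_equiv (subgroupOfEquivOfLe hA).symm).exists_le_sylow
  have hPeq : (P : Subgroup C).map C.subtype = zpowers (gen e) :=
    two_group_eq e hD (P.2.map _) (map_subtype_le _)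
      ⟨⟨gen e, gen_mem_centralizer e hD⟩, hP (mem_subgroupOf.mpr (mem_zpowers _)), rfl⟩
  have hPc : IsCyclic (P : Subgroup C) := by
    have h1 : IsCyclic ((P : Subgroup C).map C.subtype) := hPeq ▸ (inferInstance : IsCyclic (zpowers (gen e)))
    exact isCyclic_of_injective ((P : Subgroup C).equivMapOfInjective _ C.subtype_injective).toMonoidHom
      (MulEquiv.injective _)
  obtain ⟨T, hT⟩ := (hR.of_equiv (subgroupOfEquivOfLe hRC).symm).exists_le_sylow
  have hTc : IsCyclic (T : Subgroup C) :=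
    isCyclic_of_injective (Sylow.equiv T P).toMonoidHom (MulEquiv.injective _)
  have : IsCyclic (R.subgroupOf C) :=
    isCyclic_of_injective (Subgroup.inclusion hT) (Subgroup.inclusion_injective hT)
  exact isCyclic_of_injective (subgroupOfEquivOfLe hRC).symm.toMonoidHom (MulEquiv.injective _)

omit e in
/-- In a finite cyclic group, subgroups of equal order are equal. -/
theorem eq_of_card_eq_of_isCyclic {A U V : Subgroup G} [IsCyclic A] (hU : U ≤ A) (hV : V ≤ A)
    (h : Nat.card U = Nat.card V) : U = V := by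
  classical
  have : Fintype A := Fintype.ofFinite A
  suffices key : ∀ W : Subgroup G, W ≤ A → ∀ x : A,
      (x : G) ∈ W ↔ x ^ Nat.card W = 1 by
    ext x
    exact ⟨fun hx => (key V hV ⟨x, hU hx⟩).mpr (h ▸ (key U hU ⟨x, hU hx⟩).mp hx),
      fun hx => (key U hU ⟨x, hV hx⟩).mpr (h ▸ (key V hV ⟨x, hV hx⟩).mp hx)⟩
  intro W hW
  have hsub : Finset.univ.filter (fun x : A => (x : G) ∈ W) ⊆
      Finset.univ.filter (fun x : A => x ^ Nat.card W = 1) := by
    intro x hx
    have hxW := (Finset.mem_filter.mp hx).2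
    refine Finset.mem_filter.mpr ⟨Finset.mem_univ _, Subtype.ext ?_⟩
    exact orderOf_dvd_iff_pow_eq_one.mp (Subgroup.orderOf_dvd_natCard W hxW)
  have hle : (Finset.univ.filter (fun x : A => x ^ Nat.card W = 1)).card ≤
      (Finset.univ.filter (fun x : A => (x : G) ∈ W)).card := by
    refine (IsCyclic.card_pow_eq_one_le Nat.card_pos).trans (le_of_eq ?_)
    rw [← Fintype.card_subtype, ← Nat.card_eq_fintype_card]
    exact Nat.card_congr (subgroupOfEquivOfLe hW).symm.toEquiv
  intro x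
  have := Finset.ext_iff.mp (Finset.eq_of_subset_of_card_le hsub hle) x
  simpa using this

theorem le_zpowers_of_dvd (hD : D = ⁅(S : Subgroup G), (S : Subgroup G)⁆) {y : G}
    (hy : y ∈ centralizer (D : Set G)) (hdvd : Nat.card D ∣ orderOf y) : D ≤ zpowers y := by
  set w := y ^ (orderOf y / Nat.card D) with hw
  have hwo : orderOf w = Nat.card D := orderOf_pow_orderOf_div (orderOf_pos y).ne' hdvd
  have hwC : w ∈ centralizer (D : Set G) := pow_mem hy _
  have hw2 : IsPGroup 2 (zpowers w) :=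
    IsPGroup.of_card (n := n + 2) (by rw [Nat.card_zpowers, hwo, card_D e hD])
  have hD2 : IsPGroup 2 D := IsPGroup.of_card (card_D e hD)
  have hnorm : zpowers w ≤ normalizer (D : Set G) :=
    (zpowers_le.mpr hwC).trans (Subgroup.centralizer_le_normalizer _)
  have hDC : D ≤ centralizer (D : Set G) := by
    intro d hd
    rw [mem_centralizer_iff]
    intro c hc
    rw [hD, commutator_eq e] at hd hc
    obtain ⟨i, rfl⟩ := hd
    obtain ⟨j, rfl⟩ := hc
    exact ((Commute.refl (gen e ^ 2)).zpow_zpow j i).eq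
  have hcyc : IsCyclic (zpowers w ⊔ D : Subgroup G) :=
    isCyclic_two_group e hD (hw2.to_sup_of_normal_right' hD2 hnorm)
      (sup_le (zpowers_le.mpr hwC) hDC)
  rw [eq_of_card_eq_of_isCyclic (A := zpowers w ⊔ D) (le_sup_right (a := zpowers w)) le_sup_left
    (by rw [Nat.card_zpowers, hwo])]
  exact zpowers_le.mpr (pow_mem (mem_zpowers y) _)

/-- A conjugating element between elements of order divisible by `|D|` normalizes `D`. -/
theorem mem_normalizer_of_conj (hD : D = ⁅(S : Subgroup G), (S : Subgroup G)⁆) {g y : G}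
    (hy : y ∈ centralizer (D : Set G)) (hdvd : Nat.card D ∣ orderOf y)
    (hgy : g * y * g⁻¹ ∈ centralizer (D : Set G)) : g ∈ normalizer (D : Set G) := by
  have h1 := le_zpowers_of_dvd e hD hy hdvd
  have h2 := le_zpowers_of_dvd e hD hgy
    (by rwa [show g * y * g⁻¹ = MulAut.conj g y from rfl, MulEquiv.orderOf_eq])
  rw [mem_normalizer_iff_map_conj_eq]
  refine eq_of_card_eq_of_isCyclic (A := zpowers (g * y * g⁻¹)) ?_ h2
    (card_map_of_injective (MulEquiv.injective (MulAut.conj g)))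
  refine (map_mono h1).trans ?_
  rw [MonoidHom.map_zpowers]
  rfl

/-- A normal 2-complement of `C(D)`, as a subgroup of `G`. -/
theorem exists_complement (hD : D = ⁅(S : Subgroup G), (S : Subgroup G)⁆) :
    ∃ K : Subgroup G, Odd (Nat.card K) ∧ K ≤ centralizer (D : Set G) ∧
      normalizer (D : Set G) ≤ normalizer (K : Set G) ∧
      (∀ c ∈ centralizer (D : Set G), ∃ k ∈ K, ∃ j : ℕ, c = k * gen e ^ j) ∧
      ∀ j : ℕ, gen e ^ j ∈ K → gen e ^ j = 1 := by
  classical
  set C := centralizer (D : Set G) with hC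
  have hgC := gen_mem_centralizer e hD
  have hA2 : IsPGroup 2 (zpowers (gen e)) :=
    IsPGroup.of_card (n := n + 3) (by rw [Nat.card_zpowers, orderOf_gen e])
  obtain ⟨P, hP⟩ := (hA2.of_equiv (subgroupOfEquivOfLe (zpowers_le.mpr hgC)).symm).exists_le_sylow
  have hPeq : (P : Subgroup C).map C.subtype = zpowers (gen e) :=
    two_group_eq e hD (P.2.map _) (map_subtype_le _)
      ⟨⟨gen e, hgC⟩, hP (mem_subgroupOf.mpr (mem_zpowers _)), rfl⟩
  have hPmem : ∀ x : C, x ∈ (P : Subgroup C) ↔ (x : G) ∈ zpowers (gen e) := fun x => by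
    rw [← hPeq]; exact ⟨fun h => ⟨x, h, rfl⟩, fun ⟨w, hw, he⟩ => Subtype.ext he ▸ hw⟩
  have hPc : IsCyclic (P : Subgroup C) := by
    have h1 : IsCyclic ((P : Subgroup C).map C.subtype) :=
      hPeq ▸ (inferInstance : IsCyclic (zpowers (gen e)))
    exact isCyclic_of_injective ((P : Subgroup C).equivMapOfInjective _ C.subtype_injective).toMonoidHom
      (MulEquiv.injective _)
  have h2C : (Nat.card C).minFac = 2 := by
    rw [Nat.minFac_eq_two_iff]
    refine (dvd_trans ?_ (C.orderOf_dvd_natCard hgC))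
    rw [orderOf_gen e]
    exact dvd_pow_self 2 (by omega)
  set K0 := (MonoidHom.transferSylow P (hPc.normalizer_le_centralizer h2C)).ker with hK0
  have hc : IsComplement' K0 (P : Subgroup C) := IsCyclic.isComplement' h2C hPc
  have hodd : Odd (Nat.card K0) := by
    rw [← hc.index_eq_card, Nat.odd_iff]
    exact Nat.two_dvd_ne_zero.mp P.not_dvd_index
  have hchar : ∀ x : C, Odd (orderOf x) → x ∈ K0 := by
    intro x hx
    set f := MonoidHom.transferSylow P (hPc.normalizer_le_centralizer h2C)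
    obtain ⟨k, hk⟩ := P.2 (f x)
    have h1 : orderOf (f x) ∣ 2 ^ k := orderOf_dvd_of_pow_eq_one hk
    have h2 : orderOf (f x) ∣ orderOf x := orderOf_map_dvd f x
    exact MonoidHom.mem_ker.mpr (orderOf_eq_one_iff.mp (Nat.eq_one_of_dvd_coprimes
      (Nat.Coprime.pow_left k (Nat.coprime_two_left.mpr hx)) h1 h2))
  refine ⟨K0.map C.subtype, by rwa [← Nat.card_congr (K0.equivMapOfInjective _ C.subtype_injective).toEquiv],
    map_subtype_le _, ?_, ?_, ?_⟩
  · have hone : ∀ g ∈ normalizer (D : Set G), ∀ x ∈ K0.map C.subtype, g * x * g⁻¹ ∈ K0.map C.subtype := by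
      rintro g hg _ ⟨x, hx, rfl⟩
      have hgx : g * x * g⁻¹ ∈ C := by
        refine mem_centralizer_iff.mpr ?_
        intro d hd
        have hd' : g⁻¹ * d * g ∈ D := by simpa using ((inv_mem hg) d).mp hd
        have := mem_centralizer_iff.mp x.2 _ hd'
        calc d * (g * x * g⁻¹) = g * (g⁻¹ * d * g * x) * g⁻¹ := by group
          _ = g * (x * (g⁻¹ * d * g)) * g⁻¹ := by rw [this]
          _ = _ := by group
      refine ⟨⟨_, hgx⟩, hchar _ ?_, rfl⟩
      rw [← Subgroup.orderOf_coe]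
      show Odd (orderOf (MulAut.conj g (x : G)))
      rw [MulEquiv.orderOf_eq, Subgroup.orderOf_coe]
      exact hodd.of_dvd_nat (K0.orderOf_dvd_natCard hx)
    intro g hg x
    refine ⟨hone g hg x, fun h => ?_⟩
    simpa [mul_assoc] using hone g⁻¹ (inv_mem hg) _ h
  · intro c hcC
    obtain ⟨⟨k, p⟩, hkp⟩ := hc.2 ⟨c, hcC⟩
    obtain ⟨j, hj⟩ : ∃ j : ℕ, gen e ^ j = ((p : C) : G) := by
      have := (isOfFinOrder_of_finite (gen e)).mem_zpowers_iff_mem_range_orderOf.mp ((hPmem p).mp p.2)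
      obtain ⟨j, -, hj⟩ := Finset.mem_image.mp this
      exact ⟨j, hj⟩
    refine ⟨((k : C) : G), ⟨k, k.2, rfl⟩, j, ?_⟩
    rw [hj]
    exact (congr_arg Subtype.val hkp).symm
  · rintro j ⟨x, hx, hxj⟩
    have : x ∈ K0 ⊓ (P : Subgroup C) := ⟨hx, (hPmem x).mpr (by
      rw [show (x : G) = gen e ^ j from hxj]; exact pow_mem (mem_zpowers _) j)⟩
    rw [hc.disjoint.eq_bot, mem_bot] at this
    rw [← hxj, this]; rfl

theorem normalizer_cases (hD : D = ⁅(S : Subgroup G), (S : Subgroup G)⁆) {g : G}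
    (hg : g ∈ normalizer (D : Set G)) :
    g ∈ centralizer (D : Set G) ∨ (flip e)⁻¹ * g ∈ centralizer (D : Set G) := by
  classical
  let N := normalizer (D : Set G)
  have hDc : IsCyclic D := by rw [hD, commutator_eq e]; infer_instance
  let f : ↥(normalizer (D : Set G)) →* MulAut D := D.normalizerMonoidHom
  have hker : ∀ x : N, x ∈ f.ker ↔ (x : G) ∈ centralizer (D : Set G) := fun x => by
    show x ∈ (D.normalizerMonoidHom).ker ↔ _
    rw [Subgroup.normalizerMonoidHom_ker, mem_subgroupOf]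
  have hidx : ∃ k, f.ker.index = 2 ^ k := by
    rw [Subgroup.index_ker]
    have h1 : IsPGroup 2 (MulAut D) := IsPGroup.of_card (n := n + 1) (by
      rw [hDc.card_mulAut, card_D e hD, Nat.totient_prime_pow Nat.prime_two (by omega)]; simp)
    exact (h1.to_subgroup f.range).exists_card_eq
  have hS := S_le_normalizer e hD
  let SN : Subgroup N := (S : Subgroup G).subgroupOf N
  have hsup : f.ker ⊔ SN = ⊤ := by
    rw [← Subgroup.index_eq_one]
    obtain ⟨k, hk⟩ := hidx
    refine Nat.eq_one_of_dvd_coprimes (Nat.Coprime.pow_left k ?_)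
      (by rw [← hk]; exact index_dvd_of_le le_sup_left) (index_dvd_of_le le_sup_right)
    refine Nat.Coprime.coprime_dvd_right (relIndex_dvd_index_of_le hS) ?_
    exact Nat.coprime_two_left.mpr (Nat.odd_iff.mpr (Nat.two_dvd_ne_zero.mp S.not_dvd_index))
  obtain ⟨k, hk, s, hs, hks⟩ := mem_sup_of_normal_left.mp (hsup ▸ mem_top (⟨g, hg⟩ : N) :
    (⟨g, hg⟩ : N) ∈ f.ker ⊔ SN)
  have hkC := (hker k).mp hk
  have hgeq : g = (k : G) * s := congr_arg Subtype.val hks.symm
  rcases mem_cases e (mem_subgroupOf.mp hs) with ⟨j, hj⟩ | ⟨j, hj⟩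
  · left
    rw [hgeq, hj]
    exact mul_mem hkC (pow_mem (gen_mem_centralizer e hD) j)
  · right
    rw [hgeq, hj, show (flip e)⁻¹ * ((k : G) * (flip e * gen e ^ j)) =
      ((flip e)⁻¹ * k * flip e) * gen e ^ j by group]
    refine mul_mem ?_ (pow_mem (gen_mem_centralizer e hD) j)
    rw [mem_centralizer_iff]
    intro d hd
    have hd' : flip e * d * (flip e)⁻¹ ∈ D := (hS (flip_mem e) d).mp hd
    have := mem_centralizer_iff.mp hkC _ hd'
    calc d * ((flip e)⁻¹ * k * flip e) = (flip e)⁻¹ * (flip e * d * (flip e)⁻¹ * k) * flip e := by group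
      _ = (flip e)⁻¹ * (k * (flip e * d * (flip e)⁻¹)) * flip e := by rw [this]
      _ = _ := by group

omit e [Finite G] in
/-- Decomposition of a generalized character of norm two. -/
theorem _root_.CfsgLib.Clifford.exists_norm_two {X : Type*} [Group X] [Fintype X] {θ : X → ℂ}
    (hθ : Cfsg.IsGeneralizedCharacter X θ) (h : Cfsg.classInner θ θ = 2) :
    ∃ (χ ψ : X → ℂ) (ε δ : ℂ), Cfsg.IsIrrCharacter X χ ∧ Cfsg.IsIrrCharacter X ψ ∧ χ ≠ ψ ∧
      (ε = 1 ∨ ε = -1) ∧ (δ = 1 ∨ δ = -1) ∧ θ = ε • χ + δ • ψ := by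
  classical
  have := CfsgLib.Char.finite_irrCharacter (G := X)
  have : Fintype (Cfsg.IrrCharacter X) := Fintype.ofFinite _
  choose k hk using fun χ : Cfsg.IrrCharacter X => CfsgLib.Char.classInner_isGeneralized_int hθ
    (CfsgLib.Char.isGeneralized_of_isCharacter (CfsgLib.Char.irr_isCharacter χ.2))
  have h2 : ∑ χ : Cfsg.IrrCharacter X, k χ * k χ = 2 := by
    have e := CfsgLib.Char.classInner_eq_sum_mul (CfsgLib.Char.isGeneralized_isClassFunction hθ) θ
    rw [h] at e
    simp only [hk, map_intCast] at e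
    exact_mod_cast e.symm
  let T : Finset (Cfsg.IrrCharacter X) := Finset.univ.filter fun χ => k χ ≠ 0
  have hsign : ∀ χ ∈ T, k χ = 1 ∨ k χ = -1 := by
    intro χ hχ
    have h3 : k χ * k χ ≤ 2 :=
      h2 ▸ Finset.single_le_sum (fun η _ => mul_self_nonneg (k η)) (Finset.mem_univ χ)
    have h4 : k χ ≠ 0 := (Finset.mem_filter.mp hχ).2
    have h6 : -1 ≤ k χ := by nlinarith
    have h7 : k χ ≤ 1 := by nlinarith
    omega
  have hcard : T.card = 2 := by
    have h5 : ∑ χ ∈ T, k χ * k χ = 2 := by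
      rw [← h2]
      exact Finset.sum_filter_of_ne fun η _ hne => left_ne_zero_of_mul hne
    rw [Finset.sum_congr rfl (g := fun _ => (1 : ℤ))
      (fun χ hχ => by rcases hsign χ hχ with h | h <;> simp [h]),
      Finset.sum_const, nsmul_one] at h5
    exact_mod_cast h5
  obtain ⟨χ, ψ, hne, hT⟩ := Finset.card_eq_two.mp hcard
  refine ⟨χ.1, ψ.1, k χ, k ψ, χ.2, ψ.2, fun he => hne (Subtype.ext he), ?_, ?_, ?_⟩
  · rcases hsign χ (by simp [hT]) with h | h <;> simp [h]
  · rcases hsign ψ (by simp [hT]) with h | h <;> simp [h]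
  · have e := CfsgLib.Char.classFunction_eq_sum (CfsgLib.Char.isGeneralized_isClassFunction hθ)
    rw [← Finset.sum_filter_of_ne (p := fun χ => k χ ≠ 0)
      (fun η _ hne hz => hne (by simp [hk, hz])), show Finset.univ.filter (fun χ => k χ ≠ 0) = {χ, ψ} from hT,
      Finset.sum_pair hne] at e
    rw [e, hk, hk]

omit [Finite G] in
theorem card_D_dvd_of {D : Subgroup G} (hD : D = ⁅(S : Subgroup G), (S : Subgroup G)⁆) {j : ℕ}
    (hj : ¬ 4 ∣ j) : Nat.card D ∣ orderOf (gen e ^ j) := by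
  have hj0 : j ≠ 0 := fun h => hj (h ▸ dvd_zero 4)
  rw [card_D e hD, orderOf_pow' _ hj0, orderOf_gen e]
  obtain ⟨i, hi, hgcd⟩ := (Nat.dvd_prime_pow Nat.prime_two).mp (Nat.gcd_dvd_left (2 ^ (n + 3)) j)
  have hi1 : i ≤ 1 := by
    by_contra hc
    refine hj (dvd_trans (show 4 ∣ 2 ^ i from ?_) (hgcd ▸ Nat.gcd_dvd_right _ _))
    exact (pow_dvd_pow 2 (show 2 ≤ i by omega) : 2 ^ 2 ∣ 2 ^ i)
  rw [hgcd, Nat.pow_div hi two_pos]
  exact pow_dvd_pow 2 (by omega)

/-- A linear character of `C(D)` of order 4 which detects the elements of large order. -/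
theorem exists_lambda (hD : D = ⁅(S : Subgroup G), (S : Subgroup G)⁆) :
    ∃ l : ↥(centralizer (D : Set G)) →* ℂˣ,
      (l ⟨gen e, gen_mem_centralizer e hD⟩ : ℂ) = Complex.I ∧
      (∀ c, l c ≠ 1 → Nat.card D ∣ orderOf (c : G)) ∧
      (∀ c c' : ↥(centralizer (D : Set G)), (c' : G) = (flip e)⁻¹ * c * flip e → l c' = (l c)⁻¹) := by
  classical
  obtain ⟨K, -, hKC, hKN, hdec, hdisj⟩ := exists_complement e hD
  set C := centralizer (D : Set G)
  let gC : C := ⟨gen e, gen_mem_centralizer e hD⟩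
  let K' : Subgroup C := K.subgroupOf C
  have hCN : C ≤ normalizer (D : Set G) := Subgroup.centralizer_le_normalizer _
  have hK'n : K'.Normal := ⟨fun x hx g => mem_subgroupOf.mpr (by
    have := (hKN (hCN g.2) (x : G)).mp (mem_subgroupOf.mp hx)
    simpa using this)⟩
  let π := QuotientGroup.mk' K'
  have hgen : ∀ q, q ∈ zpowers (π gC) := by
    intro q
    obtain ⟨c, rfl⟩ := QuotientGroup.mk'_surjective K' q
    obtain ⟨k, hk, j, hj⟩ := hdec c c.2
    have h1 : c = ⟨k, hKC hk⟩ * gC ^ j := Subtype.ext (by simpa [gC] using hj)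
    have h2 : π ⟨k, hKC hk⟩ = 1 := (QuotientGroup.eq_one_iff _).mpr (mem_subgroupOf.mpr hk)
    rw [h1, map_mul, h2, one_mul, map_pow]
    exact pow_mem (mem_zpowers _) j
  have hord : orderOf (π gC) = 2 ^ (n + 3) := by
    rw [← orderOf_gen e]
    refine Nat.dvd_antisymm ((orderOf_map_dvd π gC).trans (dvd_of_eq (Subgroup.orderOf_coe gC).symm))
      (orderOf_dvd_of_pow_eq_one (hdisj _ ?_))
    have h := pow_orderOf_eq_one (π gC)
    rw [← map_pow] at h
    simpa [gC] using mem_subgroupOf.mp ((QuotientGroup.eq_one_iff _).mp h)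
  let u : ℂˣ := Units.mk0 Complex.I Complex.I_ne_zero
  have hu4 : u ^ 4 = 1 := Units.ext (by simp [u, Complex.I_pow_four])
  have hdvd : orderOf u ∣ orderOf (π gC) := by
    rw [hord]
    exact (orderOf_dvd_of_pow_eq_one hu4).trans (pow_dvd_pow 2 (show 2 ≤ n + 3 by omega))
  let l : C →* ℂˣ := (monoidHomOfForallMemZpowers hgen hdvd).comp π
  have hl : l gC = u := monoidHomOfForallMemZpowers_apply_gen hgen hdvd
  have hlK : ∀ c : C, (c : G) ∈ K → l c = 1 := fun c hc => by
    show monoidHomOfForallMemZpowers hgen hdvd (π c) = 1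
    rw [show π c = 1 from (QuotientGroup.eq_one_iff _).mpr (mem_subgroupOf.mpr hc), map_one]
  have hlpow : ∀ (c : C) (k : G) (j : ℕ), k ∈ K → (c : G) = k * gen e ^ j → l c = u ^ j := by
    intro c k j hk hc
    have h1 : c = ⟨k, hKC hk⟩ * gC ^ j := Subtype.ext (by simpa [gC] using hc)
    rw [h1, map_mul, hlK _ hk, one_mul, map_pow, hl]
  refine ⟨l, by rw [show (⟨gen e, gen_mem_centralizer e hD⟩ : C) = gC from rfl, hl]; rfl, fun c hc => ?_, ?_⟩
  · obtain ⟨k, hk, j, hj⟩ := hdec c c.2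
    have hj4 : ¬ 4 ∣ j := by
      rintro ⟨i, rfl⟩
      exact hc (by rw [hlpow c k _ hk hj, pow_mul, hu4, one_pow])
    have h1 : c = ⟨k, hKC hk⟩ * gC ^ j := Subtype.ext (by simpa [gC] using hj)
    have h2 : π c = π gC ^ j := by
      rw [h1, map_mul, show π ⟨k, hKC hk⟩ = 1 from (QuotientGroup.eq_one_iff _).mpr (mem_subgroupOf.mpr hk),
        one_mul, map_pow]
    refine (card_D_dvd_of e hD hj4).trans ?_
    rw [Subgroup.orderOf_coe]
    refine dvd_trans (dvd_of_eq ?_) (orderOf_map_dvd π c)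
    have hj0 : j ≠ 0 := fun h => hj4 (h ▸ dvd_zero 4)
    rw [h2, orderOf_pow' _ hj0, orderOf_pow' _ hj0, hord, orderOf_gen e]
  · intro c c' hcc
    obtain ⟨k, hk, j, hj⟩ := hdec c c.2
    have hflip := hKN (inv_mem (S_le_normalizer e hD (flip_mem e)))
    have hk' : (flip e)⁻¹ * k * flip e ∈ K := by simpa using (hflip k).mp hk
    have h1 : ((c' * gC ^ j : C) : G) = (flip e)⁻¹ * k * flip e := by
      rw [Subgroup.coe_mul, hcc, hj, SubgroupClass.coe_pow]
      have e1 : gen e ^ j * flip e = flip e * (gen e ^ j)⁻¹ := by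
        have h2 := flip_conj_pow e j
        rw [mul_inv_eq_iff_eq_mul] at h2
        calc gen e ^ j * flip e = gen e ^ j * (flip e * gen e ^ j) * (gen e ^ j)⁻¹ := by group
          _ = gen e ^ j * ((gen e ^ j)⁻¹ * flip e) * (gen e ^ j)⁻¹ := by rw [h2]
          _ = _ := by group
      calc (flip e)⁻¹ * (k * gen e ^ j) * flip e * gen e ^ j
          = (flip e)⁻¹ * k * (gen e ^ j * flip e) * gen e ^ j := by group
        _ = _ := by rw [e1]; group
    have h3 := hlK _ (h1.symm ▸ hk')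
    rw [map_mul, map_pow, hl] at h3
    rw [hlpow c k j hk hj]
    exact eq_inv_of_mul_eq_one_left h3

/-- Commuting involutions coincide. -/
theorem involution_unique {x w : G} (hx : x * x = 1) (hx1 : x ≠ 1) (hw : w * w = 1) (hw1 : w ≠ 1)
    (hc : x * w = w * x) : x = w := by
  have h2 : ∀ y : G, y * y = 1 → IsPGroup 2 (zpowers y) := fun y hy => by
    refine IsPGroup.of_card_dvd_pow (n := 1) ?_
    rw [Nat.card_zpowers, pow_one]
    exact orderOf_dvd_of_pow_eq_one (by rw [pow_two, hy])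
  have hn : zpowers x ≤ normalizer (zpowers w : Set G) := by
    rw [zpowers_le]
    exact Subgroup.centralizer_le_normalizer _ (by
      rw [mem_centralizer_iff]
      intro g hg
      obtain ⟨i, rfl⟩ := hg
      exact (Commute.zpow_left (Commute.symm hc) i).eq)
  obtain ⟨g, hg⟩ := exists_conj_mem (S := S) ((h2 x hx).to_sup_of_normal_right' (h2 w hw) hn)
  have key : ∀ y, y * y = 1 → y ≠ 1 → y ∈ zpowers x ⊔ zpowers w →
      g * y * g⁻¹ = gen e ^ (2 ^ (n + 2)) := fun y hy hy1 hm => by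
    refine (eq_of_sq_eq_one e (hg y hm) ?_).resolve_left (fun h => hy1 (conj_eq_one_iff.mp h))
    calc g * y * g⁻¹ * (g * y * g⁻¹) = g * (y * y) * g⁻¹ := by group
      _ = 1 := by rw [hy]; group
  exact mul_left_cancel (mul_right_cancel ((key x hx hx1 (mem_sup_left (mem_zpowers x))).trans
    (key w hw hw1 (mem_sup_right (mem_zpowers w))).symm))

theorem isConj_involution {x : G} (hx : orderOf x = 2) : IsConj (gen e ^ (2 ^ (n + 2))) x := by
  have hR : IsPGroup 2 (zpowers x) := IsPGroup.of_card (n := 1) (by rw [Nat.card_zpowers, hx, pow_one])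
  obtain ⟨g, hg⟩ := exists_conj_mem (S := S) hR
  refine (isConj_iff.mpr ⟨g, ?_⟩ : IsConj x _).symm
  have hxx : x * x = 1 := by rw [← pow_two, ← hx, pow_orderOf_eq_one]
  refine (eq_of_sq_eq_one e (hg x (mem_zpowers x)) ?_).resolve_left fun h => ?_
  · calc g * x * g⁻¹ * (g * x * g⁻¹) = g * (x * x) * g⁻¹ := by group
      _ = 1 := by rw [hxx]; group
  · rw [conj_eq_one_iff.mp h, orderOf_one] at hx
    norm_num at hx

/-- The two characters of the Brauer–Suzuki argument. -/
theorem exists_pair [Fintype G] :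
    ∃ χ₁ χ₂ : G → ℂ, Cfsg.IsIrrCharacter G χ₁ ∧ Cfsg.IsIrrCharacter G χ₂ ∧ χ₁ ≠ (fun _ => 1) ∧
      χ₂ ≠ (fun _ => 1) ∧ χ₁ 1 = χ₂ 1 + 1 ∧ (∀ g : G, ¬ 4 ∣ orderOf g → χ₁ g - χ₂ g = 1) ∧
      χ₂ (gen e ^ 2) - χ₁ (gen e ^ 2) = 3 := by
  classical
  obtain ⟨D, hD⟩ : ∃ D : Subgroup G, D = ⁅(S : Subgroup G), (S : Subgroup G)⁆ := ⟨_, rfl⟩
  set C := centralizer (D : Set G)
  obtain ⟨l, hlI, hlX, hlflip⟩ : ∃ l : C →* ℂˣ,
      (l ⟨gen e, gen_mem_centralizer e hD⟩ : ℂ) = Complex.I ∧
      (∀ c : C, l c ≠ 1 → Nat.card D ∣ orderOf (c : G)) ∧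
      (∀ c c' : C, (c' : G) = (flip e)⁻¹ * c * flip e → l c' = (l c)⁻¹) := exists_lambda e hD
  let μ : C → ℂ := fun c => 1 - (l c : ℂ)
  let Θ := Cfsg.indFun C μ
  have hμX : ∀ c : C, μ c ≠ 0 → Nat.card D ∣ orderOf (c : G) := fun c hc =>
    hlX c fun h => hc (by simp [μ, h])
  have hΘ : ∀ c : C, Nat.card D ∣ orderOf (c : G) → Θ c = 2 - (l c : ℂ) - (((l c)⁻¹ : ℂˣ) : ℂ) := by
    intro c hc
    have hxC : (flip e)⁻¹ * c * flip e ∈ C := by
      rw [mem_centralizer_iff]
      intro d hd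
      have hd' : flip e * d * (flip e)⁻¹ ∈ D := (S_le_normalizer e hD (flip_mem e) d).mp hd
      have := mem_centralizer_iff.mp c.2 _ hd'
      calc d * ((flip e)⁻¹ * c * flip e) = (flip e)⁻¹ * (flip e * d * (flip e)⁻¹ * c) * flip e := by group
        _ = (flip e)⁻¹ * (c * (flip e * d * (flip e)⁻¹)) * flip e := by rw [this]
        _ = _ := by group
    have hflipC : flip e ∉ C := fun h => by
      have := mem_zpowers_of_centralizes e hD (flip_mem e) h
      have h2 : flip e * gen e * (flip e)⁻¹ = gen e := by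
        obtain ⟨i, hi⟩ := this
        rw [← hi, mul_inv_eq_iff_eq_mul]
        exact ((Commute.refl (gen e)).zpow_left i).eq
      rw [flip_conj, inv_eq_iff_mul_eq_one, ← pow_two] at h2
      exact gen_pow_ne_one e (j := 2) two_pos (by
        have : 2 ^ 3 ≤ 2 ^ (n + 3) := Nat.pow_le_pow_right two_pos (by omega)
        omega) h2
    have hterm : ∀ g : G, Cfsg.extendByZero C μ (g⁻¹ * c * g) =
        (if g ∈ C then μ c else 0) + (if (flip e)⁻¹ * g ∈ C then 1 - (((l c)⁻¹ : ℂˣ) : ℂ) else 0) := by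
      intro g
      by_cases h1 : g ∈ C
      · have h2 : ¬ (flip e)⁻¹ * g ∈ C := fun h => hflipC (by
          have := C.mul_mem h1 (C.inv_mem h)
          simpa using this)
        rw [if_pos h1, if_neg h2, add_zero,
          CfsgLib.Char.extendByZero_of_mem μ (C.mul_mem (C.mul_mem (C.inv_mem h1) c.2) h1)]
        have : (⟨g⁻¹ * c * g, C.mul_mem (C.mul_mem (C.inv_mem h1) c.2) h1⟩ : C) =
            (⟨g, h1⟩ : C)⁻¹ * c * ⟨g, h1⟩ := rfl
        simp only [μ, this, map_mul, map_inv, inv_mul_cancel_comm]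
      rw [if_neg h1, zero_add]
      by_cases h2 : (flip e)⁻¹ * g ∈ C
      · rw [if_pos h2]
        have hm : g⁻¹ * c * g ∈ C := by
          have := C.mul_mem (C.mul_mem (C.inv_mem h2) hxC) h2
          convert this using 1
          group
        rw [CfsgLib.Char.extendByZero_of_mem μ hm]
        have : (⟨g⁻¹ * c * g, hm⟩ : C) = (⟨_, h2⟩ : C)⁻¹ * ⟨_, hxC⟩ * ⟨_, h2⟩ :=
          Subtype.ext (by push_cast; group)
        simp only [μ, this, map_mul, map_inv, inv_mul_cancel_comm, hlflip c ⟨_, hxC⟩ rfl]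
      · rw [if_neg h2]
        by_cases hm : g⁻¹ * c * g ∈ C
        · rw [CfsgLib.Char.extendByZero_of_mem μ hm]
          by_contra hne
          have hN := mem_normalizer_of_conj e hD c.2 hc
            (show g⁻¹ * c * g⁻¹⁻¹ ∈ C by rwa [inv_inv])
          rcases normalizer_cases e hD (by simpa using inv_mem hN : g ∈ normalizer (D : Set G)) with h | h
          · exact h1 h
          · exact h2 h
        · exact CfsgLib.Char.extendByZero_of_not_mem μ hm
    show Cfsg.indFun C μ c = _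
    rw [Cfsg.indFun, Finset.sum_congr rfl (fun g _ => hterm g), Finset.sum_add_distrib, ← Finset.sum_filter,
      ← Finset.sum_filter, Finset.sum_const, Finset.sum_const, nsmul_eq_mul, nsmul_eq_mul]
    have hc1 : (Finset.univ.filter fun g : G => g ∈ C).card = Nat.card C := by
      rw [Nat.card_eq_fintype_card, Fintype.card_subtype]
    have hc2 : (Finset.univ.filter fun g : G => (flip e)⁻¹ * g ∈ C).card = Nat.card C := by
      rw [← Fintype.card_subtype, ← Nat.card_eq_fintype_card]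
      exact Nat.card_congr ((Equiv.mulLeft (flip e)⁻¹).subtypeEquiv fun g => Iff.rfl)
    rw [hc1, hc2, ← mul_add, ← mul_assoc, inv_mul_cancel₀ (Nat.cast_ne_zero.mpr Nat.card_pos.ne'), one_mul]
    simp only [μ]
    ring
  have hlin : ∀ f f' : C →* ℂˣ, Cfsg.classInner (fun c => (f c : ℂ)) (fun c => (f' c : ℂ)) =
      if f = f' then 1 else 0 := fun f f' => by
    rw [CfsgLib.Char.irr_classInner (CfsgLib.Char.isIrrCharacter_linear f)
      (CfsgLib.Char.isIrrCharacter_linear f')]
    exact if_congr ⟨fun h => MonoidHom.ext fun w => Units.ext (congr_fun h w), fun h => h ▸ rfl⟩ rfl rfl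
  have hl1 : l ≠ 1 := fun h => by
    rw [h] at hlI
    exact absurd hlI (by simp [Complex.ext_iff])
  have hl2 : l ≠ l⁻¹ := fun h => by
    have := DFunLike.congr_fun h ⟨gen e, gen_mem_centralizer e hD⟩
    rw [MonoidHom.inv_apply] at this
    have h2 := congr_arg Units.val this
    rw [Units.val_inv_eq_inv_val, hlI, Complex.inv_I] at h2
    simp [Complex.ext_iff] at h2
    norm_num at h2
  have hμeq : μ = (fun c => ((1 : C →* ℂˣ) c : ℂ)) - fun c => (l c : ℂ) := by funext c; simp [μ]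
  have hΘ1 : Cfsg.classInner Θ (fun _ => 1) = 1 := by
    rw [CfsgLib.Char.frobenius_reciprocity C μ _ (fun _ _ => rfl), hμeq,
      show (fun _ : C => (1 : ℂ)) = fun c => ((1 : C →* ℂˣ) c : ℂ) from funext fun c => by simp,
      CfsgLib.Char.classInner_sub_left, hlin, hlin, if_pos rfl, if_neg hl1, sub_zero]
  have hΘgen : Cfsg.IsGeneralizedCharacter G Θ := CfsgLib.Char.isGeneralized_indFun C (by
    rw [hμeq]
    exact ⟨_, _, CfsgLib.Char.irr_isCharacter (CfsgLib.Char.isIrrCharacter_linear _),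
      CfsgLib.Char.irr_isCharacter (CfsgLib.Char.isIrrCharacter_linear l), rfl⟩)
  have hΘΘ : Cfsg.classInner Θ Θ = 3 := by
    rw [CfsgLib.Char.frobenius_reciprocity C μ Θ (CfsgLib.Char.indFun_isClassFunction C μ)]
    have e1 : Cfsg.classInner μ (fun c : C => Θ c) = Cfsg.classInner μ
        ((2 : ℂ) • (fun c => ((1 : C →* ℂˣ) c : ℂ)) - (fun c => (l c : ℂ)) - fun c => (l⁻¹ c : ℂ)) := by
      rw [Cfsg.classInner, Cfsg.classInner]
      congr 1
      refine Finset.sum_congr rfl fun c _ => ?_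
      by_cases hc : μ c = 0
      · rw [hc, zero_mul, zero_mul]
      · rw [hΘ c (hμX c hc)]; simp [MonoidHom.inv_apply]
    rw [e1, hμeq]
    simp only [CfsgLib.Char.classInner_sub_left, CfsgLib.Char.classInner_sub_right,
      CfsgLib.Char.classInner_smul_right, hlin, map_ofNat]
    rw [if_neg hl1.symm, if_neg hl1, if_neg hl2,
      if_neg (fun h : (1 : C →* ℂˣ) = l⁻¹ => hl1 (MonoidHom.ext fun w => by simpa using (DFunLike.congr_fun h w).symm))]
    norm_num
  have h0 : Θ 1 = 0 := by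
    show Cfsg.indFun C μ 1 = 0
    rw [CfsgLib.Char.indFun_apply_one]
    simp [μ]
  have hone : Cfsg.IsIrrCharacter G (fun _ => (1 : ℂ)) := CfsgLib.Char.isIrrCharacter_one
  have hnorm : Cfsg.classInner (Θ - fun _ => 1) (Θ - fun _ => 1) = 2 := by
    have sw : Cfsg.classInner (fun _ => (1 : ℂ)) Θ = 1 := by
      rw [← CfsgLib.Char.classInner_conj_symm, hΘ1, map_one]
    simp only [CfsgLib.Char.classInner_sub_left, CfsgLib.Char.classInner_sub_right, hΘΘ, hΘ1,
      CfsgLib.Char.irr_classInner_self hone, sw]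
    norm_num
  obtain ⟨χ, ψ, ε, δ, hχ, hψ, hne, hε, hδ, hdec⟩ := CfsgLib.Clifford.exists_norm_two
    (CfsgLib.Char.isGeneralized_sub hΘgen
      (CfsgLib.Char.isGeneralized_of_isCharacter CfsgLib.Char.isCharacter_one)) hnorm
  have horth : ε * (if χ = (fun _ => 1) then 1 else 0) + δ * (if ψ = (fun _ => 1) then 1 else 0) = (0 : ℂ) := by
    rw [← CfsgLib.Char.irr_classInner hχ hone, ← CfsgLib.Char.irr_classInner hψ hone,
      ← CfsgLib.Char.classInner_smul_left, ← CfsgLib.Char.classInner_smul_left,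
      ← CfsgLib.Char.classInner_add_left, ← hdec, CfsgLib.Char.classInner_sub_left, hΘ1,
      CfsgLib.Char.irr_classInner_self hone, sub_self]
  have hχ1 : χ ≠ fun _ => 1 := fun h => by
    rw [if_pos h, if_neg (fun h' => hne (h.trans h'.symm)), mul_one, mul_zero, add_zero] at horth
    rcases hε with rfl | rfl <;> norm_num at horth
  have hψ1 : ψ ≠ fun _ => 1 := fun h => by
    rw [if_pos h, if_neg (fun h' => hne (h'.trans h.symm)), mul_one, mul_zero, zero_add] at horth
    rcases hδ with rfl | rfl <;> norm_num at horth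
  have hΘeq : ∀ g, Θ g = 1 + ε * χ g + δ * ψ g := fun g => by
    have := congr_fun hdec g
    simp only [Pi.sub_apply, Pi.add_apply, Pi.smul_apply, smul_eq_mul] at this
    linear_combination this
  have hΘ0 : ∀ g : G, ¬ 4 ∣ orderOf g → Θ g = 0 := by
    intro g hg
    show Cfsg.indFun C μ g = 0
    rw [Cfsg.indFun, Finset.sum_eq_zero fun x _ => ?_, mul_zero]
    by_cases hm : x⁻¹ * g * x ∈ C
    · rw [CfsgLib.Char.extendByZero_of_mem μ hm]
      by_contra hne
      refine hg (dvd_trans ?_ ((hμX _ hne).trans (dvd_of_eq ?_)))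
      · rw [card_D e hD]; exact (pow_dvd_pow 2 (show 2 ≤ n + 2 by omega) : 2 ^ 2 ∣ 2 ^ (n + 2))
      · show orderOf (x⁻¹ * g * x) = orderOf g
        rw [show x⁻¹ * g * x = MulAut.conj x⁻¹ g by simp, MulEquiv.orderOf_eq]
    · exact CfsgLib.Char.extendByZero_of_not_mem μ hm
  have hd2 : Θ (gen e ^ 2) = 4 := by
    have hmem : gen e ^ 2 ∈ C := pow_mem (gen_mem_centralizer e hD) 2
    rw [show Θ (gen e ^ 2) = Θ ((⟨_, hmem⟩ : C) : G) from rfl,
      hΘ _ (card_D_dvd_of e hD (j := 2) (by norm_num))]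
    have : l ⟨_, hmem⟩ = l ⟨gen e, gen_mem_centralizer e hD⟩ ^ 2 := by rw [← map_pow]; rfl
    rw [this, Units.val_inv_eq_inv_val, Units.val_pow_eq_pow_val, hlI, Complex.I_sq]
    norm_num
  obtain ⟨a, ha, hae⟩ := CfsgLib.Char.irr_apply_one_pos hχ
  obtain ⟨b, hb, hbe⟩ := CfsgLib.Char.irr_apply_one_pos hψ
  have hdeg := hΘeq 1
  rw [h0, hae, hbe] at hdeg
  rcases hε with rfl | rfl <;> rcases hδ with rfl | rfl
  · exfalso
    have : ((1 + a + b : ℕ) : ℂ) = 0 := by push_cast; linear_combination -hdeg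
    norm_cast at this
    omega
  · refine ⟨ψ, χ, hψ, hχ, hψ1, hχ1, by rw [hae, hbe]; linear_combination hdeg, fun g hg => ?_, ?_⟩
    · have := hΘeq g; rw [hΘ0 g hg] at this; linear_combination this
    · have := hΘeq (gen e ^ 2); rw [hd2] at this; linear_combination -this
  · refine ⟨χ, ψ, hχ, hψ, hχ1, hψ1, by rw [hae, hbe]; linear_combination hdeg, fun g hg => ?_, ?_⟩
    · have := hΘeq g; rw [hΘ0 g hg] at this; linear_combination this
    · have := hΘeq (gen e ^ 2); rw [hd2] at this; linear_combination -this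
  · exfalso
    have : ((a + b : ℕ) : ℂ) = ((1 : ℕ) : ℂ) := by push_cast; linear_combination hdeg
    norm_cast at this
    omega

/-- The normal subgroup of the Brauer–Suzuki argument. -/
theorem exists_normal [Fintype G] :
    ∃ M : Subgroup G, M.Normal ∧ gen e ^ (2 ^ (n + 2)) ∈ M ∧ gen e ^ 2 ∉ M ∧ ¬ commutator G ≤ M := by
  classical
  obtain ⟨χ₁, χ₂, h₁, h₂, -, -, hdeg, hoff, h3⟩ := exists_pair e
  set t := gen e ^ (2 ^ (n + 2)) with ht
  have hto : orderOf t = 2 := orderOf_central e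
  let A := Finset.univ.filter (IsConj t)
  have hA : ∀ x ∈ A, x * x = 1 ∧ x ≠ 1 := by
    intro x hx
    obtain ⟨g, rfl⟩ := isConj_iff.mp (Finset.mem_filter.mp hx).2
    refine ⟨?_, fun h => ?_⟩
    · rw [← pow_two, conj_pow, ← hto, pow_orderOf_eq_one]; simp
    · rw [conj_eq_one_iff] at h; rw [h, orderOf_one] at hto; norm_num at hto
  have hxy : ∀ x ∈ A, ∀ y ∈ A, ¬ 4 ∣ orderOf (x * y) := by
    intro x hx y hy h4
    obtain ⟨hxx, hx1⟩ := hA x hx
    obtain ⟨hyy, hy1⟩ := hA y hy
    set g := x * y with hg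
    have hg0 := orderOf_pos g
    set w := g ^ (orderOf g / 2)
    have hwo : orderOf w = 2 := orderOf_pow_orderOf_div hg0.ne' (dvd_trans (by norm_num) h4)
    have hww : w * w = 1 := by rw [← pow_two, ← hwo, pow_orderOf_eq_one]
    have hw1 : w ≠ 1 := fun h => by rw [h, orderOf_one] at hwo; norm_num at hwo
    have hxg : x * g * x⁻¹ = g⁻¹ := by
      rw [inv_eq_of_mul_eq_one_right hxx, hg, mul_inv_rev, inv_eq_of_mul_eq_one_right hxx,
        inv_eq_of_mul_eq_one_right hyy, ← mul_assoc, hxx, one_mul]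
    have hxw : x * w = w * x := by
      rw [← mul_inv_eq_iff_eq_mul, ← conj_pow, hxg, inv_pow]
      exact inv_eq_of_mul_eq_one_right hww
    have hxeq := involution_unique e hxx hx1 hww hw1 hxw
    have hcom : x * g = g * x := by rw [hxeq]; exact ((Commute.refl g).pow_left _).eq
    have hg2 : g ^ 2 = 1 := by
      rw [mul_inv_eq_iff_eq_mul, hcom] at hxg
      rw [pow_two]
      exact eq_inv_iff_mul_eq_one.mp (mul_right_cancel hxg)
    have := Nat.le_of_dvd (by norm_num) (h4.trans (orderOf_dvd_of_pow_eq_one hg2))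
    omega
  have hone : ∀ x ∈ A, ∀ y ∈ A, χ₁ (x * y) - χ₂ (x * y) = 1 := fun x hx y hy => hoff _ (hxy x hx y hy)
  have hsum : ∑ x ∈ A, ∑ y ∈ A, χ₁ (x * y) - ∑ x ∈ A, ∑ y ∈ A, χ₂ (x * y) = (A.card : ℂ) * A.card := by
    rw [← Finset.sum_sub_distrib, Finset.sum_congr rfl fun x hx => by
      rw [← Finset.sum_sub_distrib, Finset.sum_congr rfl (hone x hx)]]
    simp
  rw [sum_class_mul_eq h₁, sum_class_mul_eq h₂] at hsum
  have hft := hoff t (by rw [hto]; norm_num)
  obtain ⟨d, hd, hde⟩ := CfsgLib.Char.irr_apply_one_pos h₂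
  have hdne : (d : ℂ) ≠ 0 := Nat.cast_ne_zero.mpr hd.ne'
  have hd1 : (d : ℂ) + 1 ≠ 0 := by exact_mod_cast Nat.succ_ne_zero d
  have hAne : ((A.card : ℕ) : ℂ) ≠ 0 := by
    refine Nat.cast_ne_zero.mpr (Finset.card_ne_zero.mpr ⟨t, ?_⟩)
    exact Finset.mem_filter.mpr ⟨Finset.mem_univ _, IsConj.refl t⟩
  rw [hdeg, hde, show χ₁ t = χ₂ t + 1 by linear_combination hft] at hsum
  have h5 : (χ₂ t + 1) * (χ₂ t + 1) / ((d : ℂ) + 1) - χ₂ t * χ₂ t / d = 1 := by
    refine mul_left_cancel₀ (mul_ne_zero hAne hAne) ?_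
    rw [mul_one, mul_sub]
    exact hsum
  field_simp at h5
  have h6 : ((d : ℂ) - χ₂ t) ^ 2 = 0 := by linear_combination -h5
  have he : χ₂ t = d := by
    have := pow_eq_zero_iff two_ne_zero |>.mp h6
    linear_combination -this
  have ht1 : χ₁ t = χ₁ 1 := by rw [hdeg, hde]; linear_combination hft + he
  obtain ⟨k, ρ, hρ, rfl⟩ := h₁
  refine ⟨(MonoidHom.ker ρ : Subgroup G), inferInstance, (CfsgLib.Char.mem_ker_iff_char ρ t).mpr ht1,
    fun h => ?_, fun h => ?_⟩
  · have e1 := (CfsgLib.Char.mem_ker_iff_char ρ (gen e ^ 2)).mp h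
    have h7 := CfsgLib.Clifford.re_char_le_one (CfsgLib.Char.irr_isCharacter h₂) (gen e ^ 2)
    rw [e1, hdeg, hde] at h3
    rw [hde, show χ₂ (gen e ^ 2) = (d : ℂ) + 4 by linear_combination h3] at h7
    norm_num at h7
  · have hab : ∀ a b : G ⧸ (MonoidHom.ker ρ : Subgroup G), a * b = b * a := by
      intro a b
      obtain ⟨a, rfl⟩ := QuotientGroup.mk_surjective a
      obtain ⟨b, rfl⟩ := QuotientGroup.mk_surjective b
      rw [← QuotientGroup.mk_mul, ← QuotientGroup.mk_mul, QuotientGroup.eq,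
        show (a * b)⁻¹ * (b * a) = ⁅b⁻¹, a⁻¹⁆ by simp [commutatorElement_def, mul_assoc]]
      exact h (by rw [commutator_def]; exact commutator_mem_commutator (mem_top _) (mem_top _))
    obtain ⟨ψ, hψ, hψe⟩ := CfsgLib.Char.isIrr_quotient_lift (MonoidHom.ker ρ : Subgroup G)
      (χ := ρ.character) ⟨k, ρ, hρ, rfl⟩ (fun x hx => (CfsgLib.Char.mem_ker_iff_char ρ x).mp hx)
    have := CfsgLib.Char.irr_degree_one_of_comm hab hψ
    rw [hψe, Function.comp_apply, map_one, this, hde] at hdeg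
    have h8 : ((d + 1 : ℕ) : ℂ) = ((1 : ℕ) : ℂ) := by push_cast; linear_combination -hdeg
    norm_cast at h8
    omega

/-- The subgroup generated by the involutions. -/
theorem isCyclic_closure_sylow [Fintype G]
    (Q : Sylow 2 ↥(Subgroup.closure {g : G | orderOf g = 2})) : IsCyclic Q := by
  classical
  obtain ⟨M, hM, htM, hdM, -⟩ := exists_normal e
  let O := Subgroup.closure {g : G | orderOf g = 2}
  have hOM : O ≤ M := by
    rw [Subgroup.closure_le]
    intro x hx
    obtain ⟨g, rfl⟩ := isConj_iff.mp (isConj_involution e hx)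
    exact hM.conj_mem _ htM g
  have hQ2 : IsPGroup 2 ((Q : Subgroup O).map O.subtype) := Q.2.map _
  obtain ⟨g, hg⟩ := exists_conj_mem (S := S) hQ2
  have hsub : ((Q : Subgroup O).map O.subtype).map (MulAut.conj g).toMonoidHom ≤ zpowers (gen e) := by
    rintro _ ⟨x, hx, rfl⟩
    have hxO : x ∈ O := map_subtype_le _ hx
    rcases mem_cases e (hg x hx) with ⟨j, hj⟩ | ⟨j, hj⟩
    · show g * x * g⁻¹ ∈ zpowers (gen e)
      rw [hj]; exact pow_mem (mem_zpowers _) j
    · exfalso
      have hsM : flip e * gen e ^ j ∈ M := hj ▸ hM.conj_mem _ (hOM hxO) g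
      have := mul_mem (hM.conj_mem _ hsM (gen e)) (inv_mem hsM)
      refine hdM ?_
      convert this using 1
      have h2 : flip e * (gen e)⁻¹ * (flip e)⁻¹ = gen e := by
        rw [← conj_inv, flip_conj, inv_inv]
      calc gen e ^ 2 = gen e * (flip e * (gen e)⁻¹ * (flip e)⁻¹) := by rw [h2, pow_two]
        _ = _ := by group
  have h1 : IsCyclic (((Q : Subgroup O).map O.subtype).map (MulAut.conj g).toMonoidHom) :=
    isCyclic_of_injective (Subgroup.inclusion hsub) (Subgroup.inclusion_injective hsub)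
  have h2 : IsCyclic ((Q : Subgroup O).map O.subtype) :=
    isCyclic_of_injective (((Q : Subgroup O).map O.subtype).equivMapOfInjective
      (MulAut.conj g).toMonoidHom (MulEquiv.injective (MulAut.conj g))).toMonoidHom (MulEquiv.injective _)
  exact isCyclic_of_injective ((Q : Subgroup O).equivMapOfInjective _ O.subtype_injective).toMonoidHom
    (MulEquiv.injective _)

/-- Brauer–Suzuki: the centre has order two when `O(G) = 1`. -/
theorem natCard_center [Fintype G]
    (hO : ∀ N : Subgroup G, N.Normal → Odd (Nat.card N) → N = ⊥) :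
    Nat.card (center G) = 2 := by
  classical
  set t := gen e ^ (2 ^ (n + 2)) with ht
  have hto : orderOf t = 2 := orderOf_central e
  set O := Subgroup.closure {g : G | orderOf g = 2}
  have hOn : O.Normal := ⟨fun x hx g => by
    induction hx using Subgroup.closure_induction with
    | mem y hy => exact subset_closure (show orderOf (MulAut.conj g y) = 2 by rw [MulEquiv.orderOf_eq]; exact hy)
    | one => simp
    | mul y z _ _ hy hz => exact (show g * (y * z) * g⁻¹ = g * y * g⁻¹ * (g * z * g⁻¹) by group) ▸ mul_mem hy hz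
    | inv y _ hy => exact (show g * y⁻¹ * g⁻¹ = (g * y * g⁻¹)⁻¹ by group) ▸ inv_mem hy⟩
  have htO : t ∈ O := subset_closure hto
  obtain ⟨Q⟩ : Nonempty (Sylow 2 O) := inferInstance
  have hQc := isCyclic_closure_sylow e Q
  have h2O : (Nat.card O).minFac = 2 := by
    rw [Nat.minFac_eq_two_iff, ← hto]
    exact O.orderOf_dvd_natCard htO
  set f := MonoidHom.transferSylow Q (hQc.normalizer_le_centralizer h2O)
  have hc : IsComplement' f.ker (Q : Subgroup O) := IsCyclic.isComplement' h2O hQc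
  have hodd : Odd (Nat.card f.ker) := by
    rw [← hc.index_eq_card, Nat.odd_iff]
    exact Nat.two_dvd_ne_zero.mp Q.not_dvd_index
  have hchar : ∀ x : O, Odd (orderOf x) → x ∈ f.ker := by
    intro x hx
    obtain ⟨k, hk⟩ := Q.2 (f x)
    exact MonoidHom.mem_ker.mpr (orderOf_eq_one_iff.mp (Nat.eq_one_of_dvd_coprimes
      (Nat.Coprime.pow_left k (Nat.coprime_two_left.mpr hx)) (orderOf_dvd_of_pow_eq_one hk)
      (orderOf_map_dvd f x)))
  have hKbot : f.ker.map O.subtype = ⊥ := by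
    refine hO _ ⟨?_⟩ (by rwa [card_map_of_injective O.subtype_injective])
    rintro _ ⟨x, hx, rfl⟩ g
    refine ⟨⟨_, hOn.conj_mem _ x.2 g⟩, hchar _ ?_, rfl⟩
    rw [← Subgroup.orderOf_coe]
    show Odd (orderOf (MulAut.conj g (x : G)))
    rw [MulEquiv.orderOf_eq, Subgroup.orderOf_coe]
    exact hodd.of_dvd_nat (f.ker.orderOf_dvd_natCard hx)
  have hinj : Function.Injective f := by
    rw [← MonoidHom.ker_eq_bot_iff]
    exact (map_eq_bot_iff_of_injective _ O.subtype_injective).mp hKbot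
  have hOc : IsCyclic O := isCyclic_of_injective f hinj
  have huniq : ∀ x : G, orderOf x = 2 → x = t := by
    intro x hx
    have := eq_of_card_eq_of_isCyclic (A := O) (zpowers_le.mpr (subset_closure hx : x ∈ O))
      (zpowers_le.mpr htO) (by rw [Nat.card_zpowers, Nat.card_zpowers, hx, hto])
    have hm : x ∈ zpowers t := this ▸ mem_zpowers x
    have hcases : x ∈ ({1, t} : Set G) := by
      obtain ⟨i, rfl⟩ := hm
      rcases Int.emod_two_eq_zero_or_one i with h | h
      · left; show t ^ i = 1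
        rw [← zpow_mod_orderOf, hto]; norm_num [h]
      · right; show t ^ i = t
        rw [← zpow_mod_orderOf, hto]; norm_num [h]
    rcases hcases with h | h
    · rw [h, orderOf_one] at hx; norm_num at hx
    · exact h
  have htZ : t ∈ center G := by
    rw [mem_center_iff]
    intro g
    have := huniq (g * t * g⁻¹) (by
      show orderOf (MulAut.conj g t) = 2
      rw [MulEquiv.orderOf_eq]; exact hto)
    exact mul_inv_eq_iff_eq_mul.mp this
  have hZ2 : IsPGroup 2 (center G) := by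
    obtain ⟨k, hk⟩ : ∃ k, Nat.card (center G) = 2 ^ k := by
      refine ⟨_, Nat.eq_prime_pow_of_unique_prime_dvd Nat.card_pos.ne' fun {p} hp hpd => ?_⟩
      by_contra hp2
      have := Fact.mk hp
      obtain ⟨x, hx⟩ := exists_prime_orderOf_dvd_card' p hpd
      have hbot := hO (zpowers (x : G)) ⟨fun y hy g => by
          rwa [mem_center_iff.mp (zpowers_le.mpr x.2 hy) g, mul_inv_cancel_right]⟩
        (by rw [Nat.card_zpowers, Subgroup.orderOf_coe, hx]; exact hp.odd_of_ne_two hp2)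
      rw [zpowers_eq_bot, OneMemClass.coe_eq_one] at hbot
      rw [hbot, orderOf_one] at hx
      exact hp.one_lt.ne hx
    exact IsPGroup.of_card hk
  have hsub : center G ≤ zpowers t := by
    intro z hz
    obtain ⟨g, hg⟩ := exists_conj_mem (S := S) hZ2
    have hzS : z ∈ (S : Subgroup G) := by
      have := hg z hz
      rwa [mem_center_iff.mp hz g, mul_inv_cancel_right] at this
    rcases mem_cases e hzS with ⟨j, rfl⟩ | ⟨j, rfl⟩
    · have h1 := flip_conj_pow e j
      rw [mem_center_iff.mp hz (flip e), mul_inv_cancel_right, eq_inv_iff_mul_eq_one] at h1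
      rcases eq_of_sq_eq_one e (pow_mem (gen_mem e) j) h1 with h | h
      · rw [h]; exact one_mem _
      · rw [h]; exact mem_zpowers _
    · exfalso
      have h1 := mem_center_iff.mp hz (gen e)
      have h2 : flip e * gen e * (flip e)⁻¹ = gen e := by
        rw [mul_inv_eq_iff_eq_mul]
        refine mul_right_cancel (b := gen e ^ j) ?_
        rw [mul_assoc (gen e) (flip e), h1, mul_assoc, mul_assoc, ← pow_succ, ← pow_succ']
      rw [flip_conj, inv_eq_iff_mul_eq_one, ← pow_two] at h2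
      exact gen_pow_ne_one e (j := 2) two_pos (by
        have : 2 ^ 3 ≤ 2 ^ (n + 3) := Nat.pow_le_pow_right two_pos (by omega)
        omega) h2
  rw [le_antisymm hsub (zpowers_le.mpr htZ), Nat.card_zpowers, hto]

end CfsgLib.Clifford.Quat
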