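import Mathlib
import Cfsg.Agent.Lib.Char.Induce
import Cfsg.Agent.Lib.Char.Orthogonality

/-!
# Induction of class functions supported on a trivial-intersection set
-/

set_option autoImplicit false

open scoped ComplexConjugate

namespace CfsgLib.Clifford

variable {G : Type*} [Group G] [Fintype G] {N : Subgroup G} {V : Set G}

/-- The induced function agrees with `f` on the TI set. -/
theorem indFun_apply_of_TI (hTI : ∀ g : G, ∀ v ∈ V, g * v * g⁻¹ ∈ V → g ∈ N) {f : N → ℂ}
    (hf : Cfsg.IsClassFunction N f) (hfV : ∀ x : N, f x ≠ 0 → (x : G) ∈ V) (x : N)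
    (hx : (x : G) ∈ V) : Cfsg.indFun N f x = f x := by
  classical
  have hterm : ∀ g : G, Cfsg.extendByZero N f (g⁻¹ * x * g) = if g ∈ N then f x else 0 := by
    intro g
    by_cases hg : g ∈ N
    · rw [if_pos hg, CfsgLib.Char.extendByZero_of_mem f (N.mul_mem (N.mul_mem (N.inv_mem hg) x.2) hg)]
      have := hf x ⟨g⁻¹, N.inv_mem hg⟩
      convert this using 2
      exact Subtype.ext (by simp)
    · rw [if_neg hg]
      by_cases hm : g⁻¹ * (x : G) * g ∈ N
      · rw [CfsgLib.Char.extendByZero_of_mem f hm]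
        by_contra hne
        have h1 := hTI g⁻¹ x hx (by simpa using hfV _ hne)
        exact hg (by simpa using N.inv_mem h1)
      · exact CfsgLib.Char.extendByZero_of_not_mem f hm
  rw [Cfsg.indFun, Finset.sum_congr rfl (fun g _ => hterm g), ← Finset.sum_filter, Finset.sum_const,
    nsmul_eq_mul, ← mul_assoc]
  have hc : (Finset.univ.filter fun g : G => g ∈ N).card = Nat.card N := by
    rw [Nat.card_eq_fintype_card, Fintype.card_subtype]
  rw [hc, inv_mul_cancel₀ (Nat.cast_ne_zero.mpr Nat.card_pos.ne'), one_mul]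

/-- Induction from the normalizer of a TI set is an isometry on functions supported there. -/
theorem classInner_indFun_of_TI [Fintype N] (hTI : ∀ g : G, ∀ v ∈ V, g * v * g⁻¹ ∈ V → g ∈ N)
    (f : N → ℂ) {f' : N → ℂ} (hf' : Cfsg.IsClassFunction N f')
    (hfV : ∀ x : N, f x ≠ 0 → (x : G) ∈ V) (hf'V : ∀ x : N, f' x ≠ 0 → (x : G) ∈ V) :
    Cfsg.classInner (Cfsg.indFun N f) (Cfsg.indFun N f') = Cfsg.classInner f f' := by
  classical
  rw [CfsgLib.Char.frobenius_reciprocity N f _ (CfsgLib.Char.indFun_isClassFunction N f'),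
    Cfsg.classInner, Cfsg.classInner]
  congr 1
  refine Finset.sum_congr rfl fun x _ => ?_
  by_cases h : f x = 0
  · simp [h]
  · rw [indFun_apply_of_TI hTI hf' hf'V x (hfV x h)]

/-- The inner product of an induced function with the principal character. -/
theorem classInner_indFun_one [Fintype N] (f : N → ℂ) :
    Cfsg.classInner (Cfsg.indFun N f) (fun _ => 1) = Cfsg.classInner f (fun _ => 1) :=
  CfsgLib.Char.frobenius_reciprocity N f _ (fun _ _ => rfl)

end CfsgLib.Clifford
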