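import Cfsg.Agent.Lib.Clifford.Extension
import Cfsg.Agent.Lib.Char.Integral

/-!
# Invariant characters extend when order and index are coprime
-/

set_option autoImplicit false

namespace CfsgLib.Clifford.ExtendCoprime

open CfsgLib

universe u

theorem exists_extension {G : Type u} [Group G] [Finite G] (K : Subgroup G) [K.Normal]
    (hcop : (Nat.card K).Coprime K.index) {θ : K → ℂ} (hθ : Cfsg.IsIrrCharacter K θ)
    (hinv : ∀ (g : G) (m : K), θ (conjN g m) = θ m) :
    ∃ Θ : G → ℂ, Cfsg.IsIrrCharacter G Θ ∧ ∀ m : K, Θ m = θ m := by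
  have := Fintype.ofFinite K
  obtain ⟨n, ρ, hρ, rfl⟩ := hθ
  let lam : K →* ℂˣ := (Units.map LinearMap.det).comp (repUnits ρ)
  have hlam : ∀ m, (lam m : ℂ) = LinearMap.det (ρ m) := fun m => rfl
  have hlaminv : ∀ (g : G) (m : K), lam (conjN g m) = lam m := by
    intro g m
    have := Char.isIrrCharacter_of_rep ρ
    have hd := congr_fun (detChar_eq ρ)
    let σg : K →* K :=
      { toFun := conjN g
        map_one' := Subtype.ext (by simp)
        map_mul' := fun a b => Subtype.ext (by simp [mul_assoc]) }
    let ρg : Representation ℂ K (Fin n → ℂ) := ρ.comp σg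
    have hρg : ρg.IsIrreducible :=
      isIrreducible_of_classInner_self _ (by
        rw [show ρg.character = ρ.character from funext fun m => hinv g m]
        exact Char.irr_classInner_self this)
    have hd' := congr_fun (detChar_eq ρg) m
    rw [show ρg.character = ρ.character from funext fun m => hinv g m, hd] at hd'
    exact Units.ext hd'.symm
  obtain ⟨μ, hμ, -, -⟩ := exists_linear_extension lam hlaminv
    ((hcop.coprime_dvd_left (orderOf_dvd_natCard lam)).symm)
  refine exists_irr_extension_of_det ρ hinv μ (fun m => by rw [hμ]; exact hlam m) ?_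
  have hd := Char.degree_dvd_card ρ
  rw [Module.finrank_fin_fun] at hd
  exact (hcop.coprime_dvd_left hd).symm

end CfsgLib.Clifford.ExtendCoprime
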