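import Mathlib

/-!
# Fixed spaces of a Frobenius group acting coprimely on an elementary abelian group

Coprime representations over `ZMod p` lift to `ZMod (p ^ k)`; there the traces of the averaging
idempotents are the dimensions of the fixed spaces.
-/

namespace CfsgLib.Clifford.CoprimeTrace

open scoped Classical

/-- Reduction of an element `1 + p * Y` to a power. -/
theorem pow_eq_one_of_dvd {R : Type*} [Ring R] (p j : ℕ) (h0 : ((p : R)) ^ (j + 1) = 0) (Y : R) :
    (1 + (p : R) * Y) ^ p ^ j = 1 := by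
  have h : ((p : Polynomial ℤ)) ∣ (1 + (p : Polynomial ℤ) * Polynomial.X) - 1 :=
    ⟨Polynomial.X, by ring⟩
  obtain ⟨q, hq⟩ := dvd_sub_pow_of_dvd_sub h j
  have e := congr_arg (Polynomial.aeval Y) hq
  simp only [map_sub, map_pow, map_add, map_one, map_mul, map_natCast, Polynomial.aeval_X,
    one_pow, h0, zero_mul] at e
  exact sub_eq_zero.mp e

variable (p k : ℕ) [hp : Fact p.Prime]

theorem dvd_pow_succ : p ∣ p ^ (k + 1) := dvd_pow_self p k.succ_ne_zero

/-- Reduction modulo `p` on matrices. -/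
noncomputable def red (ι : Type*) [Fintype ι] [DecidableEq ι] :
    Matrix ι ι (ZMod (p ^ (k + 1))) →+* Matrix ι ι (ZMod p) :=
  (ZMod.castHom (dvd_pow_succ p k) (ZMod p)).mapMatrix

variable {ι : Type*} [Fintype ι] [DecidableEq ι]

theorem red_surjective : Function.Surjective (red p k ι) := by
  intro M
  have hs := ZMod.castHom_surjective (dvd_pow_succ p k)
  choose g hg using hs
  exact ⟨M.map g, by ext i j; exact hg _⟩

theorem isUnit_of_isUnit_red {M : Matrix ι ι (ZMod (p ^ (k + 1)))} (h : IsUnit (red p k ι M)) :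
    IsUnit M := by
  rw [Matrix.isUnit_iff_isUnit_det] at h ⊢
  rw [red, ← RingHom.map_det] at h
  have : NeZero (p ^ (k + 1)) := ⟨pow_ne_zero _ hp.out.ne_zero⟩
  rw [← ZMod.natCast_zmod_val M.det, map_natCast, ZMod.isUnit_iff_coprime] at h
  rw [← ZMod.natCast_zmod_val M.det, ZMod.isUnit_iff_coprime]
  exact h.pow_right _

/-- A representation over `ZMod p` of a group of order prime to `p` lifts to `ZMod (p ^ (k+1))`. -/
theorem exists_lift {G : Type*} [Group G] [Finite G] (hG : (Nat.card G).Coprime p)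
    (ρ : G →* (Matrix ι ι (ZMod p))ˣ) :
    ∃ σ : G →* (Matrix ι ι (ZMod (p ^ (k + 1))))ˣ,
      ∀ g, red p k ι (σ g : Matrix ι ι (ZMod (p ^ (k + 1)))) = (ρ g : Matrix ι ι (ZMod p)) := by
  have : NeZero (p ^ (k + 1)) := ⟨pow_ne_zero _ hp.out.ne_zero⟩
  let f : (Matrix ι ι (ZMod (p ^ (k + 1))))ˣ →* (Matrix ι ι (ZMod p))ˣ :=
    Units.map (red p k ι).toMonoidHom
  have hf : Function.Surjective f := by
    intro u
    obtain ⟨M, hM⟩ := red_surjective p k (u : Matrix ι ι (ZMod p))
    exact ⟨(isUnit_of_isUnit_red p k (hM ▸ u.isUnit)).unit, Units.ext hM⟩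
  let T : Subgroup (G × (Matrix ι ι (ZMod (p ^ (k + 1))))ˣ) :=
    (f.comp (MonoidHom.snd G _)).eqLocus (ρ.comp (MonoidHom.fst G _))
  let π : T →* G := (MonoidHom.fst G _).comp T.subtype
  have hπ : Function.Surjective π := fun g => by
    obtain ⟨u, hu⟩ := hf (ρ g)
    exact ⟨⟨(g, u), hu⟩, rfl⟩
  have hN : IsPGroup p π.ker := by
    rintro ⟨⟨⟨g, u⟩, hgu⟩, hker⟩
    refine ⟨k, Subtype.ext (Subtype.ext ?_)⟩
    have hg : g = 1 := hker
    subst hg
    refine Prod.ext (one_pow _) (Units.ext ?_)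
    have hu : red p k ι (u : Matrix ι ι (ZMod (p ^ (k + 1)))) = 1 := by
      have h1 : f u = ρ 1 := hgu
      rw [map_one] at h1
      exact congr_arg Units.val h1
    have hY : ∀ i j, ∃ y, ((u : Matrix ι ι (ZMod (p ^ (k + 1)))) - 1) i j = (p : ZMod _) * y := by
      intro i j
      set z := ((u : Matrix ι ι (ZMod (p ^ (k + 1)))) - 1) i j
      have hz : ZMod.castHom (dvd_pow_succ p k) (ZMod p) z = 0 := by
        have h2 : red p k ι ((u : Matrix ι ι (ZMod (p ^ (k + 1)))) - 1) = 0 := by
          rw [map_sub, hu, map_one, sub_self]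
        exact congr_fun (congr_fun h2 i) j
      rw [← ZMod.natCast_zmod_val z, map_natCast, ZMod.natCast_eq_zero_iff] at hz
      obtain ⟨c, hc⟩ := hz
      exact ⟨(c : ZMod _), by rw [← ZMod.natCast_zmod_val z, hc, Nat.cast_mul]⟩
    choose y hy using hY
    have he : (u : Matrix ι ι (ZMod (p ^ (k + 1)))) =
        1 + (p : Matrix ι ι (ZMod (p ^ (k + 1)))) * Matrix.of y := by
      rw [← sub_eq_iff_eq_add', ← nsmul_eq_mul]
      ext i j
      rw [Matrix.smul_apply, nsmul_eq_mul, hy]
      rfl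
    show ((u ^ p ^ k : (Matrix ι ι (ZMod (p ^ (k + 1))))ˣ) : Matrix ι ι (ZMod (p ^ (k + 1)))) = 1
    rw [Units.val_pow_eq_pow_val, he]
    refine pow_eq_one_of_dvd p k ?_ _
    rw [← Nat.cast_pow, ← map_natCast (Matrix.scalar ι (α := ZMod (p ^ (k + 1)))),
      ZMod.natCast_self, map_zero]
  have hidx : π.ker.index = Nat.card G := by
    rw [Subgroup.index_eq_card, Nat.card_congr (QuotientGroup.quotientKerEquivOfSurjective π hπ).toEquiv]
  obtain ⟨n, hn⟩ := hN.exists_card_eq
  obtain ⟨C, hC⟩ := Subgroup.exists_right_complement'_of_coprime (N := π.ker)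
    (by rw [hn, hidx]; exact (hG.symm).pow_left n)
  have hbij : Function.Bijective (π.comp C.subtype) := by
    refine ⟨(injective_iff_map_eq_one _).mpr fun c hc => ?_, fun g => ?_⟩
    · have h1 : (c : T) ∈ π.ker ⊓ C := ⟨hc, c.2⟩
      rw [hC.disjoint.eq_bot, Subgroup.mem_bot] at h1
      exact Subtype.ext h1
    · obtain ⟨t, rfl⟩ := hπ g
      obtain ⟨⟨a, c⟩, he, -⟩ := Subgroup.IsComplement.existsUnique hC t
      refine ⟨⟨c, c.2⟩, ?_⟩
      show π (c : T) = π t
      rw [← he, map_mul, show π (a : T) = 1 from a.2, one_mul]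
  let e := MulEquiv.ofBijective _ hbij
  refine ⟨(MonoidHom.snd G _).comp (T.subtype.comp (C.subtype.comp e.symm.toMonoidHom)), fun g => ?_⟩
  have h1 : π ((e.symm g : C) : T) = g := e.apply_symm_apply g
  have h2 := congr_arg Units.val (((e.symm g : C) : T)).2
  rw [show ρ g = ρ (π ((e.symm g : C) : T)) by rw [h1]]
  exact h2

/-- The trace of an idempotent over `ZMod (p ^ (k+1))` is the rank of its reduction. -/
theorem trace_idempotent {n : ℕ} (P : Matrix (Fin n) (Fin n) (ZMod (p ^ (k + 1))))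
    (hP : P * P = P) :
    P.trace = (Module.finrank (ZMod p) (LinearMap.range
      (Matrix.toLin' (red p k (Fin n) P))) : ZMod (p ^ (k + 1))) := by
  set f := Matrix.toLin' (red p k (Fin n) P) with hf
  have hff : ∀ v, f (f v) = f v := fun v => by
    rw [hf, ← LinearMap.comp_apply, ← Matrix.toLin'_mul, ← map_mul, hP]
  have hproj : LinearMap.IsProj (LinearMap.range f) f :=
    ⟨fun v => ⟨v, rfl⟩, fun v hv => by obtain ⟨w, rfl⟩ := hv; exact hff w⟩
  have hc := hproj.isCompl
  let r := Module.finrank (ZMod p) (LinearMap.range f)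
  let s := Module.finrank (ZMod p) f.ker
  let b := (((Module.finBasis (ZMod p) (LinearMap.range f)).prod
    (Module.finBasis (ZMod p) f.ker)).map (Submodule.prodEquivOfIsCompl _ _ hc))
  let e : Fin r ⊕ Fin s ≃ Fin n :=
    b.indexEquiv (Pi.basisFun (ZMod p) (Fin n))
  let b' := b.reindex e
  let d : Fin n → ℕ := fun i => Sum.elim (fun _ => 1) (fun _ => 0) (e.symm i)
  let S : Matrix (Fin n) (Fin n) (ZMod p) := Matrix.of fun i j => b' j i
  have hS : IsUnit S := by
    have h1 : S = (Pi.basisFun (ZMod p) (Fin n)).toMatrix b' := by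
      ext i j; simp [S, Module.Basis.toMatrix_apply]
    rw [h1]
    exact IsUnit.of_mul_eq_one _ (Module.Basis.toMatrix_mul_toMatrix_flip _ b')
  have hb' : ∀ j, f (b' j) = (d j : ZMod p) • b' j := by
    intro j
    simp only [b', Module.Basis.reindex_apply, d]
    rcases e.symm j with a | a
    · simp only [b, Module.Basis.map_apply, Sum.elim_inl, Nat.cast_one, one_smul]
      rw [Submodule.coe_prodEquivOfIsCompl']
      refine hproj.map_id _ ?_
      simp
    · simp only [b, Module.Basis.map_apply, Sum.elim_inr, Nat.cast_zero, zero_smul]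
      rw [Submodule.coe_prodEquivOfIsCompl']
      simp [LinearMap.mem_ker.mp (Module.finBasis (ZMod p) f.ker a).2]
  have hPS : red p k (Fin n) P * S = S * Matrix.diagonal (fun j => (d j : ZMod p)) := by
    ext i j
    rw [Matrix.mul_diagonal]
    have h1 := congr_fun (hb' j) i
    rw [hf, Matrix.toLin'_apply] at h1
    simp only [Pi.smul_apply, smul_eq_mul] at h1
    rw [Matrix.mul_apply, show S i j * (d j : ZMod p) = (d j : ZMod p) * b' j i from mul_comm _ _,
      ← h1]
    rfl
  obtain ⟨S₀, hS₀⟩ := red_surjective p k S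
  set D : Matrix (Fin n) (Fin n) (ZMod (p ^ (k + 1))) := Matrix.diagonal fun j => (d j : ZMod _)
  have hD : D * D = D := by
    rw [Matrix.diagonal_mul_diagonal]
    congr 1; funext j
    rcases h : e.symm j with a | a <;> simp [d, h]
  let S₁ := P * S₀ * D + (1 - P) * S₀ * (1 - D)
  have hred : red p k (Fin n) S₁ = S := by
    have hdiag : red p k (Fin n) D = Matrix.diagonal (fun j => (d j : ZMod p)) := by
      rw [red, RingHom.mapMatrix_apply, Matrix.diagonal_map (map_zero _)]
      simp
    simp only [S₁, map_add, map_mul, map_sub, map_one, hS₀, hdiag, sub_mul, mul_sub, one_mul,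
      mul_one, hPS]
    have h2 : Matrix.diagonal (fun j => (d j : ZMod p)) * Matrix.diagonal (fun j => (d j : ZMod p)) =
        Matrix.diagonal (fun j => (d j : ZMod p)) := by
      rw [← hdiag, ← map_mul, hD]
    rw [mul_assoc S, h2]
    abel
  have hP1 : P * S₁ = S₁ * D := by
    have h1 : (1 - D) * D = 0 := by rw [sub_mul, one_mul, hD, sub_self]
    have h2 : P * (1 - P) = 0 := by rw [mul_sub, mul_one, hP, sub_self]
    simp only [S₁, mul_add, add_mul, mul_assoc, hD, h1, mul_zero, add_zero]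
    rw [← mul_assoc P P, hP, ← mul_assoc P (1 - P), h2, zero_mul, add_zero]
  obtain ⟨u, hu⟩ := isUnit_of_isUnit_red p k (M := S₁) (hred ▸ hS)
  have h3 : P = (u : Matrix (Fin n) (Fin n) (ZMod (p ^ (k + 1)))) * D * (↑u⁻¹ : Matrix (Fin n) (Fin n) (ZMod (p ^ (k + 1)))) := by
    rw [hu, ← hP1, ← hu, mul_assoc, Units.mul_inv, mul_one]
  rw [h3, Matrix.trace_units_conj, Matrix.trace_diagonal, ← e.sum_comp, Fintype.sum_sum_type]
  simp [d, r]

/-- Fixed-space formula for a Frobenius group acting coprimely on an elementary abelian `p`-group. -/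
theorem card_fixed_formula {G V : Type*} [Group G] [Finite G] [AddCommGroup V] [Module (ZMod p) V]
    [Finite V] (hG : (Nat.card G).Coprime p) (ρ : Representation (ZMod p) G V)
    (U E : Subgroup G) [U.Normal] (hbot : U ⊓ E = ⊥) (htop : U ⊔ E = ⊤)
    (hfpf : ∀ x ∈ E, x ≠ 1 → ∀ u ∈ U, x * u = u * x → u = 1) :
    Nat.card {v : V // ∀ g : G, ρ g v = v} ^ Nat.card E * Nat.card V =
      Nat.card {v : V // ∀ g ∈ E, ρ g v = v} ^ Nat.card E *
        Nat.card {v : V // ∀ g ∈ U, ρ g v = v} := by
  have : Fintype G := Fintype.ofFinite G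
  set n := Module.finrank (ZMod p) V with hn
  set e := Nat.card E with he
  let bV := Module.finBasis (ZMod p) V
  let τ : Module.End (ZMod p) V ≃ₐ[ZMod p] Matrix (Fin n) (Fin n) (ZMod p) :=
    LinearMap.toMatrixAlgEquiv bV
  let ρu : G →* (Module.End (ZMod p) V)ˣ := MonoidHom.toHomUnits ρ
  let ρm : G →* (Matrix (Fin n) (Fin n) (ZMod p))ˣ :=
    (Units.map (τ : Module.End (ZMod p) V →* Matrix (Fin n) (Fin n) (ZMod p))).comp ρu
  let K := 2 * (e + 1) * (n + 1)
  obtain ⟨σ, hσ⟩ := exists_lift p K hG ρm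
  let M : G → Matrix (Fin n) (Fin n) (ZMod (p ^ (K + 1))) := fun g => (σ g : Matrix (Fin n) (Fin n) (ZMod (p ^ (K + 1))))
  have hMmul : ∀ g h, M (g * h) = M g * M h := fun g h => by simp [M]
  have hunit : ∀ B : Subgroup G, IsUnit (Nat.card B : (ZMod (p ^ (K + 1)))) := fun B =>
    (ZMod.isUnit_iff_coprime _ _).mpr
      ((hG.coprime_dvd_left (Subgroup.card_subgroup_dvd_card B)).pow_right _)
  have key : ∀ B : Subgroup G, ∃ r : ℕ, r ≤ n ∧
      Nat.card {v : V // ∀ g ∈ B, ρ g v = v} = p ^ r ∧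
      ∑ g : B, (M g).trace = (Nat.card B : (ZMod (p ^ (K + 1)))) * (r : (ZMod (p ^ (K + 1)))) := by
    intro B
    obtain ⟨c, hc⟩ := hunit B
    let P : Matrix (Fin n) (Fin n) (ZMod (p ^ (K + 1))) := (↑c⁻¹ : (ZMod (p ^ (K + 1)))) • ∑ g : B, M g
    have hcN : (↑c⁻¹ : (ZMod (p ^ (K + 1)))) * (Nat.card B : (ZMod (p ^ (K + 1)))) = 1 := by rw [← hc]; exact c.inv_mul
    have hP : P * P = P := by
      have h1 : ∀ g : B, M g * ∑ h : B, M h = ∑ h : B, M h := fun g => by
        rw [Finset.mul_sum]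
        exact Fintype.sum_equiv (Equiv.mulLeft g) _ _ fun h => (hMmul _ _).symm
      have h2 : (∑ g : B, M g) * ∑ h : B, M h = (Nat.card B : (ZMod (p ^ (K + 1)))) • ∑ h : B, M h := by
        rw [Finset.sum_mul, Finset.sum_congr rfl fun g _ => h1 g, Finset.sum_const,
          Finset.card_univ, ← Nat.card_eq_fintype_card, Nat.cast_smul_eq_nsmul]
      simp only [P, smul_mul_assoc, mul_smul_comm, h2, smul_smul]
      rw [hcN, mul_one]
    let q : ZMod p := ZMod.castHom (dvd_pow_succ p K) (ZMod p) (↑c⁻¹ : (ZMod (p ^ (K + 1))))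
    let f : Module.End (ZMod p) V := q • ∑ g : B, ρ g
    have hred : red p K (Fin n) P = τ f := by
      have h1 : red p K (Fin n) P = q • ∑ g : B, red p K (Fin n) (M g) := by
        rw [← map_sum]
        simp only [P, red, RingHom.mapMatrix_apply, q]
        ext i j
        simp only [Matrix.map_apply, Matrix.smul_apply, smul_eq_mul, map_mul]
      rw [h1, map_smul, map_sum]
      exact congr_arg (q • ·) (Finset.sum_congr rfl fun g _ => hσ g)
    have hfix : ∀ v, (∀ g ∈ B, ρ g v = v) ↔ v ∈ LinearMap.range f := by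
      intro v
      refine ⟨fun h => ⟨v, ?_⟩, ?_⟩
      · simp only [f, LinearMap.smul_apply, LinearMap.sum_apply]
        rw [Finset.sum_congr rfl (g := fun _ => v) fun (g : B) _ => h g g.2, Finset.sum_const,
          ← Nat.cast_smul_eq_nsmul (ZMod p), smul_smul, Finset.card_univ, ← Nat.card_eq_fintype_card,
          show q * (Nat.card B : ZMod p) = 1 by
            rw [← map_natCast (ZMod.castHom (dvd_pow_succ p K) (ZMod p)), ← map_mul, hcN, map_one],
          one_smul]
      · rintro ⟨w, rfl⟩ g hg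
        simp only [f, LinearMap.smul_apply, LinearMap.sum_apply, map_smul, map_sum]
        congr 1
        refine Fintype.sum_equiv (Equiv.mulLeft ⟨g, hg⟩) _ _ fun h => ?_
        simp
    refine ⟨Module.finrank (ZMod p) (LinearMap.range f), Submodule.finrank_le _, ?_, ?_⟩
    · rw [Nat.card_congr (Equiv.subtypeEquivRight hfix)]
      rw [show Nat.card {v // v ∈ LinearMap.range f} = Nat.card (LinearMap.range f) from rfl,
        Module.natCard_eq_pow_finrank (K := ZMod p), Nat.card_zmod]
    · have h1 := trace_idempotent p K P hP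
      have h2 : Module.finrank (ZMod p) (LinearMap.range (Matrix.toLin' (red p K (Fin n) P))) =
          Module.finrank (ZMod p) (LinearMap.range f) := by
        rw [hred]
        have e1 : Matrix.toLin' (τ f) =
            (bV.equivFun.toLinearMap.comp f).comp bV.equivFun.symm.toLinearMap := by
          refine LinearMap.ext fun v => ?_
          obtain ⟨w, rfl⟩ := bV.equivFun.surjective v
          rw [Matrix.toLin'_apply, LinearMap.comp_apply, LinearMap.comp_apply, LinearEquiv.coe_coe,
            LinearEquiv.coe_coe, LinearEquiv.symm_apply_apply]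
          exact LinearMap.toMatrix_mulVec_repr bV bV f w
        rw [e1, LinearMap.range_comp_of_range_eq_top _ (LinearEquiv.range _),
          LinearMap.range_comp]
        exact LinearEquiv.finrank_map_eq _ _
      rw [h2] at h1
      rw [← h1, show P.trace = (↑c⁻¹ : (ZMod (p ^ (K + 1)))) * ∑ g : B, (M g).trace by
        simp [P, Matrix.trace_smul, Matrix.trace_sum], ← mul_assoc, mul_comm _ (↑c⁻¹ : (ZMod (p ^ (K + 1)))), hcN,
        one_mul]
  obtain ⟨rG, hrG, hcG, htG⟩ := key ⊤
  obtain ⟨rE, hrE, hcE, htE⟩ := key E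
  obtain ⟨rU, hrU, hcU, htU⟩ := key U
  have hcompl : Subgroup.IsComplement' U E :=
    Subgroup.isComplement'_of_disjoint_and_mul_eq_univ (disjoint_iff.mpr hbot) (by
      rw [← Subgroup.normal_mul, htop, Subgroup.coe_top])
  let t : G → (ZMod (p ^ (K + 1))) := fun g => (M g).trace
  have hconj : ∀ g h, t (h * g * h⁻¹) = t g := fun g h => by
    simp only [t, hMmul, show M h⁻¹ = ((σ h)⁻¹ : (Matrix (Fin n) (Fin n) (ZMod (p ^ (K + 1))))ˣ) by simp [M]]
    exact Matrix.trace_units_conj _ _
  have hbig : ∑ g : G, t g + (Nat.card U : (ZMod (p ^ (K + 1)))) * t 1 =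
      ∑ u : U, t u + (Nat.card U : (ZMod (p ^ (K + 1)))) * ∑ x : E, t x := by
    have hsum : ∑ g : G, t g = ∑ x : E, ∑ v : U, t (v * x) := by
      rw [Finset.sum_comm, ← Fintype.sum_prod_type' (fun (v : U) (x : E) => t (v * x))]
      exact (Fintype.sum_bijective (fun p : U × E => (p.1 : G) * p.2) hcompl _ _ fun p => rfl).symm
    rw [hsum, ← Finset.add_sum_erase Finset.univ (fun y : E => ∑ v : U, t (v * y))
        (Finset.mem_univ (1 : E)),
      ← Finset.add_sum_erase Finset.univ (fun x : E => t x) (Finset.mem_univ (1 : E)), mul_add,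
      Finset.mul_sum]
    simp only [OneMemClass.coe_one, mul_one]
    have hx : ∀ x ∈ Finset.univ.erase (1 : E),
        ∑ v : U, t (v * x) = (Nat.card U : (ZMod (p ^ (K + 1)))) * t x := by
      intro x hx
      have hx1 : (x : G) ≠ 1 := fun h => (Finset.mem_erase.mp hx).1 (Subtype.ext h)
      let φ : U → U := fun u => ⟨(u : G) * x * (u : G)⁻¹ * (x : G)⁻¹, by
        have := U.mul_mem u.2 (‹U.Normal›.conj_mem _ (U.inv_mem u.2) x)
        simpa [mul_assoc] using this⟩
      have hφ : Function.Bijective φ := by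
        refine Finite.injective_iff_bijective.mp fun a b h => ?_
        have h1 : (a : G) * x * (a : G)⁻¹ = b * x * (b : G)⁻¹ :=
          mul_right_cancel (congr_arg Subtype.val h)
        have h2 : (x : G) * ((b : G)⁻¹ * a) = (b : G)⁻¹ * a * x := by
          calc (x : G) * ((b : G)⁻¹ * a) = (b : G)⁻¹ * (b * x * (b : G)⁻¹) * a := by group
            _ = (b : G)⁻¹ * (a * x * (a : G)⁻¹) * a := by rw [h1]
            _ = _ := by group
        exact Subtype.ext (inv_mul_eq_one.mp
          (hfpf x x.2 hx1 _ (U.mul_mem (U.inv_mem b.2) a.2) h2)).symm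
      rw [← (Equiv.ofBijective φ hφ).sum_comp (fun v : U => t (v * x))]
      simp only [Equiv.ofBijective_apply]
      rw [
        Finset.sum_congr rfl (g := fun _ => t x) fun (u : U) _ => show t ((φ u : G) * x) = t x from (congr_arg t
          (show ((u : G) * x * (u : G)⁻¹ * (x : G)⁻¹) * x = u * x * (u : G)⁻¹ by group)).trans
            (hconj _ _),
        Finset.sum_const, nsmul_eq_mul, Finset.card_univ, ← Nat.card_eq_fintype_card]
    rw [Finset.sum_congr rfl hx]
    ring
  have ht1 : t 1 = (n : (ZMod (p ^ (K + 1)))) := by simp [t, M]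
  have hsumtop : ∑ g : (⊤ : Subgroup G), t g = ∑ g : G, t g :=
    Fintype.sum_equiv Subgroup.topEquiv.toEquiv _ _ fun g => rfl
  have hcard : Nat.card (⊤ : Subgroup G) = Nat.card U * e := by
    rw [Subgroup.card_top, ← hcompl.card_mul]
  have heqR : ((e * rG + n : ℕ) : (ZMod (p ^ (K + 1)))) = ((rU + e * rE : ℕ) : (ZMod (p ^ (K + 1)))) := by
    obtain ⟨cu, hcu⟩ := hunit U
    refine (hunit U).mul_left_cancel ?_
    rw [← hsumtop, htG, htU, htE, ht1, hcard, ← he] at hbig
    push_cast at hbig ⊢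
    linear_combination hbig
  have hbound : ∀ a ≤ (e + 1) * n, a < p ^ (K + 1) := fun a ha => by
    have h1 : K + 1 < p ^ (K + 1) := Nat.lt_pow_self hp.out.one_lt
    have h2 : (e + 1) * n ≤ K := by simp only [K]; nlinarith
    omega
  have heq : e * rG + n = rU + e * rE :=
    ((ZMod.natCast_eq_natCast_iff _ _ _).mp heqR).eq_of_lt_of_lt
      (hbound _ (by nlinarith)) (hbound _ (by nlinarith))
  have hV : Nat.card V = p ^ n := by rw [Module.natCard_eq_pow_finrank (K := ZMod p), Nat.card_zmod]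
  have hGfix : Nat.card {v : V // ∀ g : G, ρ g v = v} =
      Nat.card {v : V // ∀ g ∈ (⊤ : Subgroup G), ρ g v = v} :=
    Nat.card_congr (Equiv.subtypeEquivRight fun v =>
      ⟨fun h g _ => h g, fun h g => h g (Subgroup.mem_top g)⟩)
  rw [hGfix, hcG, hcE, hcU, hV, ← pow_mul, ← pow_mul, ← pow_add, ← pow_add]
  congr 1
  linarith

end CfsgLib.Clifford.CoprimeTrace
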