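import Mathlib

/-!
# Norm three vectors on a grid

A grid of norm three integer vectors with inner product one on lines and zero off lines decomposes
along row centres, column centres and one further point for each cell.
-/

namespace CfsgLib.Clifford.Grid

/-- The seven coefficient tuples with entries of absolute value at most one. -/
def tuples : ℕ → List (List ℤ)
  | 0 => [[]]
  | n + 1 => (tuples n).flatMap fun l => [-1 :: l, 0 :: l, 1 :: l]

/-- Inner product of coefficient tuples. -/
def ip : List ℤ → List ℤ → ℤ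
  | a :: l, b :: m => a * b + ip l m
  | _, _ => 0

/-- Whether the products of the entries are nonnegative. -/
def agree : List ℤ → List ℤ → Bool
  | a :: l, b :: m => decide (0 ≤ a * b) && agree l m
  | _, _ => true

def lineA : List ℤ := [0, 1, 1, 1, 0, 0, 0]
def lineB : List ℤ := [1, 0, 1, 0, 1, 0, 0]
def lineC : List ℤ := [1, 1, 0, 0, 0, 1, 0]
def lineD : List ℤ := [1, 0, 0, 1, 0, 0, 1]

/-- Admissible tuples in the column of the line `own`. -/
def ok (own o₁ o₂ o₃ u : List ℤ) : Bool :=
  decide (ip u u ≤ 3) && agree u own && decide (ip u own = 1) && decide (ip u o₁ = 0) &&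
    decide (ip u o₂ = 0) && decide (ip u o₃ = 0)

/-- Compatibility of two vectors of one line. -/
def compat (u v : List ℤ) : Bool :=
  agree u v && decide (ip u v ≤ 1) &&
    ((!decide (ip u u = 3) && !decide (ip v v = 3)) || decide (ip u v = 1))

theorem pencil_impossible :
    ∀ u ∈ (tuples 7).filter (ok lineA lineB lineC lineD),
    ∀ v ∈ (tuples 7).filter (ok lineB lineA lineC lineD),
    ∀ w ∈ (tuples 7).filter (ok lineC lineA lineB lineD),
    ∀ t ∈ (tuples 7).filter (ok lineD lineA lineB lineC),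
      (compat u v && compat u w && compat u t && compat v w && compat v t && compat w t) = false := by
  decide +kernel

theorem mem_tuples_succ {a : ℤ} {n : ℕ} {l : List ℤ} (ha : a = -1 ∨ a = 0 ∨ a = 1)
    (hl : l ∈ tuples n) : a :: l ∈ tuples (n + 1) := by
  refine List.mem_flatMap.mpr ⟨l, hl, ?_⟩
  rcases ha with rfl | rfl | rfl <;> simp

theorem mem_tuples_seven {a b c d e f g : ℤ} (ha : a = -1 ∨ a = 0 ∨ a = 1)
    (hb : b = -1 ∨ b = 0 ∨ b = 1) (hc : c = -1 ∨ c = 0 ∨ c = 1) (hd : d = -1 ∨ d = 0 ∨ d = 1)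
    (he : e = -1 ∨ e = 0 ∨ e = 1) (hf : f = -1 ∨ f = 0 ∨ f = 1) (hg : g = -1 ∨ g = 0 ∨ g = 1) :
    [a, b, c, d, e, f, g] ∈ tuples 7 :=
  mem_tuples_succ ha (mem_tuples_succ hb (mem_tuples_succ hc (mem_tuples_succ hd
    (mem_tuples_succ he (mem_tuples_succ hf (mem_tuples_succ hg (List.mem_singleton.mpr rfl)))))))

variable {ι : Type*} [Fintype ι]

/-- Inner product of integer vectors. -/
def dot (u v : ι → ℤ) : ℤ := ∑ t, u t * v t

theorem dot_comm (u v : ι → ℤ) : dot u v = dot v u :=
  Finset.sum_congr rfl fun _ _ => mul_comm _ _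

open Classical in
/-- The support. -/
noncomputable def supp (u : ι → ℤ) : Finset ι := Finset.univ.filter fun t => u t ≠ 0

theorem mem_supp {u : ι → ℤ} {t : ι} : t ∈ supp u ↔ u t ≠ 0 := by simp [supp]

theorem sum_supp (u : ι → ℤ) (f : ι → ℤ) : ∑ t ∈ supp u, u t * f t = ∑ t, u t * f t :=
  Finset.sum_subset (Finset.subset_univ _) fun t _ ht => by
    rw [mem_supp, not_not] at ht; rw [ht, zero_mul]

theorem entry {u : ι → ℤ} (hu : dot u u = 3) (t : ι) : u t = -1 ∨ u t = 0 ∨ u t = 1 := by
  have h : u t * u t ≤ 3 :=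
    hu ▸ Finset.single_le_sum (fun s _ => mul_self_nonneg (u s)) (Finset.mem_univ t)
  have h1 : -1 ≤ u t := by nlinarith
  have h2 : u t ≤ 1 := by nlinarith
  omega

theorem sq_of_mem {u : ι → ℤ} (hu : dot u u = 3) {t : ι} (ht : t ∈ supp u) : u t * u t = 1 := by
  rcases entry hu t with h | h | h
  · rw [h]; norm_num
  · exact absurd h (mem_supp.mp ht)
  · rw [h]; norm_num

theorem card_supp {u : ι → ℤ} (hu : dot u u = 3) : (supp u).card = 3 := by
  have h : dot u u = ((supp u).card : ℤ) := by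
    rw [dot, ← sum_supp, Finset.sum_congr rfl fun t ht => sq_of_mem hu ht, Finset.sum_const,
      nsmul_eq_mul, mul_one]
  omega

variable (d : ι → ℕ)

/-- Two norm three vectors of equal degree with inner product one share exactly one point. -/
theorem line_meet (hd : ∀ t, 0 < d t) {u v : ι → ℤ} (hu : dot u u = 3) (hv : dot v v = 3)
    (huv : dot u v = 1) (hdeg : ∑ t, u t * d t = ∑ t, v t * d t) :
    ∃ p, u p ≠ 0 ∧ u p = v p ∧ ∀ t, u t ≠ 0 → v t ≠ 0 → t = p := by
  classical
  set T := supp u ∩ supp v with hT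
  set K := T.filter (fun t => u t = v t) with hK
  set M := T.filter (fun t => ¬ u t = v t) with hM
  have hsum : dot u v = (K.card : ℤ) - M.card := by
    have h1 : dot u v = ∑ t ∈ T, u t * v t :=
      (Finset.sum_subset (Finset.subset_univ _) fun t _ ht => by
        simp only [hT, Finset.mem_inter, mem_supp, not_and_or, not_not] at ht
        rcases ht with h | h <;> simp [h]).symm
    rw [h1, ← Finset.sum_filter_add_sum_filter_not T (fun t => u t = v t),
      Finset.sum_congr rfl (g := fun _ => (1 : ℤ)) fun t ht => ?_,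
      Finset.sum_congr (s₁ := T.filter fun t => ¬ u t = v t) rfl (g := fun _ => (-1 : ℤ)) fun t ht => ?_]
    · simp [hK, hM, sub_eq_add_neg]
    · obtain ⟨h, hne⟩ := Finset.mem_filter.mp ht
      obtain ⟨ha, hb⟩ := Finset.mem_inter.mp h
      have := mem_supp.mp ha; have := mem_supp.mp hb
      rcases entry hu t with e | e | e <;> rcases entry hv t with e' | e' | e' <;>
        simp_all
    · obtain ⟨h, he⟩ := Finset.mem_filter.mp ht
      rw [← he]; exact sq_of_mem hu (Finset.mem_inter.mp h).1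
  have hcard : K.card + M.card = T.card := Finset.card_filter_add_card_filter_not _
  have hle : T.card ≤ 3 := (Finset.card_le_card Finset.inter_subset_left).trans_eq (card_supp hu)
  rw [huv] at hsum
  have hM0 : M.card = 0 := by
    by_contra hne
    have hM1 : M.card = 1 := by omega
    have hT3 : T.card = 3 := by omega
    have e1 : T = supp u := Finset.eq_of_subset_of_card_le Finset.inter_subset_left
      (by rw [card_supp hu, hT3])
    have e2 : T = supp v := Finset.eq_of_subset_of_card_le Finset.inter_subset_right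
      (by rw [card_supp hv, hT3])
    obtain ⟨c, hc⟩ := Finset.card_eq_one.mp hM1
    have hcM : c ∈ M := hc ▸ Finset.mem_singleton_self c
    have hother : ∀ t, t ≠ c → u t = v t := by
      intro t ht
      by_contra hne'
      by_cases htT : t ∈ T
      · exact ht (Finset.mem_singleton.mp (hc ▸ Finset.mem_filter.mpr ⟨htT, hne'⟩))
      · have h1 : u t = 0 := by_contra fun h => htT (e1 ▸ mem_supp.mpr h)
        have h2 : v t = 0 := by_contra fun h => htT (e2 ▸ mem_supp.mpr h)
        exact hne' (h1.trans h2.symm)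
    have h0 : ∑ t, (u t - v t) * (d t : ℤ) = 0 := by
      simp only [sub_mul, Finset.sum_sub_distrib, hdeg, sub_self]
    rw [Finset.sum_eq_single c (fun t _ ht => by rw [hother t ht, sub_self, zero_mul])
      (fun h => absurd (Finset.mem_univ c) h)] at h0
    rcases mul_eq_zero.mp h0 with h | h
    · exact (Finset.mem_filter.mp hcM).2 (sub_eq_zero.mp h)
    · have := hd c; omega
  have hK1 : K.card = 1 := by omega
  obtain ⟨p, hp⟩ := Finset.card_eq_one.mp hK1
  have hpK : p ∈ K := hp ▸ Finset.mem_singleton_self p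
  refine ⟨p, mem_supp.mp (Finset.mem_inter.mp (Finset.mem_filter.mp hpK).1).1,
    (Finset.mem_filter.mp hpK).2, fun t h1 h2 => ?_⟩
  have htT : t ∈ T := Finset.mem_inter.mpr ⟨mem_supp.mpr h1, mem_supp.mpr h2⟩
  refine Finset.mem_singleton.mp (hp ▸ Finset.mem_filter.mpr ⟨htT, by_contra fun hne => ?_⟩)
  have : t ∈ M := Finset.mem_filter.mpr ⟨htT, hne⟩
  rw [Finset.card_eq_zero.mp hM0] at this
  exact absurd this (Finset.notMem_empty t)

/-- A grid datum. -/
structure IsGrid {I J : Type*} (d : ι → ℕ) (v : I → J → ι → ℤ) : Prop where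
  deg_pos : ∀ t, 0 < d t
  norm : ∀ i j, dot (v i j) (v i j) = 3
  row : ∀ i j l, j ≠ l → dot (v i j) (v i l) = 1
  col : ∀ i k j, i ≠ k → dot (v i j) (v k j) = 1
  off : ∀ i k j l, i ≠ k → j ≠ l → dot (v i j) (v k l) = 0
  degree : ∀ i k j l, ∑ t, v i j t * d t = ∑ t, v k l t * d t

variable {d} {I J : Type*} {v : I → J → ι → ℤ} (hv : IsGrid d v)
include hv

theorem IsGrid.swap : IsGrid d (fun j i => v i j) where
  deg_pos := hv.deg_pos
  norm j i := hv.norm i j
  row j i k h := hv.col i k j h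
  col j l i h := hv.row i j l h
  off j l i k h h' := hv.off i k j l h' h
  degree j l i k := hv.degree i k j l

/-- A line of a grid, given with sign normalised coordinates `u`, restricted to seven points. -/
theorem pencil_false [DecidableEq ι] {i k : I} (hik : i ≠ k) (col : Fin 4 → J) (hcol : Function.Injective col)
    (pt : Fin 7 → ι) (hpt : Function.Injective pt) (s : ι → ℤ) (hs : ∀ n, s (pt n) * s (pt n) = 1)
    (hA : ∀ t, v i (col 0) t = if t = pt 1 ∨ t = pt 2 ∨ t = pt 3 then s t else 0)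
    (hB : ∀ t, v i (col 1) t = if t = pt 0 ∨ t = pt 2 ∨ t = pt 4 then s t else 0)
    (hC : ∀ t, v i (col 2) t = if t = pt 0 ∨ t = pt 1 ∨ t = pt 5 then s t else 0)
    (hD : ∀ t, v i (col 3) t = if t = pt 0 ∨ t = pt 3 ∨ t = pt 6 then s t else 0) : False := by
  classical
  let u : Fin 4 → Fin 7 → ℤ := fun r n => s (pt n) * v k (col r) (pt n)
  have hent : ∀ r n, u r n = -1 ∨ u r n = 0 ∨ u r n = 1 := fun r n => by
    rcases mul_self_eq_one_iff.mp (hs n) with h | h <;>
      rcases entry (hv.norm k (col r)) (pt n) with e | e | e <;> simp [u, h, e]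
  let lst : Fin 4 → List ℤ := fun r => [u r 0, u r 1, u r 2, u r 3, u r 4, u r 5, u r 6]
  have hip : ∀ r q, ip (lst r) (lst q) = ∑ n, v k (col r) (pt n) * v k (col q) (pt n) := by
    intro r q
    simp only [lst, ip, u, Fin.sum_univ_seven]
    linear_combination (v k (col r) (pt 0) * v k (col q) (pt 0)) * hs 0 +
      (v k (col r) (pt 1) * v k (col q) (pt 1)) * hs 1 +
      (v k (col r) (pt 2) * v k (col q) (pt 2)) * hs 2 +
      (v k (col r) (pt 3) * v k (col q) (pt 3)) * hs 3 +
      (v k (col r) (pt 4) * v k (col q) (pt 4)) * hs 4 +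
      (v k (col r) (pt 5) * v k (col q) (pt 5)) * hs 5 +
      (v k (col r) (pt 6) * v k (col q) (pt 6)) * hs 6
  have himg : ∀ r q, ip (lst r) (lst q) =
      ∑ t ∈ Finset.univ.image pt, v k (col r) t * v k (col q) t := fun r q => by
    rw [hip, Finset.sum_image fun a _ b _ h => hpt h]
  have hle : ∀ r, ip (lst r) (lst r) ≤ 3 := fun r => by
    rw [himg]
    exact (Finset.sum_le_sum_of_subset_of_nonneg (Finset.subset_univ _)
      fun t _ _ => mul_self_nonneg _).trans_eq (hv.norm k (col r))
  have hprod : ∀ r q, r ≠ q → ∀ t, 0 ≤ v k (col r) t * v k (col q) t := by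
    intro r q hrq t
    obtain ⟨p, hp0, hpe, hu⟩ := line_meet d hv.deg_pos (hv.norm k (col r)) (hv.norm k (col q))
      (hv.row k _ _ (fun e => hrq (hcol e))) (hv.degree k k _ _)
    by_cases h1 : v k (col r) t = 0
    · rw [h1, zero_mul]
    by_cases h2 : v k (col q) t = 0
    · rw [h2, mul_zero]
    rw [hu t h1 h2, ← hpe]; exact mul_self_nonneg _
  have hcompat : ∀ r q, r ≠ q → compat (lst r) (lst q) = true := by
    intro r q hrq
    have hagree : agree (lst r) (lst q) = true := by
      have hn : ∀ n, 0 ≤ u r n * u q n := fun n => by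
        have e : u r n * u q n = v k (col r) (pt n) * v k (col q) (pt n) := by
          simp only [u]; linear_combination (v k (col r) (pt n) * v k (col q) (pt n)) * hs n
        rw [e]; exact hprod r q hrq _
      simp [lst, agree, hn]
    have htot := hv.row k (col r) (col q) (fun e => hrq (hcol e))
    have h1 : ip (lst r) (lst q) ≤ 1 := by
      rw [himg]
      exact (Finset.sum_le_sum_of_subset_of_nonneg (Finset.subset_univ _)
        fun t _ _ => hprod r q hrq t).trans_eq htot
    have hzero : ∀ r', ip (lst r') (lst r') = 3 → ∀ t, t ∉ Finset.univ.image pt →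
        v k (col r') t = 0 := by
      intro r' h t ht
      have h2 := hv.norm k (col r')
      rw [dot, ← Finset.sum_add_sum_compl (Finset.univ.image pt), ← himg, h] at h2
      have h3 : ∑ x ∈ (Finset.univ.image pt)ᶜ, v k (col r') x * v k (col r') x = 0 := by omega
      exact mul_self_eq_zero.mp ((Finset.sum_eq_zero_iff_of_nonneg fun x _ => mul_self_nonneg _).mp
        h3 t (Finset.mem_compl.mpr ht))
    have h2 : ip (lst r) (lst r) = 3 ∨ ip (lst q) (lst q) = 3 → ip (lst r) (lst q) = 1 := by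
      intro h
      rw [himg, ← htot, dot]
      refine Finset.sum_subset (Finset.subset_univ _) fun t _ ht => ?_
      rcases h with h | h
      · rw [hzero r h t ht, zero_mul]
      · rw [hzero q h t ht, mul_zero]
    simp only [compat, hagree, decide_eq_true h1, Bool.true_and, Bool.or_eq_true, Bool.and_eq_true,
      Bool.not_eq_true', decide_eq_false_iff_not, decide_eq_true_eq]
    tauto
  -- the four columns
  have hline : ∀ (r q : Fin 4) (l : Fin 7 → ℤ) (hl : ∀ t, v i (col q) t =
      ∑ n, if t = pt n then l n * s t else 0),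
      (∑ n, l n * u r n) = if r = q then 1 else 0 := by
    intro r q l hl
    have h : dot (v k (col r)) (v i (col q)) = ∑ n, l n * u r n := by
      simp only [dot, hl, Finset.mul_sum, mul_ite, mul_zero]
      rw [Finset.sum_comm]
      refine Finset.sum_congr rfl fun n _ => ?_
      rw [Finset.sum_ite_eq' Finset.univ (pt n), if_pos (Finset.mem_univ _)]
      simp only [u]; ring
    rw [← h]
    split_ifs with e
    · rw [e]; exact hv.col k i _ hik.symm
    · exact hv.off k i _ _ hik.symm fun e' => e (hcol e')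
  have hexp : ∀ (a b c : Fin 7), a ≠ b → a ≠ c → b ≠ c → ∀ t,
      (if t = pt a ∨ t = pt b ∨ t = pt c then s t else 0) =
      ∑ n, if t = pt n then (if n = a ∨ n = b ∨ n = c then 1 else 0) * s t else 0 := by
    intro a b c _ _ _ t
    by_cases h : ∃ n, t = pt n
    · obtain ⟨n, rfl⟩ := h
      rw [Finset.sum_eq_single n (fun m _ hm => if_neg fun e => hm (hpt e).symm)
        (fun h => absurd (Finset.mem_univ n) h), if_pos rfl]
      simp [hpt.eq_iff]
    · push Not at h
      rw [Finset.sum_eq_zero fun n _ => if_neg (h n), if_neg (by simp [h])]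
  have eA : ∀ r, u r 1 + u r 2 + u r 3 = if r = 0 then 1 else 0 := fun r => by
    have := hline r 0 _ fun t => (hA t).trans (hexp 1 2 3 (by decide) (by decide) (by decide) t)
    simpa [Fin.sum_univ_seven] using this
  have eB : ∀ r, u r 0 + u r 2 + u r 4 = if r = 1 then 1 else 0 := fun r => by
    have := hline r 1 _ fun t => (hB t).trans (hexp 0 2 4 (by decide) (by decide) (by decide) t)
    simpa [Fin.sum_univ_seven] using this
  have eC : ∀ r, u r 0 + u r 1 + u r 5 = if r = 2 then 1 else 0 := fun r => by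
    have := hline r 2 _ fun t => (hC t).trans (hexp 0 1 5 (by decide) (by decide) (by decide) t)
    simpa [Fin.sum_univ_seven] using this
  have eD : ∀ r, u r 0 + u r 3 + u r 6 = if r = 3 then 1 else 0 := fun r => by
    have := hline r 3 _ fun t => (hD t).trans (hexp 0 3 6 (by decide) (by decide) (by decide) t)
    simpa [Fin.sum_univ_seven] using this
  have hnn : ∀ (r : Fin 4) (n : Fin 7), v i (col r) (pt n) = s (pt n) → 0 ≤ u r n := by
    intro r n h
    obtain ⟨p, -, hpe, hu⟩ := line_meet d hv.deg_pos (hv.norm i (col r)) (hv.norm k (col r))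
      (hv.col i k _ hik) (hv.degree i k _ _)
    by_cases h0 : v k (col r) (pt n) = 0
    · simp [u, h0]
    have e : pt n = p := hu _ (by rw [h]; exact fun e => by simpa [e] using hs n) h0
    simp only [u, ← h]
    rw [e, ← hpe]; exact mul_self_nonneg _
  have hmem : ∀ r, lst r ∈ tuples 7 := fun r => mem_tuples_seven (hent r 0) (hent r 1) (hent r 2)
    (hent r 3) (hent r 4) (hent r 5) (hent r 6)
  have m0 : lst 0 ∈ (tuples 7).filter (ok lineA lineB lineC lineD) := by
    refine List.mem_filter.mpr ⟨hmem 0, ?_⟩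
    have := eA 0; have := eB 0; have := eC 0; have := eD 0
    have := hnn 0 1 (by rw [hA]; simp); have := hnn 0 2 (by rw [hA]; simp)
    have := hnn 0 3 (by rw [hA]; simp)
    simp [ok, lineA, lineB, lineC, lineD, lst, ip, agree] at *
    refine ⟨⟨⟨⟨⟨?_, ?_⟩, ?_⟩, ?_⟩, ?_⟩, ?_⟩
    · have := hle 0; simpa [lst, ip] using this
    all_goals omega
  have m1 : lst 1 ∈ (tuples 7).filter (ok lineB lineA lineC lineD) := by
    refine List.mem_filter.mpr ⟨hmem 1, ?_⟩
    have := eA 1; have := eB 1; have := eC 1; have := eD 1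
    have := hnn 1 0 (by rw [hB]; simp); have := hnn 1 2 (by rw [hB]; simp)
    have := hnn 1 4 (by rw [hB]; simp)
    simp [ok, lineA, lineB, lineC, lineD, lst, ip, agree] at *
    refine ⟨⟨⟨⟨⟨?_, ?_⟩, ?_⟩, ?_⟩, ?_⟩, ?_⟩
    · have := hle 1; simpa [lst, ip] using this
    all_goals omega
  have m2 : lst 2 ∈ (tuples 7).filter (ok lineC lineA lineB lineD) := by
    refine List.mem_filter.mpr ⟨hmem 2, ?_⟩
    have := eA 2; have := eB 2; have := eC 2; have := eD 2
    have := hnn 2 0 (by rw [hC]; simp); have := hnn 2 1 (by rw [hC]; simp)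
    have := hnn 2 5 (by rw [hC]; simp)
    simp [ok, lineA, lineB, lineC, lineD, lst, ip, agree] at *
    refine ⟨⟨⟨⟨⟨?_, ?_⟩, ?_⟩, ?_⟩, ?_⟩, ?_⟩
    · have := hle 2; simpa [lst, ip] using this
    all_goals omega
  have m3 : lst 3 ∈ (tuples 7).filter (ok lineD lineA lineB lineC) := by
    refine List.mem_filter.mpr ⟨hmem 3, ?_⟩
    have := eA 3; have := eB 3; have := eC 3; have := eD 3
    have := hnn 3 0 (by rw [hD]; simp); have := hnn 3 3 (by rw [hD]; simp)
    have := hnn 3 6 (by rw [hD]; simp)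
    simp [ok, lineA, lineB, lineC, lineD, lst, ip, agree] at *
    refine ⟨⟨⟨⟨⟨?_, ?_⟩, ?_⟩, ?_⟩, ?_⟩, ?_⟩
    · have := hle 3; simpa [lst, ip] using this
    all_goals omega
  have h := pencil_impossible _ m0 _ m1 _ m2 _ m3
  rw [hcompat 0 1 (by decide), hcompat 0 2 (by decide), hcompat 0 3 (by decide),
    hcompat 1 2 (by decide), hcompat 1 3 (by decide), hcompat 2 3 (by decide)] at h
  exact absurd h (by decide)

theorem row_meet {i : I} {j l : J} (h : j ≠ l) :
    ∃ p, v i j p ≠ 0 ∧ v i j p = v i l p ∧ ∀ t, v i j t ≠ 0 → v i l t ≠ 0 → t = p :=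
  line_meet d hv.deg_pos (hv.norm i j) (hv.norm i l) (hv.row i j l h) (hv.degree i i j l)

omit hv in
theorem exists_third {u : ι → ℤ} (hu : dot u u = 3) {y z : ι} (hy : u y ≠ 0) (hz : u z ≠ 0)
    (hyz : y ≠ z) : ∃ a, u a ≠ 0 ∧ a ≠ y ∧ a ≠ z ∧ ∀ t, u t ≠ 0 ↔ t = y ∨ t = z ∨ t = a := by
  classical
  have hsub : {y, z} ⊆ supp u := by
    intro t ht
    rcases Finset.mem_insert.mp ht with rfl | ht
    · exact mem_supp.mpr hy
    · rw [Finset.mem_singleton.mp ht]; exact mem_supp.mpr hz
  obtain ⟨a, ha⟩ := Finset.card_eq_one.mp (show (supp u \ {y, z}).card = 1 by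
    rw [Finset.card_sdiff_of_subset hsub, card_supp hu, Finset.card_pair hyz])
  have haM : a ∈ supp u \ {y, z} := ha ▸ Finset.mem_singleton_self a
  simp only [Finset.mem_sdiff, mem_supp, Finset.mem_insert, Finset.mem_singleton, not_or] at haM
  refine ⟨a, haM.1, haM.2.1, haM.2.2, fun t => ⟨fun ht => ?_, ?_⟩⟩
  · by_contra hn
    push Not at hn
    refine hn.2.2 (Finset.mem_singleton.mp (ha ▸ ?_))
    simp [mem_supp, ht, hn.1, hn.2.1]
  · rintro (rfl | rfl | rfl)
    exacts [hy, hz, haM.1]

omit [Fintype ι] hv in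
theorem injective_vec7 {a b c d e f g : ι} (h : [a, b, c, d, e, f, g].Nodup) :
    Function.Injective ![a, b, c, d, e, f, g] :=
  List.nodup_ofFn.mp (by simpa [List.ofFn_succ] using h)

/-- No three columns of a row form a triangle together with a fourth. -/
theorem triangle_false {i k : I} (hik : i ≠ k) {f : Fin 4 → J} (hf : Function.Injective f)
    (htri : ∀ t, v i (f 0) t ≠ 0 → v i (f 1) t ≠ 0 → v i (f 2) t ≠ 0 → False) : False := by
  classical
  have hne : ∀ {r q : Fin 4}, r ≠ q → f r ≠ f q := fun h e => h (hf e)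
  have uni : ∀ {r q : Fin 4}, r ≠ q → ∀ t t', v i (f r) t ≠ 0 → v i (f q) t ≠ 0 →
      v i (f r) t' ≠ 0 → v i (f q) t' ≠ 0 → t = t' := by
    intro r q h t t' h1 h2 h3 h4
    obtain ⟨p, -, -, hu⟩ := row_meet hv (i := i) (hne h)
    exact (hu t h1 h2).trans (hu t' h3 h4).symm
  have agr : ∀ r q t, v i (f r) t ≠ 0 → v i (f q) t ≠ 0 → v i (f r) t = v i (f q) t := by
    intro r q t h1 h2
    by_cases h : r = q
    · rw [h]
    obtain ⟨p, -, he, hu⟩ := row_meet hv (i := i) (hne h)
    rw [hu t h1 h2, he]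
  let s : ι → ℤ := fun t => if v i (f 0) t ≠ 0 then v i (f 0) t else if v i (f 1) t ≠ 0 then v i (f 1) t
    else if v i (f 2) t ≠ 0 then v i (f 2) t else v i (f 3) t
  have hst : ∀ r t, v i (f r) t ≠ 0 → v i (f r) t = s t := by
    intro r t h
    simp only [s]
    split_ifs with h0 h1 h2
    · exact agr r 0 t h h0
    · exact agr r 1 t h h1
    · exact agr r 2 t h h2
    · fin_cases r <;> first | rfl | contradiction
  have hs2 : ∀ r t, v i (f r) t ≠ 0 → s t * s t = 1 := fun r t h => by
    rw [← hst r t h]; exact sq_of_mem (hv.norm i (f r)) (mem_supp.mpr h)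
  obtain ⟨z, hzA, hzB', -⟩ := row_meet hv (i := i) (hne (show (0 : Fin 4) ≠ 1 by decide))
  obtain ⟨y, hyA, hyC', -⟩ := row_meet hv (i := i) (hne (show (0 : Fin 4) ≠ 2 by decide))
  obtain ⟨x, hxB, hxC', -⟩ := row_meet hv (i := i) (hne (show (1 : Fin 4) ≠ 2 by decide))
  have hzB : v i (f 1) z ≠ 0 := hzB' ▸ hzA
  have hyC : v i (f 2) y ≠ 0 := hyC' ▸ hyA
  have hxC : v i (f 2) x ≠ 0 := hxC' ▸ hxB
  have hxA : v i (f 0) x = 0 := by_contra fun h => htri x h hxB hxC
  have hyB : v i (f 1) y = 0 := by_contra fun h => htri y hyA h hyC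
  have hzC : v i (f 2) z = 0 := by_contra fun h => htri z hzA hzB h
  have hxy : x ≠ y := fun h => hyA (h ▸ hxA)
  have hxz : x ≠ z := fun h => hzA (h ▸ hxA)
  have hyz : y ≠ z := fun h => hzB (h ▸ hyB)
  obtain ⟨a, haA, hay, haz, hA⟩ := exists_third (hv.norm i (f 0)) hyA hzA hyz
  obtain ⟨b, hbB, hbx, hbz, hB⟩ := exists_third (hv.norm i (f 1)) hxB hzB hxz
  obtain ⟨c, hcC, hcx, hcy, hC⟩ := exists_third (hv.norm i (f 2)) hxC hyC hxy
  have haB : v i (f 1) a = 0 := by_contra fun h => haz (uni (show (0 : Fin 4) ≠ 1 by decide) a z haA h hzA hzB)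
  have haC : v i (f 2) a = 0 := by_contra fun h => hay (uni (show (0 : Fin 4) ≠ 2 by decide) a y haA h hyA hyC)
  have hbA : v i (f 0) b = 0 := by_contra fun h => hbz (uni (show (1 : Fin 4) ≠ 0 by decide) b z hbB h hzB hzA)
  have hbC : v i (f 2) b = 0 := by_contra fun h => hbx (uni (show (1 : Fin 4) ≠ 2 by decide) b x hbB h hxB hxC)
  have hcA : v i (f 0) c = 0 := by_contra fun h => hcy (uni (show (2 : Fin 4) ≠ 0 by decide) c y hcC h hyC hyA)
  have hcB : v i (f 1) c = 0 := by_contra fun h => hcx (uni (show (2 : Fin 4) ≠ 1 by decide) c x hcC h hxC hxB)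
  have hxa : x ≠ a := fun h => haA (h ▸ hxA)
  have hyb : y ≠ b := fun h => hbB (h ▸ hyB)
  have hzc : z ≠ c := fun h => hcC (h ▸ hzC)
  have hab : a ≠ b := fun h => hbB (h ▸ haB)
  have hac : a ≠ c := fun h => hcC (h ▸ haC)
  have hbc : b ≠ c := fun h => hcC (h ▸ hbC)
  -- a line as a conditional
  have hcond : ∀ r (p q o : ι), (∀ t, v i (f r) t ≠ 0 ↔ t = p ∨ t = q ∨ t = o) →
      ∀ t, v i (f r) t = if t = p ∨ t = q ∨ t = o then s t else 0 := by
    intro r p q o h t
    split_ifs with hc
    · exact hst r t ((h t).mpr hc)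
    · exact by_contra fun h' => hc ((h t).mp h')
  obtain ⟨pA, hpAD, hpA', -⟩ := row_meet hv (i := i) (hne (show (3 : Fin 4) ≠ 0 by decide))
  have hpA : v i (f 0) pA ≠ 0 := hpA' ▸ hpAD
  -- the fourth column through `p`, with `q` its other known point
  have hfourth : ∀ p q : ι, v i (f 3) p ≠ 0 → v i (f 3) q ≠ 0 → p ≠ q →
      ∃ e, v i (f 3) e ≠ 0 ∧ e ≠ p ∧ e ≠ q ∧
        ∀ t, v i (f 3) t ≠ 0 ↔ t = p ∨ t = q ∨ t = e :=
    fun p q => exists_third (hv.norm i (f 3))
  by_cases hxD : v i (f 3) x ≠ 0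
  · have haD : v i (f 3) a ≠ 0 := by
      rcases (hA pA).mp hpA with h | h | h
      · exact absurd (uni (show (3 : Fin 4) ≠ 2 by decide) pA x hpAD (h ▸ hyC) hxD hxC) (h ▸ hxy.symm)
      · exact absurd (uni (show (3 : Fin 4) ≠ 1 by decide) pA x hpAD (h ▸ hzB) hxD hxB) (h ▸ hxz.symm)
      · exact h ▸ hpAD
    obtain ⟨e, heD, hex, hea, hD⟩ := hfourth x a hxD haD hxa
    have h0 : v i (f 0) e = 0 := by_contra fun h => hea (uni (show (3 : Fin 4) ≠ 0 by decide) e a heD h haD haA)
    have h1 : v i (f 1) e = 0 := by_contra fun h => hex (uni (show (3 : Fin 4) ≠ 1 by decide) e x heD h hxD hxB)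
    have h2 : v i (f 2) e = 0 := by_contra fun h => hex (uni (show (3 : Fin 4) ≠ 2 by decide) e x heD h hxD hxC)
    have hey : y ≠ e := fun h => hyA (h ▸ h0)
    have hez : z ≠ e := fun h => hzA (h ▸ h0)
    have heb : b ≠ e := fun h => hbB (h ▸ h1)
    have hec : c ≠ e := fun h => hcC (h ▸ h2)
    refine pencil_false hv hik f hf ![x, y, z, a, b, c, e] ?_ s ?_ (hcond 0 _ _ _ hA) (hcond 1 _ _ _ hB)
      (hcond 2 _ _ _ hC) (hcond 3 _ _ _ hD)
    · refine injective_vec7 ?_
      simp only [List.nodup_cons, List.mem_cons, List.not_mem_nil, or_false, not_or,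
        List.nodup_nil, and_true, not_false_eq_true]
      repeat' apply And.intro
      all_goals first | assumption | exact Ne.symm (by assumption)
    · intro n
      fin_cases n <;> first
        | exact hs2 1 _ hxB | exact hs2 0 _ hyA | exact hs2 0 _ hzA | exact hs2 0 _ haA
        | exact hs2 1 _ hbB | exact hs2 2 _ hcC | exact hs2 3 _ heD
  push Not at hxD
  by_cases hyD : v i (f 3) y ≠ 0
  · obtain ⟨pB, hpBD, hpB', -⟩ := row_meet hv (i := i) (hne (show (3 : Fin 4) ≠ 1 by decide))
    have hbD : v i (f 3) b ≠ 0 := by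
      rcases (hB pB).mp (hpB' ▸ hpBD) with h | h | h
      · exact absurd (h ▸ hpBD) (by simp [hxD])
      · exact absurd (uni (show (3 : Fin 4) ≠ 0 by decide) pB y hpBD (h ▸ hzA) hyD hyA) (h ▸ hyz.symm)
      · exact h ▸ hpBD
    obtain ⟨e, heD, hey, heb, hD⟩ := hfourth y b hyD hbD hyb
    have h0 : v i (f 0) e = 0 := by_contra fun h => hey (uni (show (3 : Fin 4) ≠ 0 by decide) e y heD h hyD hyA)
    have h1 : v i (f 1) e = 0 := by_contra fun h => heb (uni (show (3 : Fin 4) ≠ 1 by decide) e b heD h hbD hbB)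
    have h2 : v i (f 2) e = 0 := by_contra fun h => hey (uni (show (3 : Fin 4) ≠ 2 by decide) e y heD h hyD hyC)
    have hex : x ≠ e := fun h => hxB (h ▸ h1)
    have hez : z ≠ e := fun h => hzA (h ▸ h0)
    have hea : a ≠ e := fun h => haA (h ▸ h0)
    have hec : c ≠ e := fun h => hcC (h ▸ h2)
    refine pencil_false hv hik (f ∘ ![1, 0, 2, 3]) (hf.comp (by decide)) ![y, x, z, b, a, c, e] ?_ s ?_
      (hcond 1 x z b hB) (hcond 0 y z a hA) (hcond 2 y x c fun t => (hC t).trans (by simp [or_left_comm]))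
      (hcond 3 y b e hD)
    · refine injective_vec7 ?_
      simp only [List.nodup_cons, List.mem_cons, List.not_mem_nil, or_false, not_or,
        List.nodup_nil, and_true, not_false_eq_true]
      repeat' apply And.intro
      all_goals first | assumption | exact Ne.symm (by assumption)
    · intro n
      fin_cases n <;> first
        | exact hs2 1 _ hxB | exact hs2 0 _ hyA | exact hs2 0 _ hzA | exact hs2 0 _ haA
        | exact hs2 1 _ hbB | exact hs2 2 _ hcC | exact hs2 3 _ heD
  push Not at hyD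
  by_cases hzD : v i (f 3) z ≠ 0
  · obtain ⟨pC, hpCD, hpC', -⟩ := row_meet hv (i := i) (hne (show (3 : Fin 4) ≠ 2 by decide))
    have hcD : v i (f 3) c ≠ 0 := by
      rcases (hC pC).mp (hpC' ▸ hpCD) with h | h | h
      · exact absurd (h ▸ hpCD) (by simp [hxD])
      · exact absurd (h ▸ hpCD) (by simp [hyD])
      · exact h ▸ hpCD
    obtain ⟨e, heD, hez, hec, hD⟩ := hfourth z c hzD hcD hzc
    have h0 : v i (f 0) e = 0 := by_contra fun h => hez (uni (show (3 : Fin 4) ≠ 0 by decide) e z heD h hzD hzA)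
    have h1 : v i (f 1) e = 0 := by_contra fun h => hez (uni (show (3 : Fin 4) ≠ 1 by decide) e z heD h hzD hzB)
    have h2 : v i (f 2) e = 0 := by_contra fun h => hec (uni (show (3 : Fin 4) ≠ 2 by decide) e c heD h hcD hcC)
    have hex : x ≠ e := fun h => hxB (h ▸ h1)
    have hey : y ≠ e := fun h => hyA (h ▸ h0)
    have hea : a ≠ e := fun h => haA (h ▸ h0)
    have heb : b ≠ e := fun h => hbB (h ▸ h1)
    refine pencil_false hv hik (f ∘ ![2, 1, 0, 3]) (hf.comp (by decide)) ![z, y, x, c, b, a, e] ?_ s ?_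
      (hcond 2 y x c fun t => (hC t).trans (by simp [or_left_comm]))
      (hcond 1 z x b fun t => (hB t).trans (by simp [or_left_comm]))
      (hcond 0 z y a fun t => (hA t).trans (by simp [or_left_comm]))
      (hcond 3 z c e hD)
    · refine injective_vec7 ?_
      simp only [List.nodup_cons, List.mem_cons, List.not_mem_nil, or_false, not_or,
        List.nodup_nil, and_true, not_false_eq_true]
      repeat' apply And.intro
      all_goals first | assumption | exact Ne.symm (by assumption)
    · intro n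
      fin_cases n <;> first
        | exact hs2 1 _ hxB | exact hs2 0 _ hyA | exact hs2 0 _ hzA | exact hs2 0 _ haA
        | exact hs2 1 _ hbB | exact hs2 2 _ hcC | exact hs2 3 _ heD
  push Not at hzD
  have haD : v i (f 3) a ≠ 0 := by
    rcases (hA pA).mp hpA with h | h | h
    · exact absurd (h ▸ hpAD) (by simp [hyD])
    · exact absurd (h ▸ hpAD) (by simp [hzD])
    · exact h ▸ hpAD
  obtain ⟨pB, hpBD, hpB', -⟩ := row_meet hv (i := i) (hne (show (3 : Fin 4) ≠ 1 by decide))
  have hbD : v i (f 3) b ≠ 0 := by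
    rcases (hB pB).mp (hpB' ▸ hpBD) with h | h | h
    · exact absurd (h ▸ hpBD) (by simp [hxD])
    · exact absurd (h ▸ hpBD) (by simp [hzD])
    · exact h ▸ hpBD
  obtain ⟨pC, hpCD, hpC', -⟩ := row_meet hv (i := i) (hne (show (3 : Fin 4) ≠ 2 by decide))
  have hcD : v i (f 3) c ≠ 0 := by
    rcases (hC pC).mp (hpC' ▸ hpCD) with h | h | h
    · exact absurd (h ▸ hpCD) (by simp [hxD])
    · exact absurd (h ▸ hpCD) (by simp [hyD])
    · exact h ▸ hpCD
  obtain ⟨e, -, hea, heb, hD⟩ := exists_third (hv.norm i (f 3)) haD hbD hab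
  have hec : c = e := by
    rcases (hD c).mp hcD with h | h | h
    exacts [absurd h hac.symm, absurd h hbc.symm, h]
  subst hec
  -- every point lies on an even number of the four lines
  have heven : ∀ t, (2 : ℤ) ∣ v i (f 0) t + v i (f 1) t + v i (f 2) t + v i (f 3) t := by
    intro t
    rw [hcond 0 _ _ _ hA t, hcond 1 _ _ _ hB t, hcond 2 _ _ _ hC t, hcond 3 _ _ _ hD t]
    by_cases e1 : t = x
    · subst e1; simp [hxy, hxz, hxa, hbx.symm, hcx.symm]; omega
    by_cases e2 : t = y
    · subst e2; simp [hxy.symm, hyz, hay.symm, hyb, hcy.symm]; omega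
    by_cases e3 : t = z
    · subst e3; simp [hxz.symm, hyz.symm, haz.symm, hbz.symm, hzc]; omega
    by_cases e4 : t = a
    · subst e4; simp [hay, haz, hxa.symm, hab, hac]; omega
    by_cases e5 : t = b
    · subst e5; simp [hbx, hbz, hyb.symm, hab.symm, hbc]; omega
    by_cases e6 : t = c
    · subst e6; simp [hcx, hcy, hzc.symm, hac.symm, hbc.symm]; omega
    simp [e1, e2, e3, e4, e5, e6]
  have h1 : dot (v k (f 0)) (fun t => v i (f 0) t + v i (f 1) t + v i (f 2) t + v i (f 3) t) = 1 := by
    have e : dot (v k (f 0)) (fun t => v i (f 0) t + v i (f 1) t + v i (f 2) t + v i (f 3) t) =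
        dot (v k (f 0)) (v i (f 0)) + dot (v k (f 0)) (v i (f 1)) + dot (v k (f 0)) (v i (f 2))
          + dot (v k (f 0)) (v i (f 3)) := by
      simp only [dot, mul_add, Finset.sum_add_distrib]
    rw [e, hv.col k i _ hik.symm, hv.off k i _ _ hik.symm (hne (by decide)),
      hv.off k i _ _ hik.symm (hne (by decide)), hv.off k i _ _ hik.symm (hne (by decide))]
    rfl
  have h2 : (2 : ℤ) ∣ dot (v k (f 0)) (fun t => v i (f 0) t + v i (f 1) t + v i (f 2) t + v i (f 3) t) :=
    Finset.dvd_sum fun t _ => Dvd.dvd.mul_left (heven t) _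
  rw [h1] at h2
  omega

/-- The vectors of a line with two or at least four members have a common point. -/
theorem exists_center [Fintype J] {i k : I} (hik : i ≠ k)
    (hJ : Fintype.card J = 2 ∨ 4 ≤ Fintype.card J) : ∃ p, ∀ j, v i j p ≠ 0 := by
  classical
  have h1 : 1 < Fintype.card J := by omega
  obtain ⟨a, b, hab⟩ := Fintype.one_lt_card_iff.mp h1
  obtain ⟨p, hp, hpe, -⟩ := row_meet hv (i := i) hab
  refine ⟨p, fun l => ?_⟩
  by_cases hla : l = a
  · rwa [hla]
  by_cases hlb : l = b
  · rw [hlb, ← hpe]; exact hp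
  have h4 : 4 ≤ Fintype.card J := by
    refine hJ.resolve_left fun h2 => ?_
    have : ({a, b, l} : Finset J).card ≤ 2 := h2 ▸ Finset.card_le_univ _
    rw [Finset.card_eq_three.mpr ⟨a, b, l, hab, Ne.symm hla, Ne.symm hlb, rfl⟩] at this
    omega
  obtain ⟨m, -, hm⟩ := Finset.exists_mem_notMem_of_card_lt_card (s := ({a, b, l} : Finset J))
    (t := (Finset.univ : Finset J)) (by
      rw [Finset.card_univ, Finset.card_eq_three.mpr ⟨a, b, l, hab, Ne.symm hla, Ne.symm hlb, rfl⟩]
      omega)
  simp only [Finset.mem_insert, Finset.mem_singleton, not_or] at hm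
  by_contra hp0
  refine triangle_false hv hik (f := ![a, b, l, m]) ?_ fun t ha hb hl => ?_
  · intro r q h
    fin_cases r <;> fin_cases q <;> simp_all [eq_comm]
  · obtain ⟨p', -, -, hu'⟩ := row_meet hv (i := i) hab
    have e1 : t = p' := hu' t ha hb
    have e2 : p = p' := hu' p hp (hpe ▸ hp)
    exact hl (e1.trans e2.symm ▸ hp0)

/-- The two centres through a cell are different. -/
theorem center_ne [Fintype J] {i k : I} (hik : i ≠ k) (hJ : 4 ≤ Fintype.card J) {j : J} {p : ι}
    (hrow : ∀ l, v i l p ≠ 0) (hcol : v k j p ≠ 0) : False := by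
  classical
  obtain ⟨p₀, -, hpe, hu⟩ := line_meet d hv.deg_pos (hv.norm i j) (hv.norm k j) (hv.col i k j hik)
    (hv.degree i k j j)
  obtain rfl := hu p (hrow j) hcol
  have : Nonempty ι := ⟨p⟩
  have hq : ∀ l, l ≠ j → ∃ q ∈ (supp (v k j)).erase p, v i l q ≠ 0 := by
    intro l hl
    obtain ⟨p', -, hpe', hu'⟩ := row_meet hv (i := i) hl.symm
    obtain rfl := hu' p (hrow j) (hrow l)
    by_contra hn
    push Not at hn
    have h := hv.off k i j l hik.symm hl.symm
    rw [dot, Finset.sum_eq_single p (fun t _ ht => ?_) (fun h => absurd (Finset.mem_univ p) h)] at h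
    · exact mul_ne_zero hcol (hrow l) h
    · by_cases h0 : v k j t = 0
      · rw [h0, zero_mul]
      · rw [hn t (Finset.mem_erase.mpr ⟨ht, mem_supp.mpr h0⟩), mul_zero]
  choose! q hq1 hq2 using hq
  have hle : ((Finset.univ : Finset J).erase j).card ≤ ((supp (v k j)).erase p).card := by
    refine Finset.card_le_card_of_injOn q (fun l hl => hq1 l (Finset.ne_of_mem_erase hl))
      fun l hl l' hl' he => ?_
    by_contra hne
    obtain ⟨p', -, -, hu'⟩ := row_meet hv (i := i) hne
    have e1 : p = p' := hu' p (hrow l) (hrow l')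
    have e2 : q l = p' :=
      hu' _ (hq2 l (Finset.ne_of_mem_erase hl)) (he ▸ hq2 l' (Finset.ne_of_mem_erase hl'))
    exact Finset.ne_of_mem_erase (hq1 l (Finset.ne_of_mem_erase hl)) (e2.trans e1.symm)
  rw [Finset.card_erase_of_mem (Finset.mem_univ j), Finset.card_univ,
    Finset.card_erase_of_mem (mem_supp.mpr hcol), card_supp (hv.norm k j)] at hle
  omega

open Classical in
/-- The decomposition. -/
theorem decomp [Fintype I] [Fintype J] (hI : Fintype.card I = 2 ∨ 4 ≤ Fintype.card I)
    (hJ : 4 ≤ Fintype.card J) :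
    ∃ (P : I ⊕ J ⊕ I × J → ι) (e : I ⊕ J ⊕ I × J → ℤ), Function.Injective P ∧
      (∀ n, e n * e n = 1) ∧
      ∀ i j t, v i j t =
        (if t = P (.inr (.inr (i, j))) then e (.inr (.inr (i, j))) else 0)
        - (if t = P (.inl i) then e (.inl i) else 0)
        - (if t = P (.inr (.inl j)) then e (.inr (.inl j)) else 0) := by
  have hI1 : 1 < Fintype.card I := by omega
  have : Nontrivial I := Fintype.one_lt_card_iff_nontrivial.mp hI1
  have : Nontrivial J := Fintype.one_lt_card_iff_nontrivial.mp (by omega)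
  choose P hP using fun i : I => let ⟨k, hk⟩ := exists_ne i; exists_center hv hk.symm (Or.inr hJ)
  choose Q hQ using fun j : J => let ⟨l, hl⟩ := exists_ne j; exists_center hv.swap hl.symm hI
  have hPQ : ∀ i j, P i ≠ Q j := by
    intro i j h
    obtain ⟨k, hk⟩ := exists_ne i
    exact center_ne hv hk.symm hJ (hP i) (h ▸ hQ j k)
  choose R hR0 hRP hRQ hR using fun i j => exists_third (hv.norm i j) (hP i j) (hQ j i) (hPQ i j)
  have rowu : ∀ i j l t, j ≠ l → v i j t ≠ 0 → v i l t ≠ 0 → t = P i := by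
    intro i j l t h h1 h2
    obtain ⟨p, -, -, hu⟩ := row_meet hv (i := i) h
    exact (hu t h1 h2).trans (hu _ (hP i j) (hP i l)).symm
  have colu : ∀ i k j t, i ≠ k → v i j t ≠ 0 → v k j t ≠ 0 → t = Q j := by
    intro i k j t h h1 h2
    obtain ⟨p, -, -, hu⟩ := row_meet hv.swap (i := j) h
    exact (hu t h1 h2).trans (hu _ (hQ j i) (hQ j k)).symm
  have hPP : Function.Injective P := by
    intro i k h
    by_contra hne
    obtain ⟨j, -⟩ := exists_pair_ne J
    exact hPQ i j (colu i k j (P i) hne (hP i j) (h ▸ hP k j))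
  have hQQ : Function.Injective Q := by
    intro j l h
    by_contra hne
    obtain ⟨i, -⟩ := exists_pair_ne I
    exact hPQ i j (rowu i j l (Q j) hne (hQ j i) (h ▸ hQ l i)).symm
  have hRP' : ∀ i j k, R i j ≠ P k := by
    intro i j k h
    by_cases e : k = i
    · exact hRP i j (e ▸ h)
    · exact hRQ i j (colu i k j _ (Ne.symm e) (hR0 i j) (h ▸ hP k j))
  have hRQ' : ∀ i j l, R i j ≠ Q l := by
    intro i j l h
    by_cases e : l = j
    · exact hRQ i j (e ▸ h)
    · exact hRP i j (rowu i j l _ (Ne.symm e) (hR0 i j) (h ▸ hQ l i))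
  have hRR : ∀ i j k l, R i j = R k l → i = k ∧ j = l := by
    intro i j k l h
    by_cases e1 : i = k <;> by_cases e2 : j = l
    · exact ⟨e1, e2⟩
    · subst e1
      exact absurd (rowu i j l _ e2 (hR0 i j) (h ▸ hR0 i l)) (hRP i j)
    · subst e2
      exact absurd (colu i k j _ e1 (hR0 i j) (h ▸ hR0 k j)) (hRQ i j)
    · exfalso
      have h0 := hv.off i k j l e1 e2
      rw [dot, Finset.sum_eq_single (R i j) (fun t _ ht => ?_)
        (fun h => absurd (Finset.mem_univ _) h)] at h0
      · exact mul_ne_zero (hR0 i j) (h ▸ hR0 k l) h0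
      · by_cases a : v i j t = 0
        · rw [a, zero_mul]
        by_cases b : v k l t = 0
        · rw [b, mul_zero]
        rcases (hR i j t).mp a with u | u | u
        · rcases (hR k l t).mp b with w | w | w
          exacts [absurd (hPP (u.symm.trans w)) e1, absurd (u.symm.trans w) (hPQ i l),
            absurd (w.symm.trans u) (hRP' k l i)]
        · rcases (hR k l t).mp b with w | w | w
          exacts [absurd (w.symm.trans u) (hPQ k j), absurd (hQQ (u.symm.trans w)) e2,
            absurd (w.symm.trans u) (hRQ' k l j)]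
        · exact absurd u ht
  obtain ⟨i₀, -⟩ := exists_pair_ne I
  obtain ⟨j₀, -⟩ := exists_pair_ne J
  have hPc : ∀ i j l, v i j (P i) = v i l (P i) := by
    intro i j l
    by_cases h : j = l
    · rw [h]
    obtain ⟨p, -, he, hu⟩ := row_meet hv (i := i) h
    rw [hu _ (hP i j) (hP i l), he]
  have hQc : ∀ i k j, v i j (Q j) = v k j (Q j) := by
    intro i k j
    by_cases h : i = k
    · rw [h]
    obtain ⟨p, -, he, hu⟩ := row_meet hv.swap (i := j) h
    rw [hu _ (hQ j i) (hQ j k), he]
  refine ⟨Sum.elim P (Sum.elim Q fun p => R p.1 p.2), Sum.elim (fun i => -v i j₀ (P i))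
    (Sum.elim (fun j => -v i₀ j (Q j)) fun p => v p.1 p.2 (R p.1 p.2)), ?_, ?_, fun i j t => ?_⟩
  · rintro (i | j | ⟨i, j⟩) (k | l | ⟨k, l⟩) h <;> simp only [Sum.elim_inl, Sum.elim_inr] at h
    · rw [hPP h]
    · exact absurd h (hPQ i l)
    · exact absurd h.symm (hRP' k l i)
    · exact absurd h.symm (hPQ k j)
    · rw [hQQ h]
    · exact absurd h.symm (hRQ' k l j)
    · exact absurd h (hRP' i j k)
    · exact absurd h (hRQ' i j l)
    · obtain ⟨rfl, rfl⟩ := hRR i j k l h; rfl
  · rintro (i | j | ⟨i, j⟩) <;> simp only [Sum.elim_inl, Sum.elim_inr, neg_mul_neg]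
    · exact sq_of_mem (hv.norm i j₀) (mem_supp.mpr (hP i j₀))
    · exact sq_of_mem (hv.norm i₀ j) (mem_supp.mpr (hQ j i₀))
    · exact sq_of_mem (hv.norm i j) (mem_supp.mpr (hR0 i j))
  · simp only [Sum.elim_inl, Sum.elim_inr]
    by_cases a : t = P i
    · subst a
      simp [(hRP i j).symm, hPQ i j, hPc i j j₀]
    by_cases b : t = Q j
    · subst b
      simp [(hRQ i j).symm, a, hQc i i₀ j]
    by_cases c : t = R i j
    · subst c; simp [a, b]
    simp only [a, b, c, if_false, sub_zero]
    by_contra h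
    rcases (hR i j t).mp h with h | h | h
    exacts [a h, b h, c h]

end CfsgLib.Clifford.Grid
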