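import Cfsg.Agent.Lib.Clifford.Correspondence
import Cfsg.Agent.Lib.Clifford.Constituents
import Cfsg.Agent.Lib.Char.CliffordApps
import Cfsg.Agent.Lib.Char.Linear
import Cfsg.Agent.Lib.Char.Integral
import Cfsg.Agent.Lib.BlockB.ClassMul

/-!
Character degrees over normal subgroups, and the theorem of Ito on degrees prime to `p`.
-/

set_option autoImplicit false

namespace CfsgLib.Clifford.Degrees

open CfsgLib

universe u

variable {G : Type u} [Group G]

/-- Every irreducible character of a normal subgroup lies under one of the group. -/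
theorem exists_over [Fintype G] (N : Subgroup G) [Fintype N] [N.Normal] {θ : N → ℂ}
    (hθ : Cfsg.IsIrrCharacter N θ) :
    ∃ χ, Cfsg.IsIrrCharacter G χ ∧ Cfsg.classInner (fun n : N => χ n) θ ≠ 0 := by
  obtain ⟨χ, hχ, hne⟩ := Char.exists_constituent
    (Char.isCharacter_indFun N (Char.irr_isCharacter hθ)) (by
      rw [Char.indFun_apply_one]
      exact mul_ne_zero (Nat.cast_ne_zero.mpr Subgroup.index_ne_zero_of_finite)
        (Char.irr_apply_one_ne_zero hθ))
  rw [Char.frobenius_reciprocity N θ χ (Char.irr_isClassFunction hχ),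
    ← Char.classInner_conj_symm] at hne
  exact ⟨χ, hχ, fun h => hne (by rw [h, map_zero])⟩

/-- The degree of a character over `θ` is divisible by the orbit length times the degree of `θ`. -/
theorem index_inertia_mul_dvd [Fintype G] (N : Subgroup G) [Fintype N] [N.Normal] {θ χ : _}
    (hθ : Cfsg.IsIrrCharacter N θ) (hχ : Cfsg.IsIrrCharacter G χ)
    (h : Cfsg.classInner (fun n : N => χ n) θ ≠ 0) :
    (inertia θ).index * Cfsg.charDegree θ ∣ Cfsg.charDegree χ := by
  classical
  have hT : ∀ g, g ∈ inertia θ ↔ conjFn g θ = θ := fun g => mem_inertia_iff_conjFn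
  have hNT : N ≤ inertia θ := le_inertia (Char.irr_isClassFunction hθ)
  obtain ⟨ψ, hψ, rfl, hm⟩ := exists_indFun_inertia (inertia θ) hNT hθ hT hχ h
  have h1 := restrict_eq_smul_inertia (inertia θ) hNT hθ hT hψ (by rw [hm]; exact h)
  obtain ⟨k, hk⟩ := Char.classInner_isCharacter_nat
    (Char.isCharacter_restrict (Char.irr_isCharacter hχ) N) (Char.irr_isCharacter hθ)
  rw [hm, hk] at h1
  have h2 := congr_fun h1 1
  refine ⟨k, ?_⟩
  have hc : (Cfsg.charDegree (Cfsg.indFun (inertia θ) ψ) : ℂ) =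
      (((inertia θ).index * Cfsg.charDegree θ * k : ℕ) : ℂ) := by
    rw [BlockB.charDegree_cast (Char.irr_isCharacter hχ), Nat.cast_mul, Nat.cast_mul,
      BlockB.charDegree_cast (Char.irr_isCharacter hθ), Char.indFun_apply_one, mul_assoc]
    congr 1
    simp only [Pi.smul_apply, smul_eq_mul] at h2
    rw [mul_comm (θ 1), ← h2]
    rfl
  exact_mod_cast hc

/-- No irreducible degree is divisible by `p`. -/
def PrimeTo (p : ℕ) (G : Type u) [Group G] : Prop :=
  ∀ χ : G → ℂ, Cfsg.IsIrrCharacter G χ → ¬ p ∣ Cfsg.charDegree χ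

theorem PrimeTo.of_normal [Finite G] {p : ℕ} (h : PrimeTo p G) (N : Subgroup G) [N.Normal] :
    PrimeTo p N := by
  intro θ hθ hd
  have := Fintype.ofFinite G
  have := Fintype.ofFinite N
  obtain ⟨χ, hχ, hne⟩ := exists_over N hθ
  exact h χ hχ ((hd.mul_left _).trans (index_inertia_mul_dvd N hθ hχ hne))

theorem PrimeTo.quotient [Finite G] {p : ℕ} (h : PrimeTo p G) (N : Subgroup G) [N.Normal] :
    PrimeTo p (G ⧸ N) := by
  intro ψ hψ hd
  have hχ := Char.isIrrCharacter_comp_surjective hψ (QuotientGroup.mk' N)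
    (QuotientGroup.mk'_surjective N)
  refine h _ hχ ?_
  have e : (Cfsg.charDegree (ψ ∘ QuotientGroup.mk' N) : ℂ) = (Cfsg.charDegree ψ : ℂ) := by
    rw [BlockB.charDegree_cast (Char.irr_isCharacter hχ), BlockB.charDegree_cast (Char.irr_isCharacter hψ)]
    simp
  have e' : Cfsg.charDegree (ψ ∘ QuotientGroup.mk' N) = Cfsg.charDegree ψ := by exact_mod_cast e
  rwa [e']

theorem charDegree_dvd_card [Finite G] {χ : G → ℂ} (hχ : Cfsg.IsIrrCharacter G χ) :
    Cfsg.charDegree χ ∣ Nat.card G := by
  obtain ⟨n, ρ, hρ, rfl⟩ := hχ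
  have e : (Cfsg.charDegree ρ.character : ℂ) = (Module.finrank ℂ (Fin n → ℂ) : ℂ) := by
    rw [BlockB.charDegree_cast ⟨n, ρ, rfl⟩, Representation.char_one]
  rw [show Cfsg.charDegree ρ.character = Module.finrank ℂ (Fin n → ℂ) by exact_mod_cast e]
  exact Char.degree_dvd_card ρ

/-- A normal `p`-subgroup is abelian when no degree is divisible by `p`. -/
theorem PrimeTo.comm_of_pgroup [Finite G] {p : ℕ} [hp : Fact p.Prime] (h : PrimeTo p G)
    (P : Subgroup G) [P.Normal] (hP : IsPGroup p P) : ∀ x ∈ P, ∀ y ∈ P, x * y = y * x := by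
  intro x hx y hy
  refine congr_arg Subtype.val ((Char.comm_iff_forall_degree_one (G := P)).mpr (fun θ => ?_)
    ⟨x, hx⟩ ⟨y, hy⟩)
  obtain ⟨k, hk⟩ := IsPGroup.iff_card.mp hP
  have hd := charDegree_dvd_card θ.2
  rw [hk] at hd
  obtain ⟨i, -, hi⟩ := (Nat.dvd_prime_pow hp.out).mp hd
  rw [← BlockB.charDegree_cast (Char.irr_isCharacter θ.2), hi]
  rcases i with - | i
  · simp
  · exact absurd (hi ▸ dvd_pow_self p i.succ_ne_zero) (h.of_normal P θ.1 θ.2)

/-- `p`-elements lie in a normal subgroup of index prime to `p`. -/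
theorem mem_of_pow_eq_one [Finite G] {p : ℕ} (hp : p.Prime) (P : Subgroup G) [P.Normal]
    (hP : ¬ p ∣ P.index) {x : G} {k : ℕ} (hx : x ^ p ^ k = 1) : x ∈ P := by
  rw [← QuotientGroup.eq_one_iff, ← orderOf_eq_one_iff]
  refine Nat.eq_one_of_dvd_coprimes (Nat.Coprime.pow_left k (hp.coprime_iff_not_dvd.mpr hP))
    (orderOf_dvd_of_pow_eq_one (x := (x : G ⧸ P)) ?_) ?_
  · rw [← QuotientGroup.mk_pow, hx, QuotientGroup.mk_one]
  · rw [Subgroup.index_eq_card]; exact _root_.orderOf_dvd_natCard (x : G ⧸ P)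

/-- Ito: a solvable group with all degrees prime to `p` has a normal abelian Sylow `p`-subgroup. -/
theorem exists_normal_sylow {p : ℕ} (hp : p.Prime) : ∀ (n : ℕ) (G : Type u) [Group G] [Finite G],
    Nat.card G ≤ n → Group.IsSolvable G → PrimeTo p G →
    ∃ P : Subgroup G, P.Normal ∧ (∀ x ∈ P, ∀ y ∈ P, x * y = y * x) ∧ IsPGroup p P ∧
      ¬ p ∣ P.index := by
  haveI := Fact.mk hp
  intro n
  induction n with
  | zero => intro G _ _ hle; exact absurd (Nat.le_zero.mp hle) Nat.card_pos.ne'
  | succ n ih =>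
    intro G _ _ hle hs hd
    suffices ∃ P : Subgroup G, P.Normal ∧ IsPGroup p P ∧ ¬ p ∣ P.index by
      obtain ⟨P, hPn, hPp, hPi⟩ := this
      exact ⟨P, hPn, hd.comm_of_pgroup P hPp, hPp, hPi⟩
    by_cases hG : Nat.card G = 1
    · exact ⟨⊥, inferInstance, IsPGroup.of_bot, by
        rw [Subgroup.index_bot, hG]; exact hp.not_dvd_one⟩
    have := Fintype.ofFinite G
    -- an abelian normal subgroup of prime exponent
    obtain ⟨A, hAn, hA1, hAc⟩ : ∃ A : Subgroup G, A.Normal ∧ A ≠ ⊥ ∧
        ∀ x ∈ A, ∀ y ∈ A, x * y = y * x := by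
      obtain ⟨m, hm⟩ := (Group.isSolvable_def G).mp hs
      classical
      let P : ℕ → Prop := fun i => derivedSeries G i = ⊥
      have hex : ∃ i, P i := ⟨m, hm⟩
      rcases hf : Nat.find hex with - | i
      · have h0 : derivedSeries G 0 = ⊥ := hf ▸ Nat.find_spec hex
        refine absurd ?_ hG
        rw [← Subgroup.card_top, ← derivedSeries_zero, h0, Subgroup.card_bot]
      · have hi : derivedSeries G (i + 1) = ⊥ := hf ▸ Nat.find_spec hex
        refine ⟨derivedSeries G i, derivedSeries_normal G i,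
          fun h => absurd (Nat.find_le (h := hex) h) (by omega), fun x hx y hy => ?_⟩
        rw [derivedSeries_succ, Subgroup.commutator_eq_bot_iff_le_centralizer] at hi
        exact hi hy x hx
    obtain ⟨q, hq, hqA⟩ := Nat.exists_prime_and_dvd
      (show Nat.card A ≠ 1 from fun h => hA1 (Subgroup.card_eq_one.mp h))
    haveI := Fact.mk hq
    let N : Subgroup G :=
      { carrier := {x | x ∈ A ∧ x ^ q = 1}
        one_mem' := ⟨one_mem _, one_pow _⟩
        mul_mem' := fun {x y} hx hy => ⟨mul_mem hx.1 hy.1, by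
          rw [(show Commute x y from hAc x hx.1 y hy.1).mul_pow, hx.2, hy.2, one_mul]⟩
        inv_mem' := fun {x} hx => ⟨inv_mem hx.1, by rw [inv_pow, hx.2, inv_one]⟩ }
    haveI : N.Normal := ⟨fun x hx g => ⟨hAn.conj_mem x hx.1 g, by
      rw [conj_pow, hx.2, mul_one, mul_inv_cancel]⟩⟩
    have hNq : IsPGroup q N := fun x => ⟨1, by rw [pow_one]; exact Subtype.ext x.2.2⟩
    have hN1 : 1 < Nat.card N := by
      obtain ⟨x, hx⟩ := exists_prime_orderOf_dvd_card' q hqA
      refine Finite.one_lt_card_iff_nontrivial.mpr ⟨⟨(x : G), x.2, ?_⟩, 1, fun e => ?_⟩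
      · rw [← Subgroup.coe_pow, ← hx, pow_orderOf_eq_one, Subgroup.coe_one]
      · have : x = 1 := Subtype.ext (congr_arg (fun t : N => (t : G)) e)
        rw [this, orderOf_one] at hx
        exact hq.one_lt.ne hx
    have hQ : Nat.card (G ⧸ N) ≤ n := by
      have h1 := Subgroup.card_eq_card_quotient_mul_card_subgroup N
      have h2 : 0 < Nat.card (G ⧸ N) := Nat.card_pos
      have : 2 * Nat.card (G ⧸ N) ≤ Nat.card G := by
        rw [h1, mul_comm]; exact Nat.mul_le_mul_left _ hN1
      omega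
    haveI := hs
    obtain ⟨Pbar, hPbn, -, hPbp, hPbi⟩ := ih (G ⧸ N) hQ inferInstance (hd.quotient N)
    haveI := hPbn
    set M := Pbar.comap (QuotientGroup.mk' N) with hM
    haveI : M.Normal := hPbn.comap _
    have hMi : ¬ p ∣ M.index := by
      rwa [hM, Pbar.index_comap_of_surjective (QuotientGroup.mk'_surjective N)]
    by_cases hqp : q = p
    · subst hqp
      refine ⟨M, inferInstance, hPbp.comap_of_ker_isPGroup _ ?_, hMi⟩
      rwa [QuotientGroup.ker_mk']
    by_cases hMt : M = ⊤
    · -- the quotient is an abelian `p`-group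
      have hPtop : Pbar = ⊤ := by
        rw [eq_top_iff]
        intro y _
        obtain ⟨g, rfl⟩ := QuotientGroup.mk'_surjective N y
        have : g ∈ M := hMt ▸ Subgroup.mem_top g
        exact this
      obtain ⟨k, hk⟩ := IsPGroup.iff_card.mp hPbp
      have hidx : N.index = p ^ k := by
        rw [Subgroup.index_eq_card, ← hk, hPtop, Subgroup.card_top]
      obtain ⟨S⟩ : Nonempty (Sylow p G) := inferInstance
      obtain ⟨j, hj⟩ := IsPGroup.iff_card.mp hNq
      have hNp : (Nat.card N).Coprime p := by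
        rw [hj]; exact Nat.Coprime.pow_left j ((Nat.coprime_primes hq hp).mpr hqp)
      have hinv : ∀ x ∈ (S : Subgroup G), ∀ c ∈ N, x * c * x⁻¹ = c := by
        intro x hx c hc
        let c' : N := ⟨x * c * x⁻¹ * c⁻¹,
          mul_mem (‹N.Normal›.conj_mem c hc x) (inv_mem hc)⟩
        have : c' = 1 := by
          by_contra hne
          obtain ⟨lam, hlam⟩ := Char.exists_linear_ne_one
            (fun a b : N => Subtype.ext (hAc a a.2.1 b b.2.1)) hne
          have := Fintype.ofFinite N
          have hθ := Char.isIrrCharacter_linear lam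
          obtain ⟨χ, hχ, hχθ⟩ := exists_over N hθ
          have hdvd := index_inertia_mul_dvd N hθ hχ hχθ
          have hT : (inertia fun n : N => (lam n : ℂ)).index = 1 := by
            have h1 : (inertia fun n : N => (lam n : ℂ)).index ∣ p ^ k :=
              hidx ▸ Subgroup.index_dvd_of_le (le_inertia (Char.irr_isClassFunction hθ))
            obtain ⟨i, -, hi⟩ := (Nat.dvd_prime_pow hp).mp h1
            rcases i with - | i
            · simpa using hi
            · exact absurd (((dvd_pow_self p i.succ_ne_zero).trans hi.symm.dvd).trans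
                ((dvd_mul_right _ _).trans hdvd)) (hd χ hχ)
          have hx' : x ∈ inertia fun n : N => (lam n : ℂ) := by
            rw [Subgroup.index_eq_one.mp hT]; exact Subgroup.mem_top _
          have e : lam (conjN x ⟨c, hc⟩) = lam ⟨c, hc⟩ := Units.ext (hx' ⟨c, hc⟩)
          have e2 : c' = conjN x ⟨c, hc⟩ * (⟨c, hc⟩ : N)⁻¹ := Subtype.ext rfl
          exact hlam (by rw [e2, map_mul, map_inv, e, mul_inv_cancel])
        exact mul_inv_eq_one.mp (congr_arg Subtype.val this)
      have hcard : Nat.card N * p ^ k = Nat.card G := hidx ▸ N.card_mul_index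
      have hcoS : (Nat.card N).Coprime (Nat.card (S : Subgroup G)) := by
        obtain ⟨i, hi⟩ := IsPGroup.iff_card.mp S.2
        rw [hi]; exact hNp.pow_right i
      have hScard : Nat.card (S : Subgroup G) = p ^ k := by
        obtain ⟨i, hi⟩ := IsPGroup.iff_card.mp S.2
        refine Nat.dvd_antisymm (hcoS.symm.dvd_of_dvd_mul_left
          (hcard.symm ▸ Subgroup.card_subgroup_dvd_card _)) ?_
        rw [S.card_eq_multiplicity]
        refine pow_dvd_pow p ((Nat.Prime.pow_dvd_iff_le_factorization hp Nat.card_pos.ne').mp ?_)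
        exact hcard ▸ dvd_mul_left _ _
      have hcompl : Subgroup.IsComplement' N (S : Subgroup G) :=
        Subgroup.isComplement'_of_coprime (by rw [hScard]; exact hcard) hcoS
      refine ⟨(S : Subgroup G), ⟨fun y hy g => ?_⟩, S.2, S.not_dvd_index⟩
      obtain ⟨⟨c, s⟩, hcs⟩ := hcompl.2 g
      have hcs' : (c : G) * s = g := hcs
      subst hcs'
      have hm : (s : G) * y * (s : G)⁻¹ ∈ (S : Subgroup G) := mul_mem (mul_mem s.2 hy) (inv_mem s.2)
      have := hinv _ hm c c.2
      rw [show (c : G) * s * y * ((c : G) * s)⁻¹ = c * ((s : G) * y * (s : G)⁻¹) * (c : G)⁻¹ by group,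
        show (c : G) * ((s : G) * y * (s : G)⁻¹) * (c : G)⁻¹ = (s : G) * y * (s : G)⁻¹ by
          rw [← mul_inv_eq_iff_eq_mul.mp this]; group]
      exact hm
    · have hMlt : Nat.card M ≤ n := by
        have h1 := M.card_mul_index
        have h2 : 1 < M.index := by
          have := M.index_ne_zero_of_finite
          have : M.index ≠ 1 := fun e => hMt (Subgroup.index_eq_one.mp e)
          omega
        have h3 : Nat.card M * 2 ≤ Nat.card G := h1 ▸ Nat.mul_le_mul_left _ h2
        have h4 : 0 < Nat.card M := Nat.card_pos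
        omega
      obtain ⟨P, hPn, -, hPp, hPi⟩ := ih M hMlt inferInstance (hd.of_normal M)
      haveI := hPn
      refine ⟨P.map M.subtype, ⟨fun y hy g => ?_⟩, hPp.map _, ?_⟩
      · obtain ⟨x, hx, rfl⟩ := hy
        obtain ⟨k, hk⟩ := hPp ⟨x, hx⟩
        refine ⟨⟨g * x * g⁻¹, ‹M.Normal›.conj_mem _ x.2 g⟩, ?_, rfl⟩
        refine mem_of_pow_eq_one hp P hPi (k := k) (Subtype.ext ?_)
        simp only [Subgroup.coe_pow, OneMemClass.coe_one, conj_pow]
        have hk' : (x : G) ^ p ^ k = 1 := by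
          have := congr_arg (fun z : P => ((z : M) : G)) hk
          simpa using this
        rw [hk', mul_one, mul_inv_cancel]
      · rw [Subgroup.index_map_subtype]
        exact fun h => (hp.dvd_mul.mp h).elim hPi hMi

/-- A normal abelian Sylow `p`-subgroup makes the degrees prime to `p`. -/
theorem primeTo_of_normal_abelian [Finite G] {p : ℕ} (P : Subgroup G) [P.Normal]
    (hc : ∀ x ∈ P, ∀ y ∈ P, x * y = y * x) (hi : ¬ p ∣ P.index) : PrimeTo p G := by
  rintro χ ⟨n, ρ, hρ, rfl⟩ hd
  have e : (Cfsg.charDegree ρ.character : ℂ) = (Module.finrank ℂ (Fin n → ℂ) : ℂ) := by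
    rw [BlockB.charDegree_cast ⟨n, ρ, rfl⟩, Representation.char_one]
  rw [show Cfsg.charDegree ρ.character = Module.finrank ℂ (Fin n → ℂ) by exact_mod_cast e] at hd
  exact hi (hd.trans (Char.ito_degree_dvd_index ρ P hc))

end CfsgLib.Clifford.Degrees
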