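import Cfsg.Agent.Lib.Char.Linear
import Cfsg.Agent.Lib.Clifford.Constituents
import Cfsg.Agent.Lib.Clifford.Extension

/-!
# A normal subgroup containing the centralisers of its non-identity elements
-/

namespace CfsgLib.Clifford

open Module
open scoped ComplexConjugate

universe u

variable {G : Type u} [Group G] [Fintype G] {N : Subgroup G} [hN : N.Normal]

/-- Characters not trivial on `N` vanish at elements centralising nothing in `N`. -/
theorem irr_eq_zero_of_fixedPointFree {g : G} (hg : ∀ n ∈ N, n * g = g * n → n = 1) {χ : G → ℂ}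
    (hχ : Cfsg.IsIrrCharacter G χ) (hker : ∃ n ∈ N, χ n ≠ χ 1) : χ g = 0 := by
  classical
  obtain ⟨n₀, hn₀, hne⟩ := hker
  let q := QuotientGroup.mk' N
  have := Fintype.ofFinite (G ⧸ N)
  have := Fintype.ofFinite (Cfsg.IrrCharacter G)
  have := Fintype.ofFinite (Cfsg.IrrCharacter (G ⧸ N))
  let ι : Cfsg.IrrCharacter (G ⧸ N) → Cfsg.IrrCharacter G := fun ψ =>
    ⟨(ψ : G ⧸ N → ℂ) ∘ q, Char.isIrrCharacter_comp_surjective ψ.2 q (QuotientGroup.mk'_surjective N)⟩
  have hι : Function.Injective ι := fun a b h => Subtype.ext (by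
    funext x
    obtain ⟨y, rfl⟩ := QuotientGroup.mk'_surjective N x
    exact congr_fun (congr_arg Subtype.val h) y)
  have h1 := Char.column_orthogonality g g
  have h2 := Char.column_orthogonality (q g) (q g)
  rw [if_pos (IsConj.refl _)] at h1 h2
  have h1' : ∑ ψ : Cfsg.IrrCharacter G, ‖(ψ : G → ℂ) g‖ ^ 2 =
      (Nat.card (Subgroup.centralizer ({g} : Set G)) : ℝ) := by
    simp only [Complex.mul_conj'] at h1
    exact_mod_cast h1
  have h2' : ∑ ψ : Cfsg.IrrCharacter (G ⧸ N), ‖(ψ : G ⧸ N → ℂ) (q g)‖ ^ 2 =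
      (Nat.card (Subgroup.centralizer ({q g} : Set (G ⧸ N))) : ℝ) := by
    simp only [Complex.mul_conj'] at h2
    exact_mod_cast h2
  have hle : Nat.card (Subgroup.centralizer ({g} : Set G)) ≤
      Nat.card (Subgroup.centralizer ({q g} : Set (G ⧸ N))) := by
    refine Nat.card_le_card_of_injective (fun x => ⟨q x, ?_⟩) fun a b h => ?_
    · rw [Subgroup.mem_centralizer_singleton_iff, ← map_mul, ← map_mul,
        Subgroup.mem_centralizer_singleton_iff.mp x.2]
    · have h' : q a = q b := congr_arg Subtype.val h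
      have hm : ((a⁻¹ * b : Subgroup.centralizer ({g} : Set G)) : G) ∈ N := QuotientGroup.eq.mp h'
      exact inv_mul_eq_one.mp (Subtype.ext
        (hg _ hm (Subgroup.mem_centralizer_singleton_iff.mp (a⁻¹ * b).2)))
  set me : Cfsg.IrrCharacter G := ⟨χ, hχ⟩
  have hnot : me ∉ Finset.univ.image ι := by
    intro h
    obtain ⟨ψ, -, hψ⟩ := Finset.mem_image.mp h
    have h' : (ψ : G ⧸ N → ℂ) ∘ q = χ := congr_arg Subtype.val hψ
    refine hne ?_
    rw [← h', Function.comp_apply, Function.comp_apply, map_one]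
    exact congr_arg (ψ : G ⧸ N → ℂ) ((QuotientGroup.eq_one_iff n₀).mpr hn₀)
  have h3 := Finset.sum_le_sum_of_subset_of_nonneg
    (Finset.subset_univ (insert me (Finset.univ.image ι)))
    (fun (ψ : Cfsg.IrrCharacter G) _ _ => sq_nonneg ‖(ψ : G → ℂ) g‖)
  rw [Finset.sum_insert hnot, Finset.sum_image (fun a _ b _ h => hι h), h1'] at h3
  have h4 : (∑ ψ : Cfsg.IrrCharacter (G ⧸ N), ‖((ι ψ : Cfsg.IrrCharacter G) : G → ℂ) g‖ ^ 2) =
      (Nat.card (Subgroup.centralizer ({q g} : Set (G ⧸ N))) : ℝ) := h2'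
  rw [h4] at h3
  have h5 : (Nat.card (Subgroup.centralizer ({g} : Set G)) : ℝ) ≤
      Nat.card (Subgroup.centralizer ({q g} : Set (G ⧸ N))) := by exact_mod_cast hle
  have h6 : ‖χ g‖ ^ 2 = 0 := le_antisymm (by linarith) (sq_nonneg _)
  simpa using h6

variable [Fintype N]

/-- When `N` contains the centraliser of each of its non-identity elements, a non-principal
irreducible character of `N` is moved by every element outside `N`. -/
theorem inertia_eq_of_centralizer_le
    (hC : ∀ n ∈ N, n ≠ 1 → Subgroup.centralizer ({n} : Set G) ≤ N) {θ : N → ℂ}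
    (hθ : Cfsg.IsIrrCharacter N θ) (hne : θ ≠ fun _ => 1) : inertia θ = N := by
  classical
  refine le_antisymm (fun g hg => ?_) (le_inertia (Char.irr_isClassFunction hθ))
  by_contra hgN
  -- work in the subgroup generated by `N` and `g`
  let T : Subgroup G := N ⊔ Subgroup.zpowers g
  have hNT : N ≤ T := le_sup_left
  have hTle : T ≤ inertia θ := sup_le (le_inertia (Char.irr_isClassFunction hθ))
    (Subgroup.zpowers_le.mpr hg)
  have : IsCyclic (T ⧸ N.subgroupOf T) := by
    let g' : T := ⟨g, le_sup_right (a := N) (Subgroup.mem_zpowers g)⟩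
    have htop : N.subgroupOf T ⊔ Subgroup.zpowers g' = ⊤ := by
      apply Subgroup.map_injective T.subtype_injective
      rw [Subgroup.map_sup, Subgroup.map_subgroupOf_eq_of_le hNT, MonoidHom.map_zpowers,
        ← MonoidHom.range_eq_map, Subgroup.range_subtype]
      rfl
    refine ⟨⟨QuotientGroup.mk g', fun x => ?_⟩⟩
    obtain ⟨y, rfl⟩ := QuotientGroup.mk'_surjective _ x
    have hy : y ∈ N.subgroupOf T ⊔ Subgroup.zpowers g' := htop ▸ Subgroup.mem_top y
    obtain ⟨a, ha, b, ⟨k, rfl⟩, rfl⟩ := Subgroup.mem_sup_of_normal_left.mp hy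
    refine ⟨k, ?_⟩
    change QuotientGroup.mk' (N.subgroupOf T) g' ^ k = QuotientGroup.mk' _ (a * g' ^ k)
    rw [map_mul, map_zpow, show QuotientGroup.mk' (N.subgroupOf T) a = 1 from
      (QuotientGroup.eq_one_iff a).mpr ha, one_mul]
  let e : N.subgroupOf T ≃* N := Subgroup.subgroupOfEquivOfLe hNT
  obtain ⟨k, ρ, hρ, hρc⟩ := Char.isIrrCharacter_comp_surjective hθ e.toMonoidHom e.surjective
  have hinv : ∀ (t : T) (m : N.subgroupOf T), ρ.character (conjN t m) = ρ.character m := fun t m => by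
    rw [hρc]
    exact mem_inertia.mp (hTle t.2) ⟨_, Subgroup.mem_subgroupOf.mp m.2⟩
  obtain ⟨Θ, hΘ, hres⟩ := exists_irr_extension ρ hinv
    (one_mem_splitExps_of_isCyclic ρ (proj_surjective ρ hinv))
  have hΘker : ∃ m ∈ N.subgroupOf T, Θ m ≠ Θ 1 := by
    by_contra hcon
    push Not at hcon
    -- `θ` is then constant, hence principal
    have hconst : ∀ n : N, θ n = θ 1 := fun n => by
      have h := hcon ((e.symm n : N.subgroupOf T) : T) (e.symm n).2
      have e1 := hres (e.symm n)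
      have e0 := hres 1
      rw [hρc] at e1 e0
      simp only [Function.comp_apply, OneMemClass.coe_one, map_one,
        MulEquiv.toMonoidHom_eq_coe, MonoidHom.coe_coe, MulEquiv.apply_symm_apply] at e1 e0
      rw [← e1, ← e0]; exact h
    apply hne
    by_contra hne'
    have h0 := Char.irr_classInner_ne hθ Char.isIrrCharacter_one hne'
    rw [show θ = θ 1 • (fun _ => (1 : ℂ)) from funext fun n => by simp [hconst n],
      Char.classInner_smul_left, Char.irr_classInner_self Char.isIrrCharacter_one, mul_one] at h0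
    exact Char.irr_apply_one_ne_zero hθ h0
  have hzero : ∀ t : T, t ∉ N.subgroupOf T → Θ t = 0 := fun t ht =>
    irr_eq_zero_of_fixedPointFree (fun m hm hcomm => by
      by_contra hm1
      exact ht (Subgroup.mem_subgroupOf.mpr (hC _ (Subgroup.mem_subgroupOf.mp hm)
        (fun h => hm1 (Subtype.ext h))
        (Subgroup.mem_centralizer_singleton_iff.mpr (congr_arg Subtype.val hcomm).symm)))) hΘ hΘker
  have hT1 := Char.irr_classInner_self hΘ
  have hN1 := Char.irr_classInner_self hθ
  rw [Char.classInner_def, inv_mul_eq_iff_eq_mul₀ Char.natCard_ne_zero, mul_one] at hT1 hN1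
  have hsum : ∑ t : T, Θ t * conj (Θ t) = ∑ n : N, θ n * conj (θ n) := by
    rw [← Finset.sum_filter_of_ne (p := fun t => t ∈ N.subgroupOf T) (fun t _ hne' => by
      by_contra ht; exact hne' (by rw [hzero t ht, zero_mul]))]
    refine Finset.sum_bij' (fun t ht => (⟨(t : G), Subgroup.mem_subgroupOf.mp (Finset.mem_filter.mp ht).2⟩ : N))
      (fun n _ => (⟨(n : G), hNT n.2⟩ : T)) (fun _ _ => Finset.mem_univ _)
      (fun n _ => Finset.mem_filter.mpr ⟨Finset.mem_univ _, Subgroup.mem_subgroupOf.mpr n.2⟩)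
      (fun _ _ => rfl) (fun _ _ => rfl) fun t ht => ?_
    have := hres ⟨t, (Finset.mem_filter.mp ht).2⟩
    rw [hρc] at this
    simp only at this
    rw [this]
    rfl
  rw [hsum, hN1, Nat.cast_inj] at hT1
  exact hgN ((Subgroup.eq_of_le_of_card_ge hNT hT1.ge).symm ▸ le_sup_right (a := N) (Subgroup.mem_zpowers g))

/-- Every irreducible character not trivial on such `N` is induced from `N`. -/
theorem exists_eq_indFun_of_centralizer_le
    (hC : ∀ n ∈ N, n ≠ 1 → Subgroup.centralizer ({n} : Set G) ≤ N) {χ : G → ℂ}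
    (hχ : Cfsg.IsIrrCharacter G χ) (hker : ∃ n ∈ N, χ n ≠ χ 1) :
    ∃ φ : N → ℂ, Cfsg.IsIrrCharacter N φ ∧ φ ≠ (fun _ => 1) ∧ χ = Cfsg.indFun N φ := by
  obtain ⟨θ, hθ, hne0⟩ := exists_irr_constituent_restrict (N := N) hχ
  have hθ1 : θ ≠ fun _ => 1 := by
    rintro rfl
    obtain ⟨n, hn, hne⟩ := hker
    refine hne ?_
    have h := restrict_eq_smul_of_invariant hχ Char.isIrrCharacter_one (fun g => rfl) hne0
    have h1 := congr_fun h ⟨n, hn⟩
    have h2 := congr_fun h 1
    simp only [Pi.smul_apply, smul_eq_mul, mul_one, OneMemClass.coe_one] at h1 h2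
    rw [h1, ← h2]
  have hT : ∀ g, g ∈ N ↔ conjFn g θ = θ := fun g => by
    rw [← mem_inertia_iff_conjFn, inertia_eq_of_centralizer_le hC hθ hθ1]
  obtain ⟨ψ, hψ, hind, hmult⟩ := exists_indFun_inertia N le_rfl hθ hT hχ hne0
  refine ⟨ψ, hψ, ?_, hind.symm⟩
  intro h1
  refine hne0 (hmult ▸ ?_)
  change Cfsg.classInner ψ θ = 0
  rw [h1]
  exact Char.irr_classInner_ne Char.isIrrCharacter_one hθ (Ne.symm hθ1)

/-- Inducing a non-principal irreducible character of such `N` gives an irreducible character. -/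
theorem isIrrCharacter_indFun_of_centralizer_le
    (hC : ∀ n ∈ N, n ≠ 1 → Subgroup.centralizer ({n} : Set G) ≤ N) {θ : N → ℂ}
    (hθ : Cfsg.IsIrrCharacter N θ) (hne : θ ≠ fun _ => 1) :
    Cfsg.IsIrrCharacter G (Cfsg.indFun N θ) :=
  (indFun_inertia N le_rfl hθ (fun g => by
    rw [← mem_inertia_iff_conjFn, inertia_eq_of_centralizer_le hC hθ hne]) hθ (by
    rw [show (fun n : N => θ ⟨(n : G), le_refl N n.2⟩) = θ from rfl, Char.irr_classInner_self hθ]
    exact one_ne_zero)).1

end CfsgLib.Clifford
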