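import Cfsg.Agent.Lib.Char.Induce
import Cfsg.Agent.Lib.Clifford.Extension
import Mathlib.LinearAlgebra.PID

/-!
# Averages over cosets of a normal subgroup; Gallagher's factorisation
-/

namespace CfsgLib.Clifford

open Module
open scoped ComplexConjugate

universe u

variable {G : Type u} [Group G] [Fintype G] (N : Subgroup G) [hN : N.Normal] [Fintype N]

/-- The average of `f` over the coset `N g`. -/
noncomputable def cosetAvg (f : G → ℂ) : G → ℂ :=
  fun g => (Nat.card N : ℂ)⁻¹ * ∑ n : N, f ((n : G) * g)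

omit [Fintype G] hN in
theorem natCard_sub_ne_zero : (Nat.card N : ℂ) ≠ 0 := by
  exact_mod_cast Nat.card_pos.ne'

omit [Fintype G] hN in
theorem cosetAvg_mul_left (f : G → ℂ) (m : N) (g : G) :
    cosetAvg N f ((m : G) * g) = cosetAvg N f g := by
  simp only [cosetAvg]
  congr 1
  refine Fintype.sum_equiv (Equiv.mulRight m) _ _ fun n => ?_
  simp [mul_assoc]

omit [Fintype G] hN in
theorem cosetAvg_mem (f : G → ℂ) (m : N) : cosetAvg N f (m : G) = cosetAvg N f 1 := by
  simpa using cosetAvg_mul_left N f m 1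

omit [Fintype G] hN in
theorem cosetAvg_mul_of_invariant (f h : G → ℂ) (hh : ∀ (n : N) g, h ((n : G) * g) = h g) :
    cosetAvg N (f * h) = cosetAvg N f * h := by
  funext g
  simp only [cosetAvg, Pi.mul_apply, hh, ← Finset.sum_mul, mul_assoc]

omit hN in
/-- Averaging does not change the inner product with an `N`-invariant function. -/
theorem classInner_cosetAvg (f h : G → ℂ) (hh : ∀ (n : N) g, h ((n : G) * g) = h g) :
    Cfsg.classInner (cosetAvg N f) h = Cfsg.classInner f h := by
  simp only [Char.classInner_def, cosetAvg, mul_assoc, Finset.sum_mul, ← Finset.mul_sum]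
  congr 1
  rw [Finset.sum_comm]
  have h1 : ∀ n : N, ∑ g : G, f ((n : G) * g) * conj (h g) = ∑ g : G, f g * conj (h g) := fun n =>
    Fintype.sum_equiv (Equiv.mulLeft (n : G)) _ _ fun g => by simp [hh]
  rw [Finset.sum_congr rfl fun n _ => h1 n, Finset.sum_const, Finset.card_univ, nsmul_eq_mul,
    ← Nat.card_eq_fintype_card, inv_mul_cancel_left₀ (natCard_sub_ne_zero N)]

omit [Fintype G] hN in
theorem cosetAvg_apply_one (f : G → ℂ) :
    cosetAvg N f 1 = Cfsg.classInner (fun n : N => f n) (fun _ => 1) := by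
  simp [cosetAvg, Char.classInner_def]

omit [Fintype G] in
/-- The coset average of a character is the character of the subspace fixed by `N`. -/
theorem isCharacter_cosetAvg {χ : G → ℂ} (hχ : Cfsg.IsCharacter G χ) :
    Cfsg.IsCharacter G (cosetAvg N χ) := by
  obtain ⟨k, ρ, rfl⟩ := hχ
  let W : Submodule ℂ (Fin k → ℂ) :=
    { carrier := {v | ∀ n : N, ρ n v = v}
      add_mem' := fun {a b} ha hb n => by rw [map_add, ha, hb]
      zero_mem' := fun n => map_zero _
      smul_mem' := fun c a ha n => by rw [map_smul, ha] }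
  have hW : ∀ g, ∀ v ∈ W, ρ g v ∈ W := fun g v hv n => by
    have h := hv ⟨g⁻¹ * n * g, hN.conj_mem' _ n.2 g⟩
    calc ρ (n : G) (ρ g v) = ρ ((n : G) * g) v := by rw [map_mul, Module.End.mul_apply]
      _ = ρ g (ρ (g⁻¹ * n * g) v) := by
          rw [← Module.End.mul_apply, ← map_mul]; congr 2; group
      _ = ρ g v := by rw [h]
  let σ : Representation ℂ G W := (⟨W, fun g v hv => hW g v hv⟩ : Subrepresentation ρ).toRepresentation
  have key : cosetAvg N ρ.character = σ.character := by
    funext g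
    let T : Module.End ℂ (Fin k → ℂ) := (Nat.card N : ℂ)⁻¹ • ∑ n : N, ρ ((n : G) * g)
    have hT : ∀ v, T v ∈ W := fun v m => by
      simp only [T, LinearMap.smul_apply, LinearMap.sum_apply, map_smul, map_sum]
      congr 1
      refine Fintype.sum_equiv (Equiv.mulLeft m) _ _ fun n => ?_
      simp [map_mul]
    have htr : cosetAvg N ρ.character g = LinearMap.trace ℂ _ T := by
      simp [cosetAvg, T, map_sum, Representation.character]
    rw [htr, ← LinearMap.trace_restrict_eq_of_forall_mem W T hT]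
    refine congr_arg (LinearMap.trace ℂ W) (LinearMap.ext fun v => Subtype.ext ?_)
    have hg := hW g v v.2
    simp only [T, LinearMap.restrict_coe_apply, LinearMap.smul_apply, LinearMap.sum_apply, map_mul,
      Module.End.mul_apply]
    rw [Finset.sum_congr rfl fun n _ => hg n, Finset.sum_const, Finset.card_univ,
      ← Nat.card_eq_fintype_card, ← Nat.cast_smul_eq_nsmul ℂ, smul_smul,
      inv_mul_cancel₀ (natCard_sub_ne_zero N), one_smul]
    rfl
  rw [key]
  exact Char.isCharacter_of_rep σ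

omit hN in
theorem classInner_mul_left' (a b c : G → ℂ) :
    Cfsg.classInner (a * b) c = Cfsg.classInner a (fun g => conj (b g) * c g) := by
  simp [Char.classInner_def, mul_assoc]

/-- If the restriction of `Θ` to `N` is irreducible, `|Θ|²` averages to one on every coset. -/
theorem cosetAvg_normSq_eq_one {Θ : G → ℂ} (hΘ : Cfsg.IsCharacter G Θ)
    (hres : Cfsg.IsIrrCharacter N (fun n : N => Θ n)) :
    cosetAvg N (fun g => Θ g * conj (Θ g)) = fun _ => 1 := by
  have hc : Cfsg.IsCharacter G (cosetAvg N (fun g => Θ g * conj (Θ g))) :=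
    isCharacter_cosetAvg N (Char.isCharacter_mul hΘ (Char.isCharacter_conj hΘ))
  have h1 : cosetAvg N (fun g => Θ g * conj (Θ g)) 1 = 1 := by
    rw [cosetAvg_apply_one]
    refine Eq.trans ?_ (Char.irr_classInner_self hres)
    simp [Char.classInner_def]
  obtain ⟨f, hf⟩ := exists_hom_of_linear hc h1
  have hirr : Cfsg.IsIrrCharacter G (cosetAvg N (fun g => Θ g * conj (Θ g))) := by
    rw [← funext hf]; exact Char.isIrrCharacter_linear f
  have h2 := Char.irr_classInner_self (isIrrCharacter_of_restrict hΘ hres)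
  refine (Char.irr_classInner_eq_one_iff hirr Char.isIrrCharacter_one).mp ?_
  rw [classInner_cosetAvg N _ _ (fun _ _ => rfl)]
  refine Eq.trans ?_ h2
  simp [Char.classInner_def]

/-- Multiplying `N`-invariant functions by `Θ` preserves inner products. -/
theorem classInner_mul_mul {Θ : G → ℂ} (hΘ : Cfsg.IsCharacter G Θ)
    (hres : Cfsg.IsIrrCharacter N (fun n : N => Θ n)) (β γ : G → ℂ)
    (hβ : ∀ (n : N) g, β ((n : G) * g) = β g) (hγ : ∀ (n : N) g, γ ((n : G) * g) = γ g) :
    Cfsg.classInner (Θ * β) (Θ * γ) = Cfsg.classInner β γ := by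
  have e : Cfsg.classInner (Θ * β) (Θ * γ) =
      Cfsg.classInner (fun g => Θ g * conj (Θ g)) (fun g => conj (β g) * γ g) := by
    simp only [Char.classInner_def, Pi.mul_apply, map_mul, Complex.conj_conj]
    congr 1
    exact Finset.sum_congr rfl fun g _ => by ring
  rw [e, ← classInner_cosetAvg N _ _ (fun n g => by simp [hβ, hγ]),
    cosetAvg_normSq_eq_one N hΘ hres]
  simp [Char.classInner_def, mul_comm]

/-- The coset average of `ψ * conj Θ`. -/
noncomputable def gallagherQuot (ψ Θ : G → ℂ) : G → ℂ :=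
  cosetAvg N (fun g => ψ g * conj (Θ g))

omit hN in
omit [Fintype G] in
theorem gallagherQuot_apply_one (ψ Θ : G → ℂ) : gallagherQuot N ψ Θ 1 =
    Cfsg.classInner (fun n : N => ψ n) (fun n : N => Θ n) := by
  rw [gallagherQuot, cosetAvg_apply_one]
  simp [Char.classInner_def]

omit [Fintype G] in
theorem isCharacter_gallagherQuot [Finite G] {ψ Θ : G → ℂ} (hψ : Cfsg.IsCharacter G ψ)
    (hΘ : Cfsg.IsCharacter G Θ) : Cfsg.IsCharacter G (gallagherQuot N ψ Θ) :=
  isCharacter_cosetAvg N (Char.isCharacter_mul hψ (Char.isCharacter_conj hΘ))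

omit [Fintype G] in
theorem gallagherQuot_eq_zero [Finite G] {ψ Θ : G → ℂ} (hψ : Cfsg.IsCharacter G ψ)
    (hΘ : Cfsg.IsCharacter G Θ)
    (h : Cfsg.classInner (fun n : N => ψ n) (fun n : N => Θ n) = 0) :
    gallagherQuot N ψ Θ = 0 := by
  obtain ⟨k, σ, hσ⟩ := isCharacter_gallagherQuot N hψ hΘ
  rw [← hσ]
  refine (Char.char_eq_zero_iff σ).mpr ?_
  have h1 := congr_fun hσ 1
  rw [Representation.char_one, gallagherQuot_apply_one, h] at h1
  exact_mod_cast h1

/-- Gallagher: an irreducible character over an extendible one is a product. -/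
theorem gallagher_factor {ψ Θ : G → ℂ} (hψ : Cfsg.IsIrrCharacter G ψ)
    (hΘ : Cfsg.IsCharacter G Θ) (hres : Cfsg.IsIrrCharacter N (fun n : N => Θ n))
    (h : Cfsg.classInner (fun n : N => ψ n) (fun n : N => Θ n) ≠ 0) :
    Cfsg.IsIrrCharacter G (gallagherQuot N ψ Θ) ∧ ψ = Θ * gallagherQuot N ψ Θ := by
  set β := gallagherQuot N ψ Θ with hβdef
  have hβc : Cfsg.IsCharacter G β := isCharacter_gallagherQuot N (Char.irr_isCharacter hψ) hΘ
  have hβi : ∀ (n : N) g, β ((n : G) * g) = β g := fun n g => cosetAvg_mul_left N _ n g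
  obtain ⟨s, hs⟩ := Char.classInner_isCharacter_nat hβc hβc
  have hs0 : s ≠ 0 := fun h0 => h (by
    rw [← gallagherQuot_apply_one, ← hβdef,
      Char.classInner_self_eq_zero (φ := β) (by rw [hs, h0, Nat.cast_zero]), Pi.zero_apply])
  have hψβ : Cfsg.classInner ψ (Θ * β) = s := by
    rw [← hs]
    conv_rhs => arg 1; rw [hβdef, gallagherQuot]
    rw [classInner_cosetAvg N _ _ hβi]
    simp [Char.classInner_def, mul_assoc]
  have hββ : Cfsg.classInner (Θ * β) (Θ * β) = s := by
    rw [classInner_mul_mul N hΘ hres β β hβi hβi, hs]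
  have hβψ : Cfsg.classInner (Θ * β) ψ = s := by
    rw [← Char.classInner_conj_symm, hψβ, map_natCast]
  have hdiff : Cfsg.classInner (ψ - Θ * β) (ψ - Θ * β) = ((1 - (s : ℝ) : ℝ) : ℂ) := by
    rw [Char.classInner_sub_left, Char.classInner_sub_right, Char.classInner_sub_right,
      Char.irr_classInner_self hψ, hψβ, hββ, hβψ]
    push_cast
    ring
  have hs1 : s = 1 := by
    have h1 := hdiff
    rw [Char.classInner_self_eq_norm, Complex.ofReal_inj] at h1
    have h2 : (0 : ℝ) ≤ (Nat.card G : ℝ)⁻¹ * ∑ g : G, ‖(ψ - Θ * β) g‖ ^ 2 := by positivity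
    rw [h1, sub_nonneg] at h2
    have : s ≤ 1 := by exact_mod_cast h2
    omega
  subst hs1
  exact ⟨Char.isIrrCharacter_iff.mpr ⟨hβc, by simpa using hs⟩,
    sub_eq_zero.mp (Char.classInner_self_eq_zero (by simpa using hdiff))⟩

/-- The product of an extension with an irreducible character of the quotient is irreducible. -/
theorem isIrrCharacter_mul_of_invariant {Θ β : G → ℂ} (hΘ : Cfsg.IsCharacter G Θ)
    (hres : Cfsg.IsIrrCharacter N (fun n : N => Θ n)) (hβ : Cfsg.IsIrrCharacter G β)
    (hβi : ∀ (n : N) g, β ((n : G) * g) = β g) : Cfsg.IsIrrCharacter G (Θ * β) :=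
  Char.isIrrCharacter_iff.mpr ⟨Char.isCharacter_mul hΘ (Char.irr_isCharacter hβ), by
    rw [classInner_mul_mul N hΘ hres β β hβi hβi, Char.irr_classInner_self hβ]⟩

end CfsgLib.Clifford
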