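import Cfsg.Agent.Lib.Clifford.Extension

/-!
# Extensions of an irreducible character and their determinants
-/

namespace CfsgLib.Clifford

open Module

universe u

variable {G : Type u} [Group G] {N : Subgroup G} [hN : N.Normal] {n : ℕ}
variable (ρ : Representation ℂ N (Fin n → ℂ)) [ρ.IsIrreducible]

omit hN in
/-- A character extending the character of `ρ` is afforded by an extension of `ρ`. -/
theorem exists_rep_extension_top [Finite G] {χ : G → ℂ} (hχ : Cfsg.IsCharacter G χ)
    (hres : ∀ m : N, χ m = ρ.character m) :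
    ∃ σ : Representation ℂ G (Fin n → ℂ), (∀ m : N, σ m = ρ m) ∧ σ.character = χ := by
  have hk : ∃ (τ : Representation ℂ G (Fin n → ℂ)), τ.character = χ := by
    obtain ⟨k, τ, rfl⟩ := hχ
    have hk : k = n := by
      have := hres 1
      rw [OneMemClass.coe_one, Representation.char_one, Representation.char_one, finrank_fin_fun,
        finrank_fin_fun] at this
      exact_mod_cast this
    subst hk
    exact ⟨τ, rfl⟩
  obtain ⟨τ, rfl⟩ := hk
  let τ' : Representation ℂ N (Fin n → ℂ) := τ.comp N.subtype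
  have hτ' : τ'.character = ρ.character := funext fun m => hres m
  have : Fintype N := Fintype.ofFinite N
  have : τ'.IsIrreducible := isIrreducible_of_classInner_self τ'
    (by rw [hτ']; exact Char.irr_classInner_self (Char.isIrrCharacter_of_rep ρ))
  obtain ⟨A, hA⟩ := exists_unit_of_char_eq τ' ρ hτ'
  refine ⟨(Units.coeHom _).comp ((MulAut.conj A).toMonoidHom.comp (repUnits τ)), fun m => ?_,
    funext fun g => ?_⟩
  · have h : A * repUnits τ (m : G) * A⁻¹ = repUnits ρ m := by
      rw [mul_inv_eq_iff_eq_mul]; exact hA m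
    exact congr_arg Units.val h
  · change LinearMap.trace ℂ _ ((A : Module.End ℂ _) * τ g * ((A⁻¹ : (Module.End ℂ _)ˣ) : Module.End ℂ _)) = _
    rw [LinearMap.trace_mul_comm, ← mul_assoc, Units.inv_mul, one_mul]
    rfl

omit hN in
/-- An extension of `ρ` restricts to an irreducible representation, so is irreducible. -/
theorem isIrreducible_extension (σ : Representation ℂ G (Fin n → ℂ)) (hσ : ∀ m : N, σ m = ρ m) :
    σ.IsIrreducible :=
  isIrreducible_of_comp σ N.subtype (by
    have : (σ.comp N.subtype : Representation ℂ N (Fin n → ℂ)) = ρ := MonoidHom.ext hσ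
    rw [this]; infer_instance)

/-- Two extensions differ by a linear character of the quotient. -/
theorem exists_twist (σ σ' : Representation ℂ G (Fin n → ℂ)) (hσ : ∀ m : N, σ m = ρ m)
    (hσ' : ∀ m : N, σ' m = ρ m) :
    ∃ β : G →* ℂˣ, (∀ m : N, β m = 1) ∧ ∀ g, σ' g = (β g : ℂ) • σ g := by
  have := Char.nontrivial_of_isIrreducible ρ
  have hcm : ∀ (τ : Representation ℂ G (Fin n → ℂ)), (∀ m : N, τ m = ρ m) → ∀ g (m : N),
      τ g * ρ m = ρ (conjN g m) * τ g := fun τ hτ g m => by
    simp only [← hτ, coe_conjN, ← map_mul, inv_mul_cancel_right]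
  have hex : ∀ g, ∃ z : ℂˣ, repUnits σ' g = scalarUnits z * repUnits σ g := fun g => by
    let e : intertwiners ρ := ⟨(g, repUnits σ' g), fun m => Units.ext (hcm σ' hσ' g m)⟩
    let f : intertwiners ρ := ⟨(g, repUnits σ g), fun m => Units.ext (hcm σ hσ g m)⟩
    obtain ⟨z, hz⟩ := (proj_eq_one_iff ρ (e * f⁻¹)).mp (by simp [e, f, proj])
    have := congr_arg (opUnits ρ) hz
    rw [map_mul, map_inv, opUnits_scalarEmb, mul_inv_eq_iff_eq_mul] at this
    exact ⟨z, this⟩
  choose b hb using hex
  let β : G →* ℂˣ := MonoidHom.mk' b fun x y => by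
    apply scalarUnits_injective (V := Fin n → ℂ)
    apply mul_right_cancel (b := repUnits σ x * repUnits σ y)
    rw [← map_mul (repUnits σ), ← hb, map_mul, map_mul, hb, hb, map_mul]
    simp only [mul_assoc]
    congr 1
    rw [← mul_assoc, ← scalarUnits_comm, mul_assoc]
  refine ⟨β, fun m => ?_, fun g => ?_⟩
  · apply scalarUnits_injective (V := Fin n → ℂ)
    have h := hb m
    rw [show repUnits σ' (m : G) = repUnits σ (m : G) from Units.ext (by simp [hσ, hσ']),
      right_eq_mul] at h
    change scalarUnits (b m) = scalarUnits 1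
    rw [h, map_one]
  · have := congr_arg Units.val (hb g)
    rw [coe_repUnits, Units.val_mul, coe_scalarUnits, coe_repUnits, Algebra.algebraMap_eq_smul_one,
      smul_mul_assoc, one_mul] at this
    exact this

omit hN in
/-- The determinant of an extension extends the determinant. -/
theorem det_extension (σ : Representation ℂ G (Fin n → ℂ)) (hσ : ∀ m : N, σ m = ρ m) :
    ∃ δ : G →* ℂˣ, (∀ g, (δ g : ℂ) = LinearMap.det (σ g)) ∧
      ∀ m : N, (δ m : ℂ) = LinearMap.det (ρ m) :=
  ⟨(Units.map LinearMap.det).comp (repUnits σ), fun g => rfl, fun m => by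
    change LinearMap.det (σ m) = _
    rw [hσ]⟩

/-- Among the extensions, exactly one has a given determinant. -/
theorem existsUnique_extension_det [Finite G] (hcop : Nat.Coprime N.index n)
    (σ : Representation ℂ G (Fin n → ℂ)) (hσ : ∀ m : N, σ m = ρ m)
    (μ : G →* ℂˣ) (hμ : ∀ m : N, (μ m : ℂ) = LinearMap.det (ρ m)) :
    ∃! χ : G → ℂ, Cfsg.IsIrrCharacter G χ ∧ (∀ m : N, χ m = ρ.character m) ∧
      Cfsg.detChar χ = fun g => (μ g : ℂ) := by
  obtain ⟨δ, hδ, hδN⟩ := det_extension ρ σ hσ
  let γ : G →* ℂˣ := μ / δ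
  have hkill : ∀ β : G →* ℂˣ, (∀ m : N, β m = 1) → ∀ g, β g ^ N.index = 1 := fun β h g => by
    rw [← map_pow]; exact h ⟨_, N.pow_index_mem g⟩
  have hγN : ∀ m : N, γ m = 1 := fun m => div_eq_one.mpr (Units.ext (by rw [hμ, hδN]))
  obtain ⟨x, y, hxy⟩ := (Int.isCoprime_iff_gcd_eq_one.mpr
    (by simpa [Int.gcd_natCast_natCast] using hcop) : IsCoprime (N.index : ℤ) n)
  let β : G →* ℂˣ := γ ^ y
  have hβn : ∀ g, β g ^ n = γ g := fun g => by
    have e : y * (n : ℤ) = 1 + (N.index : ℤ) * (-x) := by linear_combination hxy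
    rw [MonoidHom.zpow_apply, ← zpow_natCast (γ g ^ y), ← zpow_mul, e, zpow_add, zpow_one, zpow_mul,
      zpow_natCast, hkill γ hγN, one_zpow, mul_one]
  -- twisting the extension
  have twist : ∀ β : G →* ℂˣ, (∀ m : N, β m = 1) → ∃ τ : Representation ℂ G (Fin n → ℂ),
      (∀ g, τ g = (β g : ℂ) • σ g) ∧ ∀ m : N, τ m = ρ m := fun β h =>
    ⟨{ toFun := fun g => (β g : ℂ) • σ g, map_one' := by simp,
       map_mul' := fun a b => by rw [map_mul, map_mul, Units.val_mul, smul_mul_smul_comm] },
      fun g => rfl, fun m => by simp [h, hσ]⟩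
  have hdet : ∀ (β : G →* ℂˣ) (τ : Representation ℂ G (Fin n → ℂ)),
      (∀ g, τ g = (β g : ℂ) • σ g) → ∀ g, LinearMap.det (τ g) = ((β g ^ n * δ g : ℂˣ) : ℂ) :=
    fun β τ h g => by
      rw [h, LinearMap.det_smul, finrank_fin_fun, Units.val_mul, Units.val_pow_eq_pow_val, hδ]
  obtain ⟨τ, hτ, hτN⟩ := twist β fun m => by simp [β, hγN]
  have := isIrreducible_extension ρ τ hτN
  refine ⟨τ.character, ⟨(isIrrCharacter_extension ρ τ hτN).1, (isIrrCharacter_extension ρ τ hτN).2,
    ?_⟩, ?_⟩
  · rw [detChar_eq]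
    funext g
    rw [hdet β τ hτ, hβn, MonoidHom.div_apply, div_mul_cancel]
  · rintro χ' ⟨hχ', hres', hdet'⟩
    obtain ⟨τ', hτ'N, rfl⟩ := exists_rep_extension_top ρ (Char.irr_isCharacter hχ') hres'
    obtain ⟨β', hβ'N, hβ'⟩ := exists_twist ρ σ τ' hσ hτ'N
    have := isIrreducible_extension ρ τ' hτ'N
    have heq : ∀ g, β' g = β g := fun g => by
      have h1 := congr_fun hdet' g
      rw [detChar_eq] at h1
      have h2 : β' g ^ n = β g ^ n := by
        rw [hβn, MonoidHom.div_apply, eq_div_iff_mul_eq']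
        exact Units.ext ((hdet β' τ' hβ' g).symm.trans h1)
      have h3 : (β' g / β g) ^ n = 1 := by rw [div_pow, h2, div_self']
      have h4 : (β' g / β g) ^ N.index = 1 :=
        hkill (β' / β) (fun m => by simp [β, hβ'N, hγN]) g
      have h5 := Nat.dvd_gcd (orderOf_dvd_of_pow_eq_one h4) (orderOf_dvd_of_pow_eq_one h3)
      rw [hcop.gcd_eq_one, Nat.dvd_one, orderOf_eq_one_iff, div_eq_one] at h5
      exact h5
    funext g
    simp [Representation.character, hτ, hβ', heq]

end CfsgLib.Clifford
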