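import Cfsg.Agent.Lib.Char.Linear
import Cfsg.Agent.Lib.Clifford.CosetAvg
import Cfsg.Agent.Lib.Clifford.Correspondence
import Cfsg.Agent.Lib.Clifford.ExtensionDet
import Cfsg.Agent.Lib.Clifford.Constituents

/-!
# Characters over an invariant character with abelian quotient
-/

namespace CfsgLib.Clifford

open Module
open scoped ComplexConjugate

universe u

variable {G : Type u} [Group G] [Fintype G] {N : Subgroup G} [hN : N.Normal] [Fintype N]

theorem isIrreducible_quot_linear (hab : ∀ x y : G, x * y * x⁻¹ * y⁻¹ ∈ N) {μ : G → ℂ}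
    (hμ : Cfsg.IsIrrCharacter G μ) (htriv : ∀ n ∈ N, μ n = μ 1) : μ 1 = 1 := by
  obtain ⟨μ', hμ', rfl⟩ := Char.isIrr_quotient_lift N hμ htriv
  have hc : ∀ a b : G ⧸ N, a * b = b * a := fun a b => by
    obtain ⟨x, rfl⟩ := QuotientGroup.mk'_surjective N a
    obtain ⟨y, rfl⟩ := QuotientGroup.mk'_surjective N b
    rw [← map_mul, ← map_mul]
    refine (QuotientGroup.eq).mpr ?_
    have := hab y⁻¹ x⁻¹
    convert this using 1
    group
  rw [Function.comp_apply, map_one, Char.irr_degree_one_of_comm hc hμ']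

/-- Any two irreducible characters over `θ` differ by a linear character of the quotient. -/
theorem exists_twist_of_abelian_quot (hab : ∀ x y : G, x * y * x⁻¹ * y⁻¹ ∈ N) {θ : N → ℂ}
    (hθ : Cfsg.IsIrrCharacter N θ) (hinv : ∀ g, conjFn g θ = θ) {ψ ψ' : G → ℂ}
    (hψ : Cfsg.IsIrrCharacter G ψ) (hψ' : Cfsg.IsIrrCharacter G ψ')
    (h : Cfsg.classInner (fun n : N => ψ n) θ ≠ 0)
    (h' : Cfsg.classInner (fun n : N => ψ' n) θ ≠ 0) :
    ∃ lam : G →* ℂˣ, (∀ n : N, lam n = 1) ∧ ψ' = fun g => (lam g : ℂ) * ψ g := by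
  have hF : Cfsg.IsCharacter G (gallagherQuot N ψ' ψ) :=
    isCharacter_gallagherQuot N (Char.irr_isCharacter hψ') (Char.irr_isCharacter hψ)
  have hF1 : gallagherQuot N ψ' ψ ≠ 0 := fun h0 => by
    have h1 := congr_fun h0 1
    rw [gallagherQuot_apply_one, restrict_eq_smul_of_invariant hψ hθ hinv h,
      restrict_eq_smul_of_invariant hψ' hθ hinv h', Char.classInner_smul_left,
      Char.classInner_smul_right, Char.irr_classInner_self hθ, mul_one, Pi.zero_apply,
      mul_eq_zero] at h1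
    exact h1.elim h' fun h2 => h (by simpa using h2)
  obtain ⟨μ, hμ, hμF⟩ := exists_irr_constituent hF hF1
  have htriv : ∀ n ∈ N, μ n = μ 1 := fun n hn =>
    constituent_eq_one hF hμ hμF (cosetAvg_mem N _ ⟨n, hn⟩)
  obtain ⟨lam, hlam⟩ := exists_hom_of_linear (Char.irr_isCharacter hμ)
    (isIrreducible_quot_linear hab hμ htriv)
  have hlN : ∀ n : N, lam n = 1 := fun n => Units.ext (by
    rw [hlam, htriv n n.2, ← hlam, map_one])
  refine ⟨lam, hlN, ?_⟩
  by_contra hne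
  apply hμF
  have e : μ = fun g => (lam g : ℂ) := funext fun g => (hlam g).symm
  rw [e, gallagherQuot, classInner_cosetAvg N _ _ (fun n g => by simp [map_mul, hlN])]
  have e2 : Cfsg.classInner (fun g => ψ' g * conj (ψ g)) (fun g => (lam g : ℂ)) =
      Cfsg.classInner ψ' (fun g => (lam g : ℂ) * ψ g) := by
    simp only [Char.classInner_def, map_mul]
    congr 1
    exact Finset.sum_congr rfl fun g _ => by ring
  rw [e2]
  exact Char.irr_classInner_ne hψ' (Char.isIrrCharacter_mul_linear hψ lam) hne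

/-- The decomposition of the induced character when the quotient is abelian. -/
theorem indFun_decomp_abelian_quot (hab : ∀ x y : G, x * y * x⁻¹ * y⁻¹ ∈ N) {θ : N → ℂ}
    (hθ : Cfsg.IsIrrCharacter N θ) (hinv : ∀ g, conjFn g θ = θ) :
    ∃ (e : ℕ) (C : Finset (G → ℂ)), 0 < e ∧
      (∀ ψ ∈ C, Cfsg.IsIrrCharacter G ψ ∧ ψ 1 = (e : ℂ) * θ 1 ∧
        Cfsg.classInner (fun n : N => ψ n) θ = e) ∧
      e ^ 2 * C.card = N.index ∧ Cfsg.indFun N θ = (e : ℂ) • ∑ ψ ∈ C, ψ ∧
      ∀ ψ, Cfsg.IsIrrCharacter G ψ → Cfsg.classInner (fun n : N => ψ n) θ ≠ 0 → ψ ∈ C := by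
  classical
  have hFc := Char.isCharacter_indFun N (Char.irr_isCharacter hθ)
  have hne : Cfsg.indFun N θ ≠ 0 := fun h0 => by
    have h1 := congr_fun h0 1
    rw [Char.indFun_apply_one, Pi.zero_apply, mul_eq_zero] at h1
    exact h1.elim (by exact_mod_cast Subgroup.index_ne_zero_of_finite)
      (Char.irr_apply_one_ne_zero hθ)
  have hrec : ∀ ψ, Cfsg.IsIrrCharacter G ψ → Cfsg.classInner (Cfsg.indFun N θ) ψ =
      conj (Cfsg.classInner (fun n : N => ψ n) θ) := fun ψ hψ => by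
    rw [Char.frobenius_reciprocity N θ ψ (Char.irr_isClassFunction hψ), Char.classInner_conj_symm]
  obtain ⟨ψ₀, hψ₀, h₀⟩ := exists_irr_constituent hFc hne
  have h₀' : Cfsg.classInner (fun n : N => ψ₀ n) θ ≠ 0 := fun h => h₀ (by rw [hrec ψ₀ hψ₀, h, map_zero])
  obtain ⟨e, he⟩ := Char.classInner_isCharacter_nat
    (Char.isCharacter_restrict (Char.irr_isCharacter hψ₀) N) (Char.irr_isCharacter hθ)
  have hepos : 0 < e := Nat.pos_of_ne_zero fun h => h₀' (by rw [he, h, Nat.cast_zero])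
  have hall : ∀ ψ, Cfsg.IsIrrCharacter G ψ → Cfsg.classInner (fun n : N => ψ n) θ ≠ 0 →
      Cfsg.classInner (fun n : N => ψ n) θ = e := fun ψ hψ h => by
    obtain ⟨lam, hl, rfl⟩ := exists_twist_of_abelian_quot hab hθ hinv hψ₀ hψ h₀' h
    rw [← he]
    exact congr_arg (fun f => Cfsg.classInner f θ) (funext fun n => by simp [hl])
  have := Fintype.ofFinite (Cfsg.IrrCharacter G)
  let s : Finset (Cfsg.IrrCharacter G) := Finset.univ.filter
    fun ψ : Cfsg.IrrCharacter G => Cfsg.classInner (fun n : N => (ψ : G → ℂ) n) θ ≠ 0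
  let C := s.map (Function.Embedding.subtype _)
  have hmem : ∀ {ψ}, ψ ∈ C ↔ Cfsg.IsIrrCharacter G ψ ∧
      Cfsg.classInner (fun n : N => ψ n) θ ≠ 0 := fun {ψ} => by
    simp only [C, s, Finset.mem_map, Finset.mem_filter, Finset.mem_univ, true_and]
    exact ⟨by rintro ⟨a, ha, rfl⟩; exact ⟨a.2, ha⟩, fun h => ⟨⟨ψ, h.1⟩, h.2, rfl⟩⟩
  have hdeg : ∀ ψ ∈ C, ψ 1 = (e : ℂ) * θ 1 := fun ψ hψ => by
    obtain ⟨h1, h2⟩ := hmem.mp hψ
    have h3 := congr_fun (restrict_eq_smul_of_invariant h1 hθ hinv h2) 1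
    rw [hall ψ h1 h2] at h3
    simpa using h3
  have hsum : Cfsg.indFun N θ = (e : ℂ) • ∑ ψ ∈ C, ψ := by
    conv_lhs => rw [Char.classFunction_eq_sum (Char.indFun_isClassFunction N θ)]
    rw [Finset.smul_sum, Finset.sum_map, Finset.sum_filter]
    refine Finset.sum_congr rfl fun ψ _ => ?_
    rw [hrec ψ.1 ψ.2]
    split_ifs with h
    · rw [hall ψ.1 ψ.2 h, map_natCast]; rfl
    · rw [not_not.mp h, map_zero, zero_smul]
  refine ⟨e, C, hepos, fun ψ hψ => ⟨(hmem.mp hψ).1, hdeg ψ hψ,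
    hall ψ (hmem.mp hψ).1 (hmem.mp hψ).2⟩, ?_, hsum, fun ψ h1 h2 => hmem.mpr ⟨h1, h2⟩⟩
  have h1 := congr_fun hsum 1
  rw [Char.indFun_apply_one, Pi.smul_apply, Finset.sum_apply, Finset.sum_congr rfl hdeg,
    Finset.sum_const, nsmul_eq_mul, smul_eq_mul] at h1
  have h2 : (N.index : ℂ) = ((e ^ 2 * C.card : ℕ) : ℂ) := by
    apply mul_right_cancel₀ (Char.irr_apply_one_ne_zero hθ)
    rw [h1]
    push_cast
    ring
  exact_mod_cast h2.symm

/-- With an extension, all characters over `θ` restrict to `θ`. -/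
theorem eq_one_of_extension {e : ℕ} {θ : N → ℂ} (hθ : Cfsg.IsIrrCharacter N θ) {Θ : G → ℂ}
    (hres : ∀ n : N, Θ n = θ n)
    (h : Cfsg.classInner (fun n : N => Θ n) θ = e) : e = 1 := by
  rw [funext hres, Char.irr_classInner_self hθ] at h
  exact_mod_cast h.symm

end CfsgLib.Clifford
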