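import Cfsg.Agent.Lib.Clifford.Degree
import Cfsg.Agent.Lib.Clifford.Extension
import Cfsg.Agent.Lib.Solvable.MinNormal
import Cfsg.Agent.Lib.InvChar.Basic

/-!
# Berger's lemma on homogeneous restrictions of induced characters
-/

namespace CfsgLib.Clifford

open scoped ComplexConjugate

variable {G : Type*} [Group G] [Fintype G]

/-- Restriction of an induced function to a subgroup with `N * H = G`. -/
theorem indFun_restrict_of_mul_eq (N H : Subgroup G) [Fintype N]
    (hcov : ∀ x : G, ∃ n ∈ N, ∃ h ∈ H, n * h = x) {ϑ : H → ℂ}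
    (hϑ : Cfsg.IsClassFunction H ϑ) (g : N) :
    Cfsg.indFun H ϑ g =
      Cfsg.indFun (H.subgroupOf N) (fun k => ϑ ⟨((k : N) : G), k.2⟩) g := by
  classical
  have : Fintype H := Fintype.ofFinite H
  let f : G → ℂ := fun x => Cfsg.extendByZero H ϑ (x⁻¹ * g * x)
  have hf : ∀ x, ∀ h ∈ H, f (x * h) = f x := by
    intro x h hh
    have e : (x * h)⁻¹ * g * (x * h) = h⁻¹ * (x⁻¹ * g * x) * h := by group
    by_cases hx : x⁻¹ * (g : G) * x ∈ H
    · have hx' : h⁻¹ * (x⁻¹ * g * x) * h ∈ H := H.mul_mem (H.mul_mem (H.inv_mem hh) hx) hh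
      simp only [f, e, Char.extendByZero_of_mem ϑ hx, Char.extendByZero_of_mem ϑ hx']
      have := hϑ ⟨_, hx⟩ ⟨h⁻¹, H.inv_mem hh⟩
      convert this using 2
      exact Subtype.ext (by simp)
    · have hx' : h⁻¹ * (x⁻¹ * (g : G) * x) * h ∉ H := fun h' => hx (by
        simpa [mul_assoc] using H.mul_mem (H.mul_mem hh h') (H.inv_mem hh))
      simp only [f, e, Char.extendByZero_of_not_mem ϑ hx, Char.extendByZero_of_not_mem ϑ hx']
  let π : N × H → G := fun p => p.1 * p.2
  have hfib : ∀ x : G, (Finset.univ.filter fun p : N × H => π p = x).card =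
      Nat.card (H.subgroupOf N) := by
    intro x
    obtain ⟨n₀, hn₀, h₀, hh₀, rfl⟩ := hcov x
    rw [← Fintype.card_subtype, ← Nat.card_eq_fintype_card]
    refine Nat.card_congr
      { toFun := fun p => ⟨(⟨n₀, hn₀⟩⁻¹ : N) * p.1.1, ?_⟩
        invFun := fun k => ⟨(⟨n₀, hn₀⟩ * k, ⟨((k : N) : G)⁻¹ * h₀,
          H.mul_mem (H.inv_mem k.2) hh₀⟩), by simp [π, mul_assoc]⟩
        left_inv := ?_
        right_inv := ?_ }
    · have h : ((p.1.1 : N) : G) * (p.1.2 : H) = n₀ * h₀ := p.2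
      show n₀⁻¹ * (p.1.1 : G) ∈ H
      rw [show n₀⁻¹ * (p.1.1 : G) = h₀ * (p.1.2 : G)⁻¹ by
        rw [eq_mul_inv_iff_mul_eq, mul_assoc, h, inv_mul_cancel_left]]
      exact H.mul_mem hh₀ (H.inv_mem p.1.2.2)
    · intro p
      have h : ((p.1.1 : N) : G) * (p.1.2 : H) = n₀ * h₀ := p.2
      refine Subtype.ext (Prod.ext (by simp) (Subtype.ext ?_))
      simp [mul_assoc, ← h]
    · intro k
      exact Subtype.ext (by simp)
  have h1 : (Nat.card (H.subgroupOf N) : ℂ) * ∑ x : G, f x = (Nat.card H : ℂ) * ∑ n : N, f n := by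
    calc (Nat.card (H.subgroupOf N) : ℂ) * ∑ x : G, f x
        = ∑ x : G, ∑ _p ∈ Finset.univ.filter (fun p : N × H => π p = x), f x := by
          rw [Finset.mul_sum]
          refine Finset.sum_congr rfl fun x _ => ?_
          rw [Finset.sum_const, hfib, nsmul_eq_mul]
      _ = ∑ p : N × H, f (π p) := by
          rw [← Finset.sum_fiberwise Finset.univ π (fun p => f (π p))]
          refine Finset.sum_congr rfl fun x _ => Finset.sum_congr rfl fun p hp => ?_
          rw [(Finset.mem_filter.mp hp).2]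
      _ = ∑ n : N, ∑ _h : H, f n := by
          rw [Fintype.sum_prod_type]
          exact Finset.sum_congr rfl fun n _ => Finset.sum_congr rfl fun h _ => hf _ _ h.2
      _ = (Nat.card H : ℂ) * ∑ n : N, f n := by
          simp [Finset.mul_sum, Nat.card_eq_fintype_card]
  have hz : ∀ n : N, Cfsg.extendByZero (H.subgroupOf N)
      (fun k => ϑ ⟨((k : N) : G), k.2⟩) (n⁻¹ * g * n) = f n := by
    intro n
    by_cases hn : n⁻¹ * g * n ∈ H.subgroupOf N
    · rw [Char.extendByZero_of_mem _ hn]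
      exact (Char.extendByZero_of_mem ϑ hn).symm
    · rw [Char.extendByZero_of_not_mem _ hn]
      exact (Char.extendByZero_of_not_mem ϑ hn).symm
  have hK : (Nat.card (H.subgroupOf N) : ℂ) ≠ 0 := Nat.cast_ne_zero.mpr Nat.card_pos.ne'
  have hH : (Nat.card H : ℂ) ≠ 0 := Nat.cast_ne_zero.mpr Nat.card_pos.ne'
  rw [Char.indFun_def, Char.indFun_def, Finset.sum_congr rfl (fun n _ => hz n),
    inv_mul_eq_iff_eq_mul₀ hH, ← mul_assoc, mul_comm (Nat.card H : ℂ), mul_assoc,
    eq_inv_mul_iff_mul_eq₀ hK]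
  exact h1

/-- The sum of the squares of the absolute values. -/
noncomputable def sumSq {Y : Type*} [Fintype Y] (f : Y → ℂ) : ℝ := ∑ y, ‖f y‖ ^ 2

theorem sumSq_irr {Y : Type*} [Group Y] [Fintype Y] {μ : Y → ℂ} (hμ : Cfsg.IsIrrCharacter Y μ) :
    sumSq μ = Nat.card Y := by
  have h : ((Nat.card Y : ℝ)⁻¹ * sumSq μ : ℝ) = 1 := by
    exact_mod_cast (Char.classInner_self_eq_norm μ).symm.trans (Char.irr_classInner_self hμ)
  exact ((inv_mul_eq_iff_eq_mul₀ (by simp)).mp h).trans (mul_one _)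

theorem sumSq_smul {Y : Type*} [Fintype Y] (e : ℕ) (f : Y → ℂ) :
    sumSq ((e : ℂ) • f) = (e : ℝ) ^ 2 * sumSq f := by
  simp [sumSq, mul_pow, Finset.mul_sum]

theorem sumSq_split {Y : Type*} [Group Y] [Fintype Y] (S : Subgroup Y) [Fintype S] (f : Y → ℂ)
    [DecidablePred (· ∈ S)] :
    sumSq f = sumSq (fun x : S => f x) + ∑ y ∈ Finset.univ.filter (· ∉ S), ‖f y‖ ^ 2 := by
  rw [sumSq, ← Finset.sum_filter_add_sum_filter_not Finset.univ (· ∈ S)]
  congr 1
  rw [sumSq]
  exact Finset.sum_subtype _ (fun y => by simp) _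

/-- Vanishing off a subgroup is detected by the sums of squares. -/
theorem eq_sq_iff_vanish {Y : Type*} [Group Y] [Fintype Y] (S : Subgroup Y) [Fintype S]
    {f μ : Y → ℂ} {φ : S → ℂ} (hμ : Cfsg.IsIrrCharacter Y μ) (hφ : Cfsg.IsIrrCharacter S φ)
    {e c : ℕ} (hf : f = (e : ℂ) • μ) (hres : (fun x : S => f x) = (c : ℂ) • φ) :
    e ^ 2 * Nat.card Y = c ^ 2 * Nat.card S ↔ ∀ y, y ∉ S → f y = 0 := by
  classical
  have h := sumSq_split S f
  rw [hres, sumSq_smul, sumSq_irr hφ, hf, sumSq_smul, sumSq_irr hμ, ← hf] at h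
  constructor
  · intro hc y hy
    have hc' : (e : ℝ) ^ 2 * Nat.card Y = (c : ℝ) ^ 2 * Nat.card S := by exact_mod_cast hc
    have h0 : ∑ y ∈ Finset.univ.filter (· ∉ S), ‖f y‖ ^ 2 = 0 := by linarith
    have := (Finset.sum_eq_zero_iff_of_nonneg fun _ _ => sq_nonneg _).mp h0 y (by simp [hy])
    simpa using this
  · intro hv
    rw [Finset.sum_eq_zero (fun y hy => by simp [hv y (Finset.mem_filter.mp hy).2]), add_zero] at h
    exact_mod_cast h

/-- `|X| = |G : H| |X ∩ H|` for a normal `X` supplementing `H`. -/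
theorem natCard_of_sup_eq_top (X H : Subgroup G) [X.Normal] (h : X ⊔ H = ⊤) :
    Nat.card X = H.index * Nat.card (X ⊓ H : Subgroup G) := by
  have h1 : X.relIndex H = X.index := by
    rw [← Subgroup.relIndex_sup_right, sup_comm, h, Subgroup.relIndex_top_right]
  have h2 : X.relIndex H * Nat.card (X ⊓ H : Subgroup G) = Nat.card H := by
    rw [← Subgroup.inf_relIndex_right, Subgroup.relIndex, ← (X ⊓ H).subgroupOf H |>.index_mul_card,
      Nat.card_congr (Subgroup.subgroupOfEquivOfLe (inf_le_right : X ⊓ H ≤ H)).toEquiv]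
  have h3 := H.index_mul_card
  have h4 := X.index_mul_card
  rw [← h2, h1] at h3
  refine Nat.eq_of_mul_eq_mul_left (Nat.pos_of_ne_zero X.index_ne_zero_of_finite) ?_
  rw [h4, ← h3]; ring

theorem natCard_comap_mk (C : Subgroup G) [C.Normal] (M' : Subgroup (G ⧸ C)) :
    Nat.card (M'.comap (QuotientGroup.mk' C)) = Nat.card M' * Nat.card C := by
  have h1 := (M'.comap (QuotientGroup.mk' C)).index_mul_card
  rw [Subgroup.index_comap_of_surjective M' (QuotientGroup.mk'_surjective C), ← C.index_mul_card,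
    show C.index = Nat.card (G ⧸ C) from rfl, ← M'.index_mul_card, mul_assoc] at h1
  exact Nat.eq_of_mul_eq_mul_left (Nat.pos_of_ne_zero M'.index_ne_zero_of_finite) h1

/-- A maximal subgroup of a solvable group has a normal supplement meeting it in its core. -/
theorem exists_normal_supplement [Group.IsSolvable G] (H : Subgroup G) (hmax : IsCoatom H) :
    ∃ M : Subgroup G, M.Normal ∧ H.normalCore ≤ M ∧ M ⊔ H = ⊤ ∧ M ⊓ H = H.normalCore := by
  let C := H.normalCore
  have hCH : C ≤ H := H.normalCore_le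
  have : Nontrivial (G ⧸ C) :=
    QuotientGroup.nontrivial_iff.mpr fun h => hmax.1 (top_le_iff.mp (h ▸ hCH))
  obtain ⟨M', hM'n, hM'ne, hM'min⟩ := Solvable.exists_minimal_normal (G := G ⧸ C)
  have hM'ab := Solvable.isMulCommutative_of_minimal_normal hM'ne hM'min
  let M := M'.comap (QuotientGroup.mk' C)
  have hMn : M.Normal := hM'n.comap _
  have hCM : C ≤ M := fun x hx => by
    rw [Subgroup.mem_comap, QuotientGroup.mk'_apply, (QuotientGroup.eq_one_iff x).mpr hx]
    exact M'.one_mem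
  have hsup : M ⊔ H = ⊤ := hmax.2 _ (lt_of_le_of_ne le_sup_right fun h => hM'ne (by
    rw [eq_bot_iff]
    intro z hz
    obtain ⟨x, rfl⟩ := QuotientGroup.mk_surjective z
    exact (QuotientGroup.eq_one_iff x).mpr
      (Subgroup.normal_le_normalCore.mpr (h ▸ le_sup_left : M ≤ H) hz)))
  refine ⟨M, hMn, hCM, hsup, le_antisymm ?_ (le_inf hCM hCH)⟩
  have : (M ⊓ H).Normal := ⟨fun k hk g => by
    obtain ⟨m, hm, h, hh, rfl⟩ :=
      Subgroup.mem_sup_of_normal_left.mp (hsup.symm ▸ Subgroup.mem_top g)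
    have hk' : h * k * h⁻¹ ∈ M ⊓ H :=
      ⟨hMn.conj_mem _ hk.1 h, H.mul_mem (H.mul_mem hh hk.2) (H.inv_mem hh)⟩
    rw [show m * h * k * (m * h)⁻¹ = m * (h * k * h⁻¹) * m⁻¹ by group]
    refine ⟨hMn.conj_mem _ hk'.1 m, ?_⟩
    have hc := congr_arg Subtype.val (hM'ab.is_comm.comm ⟨_, hm⟩ ⟨_, hk'.1⟩)
    simp only [Subgroup.coe_mul, QuotientGroup.mk'_apply] at hc
    have hmem : m * (h * k * h⁻¹) * m⁻¹ * (h * k * h⁻¹)⁻¹ ∈ C := by
      rw [← QuotientGroup.eq_one_iff, QuotientGroup.mk_mul, QuotientGroup.mk_mul,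
        QuotientGroup.mk_mul, hc]
      simp [mul_assoc]
    have h2 := H.mul_mem (hCH hmem) hk'.2
    rwa [inv_mul_cancel_right] at h2⟩
  exact Subgroup.normal_le_normalCore.mpr inf_le_right

/-- If every normal subgroup above `L` restricts `ϑ^G` homogeneously then `H` is not maximal. -/
theorem exists_not_homogeneous (L H : Subgroup G) [L.Normal] (hLH : L ≤ H) (hmax : IsCoatom H)
    (hsolv : Group.IsSolvable (G ⧸ L)) (ϑ : H → ℂ) (hϑ : Cfsg.IsIrrCharacter H ϑ)
    (hϑL : Cfsg.IsIrrCharacter L (fun x : L => ϑ ⟨(x : G), hLH x.2⟩))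
    (hind : Cfsg.IsIrrCharacter G (Cfsg.indFun H ϑ)) :
    ∃ M : Subgroup G, M.Normal ∧ L ≤ M ∧ ¬ ∃ (φ : M → ℂ) (e : ℕ),
      Cfsg.IsIrrCharacter M φ ∧ (fun m : M => Cfsg.indFun H ϑ m) = (e : ℂ) • φ := by
  classical
  by_contra hcon
  push Not at hcon
  have : Fintype H := Fintype.ofFinite H
  let χ := Cfsg.indFun H ϑ
  let C := H.normalCore
  have hCH : C ≤ H := H.normalCore_le
  have hLC : L ≤ C := Subgroup.normal_le_normalCore.mpr hLH
  have : Fintype C := Fintype.ofFinite C
  let φ : C → ℂ := fun x => ϑ ⟨(x : G), hCH x.2⟩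
  have hφc : Cfsg.IsCharacter C φ :=
    Char.isCharacter_comp (Char.irr_isCharacter hϑ) (Subgroup.inclusion hCH)
  have hφ : Cfsg.IsIrrCharacter C φ := by
    refine isIrrCharacter_of_restrict (H := L.subgroupOf C) hφc ?_
    exact Char.isIrrCharacter_comp_surjective hϑL (Subgroup.subgroupOfEquivOfLe hLC).toMonoidHom
      (Subgroup.subgroupOfEquivOfLe hLC).surjective
  have hφ1 : φ 1 ≠ 0 := Char.irr_apply_one_ne_zero hφ
  -- the restriction to `C`
  have hχ1 : χ 1 = (H.index : ℂ) * φ 1 := Char.indFun_apply_one H ϑ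
  have hχC : (fun x : C => χ x) = (H.index : ℂ) • φ := by
    obtain ⟨φ', c, hφ', hc⟩ := hcon C inferInstance hLC
    have hne : Cfsg.classInner (fun x : H => χ x) ϑ ≠ 0 := by
      rw [← Char.classInner_conj_symm ϑ,
        ← Char.frobenius_reciprocity H ϑ χ (Char.indFun_isClassFunction H ϑ)]
      show conj (Cfsg.classInner χ χ) ≠ 0
      rw [Char.irr_classInner_self hind, map_one]
      exact one_ne_zero
    obtain ⟨R, hR, hRe⟩ := exists_add_of_constituent
      (Char.isCharacter_restrict (Char.irr_isCharacter hind) H) hϑ hne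
    have hres : (fun x : C => χ x) = φ + fun x : C => R (Subgroup.inclusion hCH x) :=
      funext fun x => congr_fun hRe (Subgroup.inclusion hCH x)
    obtain ⟨n, hn⟩ := Char.classInner_isCharacter_nat
      (Char.isCharacter_comp hR (Subgroup.inclusion hCH)) hφc
    have h2 : Cfsg.classInner (fun x : C => χ x) φ = 1 + n := by
      rw [hres, Char.classInner_add_left, Char.irr_classInner_self hφ,
        show Cfsg.classInner (fun x : C => R (Subgroup.inclusion hCH x)) φ = n from hn]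
    have heq : φ' = φ := by
      by_contra h
      rw [show (fun x : C => χ x) = (c : ℂ) • φ' from hc, Char.classInner_smul_left,
        Char.irr_classInner_ne hφ' hφ h, mul_zero] at h2
      exact Nat.succ_ne_zero n (by exact_mod_cast (h2.trans (add_comm _ _)).symm)
    subst heq
    have h1 : χ 1 = (c : ℂ) * φ 1 := congr_fun hc 1
    rw [show (fun x : C => χ x) = (c : ℂ) • φ from hc,
      mul_right_cancel₀ hφ1 (h1.symm.trans hχ1)]
  -- a chief factor above `C`
  have hne : C ≠ ⊤ := fun h => hmax.1 (top_le_iff.mp (h ▸ hCH))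
  have : Nontrivial (G ⧸ C) := QuotientGroup.nontrivial_iff.mpr hne
  have hsC : Group.IsSolvable (G ⧸ C) :=
    Group.isSolvable_of_surjective (f := QuotientGroup.map L C (MonoidHom.id G) hLC)
      (fun x => by obtain ⟨g, rfl⟩ := QuotientGroup.mk_surjective x; exact ⟨g, rfl⟩)
  obtain ⟨M', hM'n, hM'ne, hM'min⟩ := Solvable.exists_minimal_normal (G := G ⧸ C)
  obtain ⟨p, hp, hM'p, -, hM'ab⟩ := Solvable.exists_isPGroup_of_minimal_normal hM'ne hM'min
  let M := M'.comap (QuotientGroup.mk' C)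
  have hMn : M.Normal := hM'n.comap _
  have hCM : C ≤ M := fun x hx => by
    rw [Subgroup.mem_comap, QuotientGroup.mk'_apply, (QuotientGroup.eq_one_iff x).mpr hx]
    exact M'.one_mem
  have hab : ∀ x ∈ M, ∀ y ∈ M, x * y * x⁻¹ * y⁻¹ ∈ C := by
    intro x hx y hy
    rw [← QuotientGroup.eq_one_iff]
    have hc := congr_arg Subtype.val (hM'ab.is_comm.comm ⟨_, hx⟩ ⟨_, hy⟩)
    simp only [Subgroup.coe_mul, QuotientGroup.mk'_apply] at hc
    simp only [QuotientGroup.mk_mul, QuotientGroup.mk_inv, hc]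
    group
  have hMH : ¬ M ≤ H := fun h => hM'ne (by
    rw [eq_bot_iff]
    intro z hz
    obtain ⟨x, rfl⟩ := QuotientGroup.mk_surjective z
    exact (QuotientGroup.eq_one_iff x).mpr (Subgroup.normal_le_normalCore.mpr h hz))
  have hsupX : ∀ X : Subgroup G, M ≤ X → X ⊔ H = ⊤ := fun X hX =>
    hmax.2 _ (lt_of_le_of_ne le_sup_right fun h => hMH (hX.trans (h ▸ le_sup_left)))
  have hnorm : ∀ X : Subgroup G, X.Normal → M ≤ X → (∀ m ∈ M, ∀ k ∈ X ⊓ H, m * k * m⁻¹ ∈ X ⊓ H) →
      X ⊓ H ≤ C := by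
    intro X hX hMX hm
    have : (X ⊓ H).Normal := ⟨fun k hk g => by
      obtain ⟨m, hm', h, hh, rfl⟩ :=
        Subgroup.mem_sup_of_normal_left.mp ((hsupX M le_rfl).symm ▸ Subgroup.mem_top g)
      rw [show m * h * k * (m * h)⁻¹ = m * (h * k * h⁻¹) * m⁻¹ by group]
      exact hm m hm' _ ⟨hX.conj_mem _ hk.1 h, H.mul_mem (H.mul_mem hh hk.2) (H.inv_mem hh)⟩⟩
    exact Subgroup.normal_le_normalCore.mpr inf_le_right
  have hMC : M ⊓ H = C := le_antisymm (hnorm M hMn le_rfl fun m hm k hk =>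
    ⟨hMn.conj_mem k hk.1 m, by
      rw [show m * k * m⁻¹ = m * k * m⁻¹ * k⁻¹ * k by group]
      exact H.mul_mem (hCH (hab m hm k hk.1)) hk.2⟩) (le_inf hCM hCH)
  have hcardM : Nat.card M = H.index * Nat.card C := by
    rw [natCard_of_sup_eq_top M H (hsupX M le_rfl), hMC]
  have hcardM' : Nat.card M = Nat.card M' * Nat.card C := natCard_comap_mk C M'
  have hq : Nat.card M' = H.index :=
    Nat.eq_of_mul_eq_mul_right Nat.card_pos (hcardM'.symm.trans hcardM)
  have : Fact p.Prime := ⟨hp⟩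
  obtain ⟨k, hk⟩ := IsPGroup.iff_card.mp hM'p
  have hq1 : 1 < H.index := hq ▸ M'.one_lt_card_iff_ne_bot.mpr hM'ne
  have hvanM : ∀ g ∈ M, g ∉ C → χ g = 0 := by
    intro g hg hgC
    show Cfsg.indFun H ϑ g = 0
    rw [Char.indFun_def, Finset.sum_eq_zero (fun x _ => ?_), mul_zero]
    refine Char.extendByZero_of_not_mem ϑ fun hH' => hgC ?_
    have h1 : x⁻¹ * g * x ∈ C := hMC ▸ (⟨hMn.conj_mem' g hg x, hH'⟩ : _ ∈ M ⊓ H)
    simpa [mul_assoc] using (inferInstance : C.Normal).conj_mem _ h1 x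
  have : Fintype M := Fintype.ofFinite M
  obtain ⟨μ, e, hμ, he⟩ := hcon M hMn (hLC.trans hCM)
  let eC := Subgroup.subgroupOfEquivOfLe hCM
  have : Fintype (C.subgroupOf M) := Fintype.ofFinite _
  have he2 : e ^ 2 = H.index := by
    have := (eq_sq_iff_vanish (C.subgroupOf M) hμ
      (Char.isIrrCharacter_comp_surjective hφ eC.toMonoidHom eC.surjective) he
      (funext fun x => congr_fun hχC (eC x))).mpr fun y hy => hvanM y y.2 hy
    rw [Nat.card_congr eC.toEquiv, hcardM, ← mul_assoc, sq H.index] at this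
    exact Nat.eq_of_mul_eq_mul_right (Nat.zero_lt_of_lt hq1)
      (Nat.eq_of_mul_eq_mul_right Nat.card_pos this)
  have he0 : 1 < e := by nlinarith
  have hMtop : M ≠ ⊤ := by
    intro h
    have h1 := (eq_sq_iff_vanish C (e := 1) (f := χ) hind hφ (by simp [χ]) hχC).mpr
      fun y hy => hvanM y (h ▸ Subgroup.mem_top y) hy
    rw [one_pow, one_mul, ← Subgroup.card_top, ← h, hcardM] at h1
    have := Nat.eq_of_mul_eq_mul_right Nat.card_pos h1
    nlinarith
  -- a chief factor above `M`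
  have : Nontrivial (G ⧸ M) := QuotientGroup.nontrivial_iff.mpr hMtop
  have hsM : Group.IsSolvable (G ⧸ M) :=
    Group.isSolvable_of_surjective (f := QuotientGroup.map C M (MonoidHom.id G) hCM)
      (fun x => by obtain ⟨g, rfl⟩ := QuotientGroup.mk_surjective x; exact ⟨g, rfl⟩)
  obtain ⟨N', hN'n, hN'ne, hN'min⟩ := Solvable.exists_minimal_normal (G := G ⧸ M)
  obtain ⟨r, hr, hN'r, -, -⟩ := Solvable.exists_isPGroup_of_minimal_normal hN'ne hN'min
  let N := N'.comap (QuotientGroup.mk' M)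
  have hNn : N.Normal := hN'n.comap _
  have hMN : M ≤ N := fun x hx => by
    rw [Subgroup.mem_comap, QuotientGroup.mk'_apply, (QuotientGroup.eq_one_iff x).mpr hx]
    exact N'.one_mem
  have hcardN : Nat.card N = Nat.card N' * Nat.card M := natCard_comap_mk M N'
  have : Fact r.Prime := ⟨hr⟩
  obtain ⟨j, hj⟩ := IsPGroup.iff_card.mp hN'r
  have hN1 : 1 < Nat.card N' := N'.one_lt_card_iff_ne_bot.mpr hN'ne
  have hcardNK : Nat.card N = H.index * Nat.card (N ⊓ H : Subgroup G) :=
    natCard_of_sup_eq_top N H (hsupX N hMN)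
  have hfinal : ¬ ∀ m ∈ M, ∀ k ∈ N ⊓ H, m * k * m⁻¹ ∈ N ⊓ H := fun h => by
    have hle := Subgroup.card_le_of_le (hnorm N hNn hMN h)
    have : Nat.card N ≤ Nat.card M := by
      rw [hcardNK, hcardM]; exact Nat.mul_le_mul_left _ hle
    rw [hcardN] at this
    nlinarith [(Nat.card_pos : 0 < Nat.card M)]
  by_cases hrp : r = p
  · subst hrp
    apply hfinal
    let Nb := N.map (QuotientGroup.mk' C)
    have hNb : Nb.Normal := hNn.map _ (QuotientGroup.mk'_surjective C)
    have hcomap : Nb.comap (QuotientGroup.mk' C) = N := by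
      rw [Subgroup.comap_map_eq_self]
      rw [QuotientGroup.ker_mk']
      exact hCM.trans hMN
    have hcardNb : Nat.card Nb = r ^ (j + k) := by
      refine Nat.eq_of_mul_eq_mul_right (Nat.card_pos (α := C)) ?_
      rw [← natCard_comap_mk C Nb, hcomap, hcardN, hcardM, ← hq, hk, hj, pow_add]
      ring
    have hM'N : M' ≤ Nb := fun z hz => by
      obtain ⟨x, rfl⟩ := QuotientGroup.mk_surjective z
      exact ⟨x, hMN hz, rfl⟩
    have : (M'.subgroupOf Nb).Normal := hM'n.subgroupOf Nb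
    obtain ⟨z, hz, hz1, hzc⟩ := InvChar.exists_mem_center_of_normal
      (IsPGroup.of_card hcardNb) (M'.subgroupOf Nb) (fun h => hM'ne (by
        rw [eq_bot_iff]
        intro y hy
        have : (⟨y, hM'N hy⟩ : Nb) ∈ M'.subgroupOf Nb := hy
        rw [h, Subgroup.mem_bot] at this
        exact congr_arg Subtype.val this))
    rcases hM'min (M' ⊓ Subgroup.centralizer (Nb : Set (G ⧸ C))) inferInstance inf_le_left with h0 | h0
    · exact absurd (Subtype.ext ((Subgroup.mem_bot (x := (z : G ⧸ C))).mp (h0 ▸ ⟨hz, fun y hy =>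
        congr_arg Subtype.val (Subgroup.mem_center_iff.mp hzc ⟨y, hy⟩)⟩))) hz1
    · intro m hm x hx
      refine ⟨hNn.conj_mem x hx.1 m, ?_⟩
      rw [show m * x * m⁻¹ = m * x * m⁻¹ * x⁻¹ * x by group]
      refine H.mul_mem (hCH ?_) hx.2
      rw [← QuotientGroup.eq_one_iff]
      have hm' : (m : G ⧸ C) ∈ Subgroup.centralizer (Nb : Set (G ⧸ C)) :=
        (h0.symm.le (show (m : G ⧸ C) ∈ M' from hm)).2
      have hc := hm' (x : G ⧸ C) ⟨x, hx.1, rfl⟩
      simp only [QuotientGroup.mk_mul, QuotientGroup.mk_inv, ← hc]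
      group
  -- coprime case: the restriction to `N` vanishes off a normal subgroup
  have : Fintype N := Fintype.ofFinite N
  obtain ⟨η, c, hη, hc⟩ := hcon N hNn (hLC.trans (hCM.trans hMN))
  have hc0 : (c : ℂ) ≠ 0 := fun h => Char.irr_apply_one_ne_zero hind (by
    have := congr_fun hc 1; simpa [h] using this)
  let eM := Subgroup.subgroupOfEquivOfLe hMN
  have : Fintype (M.subgroupOf N) := Fintype.ofFinite _
  let μ' : M.subgroupOf N → ℂ := fun x => μ (eM x)
  have hμ' : Cfsg.IsIrrCharacter (M.subgroupOf N) μ' :=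
    Char.isIrrCharacter_comp_surjective hμ eM.toMonoidHom eM.surjective
  have hηM : ∀ x : M.subgroupOf N, (c : ℂ) * η ((x : N)) = (e : ℂ) * μ' x := fun x =>
    (congr_fun hc (x : N)).symm.trans (congr_fun he (eM x))
  have hne2 : Cfsg.classInner (fun x : M.subgroupOf N => η x) μ' ≠ 0 := by
    rw [show (fun x : M.subgroupOf N => η x) = ((e : ℂ) / c) • μ' from funext fun x => by
      rw [Pi.smul_apply, smul_eq_mul, div_mul_eq_mul_div, eq_div_iff hc0, mul_comm, hηM],
      Char.classInner_smul_left, Char.irr_classInner_self hμ', mul_one]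
    exact div_ne_zero (by exact_mod_cast (by omega : e ≠ 0)) hc0
  obtain ⟨b, hb, hbd⟩ := degree_quot_dvd_index hη hμ' hne2
  have hcb : c * b = e := by
    have h1 := hηM 1
    rw [OneMemClass.coe_one, hb, ← mul_assoc] at h1
    exact_mod_cast mul_right_cancel₀ (Char.irr_apply_one_ne_zero hμ') h1
  have hidx : (M.subgroupOf N).index = r ^ j := by
    refine Nat.eq_of_mul_eq_mul_right (Nat.card_pos (α := M)) ?_
    rw [← hj, ← hcardN, ← (M.subgroupOf N).index_mul_card, Nat.card_congr eM.toEquiv]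
  have hb1 : b = 1 := by
    rw [hidx] at hbd
    have h1 : b ∣ p ^ k := by rw [← hk, hq, ← he2, ← hcb]; exact ⟨c ^ 2 * b, by ring⟩
    exact Nat.eq_one_of_dvd_coprimes
      (Nat.Coprime.pow _ _ ((Nat.coprime_primes hp hr).mpr (Ne.symm hrp))) h1 hbd
  have hce : c = e := by rw [← hcb, hb1, mul_one]
  let K := H.subgroupOf N
  have : Fintype K := Fintype.ofFinite K
  let θ : K → ℂ := fun x => ϑ ⟨((x : N) : G), x.2⟩
  have hCK : C.subgroupOf N ≤ K := fun x hx => hCH hx
  have hirr : ∀ D : Subgroup N, ∀ h : D ≤ K, C.subgroupOf N ≤ D →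
      Cfsg.IsIrrCharacter D (fun x => θ (Subgroup.inclusion h x)) := by
    intro D h hD
    refine isIrrCharacter_of_restrict (H := (C.subgroupOf N).subgroupOf D)
      (Char.isCharacter_comp (Char.irr_isCharacter hϑ)
        ({ toFun := fun x => ⟨((x : N) : G), h x.2⟩, map_one' := rfl, map_mul' := fun _ _ => rfl } :
          D →* H)) ?_
    exact Char.isIrrCharacter_comp_surjective hφ
      (((Subgroup.subgroupOfEquivOfLe hD).trans
        (Subgroup.subgroupOfEquivOfLe (hCM.trans hMN)))).toMonoidHom (MulEquiv.surjective _)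
  have hθ : Cfsg.IsIrrCharacter K θ := hirr K le_rfl hCK
  have hind2 : (fun g : N => χ g) = Cfsg.indFun K θ := funext fun g =>
    indFun_restrict_of_mul_eq N H (fun x => Subgroup.mem_sup_of_normal_left.mp
      ((hsupX N hMN).symm ▸ Subgroup.mem_top x)) (Char.irr_isClassFunction hϑ) g
  have hin : Cfsg.classInner θ (fun x : K => η x) = e := by
    rw [← Char.frobenius_reciprocity K θ η (Char.irr_isClassFunction hη), ← hind2,
      show (fun g : N => χ g) = (c : ℂ) • η from hc, Char.classInner_smul_left,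
      Char.irr_classInner_self hη, mul_one, hce]
  have hcardK : Nat.card N = e ^ 2 * Nat.card K := by
    rw [hcardNK, he2, inf_comm,
      ← Nat.card_congr (Subgroup.subgroupOfEquivOfLe (inf_le_right : H ⊓ N ≤ N)).toEquiv,
      Subgroup.inf_subgroupOf_right]
  have hηK : (fun x : K => η x) = (e : ℂ) • θ := by
    refine sub_eq_zero.mp (Char.classInner_self_eq_zero ?_)
    have h1 : Cfsg.classInner (fun x : K => η x) θ = e := by
      rw [← Char.classInner_conj_symm θ, hin, map_natCast]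
    have h2 : Cfsg.classInner ((fun x : K => η x) - (e : ℂ) • θ) ((fun x : K => η x) - (e : ℂ) • θ) =
        Cfsg.classInner (fun x : K => η x) (fun x : K => η x) - (e : ℂ) ^ 2 := by
      simp only [Char.classInner_sub_left, Char.classInner_sub_right, Char.classInner_smul_left,
        Char.classInner_smul_right, Char.irr_classInner_self hθ, hin, h1, map_natCast]
      ring
    rw [Char.classInner_self_eq_norm, Char.classInner_self_eq_norm] at h2
    have h3 : (Nat.card K : ℝ)⁻¹ * sumSq ((fun x : K => η x) - (e : ℂ) • θ) =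
        (Nat.card K : ℝ)⁻¹ * sumSq (fun x : K => η x) - (e : ℝ) ^ 2 := by
      have := congr_arg Complex.re h2
      simpa [sumSq, ← Complex.ofReal_natCast, ← Complex.ofReal_pow] using this
    have h4 : sumSq (fun x : K => η x) ≤ (e : ℝ) ^ 2 * Nat.card K := by
      have h5 := sumSq_split K η
      rw [sumSq_irr hη] at h5
      have : 0 ≤ ∑ y ∈ Finset.univ.filter (· ∉ K), ‖η y‖ ^ 2 :=
        Finset.sum_nonneg fun _ _ => sq_nonneg _
      have h6 : (Nat.card N : ℝ) = (e : ℝ) ^ 2 * Nat.card K := by exact_mod_cast hcardK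
      linarith
    have h7 : (Nat.card K : ℝ)⁻¹ * sumSq ((fun x : K => η x) - (e : ℂ) • θ) = 0 := by
      refine le_antisymm ?_ (mul_nonneg (by positivity) (Finset.sum_nonneg fun _ _ => sq_nonneg _))
      have h8 : (Nat.card K : ℝ)⁻¹ * sumSq (fun x : K => η x) ≤ (e : ℝ) ^ 2 := by
        rw [inv_mul_le_iff₀ (Nat.cast_pos.mpr Nat.card_pos)]; linarith
      linarith
    rw [Char.classInner_self_eq_norm]
    exact_mod_cast h7
  have hvK : ∀ g : N, g ∉ K → η g = 0 :=
    (eq_sq_iff_vanish K (e := 1) hη hθ (by simp) hηK).mp (by rw [one_pow, one_mul, hcardK])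
  let D := K.normalCore
  have : Fintype D := Fintype.ofFinite D
  have hvD : ∀ g : N, g ∉ D → η g = 0 := by
    intro g hg
    by_contra h
    refine hg fun n => ?_
    by_contra hn
    exact h ((Char.irr_isClassFunction hη g n).symm.trans (hvK _ hn))
  have hCD : C.subgroupOf N ≤ D := Subgroup.normal_le_normalCore.mpr hCK
  have hcardD : Nat.card N = e ^ 2 * Nat.card D := by
    have := (eq_sq_iff_vanish D (e := 1) (f := η) hη (hirr D K.normalCore_le hCD) (by simp)
      (funext fun x => congr_fun hηK (Subgroup.inclusion K.normalCore_le x))).mpr hvD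
    rwa [one_pow, one_mul] at this
  have hDK : D = K := Subgroup.eq_of_le_of_card_ge K.normalCore_le
    (le_of_eq (Nat.eq_of_mul_eq_mul_left (by positivity) (hcardK.symm.trans hcardD)))
  apply hfinal
  intro m hm x hx
  refine ⟨hNn.conj_mem x hx.1 m, ?_⟩
  have h1 : (⟨x, hx.1⟩ : N) ∈ D := hDK.symm ▸ (hx.2 : (⟨x, hx.1⟩ : N) ∈ K)
  exact h1 ⟨m, hMN hm⟩

end CfsgLib.Clifford
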