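import Cfsg.Agent.Lib.Char.Induce
import Cfsg.Agent.Lib.Char.Diag
import Cfsg.Agent.Lib.Char.Monomial
import Cfsg.Agent.Lib.Clifford.Correspondence
import Cfsg.Agent.Lib.BlockA.MGroupEmbed
import Cfsg.Agent.Lib.BlockB.Codegree
import Mathlib.Analysis.SpecialFunctions.Complex.CircleAddChar
import Mathlib.Analysis.Normed.Ring.Finite
import Mathlib.RingTheory.IntegralDomain

/-!
# Embedding solvable groups into central quotients of groups of central type
-/

set_option autoImplicit false

namespace CfsgLib.Clifford.CentralTypeEmbed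

open CfsgLib
open scoped ComplexConjugate

universe u

/-- The wreath product by `ZMod p` glued to a Heisenberg group. -/
@[ext] structure Gam (H : Type u) (p : ℕ) : Type u where
  f : ZMod p → H
  b : ZMod p
  c : ZMod p
  s : ZMod p

variable {H : Type u} [Group H] {p : ℕ}

instance : Mul (Gam H p) :=
  ⟨fun x y => ⟨fun k => x.f k * y.f (k + x.s), x.b + y.b, x.c + y.c + x.s * y.b, x.s + y.s⟩⟩

instance : One (Gam H p) := ⟨⟨fun _ => 1, 0, 0, 0⟩⟩

instance : Inv (Gam H p) :=
  ⟨fun x => ⟨fun k => (x.f (k - x.s))⁻¹, -x.b, -x.c + x.s * x.b, -x.s⟩⟩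

@[simp] theorem mul_f (x y : Gam H p) (k : ZMod p) : (x * y).f k = x.f k * y.f (k + x.s) := rfl
@[simp] theorem mul_b (x y : Gam H p) : (x * y).b = x.b + y.b := rfl
@[simp] theorem mul_c (x y : Gam H p) : (x * y).c = x.c + y.c + x.s * y.b := rfl
@[simp] theorem mul_s (x y : Gam H p) : (x * y).s = x.s + y.s := rfl
@[simp] theorem one_f (k : ZMod p) : (1 : Gam H p).f k = 1 := rfl
@[simp] theorem one_b : (1 : Gam H p).b = 0 := rfl
@[simp] theorem one_c : (1 : Gam H p).c = 0 := rfl
@[simp] theorem one_s : (1 : Gam H p).s = 0 := rfl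
@[simp] theorem inv_f (x : Gam H p) (k : ZMod p) : x⁻¹.f k = (x.f (k - x.s))⁻¹ := rfl
@[simp] theorem inv_b (x : Gam H p) : x⁻¹.b = -x.b := rfl
@[simp] theorem inv_c (x : Gam H p) : x⁻¹.c = -x.c + x.s * x.b := rfl
@[simp] theorem inv_s (x : Gam H p) : x⁻¹.s = -x.s := rfl

instance : Group (Gam H p) where
  mul_assoc x y z := by
    ext k
    · simp [mul_assoc, add_assoc]
    · simp [add_assoc]
    · simp; ring
    · simp [add_assoc]
  one_mul x := by ext k <;> simp
  mul_one x := by ext k <;> simp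
  inv_mul_cancel x := by
    ext k
    · simp [sub_eq_add_neg]
    · simp
    · simp
    · simp

/-- `Gam` as a product. -/
def equivProd : Gam H p ≃ (ZMod p → H) × ZMod p × ZMod p × ZMod p where
  toFun x := (x.f, x.b, x.c, x.s)
  invFun y := ⟨y.1, y.2.1, y.2.2.1, y.2.2.2⟩
  left_inv _ := rfl
  right_inv _ := rfl

instance [Finite H] [NeZero p] : Finite (Gam H p) := Finite.of_equiv _ equivProd.symm

/-- Projection to the top. -/
def top : Gam H p →* Multiplicative (ZMod p) where
  toFun x := Multiplicative.ofAdd x.s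
  map_one' := rfl
  map_mul' _ _ := rfl

/-- The normal subgroup `s = 0`. -/
def bot : Subgroup (Gam H p) := top.ker

theorem mem_bot' {x : Gam H p} : x ∈ bot ↔ x.s = 0 := by
  simp [bot, MonoidHom.mem_ker, top]

/-- The coordinate `f` on `bot`. -/
def fHom : (bot : Subgroup (Gam H p)) →* (ZMod p → H) where
  toFun x := x.1.f
  map_one' := rfl
  map_mul' x y := funext fun k => by
    show (x.1 * y.1).f k = x.1.f k * y.1.f k
    rw [mul_f, mem_bot'.mp x.2, add_zero]

variable [NeZero p]

/-- The coordinate `c` on `bot`, as a character. -/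
noncomputable def cHom : (bot : Subgroup (Gam H p)) →* ℂ where
  toFun x := ZMod.stdAddChar x.1.c
  map_one' := by simp
  map_mul' x y := by
    show ZMod.stdAddChar (x.1 * y.1).c = _
    rw [mul_c, mem_bot'.mp x.2, zero_mul, add_zero, AddChar.map_add_eq_mul]

variable [Fintype H] [Fintype (Gam H p)]

/-- The character of `Gam`. -/
noncomputable def chi (χ₀ : H → ℂ) : Gam H p → ℂ :=
  Cfsg.indFun bot fun x => (∏ k, χ₀ (x.1.f k)) * cHom x

theorem isCharacter_chi {χ₀ : H → ℂ} (hχ₀ : Cfsg.IsCharacter H χ₀) :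
    Cfsg.IsCharacter (Gam H p) (chi χ₀) := by
  refine Char.isCharacter_indFun _ ?_
  refine Char.isCharacter_mul (χ := fun x : (bot : Subgroup (Gam H p)) => ∏ k, χ₀ (x.1.f k))
    (Char.isCharacter_comp (BlockA.MGroupEmbed.isCharacter_prodFn
      (θ := fun _ : ZMod p => χ₀) fun _ => hχ₀) fHom) ?_
  exact Char.irr_isCharacter (Char.isIrrCharacter_linear
    (cHom : (bot : Subgroup (Gam H p)) →* ℂ).toHomUnits)

theorem chi_eq [Fact p.Prime] {χ₀ : H → ℂ} (hcl : Cfsg.IsClassFunction H χ₀) (x : Gam H p) :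
    chi χ₀ x = if x.s = 0 ∧ x.b = 0 then (p : ℂ) * (∏ k, χ₀ (x.f k)) * ZMod.stdAddChar x.c
      else 0 := by
  classical
  by_cases hs : x.s = 0
  swap
  · rw [if_neg fun h => hs h.1]
    have : (bot : Subgroup (Gam H p)).Normal := MonoidHom.normal_ker _
    exact Clifford.indFun_eq_zero_of_not_mem _ fun h => hs (mem_bot'.mp h)
  have hterm : ∀ y : Gam H p, Cfsg.extendByZero bot
      (fun x : (bot : Subgroup (Gam H p)) => (∏ k, χ₀ (x.1.f k)) * cHom x) (y⁻¹ * x * y) =
      (∏ k, χ₀ (x.f k)) * (ZMod.stdAddChar x.c * ZMod.stdAddChar (y.s * -x.b)) := by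
    intro y
    have hy : y⁻¹ * x * y ∈ (bot : Subgroup (Gam H p)) := mem_bot'.mpr (by simp [hs])
    rw [Char.extendByZero_of_mem _ hy]
    congr 1
    · rw [← Equiv.prod_comp (Equiv.subRight y.s) (fun k => χ₀ (x.f k))]
      refine Finset.prod_congr rfl fun k _ => ?_
      simp only [Equiv.subRight_apply, mul_f, inv_f, mul_s, inv_s, hs, add_zero]
      rw [show k + -y.s = k - y.s from (sub_eq_add_neg _ _).symm]
      simpa using hcl (x.f (k - y.s)) (y.f (k - y.s))⁻¹
    · rw [← AddChar.map_add_eq_mul]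
      show ZMod.stdAddChar (y⁻¹ * x * y).c = _
      congr 1
      simp [hs]
      ring
  have hfib : ∑ y : Gam H p, (ZMod.stdAddChar (y.s * -x.b) : ℂ) =
      (Nat.card (bot : Subgroup (Gam H p)) : ℂ) * ∑ s : ZMod p, ZMod.stdAddChar (s * -x.b) := by
    let e : Gam H p ≃ ↥(bot : Subgroup (Gam H p)) × ZMod p :=
      { toFun := fun y => (⟨⟨y.f, y.b, y.c, 0⟩, mem_bot'.mpr rfl⟩, y.s)
        invFun := fun z => ⟨z.1.1.f, z.1.1.b, z.1.1.c, z.2⟩
        left_inv := fun y => rfl
        right_inv := fun z => Prod.ext (Subtype.ext (Gam.ext rfl rfl rfl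
          (mem_bot'.mp z.1.2).symm)) rfl }
    rw [← e.symm.sum_comp, Fintype.sum_prod_type]
    simp only [e, Equiv.coe_fn_symm_mk]
    rw [Finset.sum_const, Finset.card_univ, ← Nat.card_eq_fintype_card, nsmul_eq_mul]
  rw [chi, Char.indFun_def, Finset.sum_congr rfl fun y _ => hterm y, ← Finset.mul_sum,
    ← Finset.mul_sum, hfib, AddChar.sum_mulShift (-x.b) (ZMod.isPrimitive_stdAddChar p)]
  by_cases hb : x.b = 0
  · rw [if_pos (by rw [hb, neg_zero]), if_pos ⟨hs, hb⟩, ZMod.card]
    have hne : (Nat.card (bot : Subgroup (Gam H p)) : ℂ) ≠ 0 :=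
      Nat.cast_ne_zero.mpr Nat.card_pos.ne'
    field_simp
  · rw [if_neg (fun h => hb (neg_eq_zero.mp h)), if_neg fun h => hb h.2]
    simp

theorem isIrr_chi [Fact p.Prime] {χ₀ : H → ℂ} (hχ₀ : Cfsg.IsIrrCharacter H χ₀) :
    Cfsg.IsIrrCharacter (Gam H p) (chi χ₀) := by
  classical
  refine Char.isIrrCharacter_iff.mpr ⟨isCharacter_chi (Char.irr_isCharacter hχ₀), ?_⟩
  have h0 := Char.irr_classInner_self hχ₀
  rw [Char.classInner_def, inv_mul_eq_iff_eq_mul₀ Char.natCard_ne_zero, mul_one] at h0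
  rw [Char.classInner_def, inv_mul_eq_iff_eq_mul₀ Char.natCard_ne_zero, mul_one,
    ← equivProd.symm.sum_comp]
  have hterm : ∀ z : (ZMod p → H) × ZMod p × ZMod p × ZMod p,
      chi χ₀ (equivProd.symm z) * conj (chi χ₀ (equivProd.symm z)) =
      if z.2.2.2 = 0 ∧ z.2.1 = 0 then (p : ℂ) ^ 2 * ∏ k, (χ₀ (z.1 k) * conj (χ₀ (z.1 k))) else 0 := by
    intro z
    rw [chi_eq (Char.irr_isClassFunction hχ₀)]
    simp only [equivProd, Equiv.coe_fn_symm_mk]
    by_cases h : z.2.2.2 = 0 ∧ z.2.1 = 0
    · simp only [h, and_self, if_true, ite_true]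
      have hn : ZMod.stdAddChar z.2.2.1 * conj (ZMod.stdAddChar z.2.2.1) = (1 : ℂ) := by
        rw [Complex.mul_conj', AddChar.norm_apply]
        simp
      simp only [map_mul, map_natCast, map_prod, Finset.prod_mul_distrib]
      linear_combination ((p : ℂ) ^ 2 * (∏ k, χ₀ (z.1 k)) * ∏ k, conj (χ₀ (z.1 k))) * hn
    · simp [h]
  rw [Finset.sum_congr rfl fun z _ => hterm z]
  simp only [Fintype.sum_prod_type, ite_and, Finset.sum_ite_eq', Finset.mem_univ, if_true,
    Finset.sum_const, Finset.card_univ, ZMod.card, nsmul_eq_mul]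
  have hcol : ∀ A : ℂ, ∑ a : ZMod p, ∑ _c : ZMod p, (if a = 0 then A else 0) = (p : ℂ) * A := by
    intro A
    rw [Finset.sum_comm]
    simp
  simp only [hcol, ← Finset.mul_sum]
  rw [← Fintype.prod_sum (fun (_ : ZMod p) (g : H) => χ₀ g * conj (χ₀ g)), Finset.prod_const, h0, Finset.card_univ, ZMod.card,
    Nat.card_congr equivProd, Nat.card_prod, Nat.card_prod, Nat.card_prod, Nat.card_fun,
    Nat.card_zmod]
  push_cast
  ring

end CfsgLib.Clifford.CentralTypeEmbed

namespace CfsgLib.Clifford.CentralTypeEmbed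

open CfsgLib
open scoped ComplexConjugate

universe u

section Central

variable {K : Type u} [Group K] [Fintype K]

theorem cast_deg {χ : K → ℂ} (hχ : Cfsg.IsIrrCharacter K χ) : (Cfsg.charDegree χ : ℂ) = χ 1 :=
  BlockB.charDegree_cast (Char.irr_isCharacter hχ)

theorem norm_of_central {χ : K → ℂ} (hχ : Cfsg.IsIrrCharacter K χ) {z : K}
    (hz : z ∈ Subgroup.center K) : ‖χ z‖ = (Cfsg.charDegree χ : ℝ) := by
  have hc := cast_deg hχ
  obtain ⟨d, σ, hσ, rfl⟩ := hχ
  rw [Representation.char_one] at hc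
  have hd : Cfsg.charDegree σ.character = Module.finrank ℂ (Fin d → ℂ) := by exact_mod_cast hc
  rw [hd]
  refine (Char.norm_char_eq_iff σ z).mpr ?_
  refine Char.exists_scalar_of_commute σ (σ z) fun g => ?_
  rw [← Module.End.mul_eq_comp, ← Module.End.mul_eq_comp, ← map_mul, ← map_mul,
    Subgroup.mem_center_iff.mp hz g]

theorem mem_center_of_norm {χ : K → ℂ} (hχ : Cfsg.IsIrrCharacter K χ)
    (hfaith : ∀ g, χ g = χ 1 → g = 1) {x : K} (hx : ‖χ x‖ = (Cfsg.charDegree χ : ℝ)) :
    x ∈ Subgroup.center K := by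
  have hc := cast_deg hχ
  obtain ⟨d, σ, hσ, rfl⟩ := hχ
  rw [Representation.char_one] at hc
  have hd : Cfsg.charDegree σ.character = Module.finrank ℂ (Fin d → ℂ) := by exact_mod_cast hc
  rw [hd] at hx
  obtain ⟨c, hc'⟩ := (Char.norm_char_eq_iff σ x).mp hx
  rw [Subgroup.mem_center_iff]
  intro y
  have hcomm : σ x * σ y = σ y * σ x := by
    rw [hc']
    ext v
    simp
  have h6 : σ (x * y * x⁻¹ * y⁻¹) = 1 := by
    rw [map_mul, map_mul, map_mul, hcomm, mul_assoc (σ y), ← map_mul, mul_inv_cancel, map_one,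
      mul_one, ← map_mul, mul_inv_cancel, map_one]
  have h7 := hfaith (x * y * x⁻¹ * y⁻¹) (by simp only [Representation.character, h6, map_one])
  rw [mul_inv_eq_one, mul_inv_eq_iff_eq_mul] at h7
  exact h7.symm

theorem eq_zero_off {χ : K → ℂ} (hχ : Cfsg.IsIrrCharacter K χ)
    (hd : Cfsg.charDegree χ ^ 2 = (Subgroup.center K).index) {x : K}
    (hx : x ∉ Subgroup.center K) : χ x = 0 := by
  classical
  have hsum : ∑ g : K, ‖χ g‖ ^ 2 = (Nat.card K : ℝ) := by
    have h := Char.irr_classInner_self hχ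
    rw [Char.classInner_self_eq_norm, Complex.ofReal_eq_one,
      inv_mul_eq_iff_eq_mul₀ (by exact_mod_cast Nat.card_pos.ne'), mul_one] at h
    exact h
  rw [← Fintype.sum_subtype_add_sum_subtype (fun g => g ∈ Subgroup.center K)] at hsum
  have h1 : ∑ g : {g // g ∈ Subgroup.center K}, ‖χ g.1‖ ^ 2 = (Nat.card K : ℝ) := by
    rw [Finset.sum_congr rfl (fun g _ => by rw [norm_of_central hχ g.2]), Finset.sum_const,
      Finset.card_univ, nsmul_eq_mul, ← Nat.card_eq_fintype_card,
      ← (Subgroup.center K).card_mul_index, ← hd]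
    push_cast
    rfl
  rw [h1, add_eq_left] at hsum
  have h2 := (Finset.sum_eq_zero_iff_of_nonneg (fun g _ => by positivity)).mp hsum ⟨x, hx⟩
    (Finset.mem_univ _)
  simpa using h2

end Central

/-- The statement to be proved. -/
def Good (G : Type u) [Group G] : Prop :=
  ∃ (K : Type u) (_ : Group K) (_ : Finite K) (χ : Cfsg.IrrCharacter K),
    (∀ h : K, (χ : K → ℂ) h = (χ : K → ℂ) 1 → h = 1) ∧
    (Cfsg.charDegree (χ : K → ℂ)) ^ 2 = (Subgroup.center K).index ∧
    (∃ f : G →* K ⧸ Subgroup.center K, Function.Injective f) ∧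
    (∀ q : ℕ, q.Prime → ((q ∣ Nat.card K ↔ q ∣ Nat.card G) ∧
      (q ∣ Nat.card (Subgroup.center K) ↔ q ∣ Nat.card G))) ∧
    Squarefree (Nat.card (Subgroup.center K))

set_option maxHeartbeats 1000000 in
theorem good_of_normal {G : Type u} [Group G] [Finite G] (N : Subgroup G) [N.Normal] {p : ℕ}
    [hp : Fact p.Prime] (hN : N.index = p) (hgood : Good N) : Good G := by
  classical
  obtain ⟨H, _, _, χ₀, hf0, hd0, ⟨f0, hf0i⟩, hpr0, hsq0⟩ := hgood
  have := Fintype.ofFinite H
  have := Fintype.ofFinite (Gam H p)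
  set d := Cfsg.charDegree (χ₀ : H → ℂ) with hd
  have hd1 : (χ₀ : H → ℂ) 1 = (d : ℂ) := (cast_deg χ₀.2).symm
  let χΓ : Cfsg.IrrCharacter (Gam H p) := ⟨chi (χ₀ : H → ℂ), isIrr_chi χ₀.2⟩
  have hχ : ∀ x, (χΓ : Gam H p → ℂ) x = if x.s = 0 ∧ x.b = 0 then
      (p : ℂ) * (∏ k, (χ₀ : H → ℂ) (x.f k)) * ZMod.stdAddChar x.c else 0 :=
    fun x => chi_eq (Char.irr_isClassFunction χ₀.2) x
  have hD : Cfsg.charDegree (χΓ : Gam H p → ℂ) = p * d ^ p := by
    have h : (Cfsg.charDegree (χΓ : Gam H p → ℂ) : ℂ) = ((p * d ^ p : ℕ) : ℂ) := by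
      rw [cast_deg χΓ.2, hχ, if_pos ⟨rfl, rfl⟩]
      simp [hd1]
    exact_mod_cast h
  obtain ⟨ψ, hval, hdeg, hψf⟩ := BlockB.exists_faithful_lift χΓ
  set K := Gam H p ⧸ BlockB.charKer χΓ
  have := Fintype.ofFinite K
  -- the centre of the quotient
  have hS : ∀ x : Gam H p, (x : K) ∈ Subgroup.center K ↔
      x.s = 0 ∧ x.b = 0 ∧ ∀ k, x.f k ∈ Subgroup.center H := by
    intro x
    constructor
    · intro hx
      have hn := norm_of_central ψ.2 hx
      rw [hval, hdeg, hD, hχ] at hn
      have hpos : (0 : ℝ) < ((p * d ^ p : ℕ) : ℝ) := by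
        have h0 : d ≠ 0 := fun h => Char.irr_apply_one_ne_zero χ₀.2 (by rw [hd1, h, Nat.cast_zero])
        have := hp.out.pos
        positivity
      split_ifs at hn with hsb
      · refine ⟨hsb.1, hsb.2, fun k => ?_⟩
        by_contra hk
        rw [Finset.prod_eq_zero (Finset.mem_univ k) (eq_zero_off χ₀.2 hd0 hk)] at hn
        simp only [mul_zero, zero_mul, norm_zero] at hn
        linarith
      · rw [norm_zero] at hn
        linarith
    · rintro ⟨hs, hb, hf⟩
      refine mem_center_of_norm ψ.2 hψf ?_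
      rw [hval, hdeg, hD, hχ, if_pos ⟨hs, hb⟩, norm_mul, norm_mul, norm_prod,
        Finset.prod_congr rfl fun k _ => norm_of_central χ₀.2 (hf k), Finset.prod_const,
        Finset.card_univ, ZMod.card, AddChar.norm_apply, Complex.norm_natCast]
      push_cast
      ring
  have hoff : ∀ y : K, y ∉ Subgroup.center K → (ψ : K → ℂ) y = 0 := by
    intro y hy
    obtain ⟨x, rfl⟩ := QuotientGroup.mk_surjective y
    rw [hval, hχ]
    split_ifs with hsb
    · rw [hS] at hy
      push Not at hy
      obtain ⟨k, hk⟩ := hy hsb.1 hsb.2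
      rw [Finset.prod_eq_zero (Finset.mem_univ k) (eq_zero_off χ₀.2 hd0 hk)]
      simp
    · rfl
  set Z := Subgroup.center K with hZ
  set D := Cfsg.charDegree (ψ : K → ℂ) with hDdef
  have hD0 : D ≠ 0 := fun h => Char.irr_apply_one_ne_zero ψ.2 (by rw [← cast_deg ψ.2, ← hDdef, h,
    Nat.cast_zero])
  have hindex : D ^ 2 = Z.index := by
    have h := Char.irr_classInner_self ψ.2
    rw [Char.classInner_self_eq_norm, Complex.ofReal_eq_one,
      inv_mul_eq_iff_eq_mul₀ (by exact_mod_cast Nat.card_pos.ne'), mul_one,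
      ← Fintype.sum_subtype_add_sum_subtype (fun g => g ∈ Z)] at h
    rw [Finset.sum_congr rfl (fun (g : {g // g ∈ Z}) _ => by rw [norm_of_central ψ.2 g.2]),
      Finset.sum_eq_zero (fun (g : {g // ¬ g ∈ Z}) _ => by rw [hoff g.1 g.2]; simp),
      add_zero, Finset.sum_const, Finset.card_univ, nsmul_eq_mul,
      ← Nat.card_eq_fintype_card (α := {g // g ∈ Z}), ← Z.card_mul_index] at h
    push_cast at h
    have h2 := mul_left_cancel₀ (Nat.cast_ne_zero.mpr (Nat.card_pos (α := Z)).ne') h
    exact_mod_cast h2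
  -- the embedding
  have hqc : Nat.card (G ⧸ N) = p := by rw [← Subgroup.index_eq_card, hN]
  have hcyc : IsCyclic (G ⧸ N) := isCyclic_of_prime_card hqc
  let e : Multiplicative (ZMod p) ≃* G ⧸ N := mulEquivOfCyclicCardEq (by simp [hqc])
  let r : ZMod p → G := fun k => (e (Multiplicative.ofAdd k)).out
  have hr : ∀ k, ((r k : G) : G ⧸ N) = e (Multiplicative.ofAdd k) := fun k => Quotient.out_eq _
  let sG : G → ZMod p := fun g => Multiplicative.toAdd (e.symm (g : G ⧸ N))
  have hsG : ∀ g g' : G, sG (g * g') = sG g + sG g' := fun g g' => by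
    simp only [sG, QuotientGroup.mk_mul, map_mul, toAdd_mul]
  have hmemN : ∀ g k, r k * g * (r (k + sG g))⁻¹ ∈ N := fun g k => by
    rw [← QuotientGroup.eq_one_iff, QuotientGroup.mk_mul, QuotientGroup.mk_mul, QuotientGroup.mk_inv,
      hr, hr, ofAdd_add, map_mul]
    simp [sG]
  let lift : N → H := fun n => (f0 n).out
  have hlift : ∀ n, ((lift n : H) : H ⧸ Subgroup.center H) = f0 n := fun n => Quotient.out_eq _
  let elt : G → Gam H p := fun g =>
    ⟨fun k => lift ⟨r k * g * (r (k + sG g))⁻¹, hmemN g k⟩, 0, 0, sG g⟩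
  have hmul : ∀ g g', ((elt (g * g') : K) : K ⧸ Z) = ((elt g : K) : K ⧸ Z) * ((elt g' : K) : K ⧸ Z) := by
    intro g g'
    rw [← QuotientGroup.mk_mul, QuotientGroup.eq, ← QuotientGroup.mk_mul, ← QuotientGroup.mk_inv,
      ← QuotientGroup.mk_mul, hS]
    refine ⟨?_, ?_, fun k => ?_⟩
    · simp [elt, hsG]
    · simp [elt]
    · rw [← QuotientGroup.eq_one_iff]
      simp only [mul_f, inv_f, mul_s, inv_s, QuotientGroup.mk_mul, QuotientGroup.mk_inv, elt, hlift]
      rw [← map_mul f0, ← map_inv f0, ← map_mul f0, ← map_one f0]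
      refine congr_arg f0 (Subtype.ext ?_)
      simp only [Subgroup.coe_mul, InvMemClass.coe_inv, OneMemClass.coe_one, hsG]
      have e1 : k + -(sG g + sG g') + sG g = k - sG g' := by ring
      have e2 : k - (sG g + sG g') + (sG g + sG g') = k := by ring
      have e3 : k - sG g' + sG g' = k := by ring
      rw [e1, e2, e3]
      rw [show k + -(sG g + sG g') = k - (sG g + sG g') by ring]
      group
  let Φ : G →* K ⧸ Z :=
    { toFun := fun g => ((elt g : K) : K ⧸ Z)
      map_one' := by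
        have h := hmul 1 1
        rw [mul_one] at h
        exact (mul_eq_left.mp h.symm)
      map_mul' := hmul }
  have hΦ : Function.Injective Φ := by
    refine (injective_iff_map_eq_one Φ).mpr fun g hg => ?_
    have h1 := (hS (elt g)).mp ((QuotientGroup.eq_one_iff _).mp hg)
    obtain ⟨hs, -, hf⟩ := h1
    have h2 := (QuotientGroup.eq_one_iff (N := Subgroup.center H) _).mpr (hf 0)
    simp only [elt, hlift] at h2
    rw [← map_one f0] at h2
    have h3 := congr_arg Subtype.val (hf0i h2)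
    simp only [OneMemClass.coe_one] at h3
    have hs' : sG g = 0 := hs
    rw [hs', add_zero, mul_inv_eq_one] at h3
    exact mul_left_cancel (h3.trans (mul_one _).symm)
  -- the order of the centre
  set L : ℕ := if p ∣ Nat.card (Subgroup.center H) then Nat.card (Subgroup.center H)
    else Nat.card (Subgroup.center H) * p with hL
  have hLZ : Nat.card (Subgroup.center H) ∣ L := by
    rw [hL]; split_ifs
    · exact dvd_rfl
    · exact dvd_mul_right _ _
  have hLp : p ∣ L := by
    rw [hL]; split_ifs with h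
    · exact h
    · exact dvd_mul_left _ _
  have hLsq : Squarefree L := by
    rw [hL]; split_ifs with h
    · exact hsq0
    · exact (Nat.squarefree_mul ((hp.out.coprime_iff_not_dvd.mpr h).symm)).mpr
        ⟨hsq0, hp.out.squarefree⟩
  have hpow : ∀ (x : Gam H p) (n : ℕ), x.s = 0 → x.b = 0 →
      (x ^ n).s = 0 ∧ (x ^ n).b = 0 ∧ (x ^ n).c = n • x.c ∧ ∀ k, (x ^ n).f k = x.f k ^ n := by
    intro x n hs hb
    induction n with
    | zero => simp
    | succ n ih =>
      obtain ⟨i1, i2, i3, i4⟩ := ih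
      rw [pow_succ]
      refine ⟨by simp [i1, hs], by simp [i2, hb], ?_, fun k => by simp [i1, i4, pow_succ]⟩
      simp [i3, hb, add_mul]
  have hexp : ∀ z : Z, z ^ L = 1 := by
    intro z
    obtain ⟨x, hx⟩ := QuotientGroup.mk_surjective (z : K)
    obtain ⟨hs, hb, hf⟩ := (hS x).mp (hx.symm ▸ z.2)
    obtain ⟨i1, i2, i3, i4⟩ := hpow x L hs hb
    refine Subtype.ext ?_
    rw [SubmonoidClass.coe_pow, ← hx, ← QuotientGroup.mk_pow]
    have hxL : x ^ L = 1 := by
      ext k
      · rw [i4 k, one_f]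
        obtain ⟨t, ht⟩ := hLZ
        rw [ht, pow_mul]
        have h2 : (⟨x.f k, hf k⟩ : Subgroup.center H) ^ Nat.card (Subgroup.center H) = 1 :=
          pow_card_eq_one'
        have h3 : x.f k ^ Nat.card (Subgroup.center H) = 1 := by
          have h4 := congr_arg Subtype.val h2
          rw [SubmonoidClass.coe_pow] at h4
          exact h4
        rw [h3, one_pow]
      · rw [i2]; rfl
      · rw [i3, one_c, nsmul_eq_mul]
        obtain ⟨t, ht⟩ := hLp
        rw [ht, Nat.cast_mul, ZMod.natCast_self]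
        simp
      · rw [i1]; rfl
    rw [hxL]
    rfl
  have hcycZ : IsCyclic Z := by
    obtain ⟨n, σ, hσ, hσe⟩ := ψ.2
    have hn : D = n := by
      have h : (D : ℂ) = (n : ℂ) := by
        rw [hDdef, cast_deg ψ.2, ← hσe, Representation.char_one, Module.finrank_fin_fun]
      exact_mod_cast h
    have hn0 : (n : ℂ) ≠ 0 := Nat.cast_ne_zero.mpr (hn ▸ hD0)
    have hsc : ∀ z : Z, σ (z : K) = (((n : ℂ)⁻¹) * (ψ : K → ℂ) z) • LinearMap.id := by
      intro z
      obtain ⟨c, hc⟩ := Char.exists_scalar_of_commute σ (σ (z : K)) fun g => by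
        rw [← Module.End.mul_eq_comp, ← Module.End.mul_eq_comp, ← map_mul, ← map_mul,
          Subgroup.mem_center_iff.mp z.2 g]
      have h : (ψ : K → ℂ) z = c * (n : ℂ) := by
        rw [← hσe]
        simp [Representation.character, hc]
      rw [h, ← mul_assoc, mul_comm (n : ℂ)⁻¹ c, mul_assoc, inv_mul_cancel₀ hn0, mul_one]
      exact hc
    let g : Z →* ℂ :=
      { toFun := fun z => (n : ℂ)⁻¹ * (ψ : K → ℂ) z
        map_one' := by
          rw [OneMemClass.coe_one, ← cast_deg ψ.2, ← hDdef, hn, inv_mul_cancel₀ hn0]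
        map_mul' := fun a b => by
          have hab := hsc (a * b)
          rw [Subgroup.coe_mul, map_mul, hsc a, hsc b] at hab
          simp only [Module.End.mul_eq_comp, LinearMap.comp_smul, LinearMap.smul_comp,
            LinearMap.comp_id, smul_smul] at hab
          have hnt : Nontrivial (Fin n → ℂ) :=
            Module.nontrivial_of_finrank_pos (R := ℂ) (by
              rw [Module.finrank_fin_fun]; exact Nat.pos_of_ne_zero (hn ▸ hD0))
          obtain ⟨v, hv⟩ := exists_ne (0 : Fin n → ℂ)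
          have h := LinearMap.congr_fun hab v
          simp only [LinearMap.smul_apply, LinearMap.id_apply] at h
          rw [Subgroup.coe_mul]
          have h5 := smul_left_injective ℂ hv h
          rw [← h5]
          ring }
    refine isCyclic_of_injective_ringHom g fun a b hab => ?_
    have h1 : g (a * b⁻¹) = 1 := by
      rw [map_mul, hab, ← map_mul, mul_inv_cancel, map_one]
    have h2 : (ψ : K → ℂ) ((a * b⁻¹ : Z) : K) = (ψ : K → ℂ) 1 := by
      have h1' : (n : ℂ)⁻¹ * (ψ : K → ℂ) ((a * b⁻¹ : Z) : K) = 1 := h1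
      rw [inv_mul_eq_iff_eq_mul₀ hn0, mul_one] at h1'
      rw [h1', ← cast_deg ψ.2, ← hDdef, hn]
    exact mul_inv_eq_one.mp (Subtype.ext (hψf _ h2))
  have hZL : Nat.card Z ∣ L := by
    rw [← hcycZ.exponent_eq_card]
    exact Monoid.exponent_dvd_of_forall_pow_eq_one hexp
  -- the primes
  have hGN : Nat.card G = p * Nat.card N := by rw [← hN, N.index_mul_card]
  have hdH : ∀ q : ℕ, q.Prime → q ∣ L → q ∣ Nat.card G := by
    intro q hq hqL
    rw [hL] at hqL
    split_ifs at hqL with h
    · rw [hGN]; exact ((hpr0 q hq).2.mp hqL).mul_left p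
    · rw [hGN]
      rcases hq.dvd_mul.mp hqL with h' | h'
      · exact ((hpr0 q hq).2.mp h').mul_left p
      · exact h'.mul_right _
  have hZq : ∀ q : ℕ, q.Prime → q ∣ Nat.card G → q ∣ Nat.card Z := by
    intro q hq hqG
    haveI := Fact.mk hq
    rw [hGN] at hqG
    -- exhibit an element of order `q`
    obtain ⟨x, hxS, hxq, hxne⟩ : ∃ x : Gam H p, (x.s = 0 ∧ x.b = 0 ∧ ∀ k, x.f k ∈ Subgroup.center H) ∧
        x ^ q = 1 ∧ (χΓ : Gam H p → ℂ) x ≠ (χΓ : Gam H p → ℂ) 1 := by
      have hχ1 : (χΓ : Gam H p → ℂ) 1 = (p : ℂ) * (d : ℂ) ^ p := by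
        rw [← cast_deg χΓ.2, hD]; push_cast; ring
      have hd0' : (d : ℂ) ≠ 0 := hd1 ▸ Char.irr_apply_one_ne_zero χ₀.2
      have hp0 : (p : ℂ) ≠ 0 := Nat.cast_ne_zero.mpr hp.out.ne_zero
      rcases hq.dvd_mul.mp hqG with h | h
      · have hqp : q = p := (Nat.prime_dvd_prime_iff_eq hq hp.out).mp h
        subst hqp
        refine ⟨⟨fun _ => 1, 0, 1, 0⟩, ⟨rfl, rfl, fun k => Subgroup.one_mem _⟩, ?_, ?_⟩
        · obtain ⟨i1, i2, i3, i4⟩ := hpow ⟨fun _ => (1 : H), 0, 1, 0⟩ q rfl rfl
          ext k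
          · rw [i4 k]; simp
          · rw [i2]; rfl
          · rw [i3]; simp
          · rw [i1]; rfl
        · rw [hχ1, hχ, if_pos ⟨rfl, rfl⟩]
          simp only [hd1, Finset.prod_const, Finset.card_univ, ZMod.card]
          intro he
          have h1 : ZMod.stdAddChar (1 : ZMod q) = (1 : ℂ) :=
            mul_left_cancel₀ (mul_ne_zero hp0 (pow_ne_zero _ hd0')) (he.trans (mul_one _).symm)
          exact one_ne_zero (ZMod.injective_stdAddChar
            (h1.trans (AddChar.map_zero_eq_one _).symm))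
      · obtain ⟨z, hz⟩ := exists_prime_orderOf_dvd_card' (G := Subgroup.center H) q ((hpr0 q hq).2.mpr h)
        refine ⟨⟨fun k => if k = 0 then (z : H) else 1, 0, 0, 0⟩, ⟨rfl, rfl, fun k => ?_⟩, ?_, ?_⟩
        · dsimp only
          split_ifs
          · exact z.2
          · exact Subgroup.one_mem _
        · obtain ⟨i1, i2, i3, i4⟩ :=
            hpow ⟨fun k => if k = 0 then (z : H) else 1, (0 : ZMod p), 0, 0⟩ q rfl rfl
          ext k
          · rw [i4 k]
            dsimp only
            split_ifs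
            · rw [← SubmonoidClass.coe_pow, ← hz, pow_orderOf_eq_one]; rfl
            · exact one_pow _
          · rw [i2]; rfl
          · rw [i3]; simp
          · rw [i1]; rfl
        · rw [hχ1, hχ, if_pos ⟨rfl, rfl⟩]
          simp only [AddChar.map_zero_eq_one, mul_one]
          rw [← Finset.mul_prod_erase _ _ (Finset.mem_univ (0 : ZMod p)),
            Finset.prod_congr rfl (fun k hk => by rw [if_neg (Finset.ne_of_mem_erase hk), hd1]),
            Finset.prod_const, Finset.card_erase_of_mem (Finset.mem_univ _), Finset.card_univ,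
            ZMod.card, if_pos rfl]
          intro he
          have hps : p = p - 1 + 1 := (Nat.sub_add_cancel hp.out.pos).symm
          rw [show (d : ℂ) ^ p = (d : ℂ) * (d : ℂ) ^ (p - 1) by
            conv_lhs => rw [hps, pow_succ']] at he
          have h1 := mul_right_cancel₀ (pow_ne_zero _ hd0') (mul_left_cancel₀ hp0 he)
          have h2 : z = 1 := Subtype.ext (hf0 _ (by rw [hd1]; exact h1))
          rw [h2, orderOf_one] at hz
          exact hq.ne_one hz.symm
    have hzq : (⟨(x : K), (hS x).mpr hxS⟩ : Z) ^ q = 1 := Subtype.ext (by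
      rw [SubmonoidClass.coe_pow]
      exact (QuotientGroup.mk_pow _ x q).symm.trans (by rw [hxq]; rfl))
    have hzne : (⟨(x : K), (hS x).mpr hxS⟩ : Z) ≠ 1 := fun he => hxne (by
      have h1 : (x : K) = 1 := congr_arg Subtype.val he
      exact BlockB.mem_charKer.mp ((QuotientGroup.eq_one_iff x).mp h1))
    rw [← orderOf_eq_prime hzq hzne]
    exact _root_.orderOf_dvd_natCard _
  refine ⟨K, inferInstance, inferInstance, ψ, hψf, hindex, ⟨Φ, hΦ⟩, fun q hq => ⟨⟨fun h => ?_, fun h => ?_⟩,
    ⟨fun h => hdH q hq (h.trans hZL), hZq q hq⟩⟩, Squarefree.squarefree_of_dvd hZL hLsq⟩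
  · rw [← Z.card_mul_index, ← hindex] at h
    rcases hq.dvd_mul.mp h with h | h
    · exact hdH q hq (h.trans hZL)
    · have h1 := hq.dvd_of_dvd_pow h
      rw [hdeg, hD] at h1
      rw [hGN]
      rcases hq.dvd_mul.mp h1 with h2 | h2
      · exact h2.mul_right _
      · refine ((hpr0 q hq).1.mp ((hq.dvd_of_dvd_pow h2).trans ?_)).mul_left p
        exact ((dvd_pow_self d two_ne_zero).trans hd0.dvd).trans (Subgroup.index_dvd_card _)
  · exact (hZq q hq h).trans Z.card_subgroup_dvd_card

/-- Every finite solvable group is good. -/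
theorem good : ∀ (n : ℕ) (G : Type u) [Group G] [Finite G], Nat.card G ≤ n → Group.IsSolvable G →
    Good G := by
  classical
  intro n
  induction n with
  | zero => intro G _ _ hle; exact absurd (Nat.le_zero.mp hle) Nat.card_pos.ne'
  | succ n ih =>
    intro G _ _ hle hs
    by_cases hG : Nat.card G = 1
    · have : Subsingleton G := (Nat.card_eq_one_iff_unique.mp hG).1
      refine ⟨G, inferInstance, inferInstance, ⟨fun _ => 1, Char.isIrrCharacter_one⟩,
        fun h _ => Subsingleton.elim h 1, ?_, ⟨QuotientGroup.mk' _, fun a b _ => Subsingleton.elim a b⟩,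
        fun q hq => ⟨Iff.rfl, ?_⟩, ?_⟩
      · have h1 : Cfsg.charDegree (fun _ : G => (1 : ℂ)) = 1 := by
          have := Fintype.ofFinite G
          have : (Cfsg.charDegree (fun _ : G => (1 : ℂ)) : ℂ) = 1 := cast_deg Char.isIrrCharacter_one
          exact_mod_cast this
        show (Cfsg.charDegree (fun _ : G => (1 : ℂ))) ^ 2 = _
        rw [h1, one_pow]
        exact (Subgroup.index_eq_one.mpr (Subsingleton.elim _ _)).symm
      · have : Nat.card (Subgroup.center G) = 1 := Nat.card_unique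
        rw [this, hG]
      · have : Nat.card (Subgroup.center G) = 1 := Nat.card_unique
        rw [this]; exact squarefree_one
    have : Nontrivial G := (Finite.one_lt_card_iff_nontrivial).mp (by
      have := Nat.card_pos (α := G); omega)
    have hne : commutator G ≠ ⊤ := (Group.IsSolvable.commutator_lt_top_of_nontrivial (G := G)).ne
    obtain ⟨M, hcom, hmax⟩ : ∃ M : Subgroup G, commutator G ≤ M ∧ IsCoatom M :=
      ((eq_top_or_exists_le_coatom (commutator G)).resolve_left hne).imp fun M h => ⟨h.2, h.1⟩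
    have hMn : M.Normal := ⟨fun x hx g => by
      have := M.mul_mem (hcom (Subgroup.commutator_mem_commutator (Subgroup.mem_top g)
        (Subgroup.mem_top x))) hx
      simpa [commutatorElement_def] using this⟩
    obtain ⟨p, hp, hpM⟩ := Nat.exists_prime_and_dvd
      (fun h => hmax.1 (Subgroup.index_eq_one.mp h) : M.index ≠ 1)
    haveI := Fact.mk hp
    have hidx : M.index = p := by
      rw [Subgroup.index_eq_card] at hpM ⊢
      obtain ⟨z, hz⟩ := exists_prime_orderOf_dvd_card' (G := G ⧸ M) p hpM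
      have hlt : M < (Subgroup.zpowers z).comap (QuotientGroup.mk' M) := by
        refine lt_of_le_of_ne (QuotientGroup.le_comap_mk' _ _) fun h => ?_
        obtain ⟨g, rfl⟩ := QuotientGroup.mk_surjective z
        have hg : g ∈ (Subgroup.zpowers (g : G ⧸ M)).comap (QuotientGroup.mk' M) :=
          Subgroup.mem_zpowers _
        rw [← h] at hg
        rw [(QuotientGroup.eq_one_iff g).mpr hg, orderOf_one] at hz
        exact hp.ne_one hz.symm
      have hzt := congr_arg (Subgroup.map (QuotientGroup.mk' M)) (hmax.2 _ hlt)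
      rw [Subgroup.map_comap_eq_self_of_surjective (QuotientGroup.mk'_surjective M),
        Subgroup.map_top_of_surjective _ (QuotientGroup.mk'_surjective M)] at hzt
      have hcard := Nat.card_zpowers z
      rw [hzt, Subgroup.card_top, hz] at hcard
      exact hcard
    refine good_of_normal M hidx (ih M ?_ inferInstance)
    have h1 := M.index_mul_card
    rw [hidx] at h1
    have := hp.two_le
    have := Nat.card_pos (α := M)
    nlinarith

end CfsgLib.Clifford.CentralTypeEmbed
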