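import Cfsg.Agent.Lib.Char.Linear
import Cfsg.Agent.Lib.Clifford.CosetAvg

/-!
# Feit–Thompson: degrees when centralizers meet at most one conjugate of an abelian subgroup
-/

namespace CfsgLib.Clifford

open Module
open scoped ComplexConjugate

variable {G : Type*} [Group G] [Fintype G]

theorem exists_unit_norm_of_central {χ : G → ℂ} (hχ : Cfsg.IsIrrCharacter G χ) {z : G}
    (hz : z ∈ Subgroup.center G) : ∃ w : ℂ, ‖w‖ = 1 ∧ ∀ x, χ (z * x) = w * χ x := by
  obtain ⟨n, ρ, hρ, rfl⟩ := hχ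
  have := Char.nontrivial_of_isIrreducible ρ
  obtain ⟨c, hc⟩ :=
    (Representation.IsIrreducible.algebraMap_intertwiningMap_bijective_of_isAlgClosed
      (ρ := ρ) (k := ℂ)).2 (⟨ρ z, fun g => by
        rw [← Module.End.mul_eq_comp, ← Module.End.mul_eq_comp, ← map_mul, ← map_mul,
          Subgroup.mem_center_iff.mp hz g]⟩ : Representation.IntertwiningMap ρ ρ)
  have hc2 : ρ z = c • (LinearMap.id : (Fin n → ℂ) →ₗ[ℂ] _) := by
    have := congr_arg Representation.IntertwiningMap.toLinearMap hc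
    simp only at this
    rw [← this]
    ext v
    simp [Algebra.algebraMap_eq_smul_one]
  have hx : ∀ x, ρ.character (z * x) = c * ρ.character x := fun x => by
    simp [Representation.character, map_mul, hc2, Module.End.mul_eq_comp, LinearMap.smul_comp]
  refine ⟨c, ?_, hx⟩
  have hn : ‖ρ.character z‖ = (finrank ℂ (Fin n → ℂ) : ℝ) := (Char.norm_char_eq_iff ρ z).mpr
    ⟨c, by rw [hc2]⟩
  rw [← mul_one z, hx, Representation.char_one, norm_mul, Complex.norm_natCast] at hn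
  exact mul_right_cancel₀ (by exact_mod_cast finrank_pos.ne' : (finrank ℂ (Fin n → ℂ) : ℝ) ≠ 0)
    (by rw [hn, one_mul])

theorem natCast_le_sumSq_of_generalized {Y : Type*} [Group Y] [Fintype Y] {R : Y → ℂ}
    (hR : Cfsg.IsGeneralizedCharacter Y R) (h : R ≠ 0) :
    (Nat.card Y : ℝ) ≤ ∑ y, ‖R y‖ ^ 2 := by
  obtain ⟨k, hk⟩ := Char.classInner_isGeneralized_int hR hR
  rw [Char.classInner_self_eq_norm, show (k : ℂ) = ((k : ℝ) : ℂ) by simp, Complex.ofReal_inj] at hk
  have h0 : (0 : ℝ) < (k : ℝ) := by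
    rw [← hk]
    refine mul_pos (inv_pos.mpr (Nat.cast_pos.mpr Nat.card_pos)) ?_
    obtain ⟨y, hy⟩ := Function.ne_iff.mp h
    exact Finset.sum_pos' (fun _ _ => sq_nonneg _)
      ⟨y, Finset.mem_univ y, pow_pos (norm_pos_iff.mpr hy) 2⟩
  have h1 : (1 : ℝ) ≤ (k : ℝ) := by exact_mod_cast (Int.cast_pos.mp h0 : 0 < k)
  rw [← hk, le_inv_mul_iff₀ (Nat.cast_pos.mpr Nat.card_pos), mul_one] at h1
  exact h1

/-- Feit–Thompson: `χ(1)^2 > |H| c^2`. -/
theorem card_mul_sq_lt_of_one_conjugate (H : Subgroup G) [Fintype H]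
    (hab : ∀ a ∈ H, ∀ b ∈ H, a * b = b * a) (hZ : H ⊓ Subgroup.center G = ⊥)
    (hone : ∀ g : G, g ∉ Subgroup.center G → ∀ a b : G,
      Subgroup.centralizer ({g} : Set G) ⊓ H.map (MulAut.conj a).toMonoidHom ≠ ⊥ →
      Subgroup.centralizer ({g} : Set G) ⊓ H.map (MulAut.conj b).toMonoidHom ≠ ⊥ →
      H.map (MulAut.conj a).toMonoidHom = H.map (MulAut.conj b).toMonoidHom)
    (χ : G → ℂ) (hχ : Cfsg.IsIrrCharacter G χ) (hker : ∃ h ∈ H, χ h ≠ χ 1) :
    (Nat.card H : ℝ) * ‖Cfsg.classInner (fun h : H => χ h) (fun _ => 1)‖ ^ 2 < ‖χ 1‖ ^ 2 := by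
  classical
  by_contra hcon
  push Not at hcon
  obtain ⟨h₁, hh₁, hne⟩ := hker
  let N := Subgroup.normalizer (H : Set G)
  have hHN : H ≤ N := Subgroup.le_normalizer
  let Hn := H.subgroupOf N
  have : Hn.Normal := Subgroup.normal_in_normalizer
  let eH := Subgroup.subgroupOfEquivOfLe hHN
  have : Fintype Hn := Fintype.ofFinite Hn
  let χN : N → ℂ := fun x => χ x
  have hχN : Cfsg.IsCharacter N χN := Char.isCharacter_restrict (Char.irr_isCharacter hχ) N
  let W := cosetAvg Hn χN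
  let R := χN - W
  have hW1 : W 1 = Cfsg.classInner (fun h : H => χ h) (fun _ => 1) := by
    rw [show W 1 = _ from cosetAvg_apply_one Hn χN, Char.classInner_def, Char.classInner_def,
      Nat.card_congr eH.toEquiv]
    congr 1
    exact Fintype.sum_equiv eH.toEquiv _ _ fun x => rfl
  -- `R` vanishes on elements centralizing nothing in `H`
  have hR0 : ∀ g : N, (∀ h ∈ H, h * (g : G) = g * h → h = 1) → R g = 0 := by
    intro g hg
    let φ : Hn → Hn := fun h => ⟨h * g * (h : N)⁻¹ * g⁻¹, by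
      rw [mul_assoc, mul_assoc]
      exact Hn.mul_mem h.2 (by
        rw [← mul_assoc]
        exact (inferInstance : Hn.Normal).conj_mem _ (Hn.inv_mem h.2) g)⟩
    have hφ : Function.Bijective φ := by
      refine Finite.injective_iff_bijective.mp fun a b hab' => ?_
      have h1 : ((a : N) : G) * g * ((a : N) : G)⁻¹ = ((b : N) : G) * g * ((b : N) : G)⁻¹ :=
        mul_right_cancel (congr_arg (fun y : Hn => ((y : N) : G)) hab')
      have h2 : ((b : N) : G)⁻¹ * (a : N) * g = g * (((b : N) : G)⁻¹ * (a : N)) := by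
        calc ((b : N) : G)⁻¹ * (a : N) * g
            = ((b : N) : G)⁻¹ * (((a : N) : G) * g * ((a : N) : G)⁻¹) * (a : N) := by group
          _ = g * (((b : N) : G)⁻¹ * (a : N)) := by rw [h1]; group
      have h3 := hg _ (H.mul_mem (H.inv_mem b.2) a.2) h2
      exact Subtype.ext (Subtype.ext (inv_mul_eq_one.mp h3).symm)
    have hval : ∀ h : Hn, χN ((φ h : N) * g) = χN g := fun h => by
      show χN (h * g * (h : N)⁻¹ * g⁻¹ * g) = χN g
      rw [inv_mul_cancel_right]
      exact Char.isCharacter_isClassFunction hχN g h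
    have : W g = χN g := by
      show (Nat.card Hn : ℂ)⁻¹ * ∑ h : Hn, χN ((h : N) * g) = χN g
      rw [← Fintype.sum_equiv (Equiv.ofBijective φ hφ) (fun h => χN ((φ h : N) * g)) _ fun h => rfl,
        Finset.sum_congr rfl fun h _ => hval h, Finset.sum_const, Finset.card_univ, nsmul_eq_mul,
        ← Nat.card_eq_fintype_card, inv_mul_cancel_left₀ (natCard_sub_ne_zero Hn)]
    simp [R, this]
  have hWi : ∀ (n : Hn) g, W ((n : N) * g) = W g := fun n g => cosetAvg_mul_left Hn _ n g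
  have hWc : Cfsg.IsCharacter N W := isCharacter_cosetAvg Hn hχN
  have hRne : R ≠ 0 := by
    intro h0
    refine hne ?_
    have h1 := sub_eq_zero.mp h0
    have h2 : χN ⟨h₁, hHN hh₁⟩ = χN 1 := by
      rw [h1]
      exact cosetAvg_mem Hn χN ⟨⟨h₁, hHN hh₁⟩, hh₁⟩
    exact h2
  have horth : ∑ g : N, R g * conj (W g) = 0 := by
    have h1 : Cfsg.classInner R W = 0 := by
      rw [Char.classInner_sub_left, classInner_cosetAvg Hn χN W hWi, sub_self]
    rw [Char.classInner_def] at h1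
    exact (mul_eq_zero.mp h1).resolve_left (inv_ne_zero (Nat.cast_ne_zero.mpr Nat.card_pos.ne'))
  let T := Finset.univ.filter fun g : N => ∃ h ∈ H, h ≠ 1 ∧ h * (g : G) = g * h
  have hoff : ∀ g : N, g ∉ T → R g = 0 := by
    intro g hg
    simp only [T, Finset.mem_filter, Finset.mem_univ, true_and] at hg
    exact hR0 g fun h hh hc => by_contra fun h1 => hg ⟨h, hh, h1, hc⟩
  have hsplit : ∀ g : N, ‖χ g‖ ^ 2 = ‖W g‖ ^ 2 + ‖R g‖ ^ 2 + 2 * (R g * conj (W g)).re := by
    intro g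
    have e : χ g = W g + R g := by simp [R, χN]
    rw [e]
    simp only [Complex.sq_norm, Complex.normSq_apply, Complex.add_re, Complex.add_im,
      Complex.mul_re, Complex.conj_re, Complex.conj_im]
    ring
  let Z := Finset.univ.filter fun g : G => g ∈ Subgroup.center G
  have hHne : H ≠ ⊥ := fun h => hne (by rw [h, Subgroup.mem_bot] at hh₁; rw [hh₁])
  have hnormal : ∀ z ∈ Subgroup.center G, z ∈ N := fun z hz => Subgroup.mem_normalizer_iff.mpr
    fun h => by rw [← Subgroup.mem_center_iff.mp hz h, mul_inv_cancel_right]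
  -- the contribution of `H Z`
  have hWT : (Nat.card H : ℝ) * Z.card * ‖W 1‖ ^ 2 ≤ ∑ g ∈ T, ‖W g‖ ^ 2 := by
    let F : H × Z → N := fun p => ⟨(p.2 : G) * (p.1 : G),
      N.mul_mem (hnormal _ (Finset.mem_filter.mp p.2.2).2) (hHN p.1.2)⟩
    have hF : Function.Injective F := by
      rintro ⟨⟨h, hh⟩, ⟨z, hz⟩⟩ ⟨⟨h', hh'⟩, ⟨z', hz'⟩⟩ e
      have e' : z * h = z' * h' := congr_arg Subtype.val e
      have hzc := (Finset.mem_filter.mp hz).2
      have hzc' := (Finset.mem_filter.mp hz').2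
      have h0 : z'⁻¹ * z = h' * h⁻¹ := by
        rw [eq_mul_inv_iff_mul_eq, mul_assoc, e', inv_mul_cancel_left]
      have h1 : z'⁻¹ * z ∈ H ⊓ Subgroup.center G :=
        ⟨h0 ▸ H.mul_mem hh' (H.inv_mem hh), Subgroup.mul_mem _ (Subgroup.inv_mem _ hzc') hzc⟩
      rw [hZ, Subgroup.mem_bot, inv_mul_eq_one] at h1
      subst h1
      have := mul_left_cancel e'
      subst this
      rfl
    have hFT : Finset.univ.image F ⊆ T := by
      intro g hg
      obtain ⟨⟨h, z⟩, -, rfl⟩ := Finset.mem_image.mp hg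
      obtain ⟨k, hk, hk1⟩ := (Subgroup.bot_or_exists_ne_one H).resolve_left hHne
      refine Finset.mem_filter.mpr ⟨Finset.mem_univ _, k, hk, hk1, ?_⟩
      show k * ((z : G) * h) = (z : G) * h * k
      rw [← mul_assoc, Subgroup.mem_center_iff.mp (Finset.mem_filter.mp z.2).2 k, mul_assoc,
        mul_assoc, hab k hk h h.2]
    have hv : ∀ p, ‖W (F p)‖ ^ 2 = ‖W 1‖ ^ 2 := by
      rintro ⟨h, z⟩
      have hzc := (Finset.mem_filter.mp z.2).2
      obtain ⟨w, hw, hwx⟩ := exists_unit_norm_of_central hχ hzc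
      have e : F (h, z) = (eH.symm h : N) * ⟨z, hnormal _ hzc⟩ :=
        Subtype.ext (Subgroup.mem_center_iff.mp hzc h).symm
      have e2 : W ⟨z, hnormal _ hzc⟩ = w * W 1 := by
        simp only [W, cosetAvg, χN]
        rw [mul_left_comm w, Finset.mul_sum _ _ w]
        congr 1
        refine Finset.sum_congr rfl fun k _ => ?_
        rw [mul_one, Subgroup.coe_mul, Subgroup.mem_center_iff.mp hzc, hwx]
      rw [e, hWi, e2, norm_mul, hw, one_mul]
    calc (Nat.card H : ℝ) * Z.card * ‖W 1‖ ^ 2 = ∑ p : H × Z, ‖W (F p)‖ ^ 2 := by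
          simp [hv, Nat.card_eq_fintype_card]
      _ = ∑ g ∈ Finset.univ.image F, ‖W g‖ ^ 2 :=
          (Finset.sum_image (f := fun g => ‖W g‖ ^ 2) fun a _ b _ h => hF h).symm
      _ ≤ _ := Finset.sum_le_sum_of_subset_of_nonneg hFT fun _ _ _ => sq_nonneg _
  have hTsum : (Nat.card H : ℝ) * Z.card * ‖W 1‖ ^ 2 + Nat.card N ≤ ∑ g ∈ T, ‖χ g‖ ^ 2 := by
    have hR2 : ∑ g ∈ T, ‖R g‖ ^ 2 = ∑ g : N, ‖R g‖ ^ 2 :=
      Finset.sum_subset (Finset.subset_univ T) fun g _ hg => by simp [hoff g hg]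
    have hc2 : ∑ g ∈ T, (R g * conj (W g)).re = 0 := by
      rw [← Complex.re_sum, Finset.sum_subset (Finset.subset_univ T) fun g _ hg => by
        simp [hoff g hg], horth, Complex.zero_re]
    have hn := natCast_le_sumSq_of_generalized (Char.isGeneralized_sub
      (Char.isGeneralized_of_isCharacter hχN) (Char.isGeneralized_of_isCharacter hWc)) hRne
    rw [Finset.sum_congr rfl fun g _ => hsplit g, Finset.sum_add_distrib, Finset.sum_add_distrib,
      ← Finset.mul_sum, hc2, hR2]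
    have : (∑ g : N, ‖R g‖ ^ 2) = ∑ g : N, ‖(χN - W) g‖ ^ 2 := rfl
    linarith
  let T' := T.filter fun g : N => (g : G) ∉ Subgroup.center G
  have hZval : ∀ z ∈ Z, ‖χ z‖ ^ 2 = ‖χ 1‖ ^ 2 := by
    intro z hz
    obtain ⟨w, hw, hwx⟩ := exists_unit_norm_of_central hχ (Finset.mem_filter.mp hz).2
    rw [← mul_one z, hwx, norm_mul, hw, one_mul]
  have hT' : ∑ g ∈ T, ‖χ g‖ ^ 2 ≤ ∑ g ∈ T', ‖χ g‖ ^ 2 + Z.card * ‖χ 1‖ ^ 2 := by
    rw [← Finset.sum_filter_add_sum_filter_not T fun g : N => (g : G) ∉ Subgroup.center G]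
    refine add_le_add le_rfl ?_
    calc ∑ g ∈ T.filter (fun g : N => ¬ (g : G) ∉ Subgroup.center G), ‖χ g‖ ^ 2
        = ∑ g ∈ (T.filter (fun g : N => ¬ (g : G) ∉ Subgroup.center G)).image Subtype.val,
            ‖χ g‖ ^ 2 := (Finset.sum_image (f := fun g => ‖χ g‖ ^ 2)
              fun a _ b _ h => Subtype.ext h).symm
      _ ≤ ∑ g ∈ Z, ‖χ g‖ ^ 2 := Finset.sum_le_sum_of_subset_of_nonneg (fun g hg => by
          obtain ⟨a, ha, rfl⟩ := Finset.mem_image.mp hg
          exact Finset.mem_filter.mpr ⟨Finset.mem_univ _, not_not.mp (Finset.mem_filter.mp ha).2⟩)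
          fun _ _ _ => sq_nonneg _
      _ = Z.card * ‖χ 1‖ ^ 2 := by
          rw [Finset.sum_congr rfl hZval, Finset.sum_const, nsmul_eq_mul]
  -- disjoint conjugates
  have : Fintype (G ⧸ N) := Fintype.ofFinite _
  let Ψ : (G ⧸ N) × N → G := fun p => p.1.out * p.2 * p.1.out⁻¹
  have hΨ : ∀ p ∈ (Finset.univ ×ˢ T'), ∀ q ∈ (Finset.univ ×ˢ T'), Ψ p = Ψ q → p = q := by
    rintro ⟨a, g⟩ hp ⟨b, g'⟩ hq e
    have e' : a.out * g * a.out⁻¹ = b.out * g' * b.out⁻¹ := e
    obtain ⟨hgT, hgc⟩ := Finset.mem_filter.mp (Finset.mem_product.mp hp).2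
    obtain ⟨hgT', hgc'⟩ := Finset.mem_filter.mp (Finset.mem_product.mp hq).2
    have hm : ∀ (x : G) (g : N), g ∈ T →
        Subgroup.centralizer ({x * (g : G) * x⁻¹} : Set G) ⊓
          H.map (MulAut.conj x).toMonoidHom ≠ ⊥ := by
      intro x g hg hbot
      obtain ⟨k, hk, hk1, hkc⟩ := (Finset.mem_filter.mp hg).2
      have : x * k * x⁻¹ ∈ Subgroup.centralizer ({x * (g : G) * x⁻¹} : Set G) ⊓
          H.map (MulAut.conj x).toMonoidHom := by
        refine ⟨Subgroup.mem_centralizer_singleton_iff.mpr ?_, k, hk, rfl⟩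
        calc x * k * x⁻¹ * (x * g * x⁻¹) = x * (k * g) * x⁻¹ := by group
          _ = x * (g : G) * x⁻¹ * (x * k * x⁻¹) := by rw [hkc]; group
      rw [hbot, Subgroup.mem_bot, mul_inv_eq_one, mul_eq_left] at this
      exact hk1 this
    have hu : a.out * (g : G) * a.out⁻¹ ∉ Subgroup.center G := fun h => hgc (by
      simpa [mul_assoc] using (inferInstance : (Subgroup.center G).Normal).conj_mem' _ h a.out)
    have heq := hone _ hu a.out b.out (hm _ g hgT) (by rw [e']; exact hm _ g' hgT')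
    have hab' : a = b := by
      rw [← QuotientGroup.out_eq' a, ← QuotientGroup.out_eq' b, QuotientGroup.eq]
      refine Subgroup.mem_normalizer_iff.mpr fun h => ?_
      have h1 : ∀ k : G, k ∈ H.map (MulAut.conj a.out).toMonoidHom ↔ a.out⁻¹ * k * a.out ∈ H := by
        intro k
        rw [Subgroup.mem_map_equiv]
        simp
      have h2 : ∀ k : G, k ∈ H.map (MulAut.conj b.out).toMonoidHom ↔ b.out⁻¹ * k * b.out ∈ H := by
        intro k
        rw [Subgroup.mem_map_equiv]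
        simp
      have h3 := (h1 (b.out * h * b.out⁻¹)).symm.trans
        ((by rw [heq]) : b.out * h * b.out⁻¹ ∈ H.map (MulAut.conj a.out).toMonoidHom ↔
          b.out * h * b.out⁻¹ ∈ H.map (MulAut.conj b.out).toMonoidHom) |>.trans (h2 _)
      simp only [mul_assoc, inv_mul_cancel_left, inv_mul_cancel, mul_one] at h3
      simpa [mul_assoc] using h3.symm
    subst hab'
    exact Prod.ext rfl (Subtype.ext (mul_left_cancel (mul_right_cancel e')))
  have hΨsum : (N.index : ℝ) * ∑ g ∈ T', ‖χ g‖ ^ 2 ≤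
      ∑ g ∈ Finset.univ.filter (fun g : G => g ∉ Subgroup.center G), ‖χ g‖ ^ 2 := by
    calc (N.index : ℝ) * ∑ g ∈ T', ‖χ g‖ ^ 2
        = ∑ p ∈ (Finset.univ : Finset (G ⧸ N)) ×ˢ T', ‖χ (Ψ p)‖ ^ 2 := by
          rw [Finset.sum_product, Subgroup.index, Nat.card_eq_fintype_card]
          simp [Ψ, Char.irr_isClassFunction hχ _ _]
      _ = ∑ g ∈ ((Finset.univ : Finset (G ⧸ N)) ×ˢ T').image Ψ, ‖χ g‖ ^ 2 :=
          (Finset.sum_image (f := fun g => ‖χ g‖ ^ 2) hΨ).symm
      _ ≤ _ := Finset.sum_le_sum_of_subset_of_nonneg (fun g hg => by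
          obtain ⟨⟨a, b⟩, hab, rfl⟩ := Finset.mem_image.mp hg
          refine Finset.mem_filter.mpr ⟨Finset.mem_univ _, fun h => ?_⟩
          exact (Finset.mem_filter.mp (Finset.mem_product.mp hab).2).2
            (by simpa [Ψ, mul_assoc] using
              (inferInstance : (Subgroup.center G).Normal).conj_mem' _ h a.out))
          fun _ _ _ => sq_nonneg _
  have hG : (Nat.card G : ℝ) = Z.card * ‖χ 1‖ ^ 2 +
      ∑ g ∈ Finset.univ.filter (fun g : G => g ∉ Subgroup.center G), ‖χ g‖ ^ 2 := by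
    have h1 : ((Nat.card G : ℝ)⁻¹ * ∑ g : G, ‖χ g‖ ^ 2 : ℝ) = 1 := by
      exact_mod_cast (Char.classInner_self_eq_norm χ).symm.trans (Char.irr_classInner_self hχ)
    rw [inv_mul_eq_iff_eq_mul₀ (Nat.cast_ne_zero.mpr Nat.card_pos.ne'), mul_one,
      ← Finset.sum_filter_add_sum_filter_not Finset.univ fun g : G => g ∈ Subgroup.center G,
      Finset.sum_congr rfl hZval, Finset.sum_const, nsmul_eq_mul] at h1
    exact h1.symm
  have hidx : (Nat.card G : ℝ) = N.index * Nat.card N := by exact_mod_cast N.index_mul_card.symm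
  have hχ1 : 0 < (Z.card : ℝ) * ‖χ 1‖ ^ 2 := mul_pos
    (Nat.cast_pos.mpr (Finset.card_pos.mpr
      ⟨1, Finset.mem_filter.mpr ⟨Finset.mem_univ _, one_mem _⟩⟩))
    (pow_pos (norm_pos_iff.mpr (Char.irr_apply_one_ne_zero hχ)) 2)
  rw [← hW1] at hcon
  have h5 : (Z.card : ℝ) * ‖χ 1‖ ^ 2 ≤ Z.card * ((Nat.card H : ℝ) * ‖W 1‖ ^ 2) :=
    mul_le_mul_of_nonneg_left hcon (Nat.cast_nonneg _)
  have h6 : (N.index : ℝ) * Nat.card N ≤ N.index * ∑ g ∈ T', ‖χ g‖ ^ 2 :=
    mul_le_mul_of_nonneg_left (by linarith) (Nat.cast_nonneg _)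
  linarith

/-- Feit–Thompson's lemma, both parts. -/
theorem sq_degree_gt_of_one_conjugate (H : Subgroup G) [Fintype H]
    (hab : ∀ a ∈ H, ∀ b ∈ H, a * b = b * a) (hZ : H ⊓ Subgroup.center G = ⊥)
    (hone : ∀ g : G, g ∉ Subgroup.center G → ∀ a b : G,
      Subgroup.centralizer ({g} : Set G) ⊓ H.map (MulAut.conj a).toMonoidHom ≠ ⊥ →
      Subgroup.centralizer ({g} : Set G) ⊓ H.map (MulAut.conj b).toMonoidHom ≠ ⊥ →
      H.map (MulAut.conj a).toMonoidHom = H.map (MulAut.conj b).toMonoidHom)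
    (χ : G → ℂ) (hχ : Cfsg.IsIrrCharacter G χ) (hker : ∃ h ∈ H, χ h ≠ χ 1) :
    (χ 1).re ^ 2 > (Nat.card H : ℝ) * (Cfsg.classInner (fun h : H => χ h) (fun _ => 1)).re ^ 2 ∧
      (χ 1 ≠ 1 → (∀ M : Subgroup G, M.Normal → H ≤ M → M = ⊤) →
        (1 + (χ 1).re) ^ 2 > (Nat.card H : ℝ)) := by
  classical
  have h1c : Cfsg.IsCharacter H (fun _ => 1) :=
    Char.irr_isCharacter Char.isIrrCharacter_one
  have key : ∀ ξ : G → ℂ, Cfsg.IsIrrCharacter G ξ → (∃ h ∈ H, ξ h ≠ ξ 1) → ∀ (d c : ℕ), ξ 1 = d →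
      Cfsg.classInner (fun h : H => ξ h) (fun _ => 1) = c → (Nat.card H : ℝ) * c ^ 2 < (d : ℝ) ^ 2 := by
    intro ξ hξ hk d c hd hc
    have := card_mul_sq_lt_of_one_conjugate H hab hZ hone ξ hξ hk
    rwa [hd, hc, Complex.norm_natCast, Complex.norm_natCast] at this
  obtain ⟨d, hd, hd1⟩ := Char.irr_apply_one_pos hχ
  obtain ⟨c, hc⟩ := Char.classInner_isCharacter_nat
    (Char.isCharacter_restrict (Char.irr_isCharacter hχ) H) h1c
  refine ⟨by rw [hd1, hc, Complex.natCast_re, Complex.natCast_re]; exact key χ hχ hker d c hd1 hc,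
    fun hne hM => ?_⟩
  let F : G → ℂ := χ * fun g => conj (χ g)
  have hF : Cfsg.IsCharacter G F :=
    Char.isCharacter_mul (Char.irr_isCharacter hχ) (Char.isCharacter_conj (Char.irr_isCharacter hχ))
  have hchoose : ∀ ξ : Cfsg.IrrCharacter G, ∃ a e k : ℕ, Cfsg.classInner F (ξ : G → ℂ) = a ∧
      (ξ : G → ℂ) 1 = e ∧ Cfsg.classInner (fun h : H => (ξ : G → ℂ) h) (fun _ => 1) = k := fun ξ => by
    obtain ⟨a, ha⟩ := Char.classInner_isCharacter_nat hF (Char.irr_isCharacter ξ.2)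
    obtain ⟨e, -, he⟩ := Char.irr_apply_one_pos ξ.2
    obtain ⟨k, hk⟩ := Char.classInner_isCharacter_nat
      (Char.isCharacter_restrict (Char.irr_isCharacter ξ.2) H) h1c
    exact ⟨a, e, k, ha, he, hk⟩
  choose a e k ha he hk using hchoose
  have : Fintype (Cfsg.IrrCharacter G) := Fintype.ofFinite _
  let one : Cfsg.IrrCharacter G := ⟨fun _ => 1, Char.isIrrCharacter_one⟩
  have hexp : ∀ g, F g = ∑ ξ : Cfsg.IrrCharacter G, (a ξ : ℂ) * (ξ : G → ℂ) g := fun g => by
    rw [Char.classFunction_apply_eq_sum (Char.isCharacter_isClassFunction hF) g]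
    exact Finset.sum_congr rfl fun ξ _ => by rw [ha]
  have hone' : a one = 1 ∧ e one = 1 ∧ k one = 1 := by
    refine ⟨?_, ?_, ?_⟩
    · have := ha one
      rw [show Cfsg.classInner F (one : G → ℂ) = Cfsg.classInner χ χ by
        simp [Char.classInner_def, F, one], Char.irr_classInner_self hχ] at this
      exact_mod_cast this.symm
    · have h : (e one : ℂ) = 1 := (he one).symm.trans rfl
      exact_mod_cast h
    · have := hk one
      rw [show Cfsg.classInner (fun h : H => (one : G → ℂ) h) (fun _ => 1) = 1 from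
        Char.irr_classInner_self Char.isIrrCharacter_one] at this
      exact_mod_cast this.symm
  obtain ⟨n, hn⟩ := Char.classInner_isCharacter_nat
    (Char.isCharacter_restrict (Char.irr_isCharacter hχ) H)
    (Char.isCharacter_restrict (Char.irr_isCharacter hχ) H)
  have hsumk : ∑ ξ : Cfsg.IrrCharacter G, a ξ * k ξ = n := by
    have h : (∑ ξ : Cfsg.IrrCharacter G, (a ξ : ℂ) * k ξ) = n := by
      rw [← hn, Char.classInner_def (fun h : H => χ h)]
      simp only [← hk, Char.classInner_def, map_one, mul_one, Finset.mul_sum]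
      rw [Finset.sum_comm]
      refine Finset.sum_congr rfl fun h _ => ?_
      rw [show χ h * conj (χ h) = F h from rfl, hexp, Finset.mul_sum]
      exact Finset.sum_congr rfl fun ξ _ => by ring
    exact_mod_cast h
  have hsume : ∑ ξ : Cfsg.IrrCharacter G, a ξ * e ξ = d * d := by
    have h := hexp 1
    rw [show F 1 = (d : ℂ) * d by simp [F, hd1]] at h
    simp only [he] at h
    exact_mod_cast h.symm
  have hdn : d ≤ n := by
    have : Fintype (Cfsg.IrrCharacter H) := Fintype.ofFinite _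
    have hres := Char.isCharacter_restrict (Char.irr_isCharacter hχ) H
    choose m hm using fun l : Cfsg.IrrCharacter H =>
      Char.classInner_isCharacter_nat hres (Char.irr_isCharacter l.2)
    have h1 : (d : ℂ) = ∑ l : Cfsg.IrrCharacter H, (m l : ℂ) := by
      have := Char.classFunction_apply_eq_sum (Char.isCharacter_isClassFunction hres) 1
      simp only [OneMemClass.coe_one, hd1] at this
      rw [this]
      refine Finset.sum_congr rfl fun l _ => ?_
      rw [hm, Char.irr_degree_one_of_comm (fun x y => Subtype.ext (hab x x.2 y y.2)) l.2, mul_one]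
    have h2 : (n : ℂ) = ∑ l : Cfsg.IrrCharacter H, (m l : ℂ) * m l := by
      rw [← hn, Char.classInner_eq_sum_mul (Char.isCharacter_isClassFunction hres)]
      exact Finset.sum_congr rfl fun l _ => by rw [hm, map_natCast]
    have h1' : d = ∑ l : Cfsg.IrrCharacter H, m l := by exact_mod_cast h1
    have h2' : n = ∑ l : Cfsg.IrrCharacter H, m l * m l := by exact_mod_cast h2
    rw [h1', h2']
    exact Finset.sum_le_sum fun l _ => Nat.le_mul_self _
  have hd2 : 2 ≤ d := by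
    rcases Nat.lt_or_ge d 2 with h | h
    · exact absurd (by rw [hd1, show d = 1 by omega, Nat.cast_one]) hne
    · exact h
  have hnk : ∀ ξ : Cfsg.IrrCharacter G, ξ ≠ one → ∃ h ∈ H, (ξ : G → ℂ) h ≠ (ξ : G → ℂ) 1 := by
    intro ξ hξ
    by_contra hcon
    push Not at hcon
    apply hξ
    obtain ⟨m, ρ, hρ, hρc⟩ := ξ.2
    have htop := hM (MonoidHom.ker ρ) inferInstance fun h hh => by
      rw [Char.mem_ker_iff_char, hρc]; exact hcon h hh
    have hall : ∀ g, (ξ : G → ℂ) g = (ξ : G → ℂ) 1 := fun g => by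
      rw [← hρc]; exact (Char.mem_ker_iff_char ρ g).mp (htop ▸ Subgroup.mem_top g)
    have h1 := Char.irr_classInner_self ξ.2
    rw [Char.classInner_def, Finset.sum_congr rfl (fun g _ => by rw [hall g]), Finset.sum_const,
      Finset.card_univ, nsmul_eq_mul, ← Nat.card_eq_fintype_card, ← mul_assoc,
      inv_mul_cancel₀ (Nat.cast_ne_zero.mpr Nat.card_pos.ne'), one_mul, he, map_natCast] at h1
    have : e ξ = 1 := Nat.eq_one_of_mul_eq_one_left (by exact_mod_cast h1)
    refine Subtype.ext (funext fun g => ?_)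
    rw [hall g, he, this, Nat.cast_one]
  let s := Real.sqrt (Nat.card H)
  have hs0 : 0 ≤ s := Real.sqrt_nonneg _
  have hs2 : s ^ 2 = Nat.card H := Real.sq_sqrt (Nat.cast_nonneg _)
  have hke : ∀ ξ : Cfsg.IrrCharacter G, ξ ≠ one → s * k ξ < e ξ := fun ξ hξ => by
    have h := key ξ ξ.2 (hnk ξ hξ) (e ξ) (k ξ) (he ξ) (hk ξ)
    rw [← hs2, ← mul_pow] at h
    exact lt_of_pow_lt_pow_left₀ 2 (Nat.cast_nonneg _) h
  have hk' : ∑ ξ ∈ Finset.univ.erase one, a ξ * k ξ + 1 = n := by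
    rw [← hsumk, ← Finset.sum_erase_add _ _ (Finset.mem_univ one), hone'.1, hone'.2.2]
  have he' : ∑ ξ ∈ Finset.univ.erase one, a ξ * e ξ + 1 = d * d := by
    rw [← hsume, ← Finset.sum_erase_add _ _ (Finset.mem_univ one), hone'.1, hone'.2.1]
  obtain ⟨ξ₀, hξ₀, hne0⟩ := Finset.exists_ne_zero_of_sum_ne_zero
    (show ∑ ξ ∈ Finset.univ.erase one, a ξ * k ξ ≠ 0 by omega)
  have hlt : s * ((n : ℝ) - 1) < (d : ℝ) * d - 1 := by
    have e1 : (n : ℝ) - 1 = ∑ ξ ∈ Finset.univ.erase one, (a ξ : ℝ) * k ξ := by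
      rw [← hk']; push_cast; ring
    have e2 : (d : ℝ) * d - 1 = ∑ ξ ∈ Finset.univ.erase one, (a ξ : ℝ) * e ξ := by
      rw [← Nat.cast_mul, ← he']; push_cast; ring
    rw [e1, e2, Finset.mul_sum]
    refine Finset.sum_lt_sum (fun ξ hξ => ?_) ⟨ξ₀, hξ₀, ?_⟩
    · rw [mul_left_comm]
      exact mul_le_mul_of_nonneg_left (hke ξ (Finset.ne_of_mem_erase hξ)).le (Nat.cast_nonneg _)
    · rw [mul_left_comm]
      exact mul_lt_mul_of_pos_left (hke ξ₀ (Finset.ne_of_mem_erase hξ₀))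
        (Nat.cast_pos.mpr (Nat.pos_of_ne_zero fun h => hne0 (by rw [h, zero_mul])))
  have hd2' : (2 : ℝ) ≤ d := by exact_mod_cast hd2
  have hdn' : (d : ℝ) ≤ n := by exact_mod_cast hdn
  rw [hd1, Complex.natCast_re]
  nlinarith [mul_le_mul_of_nonneg_left hdn' hs0]

end CfsgLib.Clifford
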