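import Cfsg.Agent.Lib.Char.Integral
import Cfsg.Agent.Lib.Char.Linear
import Cfsg.Agent.Lib.Clifford.CosetAvg
import Cfsg.Agent.Lib.Clifford.Correspondence

/-!
# The ratio `χ(1)/θ(1)` divides `[G : N]`
-/

namespace CfsgLib.Clifford

open Module
open scoped ComplexConjugate

universe u

variable {G : Type u} [Group G]

/-- Schur: a subgroup of the centre on which an irreducible representation is faithful bounds
the degree. -/
theorem finrank_dvd_index_of_central [Finite G] {V : Type*} [AddCommGroup V] [Module ℂ V]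
    [FiniteDimensional ℂ V] (ρ : Representation ℂ G V) [ρ.IsIrreducible] (Z : Subgroup G)
    (hZ : Z ≤ Subgroup.center G) (hfaith : ∀ z ∈ Z, ρ.character z = ρ.character 1 → z = 1) :
    finrank ℂ V ∣ Z.index := by
  classical
  have := Fintype.ofFinite G
  have := Char.nontrivial_of_isIrreducible ρ
  have hd : (finrank ℂ V : ℂ) ≠ 0 := by exact_mod_cast finrank_pos.ne'
  have hscal : ∀ z ∈ Z, ∃ c : ℂ, (∀ x, ρ.character (z * x) = c * ρ.character x) := by
    intro z hz
    let T : Representation.IntertwiningMap ρ ρ := ⟨ρ z, fun g => by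
      rw [← Module.End.mul_eq_comp, ← Module.End.mul_eq_comp, ← map_mul, ← map_mul,
        Subgroup.mem_center_iff.mp (hZ hz) g]⟩
    obtain ⟨c, hc⟩ :=
      (Representation.IsIrreducible.algebraMap_intertwiningMap_bijective_of_isAlgClosed
        (ρ := ρ) (k := ℂ)).2 T
    refine ⟨c, fun x => ?_⟩
    have hc2 : ρ z = c • (LinearMap.id : V →ₗ[ℂ] V) := by
      have := congr_arg Representation.IntertwiningMap.toLinearMap hc
      simp only [T] at this
      rw [← this]
      ext v
      simp [Algebra.algebraMap_eq_smul_one]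
    simp [Representation.character, map_mul, hc2, Module.End.mul_eq_comp, LinearMap.smul_comp]
  have : Z.Normal := ⟨fun z hz g => by
    rw [Subgroup.mem_center_iff.mp (hZ hz) g, mul_inv_cancel_right]; exact hz⟩
  have : Finite (ConjClasses (G ⧸ Z)) := Finite.of_surjective _ ConjClasses.mk_surjective
  have := Fintype.ofFinite (ConjClasses (G ⧸ Z))
  let f : G → ConjClasses (G ⧸ Z) := fun x => ConjClasses.mk (QuotientGroup.mk' Z x)
  have hf : ∀ x y, f y = f x ↔ ∃ z ∈ Z, ∃ k, y = z * (k * x * k⁻¹) := by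
    intro x y
    constructor
    · intro h
      obtain ⟨c, hc⟩ := isConj_iff.mp (ConjClasses.mk_eq_mk_iff_isConj.mp h).symm
      obtain ⟨k, rfl⟩ := QuotientGroup.mk'_surjective Z c
      rw [← map_inv, ← map_mul, ← map_mul] at hc
      refine ⟨y * (k * x * k⁻¹)⁻¹, ?_, k, by rw [inv_mul_cancel_right]⟩
      rw [← QuotientGroup.eq_one_iff (N := Z)]
      change QuotientGroup.mk' Z _ = 1
      rw [map_mul, map_inv, hc, mul_inv_cancel]
    · rintro ⟨z, hz, k, rfl⟩
      refine (ConjClasses.mk_eq_mk_iff_isConj.mpr (isConj_iff.mpr ⟨QuotientGroup.mk' Z k, ?_⟩)).symm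
      have hz1 : QuotientGroup.mk' Z z = 1 := (QuotientGroup.eq_one_iff z).mpr hz
      simp [map_mul, hz1]
  -- the summand attached to an element of a fibre
  set χ := ρ.character with hχ
  have hfib : ∀ x, ∀ y, f y = f x → χ y * conj (χ y) = χ x * conj (χ x) := by
    intro x y hy
    obtain ⟨z, hz, k, rfl⟩ := (hf x y).mp hy
    obtain ⟨c, hc⟩ := hscal z hz
    have hn : ‖c‖ = 1 := by
      have hnorm : ‖χ z‖ = (finrank ℂ V : ℝ) := (Char.norm_char_eq_iff ρ z).mpr (by
        obtain ⟨c', hc'⟩ := (Representation.IsIrreducible.algebraMap_intertwiningMap_bijective_of_isAlgClosed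
          (ρ := ρ) (k := ℂ)).2 (⟨ρ z, fun g => by
            rw [← Module.End.mul_eq_comp, ← Module.End.mul_eq_comp, ← map_mul, ← map_mul,
              Subgroup.mem_center_iff.mp (hZ hz) g]⟩ : Representation.IntertwiningMap ρ ρ)
        refine ⟨c', ?_⟩
        have := congr_arg Representation.IntertwiningMap.toLinearMap hc'
        simp only at this
        rw [← this]
        ext v
        simp [Algebra.algebraMap_eq_smul_one])
      have h1 := hc 1
      rw [mul_one, hχ, Representation.char_one] at h1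
      rw [hχ, h1, norm_mul, Complex.norm_natCast] at hnorm
      exact mul_right_cancel₀ (by exact_mod_cast finrank_pos.ne' : (finrank ℂ V : ℝ) ≠ 0)
        (by rw [hnorm, one_mul])
    rw [hc, hχ, Representation.char_conj, map_mul, mul_mul_mul_comm, Complex.mul_conj' c, hn]
    simp
  let u : G → ℂ := fun x =>
    ((Subgroup.centralizer ({x} : Set G)).index : ℂ) * χ x / (finrank ℂ V : ℂ) * conj (χ x)
  have hu : ∀ x, IsIntegral ℤ (u x) := fun x =>
    (Char.centralChar_isIntegral ρ x).mul (by
      rw [hχ, ← Char.char_inv_eq_conj]; exact Char.char_isIntegral ρ x⁻¹)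
  have hsum : ∀ C : ConjClasses (G ⧸ Z), ∃ w : ℂ, IsIntegral ℤ w ∧
      ∑ y ∈ (Finset.univ : Finset G).filter (fun y => f y = C), χ y * conj (χ y) =
        (Nat.card Z : ℂ) * (finrank ℂ V : ℂ) * w := by
    intro C
    obtain ⟨x, rfl⟩ : ∃ x, f x = C := by
      obtain ⟨c, rfl⟩ := ConjClasses.mk_surjective C
      obtain ⟨x, rfl⟩ := QuotientGroup.mk'_surjective Z c
      exact ⟨x, rfl⟩
    refine ⟨u x, hu x, ?_⟩
    rw [Finset.sum_congr rfl fun y hy => hfib x y (Finset.mem_filter.mp hy).2, Finset.sum_const,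
      nsmul_eq_mul]
    rcases eq_or_ne (χ x) 0 with h0 | h0
    · simp [u, h0]
    have hcard : ((Finset.univ : Finset G).filter (fun y => f y = f x)).card =
        Nat.card Z * (Subgroup.centralizer ({x} : Set G)).index := by
      rw [← Char.natCard_carrier_eq_index, ← Fintype.card_subtype, ← Nat.card_eq_fintype_card,
        ← Nat.card_prod]
      symm
      refine Nat.card_eq_of_bijective
        (fun p : Z × (ConjClasses.mk x).carrier => (⟨(p.1 : G) * p.2, ?_⟩ : {y // f y = f x}))
        ⟨?_, ?_⟩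
      · obtain ⟨k, hk⟩ := isConj_iff.mp
          (ConjClasses.mk_eq_mk_iff_isConj.mp (ConjClasses.mem_carrier_iff_mk_eq.mp p.2.2)).symm
        exact (hf x _).mpr ⟨p.1, p.1.2, k, by rw [hk]⟩
      · rintro ⟨⟨z, hz⟩, ⟨a, ha⟩⟩ ⟨⟨z', hz'⟩, ⟨a', ha'⟩⟩ h
        have h' : z * a = z' * a' := congr_arg Subtype.val h
        have hval : ∀ b ∈ (ConjClasses.mk x).carrier, χ b = χ x := fun b hb =>
          Char.isClassFunction_isConj (Char.irr_isClassFunction (Char.isIrrCharacter_of_rep ρ))
            (ConjClasses.mk_eq_mk_iff_isConj.mp (ConjClasses.mem_carrier_iff_mk_eq.mp hb))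
        obtain ⟨c, hc⟩ := hscal _ (Z.mul_mem (Z.inv_mem hz') hz)
        have e : z'⁻¹ * z * a = a' := by rw [mul_assoc, h', inv_mul_cancel_left]
        have h2 := hc a
        rw [e, hval a' ha', hval a ha] at h2
        have hc1 : c = 1 := mul_right_cancel₀ h0 (by rw [one_mul]; exact h2.symm)
        have hzz : z'⁻¹ * z = 1 := hfaith _ (Z.mul_mem (Z.inv_mem hz') hz)
          (by simpa [hc1] using hc 1)
        have : z = z' := by rw [inv_mul_eq_one] at hzz; exact hzz.symm
        subst this
        have : a = a' := mul_left_cancel h'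
        subst this
        rfl
      · rintro ⟨y, hy⟩
        obtain ⟨z, hz, k, rfl⟩ := (hf x y).mp hy
        exact ⟨(⟨z, hz⟩, ⟨k * x * k⁻¹, ConjClasses.mem_carrier_iff_mk_eq.mpr
          (ConjClasses.mk_eq_mk_iff_isConj.mpr (isConj_iff.mpr ⟨k, rfl⟩).symm)⟩), rfl⟩
    rw [hcard]
    simp only [u]
    push_cast
    field_simp
  choose w hw hwe using hsum
  have htot : (Nat.card G : ℂ) = (Nat.card Z : ℂ) * (finrank ℂ V : ℂ) * ∑ C, w C := by
    have h1 := Char.irr_classInner_self (Char.isIrrCharacter_of_rep ρ)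
    rw [Char.classInner_def, inv_mul_eq_iff_eq_mul₀ Char.natCard_ne_zero, mul_one] at h1
    rw [← h1, ← Finset.sum_fiberwise Finset.univ f, Finset.mul_sum]
    exact Finset.sum_congr rfl fun C _ => hwe C
  refine Char.dvd_of_isIntegral_div finrank_pos ?_
  have e : ((Z.index : ℕ) : ℂ) / (finrank ℂ V : ℂ) = ∑ C, w C := by
    rw [← Z.index_mul_card, Nat.cast_mul] at htot
    have hz : (Nat.card Z : ℂ) ≠ 0 := by exact_mod_cast Nat.card_pos.ne'
    field_simp
    apply mul_left_cancel₀ hz
    linear_combination htot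
  rw [e]
  exact IsIntegral.sum _ fun C _ => hw C

variable {N : Subgroup G} [hN : N.Normal]

/-- Over an invariant irreducible character the degree ratio divides the index. -/
theorem degree_quot_dvd_index_invariant [Fintype G] [Fintype N] {n : ℕ}
    (ρ : Representation ℂ N (Fin n → ℂ)) [ρ.IsIrreducible]
    (hinv : ∀ (g : G) (m : N), ρ.character (conjN g m) = ρ.character m) {χ : G → ℂ}
    (hχ : Cfsg.IsIrrCharacter G χ)
    (hne : Cfsg.classInner (fun m : N => χ m) ρ.character ≠ 0) :
    ∃ e : ℕ, χ 1 = (e : ℂ) * n ∧ e ∣ N.index := by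
  classical
  have hsurj := proj_surjective ρ hinv
  have := Char.nontrivial_of_isIrreducible ρ
  have hn : 0 < n := by
    have := finrank_pos (R := ℂ) (M := Fin n → ℂ)
    rwa [finrank_fin_fun] at this
  -- intertwiners whose determinant is a `|N|`-th root of unity
  let D : intertwiners ρ →* ℂˣ := (powMonoidHom (Nat.card N)).comp
    ((Units.map LinearMap.det).comp (opUnits ρ))
  let E := D.ker
  let π : E →* G := (proj ρ).comp E.subtype
  have hπ : Function.Surjective π := by
    intro g
    obtain ⟨e, rfl⟩ := hsurj g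
    obtain ⟨z, hz⟩ := IsAlgClosed.exists_pow_nat_eq
      ((((Units.map LinearMap.det (opUnits ρ e))⁻¹ : ℂˣ)) : ℂ) hn
    have hz0 : z ≠ 0 := fun h => Units.ne_zero _ (by rw [← hz, h, zero_pow hn.ne'])
    have hs : Units.map LinearMap.det (scalarUnits (V := Fin n → ℂ) (Units.mk0 z hz0)) =
        (Units.map LinearMap.det (opUnits ρ e))⁻¹ := Units.ext (by
      simp [Algebra.algebraMap_eq_smul_one, Module.End.one_eq_id, ← hz])
    refine ⟨⟨scalarEmb ρ (Units.mk0 z hz0) * e, ?_⟩, by simp [π]⟩
    simp only [E, D, MonoidHom.mem_ker, MonoidHom.comp_apply, map_mul, opUnits_scalarEmb, hs,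
      ← mul_pow, powMonoidHom_apply]
    rw [inv_mul_cancel, one_pow]
  let emb : N →* E := (normalEmb ρ).codRestrict E fun m => by
    simp only [E, D, MonoidHom.mem_ker, MonoidHom.comp_apply, opUnits_normalEmb, powMonoidHom_apply,
      ← map_pow, pow_card_eq_one', map_one]
  have hπemb : ∀ m, π (emb m) = (m : G) := fun m => rfl
  let K : Subgroup E := π.ker
  have hKscal : ∀ k ∈ K, ∃ z : ℂˣ, (k : intertwiners ρ) = scalarEmb ρ z :=
    fun k hk => (proj_eq_one_iff ρ _).mp hk
  choose zof hzof using hKscal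
  have hKfin : Finite K := by
    have hne : NeZero (n * Nat.card N) := ⟨mul_ne_zero hn.ne' Nat.card_pos.ne'⟩
    refine Finite.of_injective (fun k : K =>
      (⟨zof k.1 k.2, ?_⟩ : rootsOfUnity (n * Nat.card N) ℂ)) fun a b h => ?_
    · rw [mem_rootsOfUnity]
      have h1 : D (k.1 : intertwiners ρ) = 1 := k.1.2
      simp only [D, hzof k.1 k.2, MonoidHom.comp_apply, opUnits_scalarEmb, powMonoidHom_apply] at h1
      rw [pow_mul, ← h1]
      congr 1
      exact Units.ext (by simp [Algebra.algebraMap_eq_smul_one, Module.End.one_eq_id])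
    · refine Subtype.ext (Subtype.ext ?_)
      rw [hzof a.1 a.2, hzof b.1 b.2]
      exact congr_arg (scalarEmb ρ) (congr_arg Subtype.val h)
  have hfin : Finite E := by
    have : Finite (E ⧸ K) := Finite.of_injective _ (QuotientGroup.kerLift_injective π)
    exact Finite.of_equiv _ (Subgroup.groupEquivQuotientProdSubgroup (s := K)).symm
  have : Fintype E := Fintype.ofFinite E
  -- the copy of `N`
  let Nf : Subgroup E := emb.range
  have hNf : Nf.Normal := ⟨by
    rintro _ ⟨m, rfl⟩ e
    exact ⟨conjN (proj ρ e) m, Subtype.ext (conj_normalEmb ρ e m).symm⟩⟩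
  have := Fintype.ofFinite Nf
  let eN : N ≃* Nf := MonoidHom.ofInjective (f := emb) fun a b h =>
    Subtype.ext (by simpa [hπemb] using congr_arg π h)
  have hsumN : ∀ a b : E → ℂ, Cfsg.classInner (fun m : Nf => a m) (fun m : Nf => b m) =
      Cfsg.classInner (fun m : N => a (emb m)) (fun m : N => b (emb m)) := fun a b => by
    rw [Char.classInner_def, Char.classInner_def, ← Nat.card_congr eN.toEquiv]
    congr 1
    exact (Fintype.sum_equiv eN.toEquiv _ _ fun m => rfl).symm
  let σ : Representation ℂ E (Fin n → ℂ) :=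
    (Units.coeHom _).comp ((opUnits ρ).comp E.subtype)
  have hσN : ∀ m : N, σ.character (emb m) = ρ.character m := fun m => rfl
  have hres : Cfsg.IsIrrCharacter Nf (fun m : Nf => σ.character m) := by
    have h1 := Char.isIrrCharacter_comp_surjective (Char.isIrrCharacter_of_rep ρ)
      eN.symm.toMonoidHom eN.symm.surjective
    convert h1 using 1
    funext m
    obtain ⟨m, rfl⟩ := eN.surjective m
    simp only [Function.comp_apply, MulEquiv.toMonoidHom_eq_coe, MonoidHom.coe_coe,
      MulEquiv.symm_apply_apply]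
    exact hσN m
  have hψ : Cfsg.IsIrrCharacter E (χ ∘ π) := Char.isIrrCharacter_comp_surjective hχ π hπ
  have hne' : Cfsg.classInner (fun m : Nf => (χ ∘ π) m) (fun m : Nf => σ.character m) ≠ 0 := by
    rw [hsumN (χ ∘ π) σ.character]
    exact hne
  obtain ⟨hβ, hfac⟩ := gallagher_factor Nf hψ (Char.isCharacter_of_rep σ) hres hne'
  set β := gallagherQuot Nf (χ ∘ π) σ.character with hβdef
  have hβN : ∀ m ∈ Nf, β m = β 1 := fun m hm => cosetAvg_mem Nf _ ⟨m, hm⟩
  obtain ⟨β', hβ', hβeq⟩ := Char.isIrr_quotient_lift Nf hβ hβN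
  obtain ⟨e, τ, hτ, hτc⟩ := hβ'
  have hβ1 : β 1 = (e : ℂ) := by
    rw [hβeq, Function.comp_apply, map_one, ← hτc, Representation.char_one, finrank_fin_fun]
  refine ⟨e, ?_, ?_⟩
  · have h1 := congr_fun hfac 1
    simp only [Function.comp_apply, map_one, Pi.mul_apply, hβ1, Representation.char_one,
      finrank_fin_fun] at h1
    rw [h1, mul_comm]
  -- the image of the scalars in the quotient
  let q := QuotientGroup.mk' Nf
  have hcomap : N.comap π = Nf ⊔ K := by
    have : Nf.map π = N := by
      ext g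
      constructor
      · rintro ⟨_, ⟨m, rfl⟩, rfl⟩; exact m.2
      · intro hg; exact ⟨emb ⟨g, hg⟩, ⟨_, rfl⟩, rfl⟩
    exact (congr_arg (Subgroup.comap π) this.symm).trans (Subgroup.comap_map_eq _ _)
  have hidx : (K.map q).index = N.index := by
    rw [Subgroup.index_map, MonoidHom.range_eq_top.mpr (QuotientGroup.mk'_surjective Nf),
      Subgroup.index_top, mul_one, QuotientGroup.ker_mk', sup_comm, ← hcomap,
      N.index_comap_of_surjective hπ]
  rw [← hidx, show e = finrank ℂ (Fin e → ℂ) from (finrank_fin_fun ℂ).symm]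
  refine finrank_dvd_index_of_central τ (K.map q) ?_ ?_
  · rintro _ ⟨k, hk, rfl⟩
    refine Subgroup.mem_center_iff.mpr fun x => ?_
    obtain ⟨x, rfl⟩ := QuotientGroup.mk'_surjective Nf x
    rw [← map_mul, ← map_mul]
    congr 1
    exact Subtype.ext (by
      rw [Subgroup.coe_mul, Subgroup.coe_mul, hzof k hk]
      exact (scalarEmb_comm ρ _ _).symm)
  · rintro _ ⟨k, hk, rfl⟩ h
    rw [← map_one q] at h
    rw [show τ.character (q k) = β k from by rw [hβeq, hτc]; rfl,
      show τ.character (q 1) = β 1 from by rw [hβeq, hτc]; rfl] at h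
    set z := zof k hk with hz
    have hval : ∀ m : Nf, σ.character ((m : E) * k) = (z : ℂ) * σ.character m := fun m => by
      have hk' : σ k = (z : ℂ) • (1 : Module.End ℂ (Fin n → ℂ)) := by
        change ((opUnits ρ (k : intertwiners ρ) : (Module.End ℂ (Fin n → ℂ))ˣ) :
          Module.End ℂ (Fin n → ℂ)) = _
        rw [hzof k hk, opUnits_scalarEmb, coe_scalarUnits, Algebra.algebraMap_eq_smul_one]
      rw [Representation.character, Representation.character, map_mul, hk', mul_smul_comm,
        mul_one, map_smul, smul_eq_mul]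
    have hβk : β k = conj (z : ℂ) * β 1 := by
      simp only [hβdef, gallagherQuot, cosetAvg, mul_one, Function.comp_apply, map_mul, hval,
        show π k = 1 from hk, Finset.mul_sum]
      exact Finset.sum_congr rfl fun m _ => by ring
    rw [hβk, hβ1] at h
    have he0 : (e : ℂ) ≠ 0 := hβ1 ▸ Char.irr_apply_one_ne_zero hβ
    have hz1 : (z : ℂ) = 1 := by
      have := mul_right_cancel₀ he0 (h.trans (one_mul _).symm)
      rw [← Complex.conj_conj (z : ℂ), this, map_one]
    have : k = 1 := Subtype.ext (by rw [hzof k hk, ← hz, show z = 1 from Units.ext hz1, map_one]; rfl)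
    rw [this, map_one]

/-- The degree of a constituent divides, and the ratio divides the index. -/
theorem degree_quot_dvd_index [Fintype G] [Fintype N] {χ : G → ℂ}
    (hχ : Cfsg.IsIrrCharacter G χ) {θ : N → ℂ} (hθ : Cfsg.IsIrrCharacter N θ)
    (hne : Cfsg.classInner (fun m : N => χ m) θ ≠ 0) :
    ∃ e : ℕ, χ 1 = (e : ℂ) * θ 1 ∧ e ∣ N.index := by
  classical
  let T := inertia θ
  have hNT : N ≤ T := le_inertia (Char.irr_isClassFunction hθ)
  obtain ⟨ψ, hψ, hind, hmult⟩ := exists_indFun_inertia T hNT hθ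
    (fun g => mem_inertia_iff_conjFn) hχ hne
  let θ' : N.subgroupOf T → ℂ := θ ∘ Subgroup.subgroupOfEquivOfLe hNT
  have hθ' : Cfsg.IsIrrCharacter (N.subgroupOf T) θ' :=
    Char.isIrrCharacter_comp_surjective hθ (Subgroup.subgroupOfEquivOfLe hNT).toMonoidHom
      (Subgroup.subgroupOfEquivOfLe hNT).surjective
  have := Fintype.ofFinite (N.subgroupOf T)
  have hin : Cfsg.classInner (fun m : N.subgroupOf T => ψ m) θ' =
      Cfsg.classInner (fun n : N => ψ ⟨(n : G), hNT n.2⟩) θ := by
    rw [Char.classInner_def, Char.classInner_def,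
      Nat.card_congr (Subgroup.subgroupOfEquivOfLe hNT).toEquiv]
    congr 1
    exact Fintype.sum_equiv (Subgroup.subgroupOfEquivOfLe hNT).toEquiv _ _ fun m => rfl
  obtain ⟨k, ρ, hρ, hρc⟩ := hθ'
  obtain ⟨e, he, hdvd⟩ := degree_quot_dvd_index_invariant (N := N.subgroupOf T) ρ
    (fun t m => by rw [hρc]; exact subgroupOf_conjFn_eq T (fun g => mem_inertia_iff_conjFn) t m)
    hψ (by rw [hρc, hin, hmult]; exact hne)
  refine ⟨T.index * e, ?_, ?_⟩
  · have hk : θ 1 = k := by
      have := congr_fun hρc 1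
      rw [Representation.char_one, finrank_fin_fun] at this
      rw [this]
      simp [θ']
    rw [← hind, Char.indFun_apply_one, he, hk]
    push_cast
    ring
  · refine (Nat.mul_dvd_mul_left T.index hdvd).trans ?_
    rw [← Subgroup.relIndex_mul_index hNT, Nat.mul_comm T.index]
    exact dvd_rfl

end CfsgLib.Clifford
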