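import Cfsg.Agent.Lib.Clifford.BlichfeldtHall
import Cfsg.Agent.Lib.BlockA.SmallArcIndex
import Cfsg.Agent.Lib.Char.Monomial
import Mathlib

/-!
# Jordan's theorem with the bound of Blichfeldt
-/

set_option autoImplicit false

namespace CfsgLib.Clifford.JordanBound

open scoped commutatorElement

universe u

theorem relIndex_ne_zero {G : Type u} [Group G] [Finite G] (A B : Subgroup G) :
    A.relIndex B ≠ 0 :=
  Subgroup.index_ne_zero_of_finite

/-- A monomial faithful character gives an abelian normal subgroup of index dividing `n!`. -/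
theorem exists_abelian_of_monomial {G : Type u} [Group G] [Fintype G]
    (hmon : ∀ χ : G → ℂ, Cfsg.IsIrrCharacter G χ →
      ∃ (H : Subgroup G) (lam : H →* ℂˣ), χ = Cfsg.indFun H (fun h => (lam h : ℂ)))
    {χ : G → ℂ} (hχ : Cfsg.IsCharacter G χ) (hfaith : ∀ g : G, χ g = χ 1 → g = 1) {n : ℕ}
    (hn : χ 1 = n) :
    ∃ B : Subgroup G, B.Normal ∧ (∀ x ∈ B, ∀ y ∈ B, x * y = y * x) ∧ B.index ∣ n.factorial := by
  obtain ⟨l, hl, hsum⟩ := Char.isCharacter_exists_multiset hχ
  suffices ∀ l : Multiset (G → ℂ), (∀ ψ ∈ l, Cfsg.IsIrrCharacter G ψ) →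
      ∃ (d : ℕ) (B : Subgroup G), B.Normal ∧ l.sum 1 = d ∧ B.index ∣ d.factorial ∧
        ∀ x ∈ B, ∀ y ∈ B, l.sum ⁅x, y⁆ = l.sum 1 by
    obtain ⟨d, B, hBn, hd, hB, hc⟩ := this l hl
    rw [← hsum] at hd hc
    have : d = n := by exact_mod_cast hd.symm.trans hn
    subst this
    exact ⟨B, hBn, fun x hx y hy => commutatorElement_eq_one_iff_mul_comm.mp
      (hfaith _ (hc x hx y hy)), hB⟩
  intro l
  induction l using Multiset.induction with
  | empty => exact fun _ => ⟨0, ⊤, inferInstance, by simp, by simp, by simp⟩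
  | cons ψ l ih =>
    intro hl'
    obtain ⟨d, B, hBn, hd, hB, hc⟩ := ih fun φ hφ => hl' φ (Multiset.mem_cons_of_mem hφ)
    obtain ⟨H, lam, rfl⟩ := hmon ψ (hl' _ (Multiset.mem_cons_self _ _))
    haveI := hBn
    refine ⟨H.index + d, H.normalCore ⊓ B, inferInstance, ?_, ?_, ?_⟩
    · rw [Multiset.sum_cons, Pi.add_apply, hd, Char.indFun_apply_one, map_one, Units.val_one,
        mul_one, Nat.cast_add]
    · refine dvd_trans ?_ (Nat.factorial_mul_factorial_dvd_factorial_add H.index d)
      refine dvd_trans ?_ (mul_dvd_mul ?_ hB) (b := H.normalCore.index * B.index)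
      · rw [inf_comm, ← Subgroup.relIndex_mul_index (inf_le_right : B ⊓ H.normalCore ≤ _),
          Subgroup.inf_relIndex_right, mul_comm]
        exact mul_dvd_mul_left _ (Subgroup.relIndex_dvd_index_of_normal B H.normalCore)
      · rw [Subgroup.normalCore_eq_ker, Subgroup.index_ker]
        refine (Subgroup.card_subgroup_dvd_card _).trans ?_
        rw [Nat.card_perm, Subgroup.index_eq_card]
    · intro x hx y hy
      rw [Multiset.sum_cons, Pi.add_apply, Pi.add_apply, hc x hx.2 y hy.2]
      congr 1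
      rw [Char.indFun_def, Char.indFun_def]
      congr 1
      refine Finset.sum_congr rfl fun g _ => ?_
      have hx' : g⁻¹ * x * g ∈ H := by
        have := H.normalCore_le ((inferInstance : H.normalCore.Normal).conj_mem x hx.1 g⁻¹)
        simpa using this
      have hy' : g⁻¹ * y * g ∈ H := by
        have := H.normalCore_le ((inferInstance : H.normalCore.Normal).conj_mem y hy.1 g⁻¹)
        simpa using this
      rw [show g⁻¹ * ⁅x, y⁆ * g = ((⁅(⟨_, hx'⟩ : H), (⟨_, hy'⟩ : H)⁆ : H) : G) by
        simp only [commutatorElement_def, Subgroup.coe_mul, Subgroup.coe_inv]; group,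
        Char.extendByZero_coe, show g⁻¹ * 1 * g = ((1 : H) : G) by simp, Char.extendByZero_coe,
        map_commutatorElement, commutatorElement_eq_one_iff_mul_comm.mpr (mul_comm _ _), map_one]

/-- Jordan's theorem. -/
theorem exists_abelian_normal {G : Type u} [Group G] [Finite G] (χ : G → ℂ)
    (hχ : Cfsg.IsCharacter G χ) (hfaith : ∀ g : G, χ g = χ 1 → g = 1) (n : ℕ) (hn : χ 1 = n) :
    ∃ A : Subgroup G, A.Normal ∧ (∀ x ∈ A, ∀ y ∈ A, x * y = y * x) ∧
      A.index ≤ n.factorial * 12 ^ (n * (Nat.primeCounting (n + 1) + 1)) := by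
  classical
  obtain ⟨A, hAn, hAc, hA⟩ := BlockA.exists_abelian_normal_bound hχ hfaith n hn
  refine ⟨A, hAn, hAc, ?_⟩
  haveI := hAn
  obtain ⟨H, hHc, -, hHi⟩ := BlichfeldtHall.exists_hall χ hχ hfaith n hn
  set N := A.index with hNdef
  have hN : N ≠ 0 := Subgroup.index_ne_zero_of_finite
  -- the part of the index seen by a subgroup with full `q`-part
  have hpart : ∀ (q : ℕ) (X : Subgroup G), q.Prime → ¬ q ∣ X.index →
      q ^ N.factorization q ∣ A.relIndex X := by
    intro q X hq hX
    have h1 : A.relIndex X * X.index = (A ⊓ X).index := by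
      rw [← Subgroup.inf_relIndex_right, Subgroup.relIndex_mul_index inf_le_right]
    have h2 : q ^ N.factorization q ∣ A.relIndex X * X.index := by
      rw [h1]
      exact (Nat.ordProj_dvd N q).trans (Subgroup.index_dvd_of_le inf_le_left)
    exact (Nat.Coprime.pow_left _ ((hq.coprime_iff_not_dvd).mpr hX)).dvd_of_dvd_mul_right h2
  set small := N.primeFactors.filter fun p => p ≤ n + 1 with hsmall
  set large := N.primeFactors.filter fun p => ¬ p ≤ n + 1 with hlarge
  have hsplit : (∏ p ∈ small, p ^ N.factorization p) * ∏ p ∈ large, p ^ N.factorization p = N := by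
    rw [hsmall, hlarge, Finset.prod_filter_mul_prod_filter_not]
    exact (Nat.prod_primeFactors_prod_factorization _).trans (Nat.prod_factorization_pow_eq_self hN)
      |> id
  have hL : ∏ p ∈ large, p ^ N.factorization p ≤ 12 ^ n := by
    refine le_trans (Nat.le_of_dvd (Nat.pos_of_ne_zero Subgroup.index_ne_zero_of_finite) ?_)
      (hA H hHc)
    refine Finset.prod_dvd_of_isRelPrime (fun p hp q hq hpq => ?_) fun p hp => ?_
    · simp only [hlarge, Finset.coe_filter, Set.mem_ofPred_eq] at hp hq
      exact Nat.Coprime.pow _ _ ((Nat.coprime_primes (Nat.prime_of_mem_primeFactors hp.1)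
        (Nat.prime_of_mem_primeFactors hq.1)).mpr hpq) |> Nat.coprime_iff_isRelPrime.mp
    · obtain ⟨hp1, hp2⟩ := Finset.mem_filter.mp hp
      exact hpart p H (Nat.prime_of_mem_primeFactors hp1)
        fun h => hp2 (hHi p (Nat.prime_of_mem_primeFactors hp1) h)
  have hS : ∀ p ∈ small, p ^ N.factorization p ≤ 12 ^ n * p ^ n.factorial.factorization p := by
    intro p hp
    have hpp := Nat.prime_of_mem_primeFactors (Finset.mem_filter.mp hp).1
    haveI := Fact.mk hpp
    obtain ⟨P⟩ : Nonempty (Sylow p G) := inferInstance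
    have := Fintype.ofFinite (P : Subgroup G)
    haveI : Group.IsNilpotent (P : Subgroup G) := P.2.isNilpotent
    obtain ⟨B, -, hBc, hBi⟩ := exists_abelian_of_monomial (G := (P : Subgroup G))
      (Char.monomial_of_isCyclicByNilpotent _ Char.isCyclicByNilpotent_of_isNilpotent)
      (χ := fun x => χ x) (Char.isCharacter_restrict hχ _)
      (fun x hx => Subtype.ext (hfaith x hx)) (n := n) hn
    set B' := B.map (P : Subgroup G).subtype with hB'
    have hle := Nat.le_of_dvd (Nat.pos_of_ne_zero (relIndex_ne_zero _ _))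
      (hpart p (P : Subgroup G) hpp P.not_dvd_index)
    refine hle.trans ?_
    have hB'P : B' ≤ (P : Subgroup G) := Subgroup.map_subtype_le _
    have hdvd : A.relIndex (P : Subgroup G) ∣ A.relIndex B' * B'.relIndex (P : Subgroup G) := by
      rw [← Subgroup.inf_relIndex_right A B', Subgroup.relIndex_mul_relIndex _ _ _ inf_le_right hB'P,
        ← Subgroup.inf_relIndex_right A (P : Subgroup G)]
      exact Subgroup.relIndex_dvd_of_le_left _ (le_inf inf_le_left (inf_le_right.trans hB'P))
    refine (Nat.le_of_dvd (Nat.mul_pos (Nat.pos_of_ne_zero (relIndex_ne_zero _ _))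
      (Nat.pos_of_ne_zero (relIndex_ne_zero _ _))) hdvd).trans (Nat.mul_le_mul ?_ ?_)
    · refine hA B' ?_
      rintro _ ⟨x, hx, rfl⟩ _ ⟨y, hy, rfl⟩
      rw [← map_mul, hBc x hx y hy, map_mul]
    · have hrel : B'.relIndex (P : Subgroup G) = B.index := by
        rw [hB', Subgroup.relIndex, Subgroup.subgroupOf, Subgroup.comap_map_eq_self_of_injective
          (Subgroup.subtype_injective _)]
      rw [hrel]
      obtain ⟨k, hk⟩ := P.2.index B
      rw [hk]
      refine Nat.pow_le_pow_right hpp.pos ?_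
      exact (hpp.pow_dvd_iff_le_factorization (Nat.factorial_ne_zero n)).mp (hk ▸ hBi)
  have hfac : ∏ p ∈ small, p ^ n.factorial.factorization p ∣ n.factorial := by
    refine Finset.prod_dvd_of_isRelPrime (fun p hp q hq hpq => ?_) fun p _ => Nat.ordProj_dvd _ _
    simp only [hsmall, Finset.coe_filter, Set.mem_ofPred_eq] at hp hq
    exact Nat.Coprime.pow _ _ ((Nat.coprime_primes (Nat.prime_of_mem_primeFactors hp.1)
      (Nat.prime_of_mem_primeFactors hq.1)).mpr hpq) |> Nat.coprime_iff_isRelPrime.mp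
  have hcard : small.card ≤ Nat.primeCounting (n + 1) := by
    rw [Nat.primeCounting, Nat.primeCounting', Nat.count_eq_card_filter_range]
    refine Finset.card_le_card fun p hp => ?_
    obtain ⟨hp1, hp2⟩ := Finset.mem_filter.mp hp
    exact Finset.mem_filter.mpr ⟨Finset.mem_range.mpr (by omega), Nat.prime_of_mem_primeFactors hp1⟩
  calc N = (∏ p ∈ small, p ^ N.factorization p) * ∏ p ∈ large, p ^ N.factorization p := hsplit.symm
    _ ≤ (∏ p ∈ small, 12 ^ n * p ^ n.factorial.factorization p) * 12 ^ n :=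
        Nat.mul_le_mul (Finset.prod_le_prod (fun p _ => Nat.zero_le _) hS) hL
    _ ≤ (12 ^ n) ^ Nat.primeCounting (n + 1) * n.factorial * 12 ^ n := by
        rw [Finset.prod_mul_distrib, Finset.prod_const]
        exact Nat.mul_le_mul_right _ (Nat.mul_le_mul (Nat.pow_le_pow_right (by positivity) hcard)
          (Nat.le_of_dvd (Nat.factorial_pos n) hfac))
    _ = _ := by rw [← pow_mul, Nat.mul_succ, pow_add]; ring

end CfsgLib.Clifford.JordanBound
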