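import Cfsg.Agent.Lib.Clifford.FullyRamified
import Cfsg.Agent.Lib.Clifford.Degree
import Cfsg.Agent.Lib.BlockB.ClassMul
import Mathlib.GroupTheory.Sylow
import Mathlib.GroupTheory.Complement

/-!
# Fully ramified characters and Sylow subgroups of the quotient

Over a fully ramified `θ` the preimage `P` of a Sylow subgroup is again fully ramified.  For a
normal `K ≥ Z` whose section `P / (P ∩ K)` acts regularly on the characters of `P ∩ K` over `θ`,
the stabilizer of one of them gives a complement of the Sylow subgroup in the quotient by `K`.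
-/

set_option autoImplicit false

namespace CfsgLib.Clifford.RamifiedSylow

open CfsgLib
open scoped ComplexConjugate

universe u

theorem classInner_comp_equiv {A B : Type u} [Group A] [Group B] [Fintype A] [Fintype B]
    (e : A ≃* B) (f g : B → ℂ) :
    Cfsg.classInner (f ∘ e) (g ∘ e) = Cfsg.classInner f g := by
  rw [Char.classInner_def, Char.classInner_def, Nat.card_congr e.toEquiv]
  congr 1
  exact Fintype.sum_equiv e.toEquiv _ _ fun _ => rfl

theorem relIndex_eq_of_product {G : Type u} [Group G] (S A B : Subgroup G) (hAB : A ≤ B)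
    (hSB : S ≤ B) (h : ∀ x ∈ B, ∃ a ∈ A, a⁻¹ * x ∈ S) : S.relIndex B = S.relIndex A := by
  refine (Nat.card_congr (Equiv.ofBijective
    (Subgroup.quotientSubgroupOfEmbeddingOfLE S hAB) ⟨?_, ?_⟩)).symm
  · exact (Subgroup.quotientSubgroupOfEmbeddingOfLE S hAB).injective
  · intro q
    induction q using QuotientGroup.induction_on with
    | H x =>
      obtain ⟨a, ha, hax⟩ := h x x.2
      refine ⟨QuotientGroup.mk ⟨a, ha⟩, ?_⟩
      exact QuotientGroup.eq.mpr (Subgroup.mem_subgroupOf.mpr (by simpa using hax))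

/-- The `p`-part of the index of `K` is its index in the Sylow preimage. -/
theorem relIndex_eq_ordProj {H : Type u} [Group H] [Finite H] (Z K : Subgroup H) [K.Normal]
    (hZK : Z ≤ K) {p : ℕ} [hp : Fact p.Prime] (P : Subgroup H) {k : ℕ}
    (hk : Z.relIndex P = p ^ k) (hPi : ¬ p ∣ P.index) :
    K.relIndex P = p ^ K.index.factorization p := by
  have h1 : K.relIndex P ∣ p ^ k := hk ▸ Subgroup.relIndex_dvd_of_le_left P hZK
  obtain ⟨j, -, hj⟩ := (Nat.dvd_prime_pow hp.out).mp h1
  have h2 : K.index = p ^ j * (K ⊔ P).index := by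
    rw [← hj, ← Subgroup.relIndex_sup_left, Subgroup.relIndex_mul_index le_sup_left]
  have h3 : ¬ p ∣ (K ⊔ P).index := fun h =>
    hPi (h.trans (Subgroup.index_dvd_of_le le_sup_right))
  rw [hj, h2, Nat.factorization_mul (pow_ne_zero _ hp.out.ne_zero)
    Subgroup.index_ne_zero_of_finite, Finsupp.add_apply, Nat.Prime.factorization_pow hp.out,
    Finsupp.single_eq_same, Nat.factorization_eq_zero_of_not_dvd h3, add_zero]

section Above

variable {G : Type u} [Group G] [Fintype G] (Z : Subgroup G) [Fintype Z] [hZ : Z.Normal]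
  {η : G → ℂ} (hη : Cfsg.IsIrrCharacter G η) {θ : Z → ℂ} (hθ : Cfsg.IsIrrCharacter Z θ) {g : ℕ}
  (hg : g ^ 2 = Z.index) (hres : ∀ z : Z, η z = (g : ℂ) * θ z)
  (N : Subgroup G) [hN : N.Normal] [Fintype N] (hZN : Z ≤ N) {φ : N → ℂ}
  (hφ : Cfsg.IsIrrCharacter N φ)
  (hover : Cfsg.classInner (fun z : Z => φ (Subgroup.inclusion hZN z)) θ ≠ 0)

include hη hθ hg hres hφ hover

omit hN in
/-- Every irreducible character above `φ` equals `η`. -/
theorem eq_of_above {ξ : G → ℂ} (hξ : Cfsg.IsIrrCharacter G ξ)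
    (h : Cfsg.classInner (fun n : N => ξ n) φ ≠ 0) : ξ = η := by
  by_contra hne
  obtain ⟨R, hR, hRe⟩ := exists_add_of_constituent
    (Char.isCharacter_restrict (Char.irr_isCharacter hξ) N) hφ h
  obtain ⟨a, ha⟩ := Char.classInner_isCharacter_nat
    (Char.isCharacter_comp (Char.irr_isCharacter hφ) (Subgroup.inclusion hZN))
    (Char.irr_isCharacter hθ)
  obtain ⟨b, hb⟩ := Char.classInner_isCharacter_nat
    (Char.isCharacter_comp hR (Subgroup.inclusion hZN)) (Char.irr_isCharacter hθ)
  have h0 : Cfsg.classInner (fun z : Z => ξ z) θ = 0 := by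
    rw [← Char.classInner_conj_symm, ← Char.frobenius_reciprocity Z θ ξ (Char.irr_isClassFunction hξ),
      FullyRamified.indFun_eq Z hη hθ hg hres, Char.classInner_smul_left,
      Char.irr_classInner_ne hη hξ (Ne.symm hne), mul_zero, map_zero]
  rw [show (fun z : Z => ξ z) = (φ ∘ Subgroup.inclusion hZN) + (R ∘ Subgroup.inclusion hZN) from
    funext fun z => congr_fun hRe (Subgroup.inclusion hZN z), Char.classInner_add_left, ha, hb] at h0
  have : a + b = 0 := by exact_mod_cast h0
  exact hover (by rw [show (fun z : Z => φ (Subgroup.inclusion hZN z)) = φ ∘ Subgroup.inclusion hZN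
    from rfl, ha, show a = 0 by omega, Nat.cast_zero])

omit hN in
/-- The induced character is a multiple of `η`. -/
theorem indFun_eq_smul : ∃ d : ℕ, 0 < d ∧ Cfsg.classInner (fun n : N => η n) φ = d ∧
    Cfsg.indFun N φ = (d : ℂ) • η := by
  classical
  have := Fintype.ofFinite (Cfsg.IrrCharacter G)
  obtain ⟨d, hd⟩ := Char.classInner_isCharacter_nat
    (Char.isCharacter_restrict (Char.irr_isCharacter hη) N) (Char.irr_isCharacter hφ)
  have hind : Cfsg.indFun N φ = (d : ℂ) • η := by
    conv_lhs => rw [Char.classFunction_eq_sum (Char.indFun_isClassFunction N φ)]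
    rw [Finset.sum_eq_single ⟨η, hη⟩]
    · rw [Char.frobenius_reciprocity N φ η (Char.irr_isClassFunction hη),
        ← Char.classInner_conj_symm, hd, map_natCast]
    · intro ξ _ hne
      rw [Char.frobenius_reciprocity N φ _ (Char.irr_isClassFunction ξ.2),
        ← Char.classInner_conj_symm]
      by_cases h : Cfsg.classInner (fun n : N => (ξ : G → ℂ) n) φ = 0
      · rw [h, map_zero, zero_smul]
      · exact absurd (Subtype.ext (eq_of_above Z hη hθ hg hres N hZN hφ hover ξ.2 h)) hne
    · simp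
  refine ⟨d, Nat.pos_of_ne_zero fun h0 => ?_, hd, hind⟩
  have h1 := congr_fun hind 1
  rw [Char.indFun_apply_one, h0, Nat.cast_zero, zero_smul, Pi.zero_apply, mul_eq_zero] at h1
  exact h1.elim (by exact_mod_cast Subgroup.index_ne_zero_of_finite)
    (Char.irr_apply_one_ne_zero hφ)

theorem transitive {φ' : N → ℂ} (hφ' : Cfsg.IsIrrCharacter N φ')
    (hover' : Cfsg.classInner (fun z : Z => φ' (Subgroup.inclusion hZN z)) θ ≠ 0) :
    ∃ x : G, conjFn x φ = φ' := by
  obtain ⟨d, hd, hd', -⟩ := indFun_eq_smul Z hη hθ hg hres N hZN hφ hover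
  obtain ⟨d₂, hd2, hd2', -⟩ := indFun_eq_smul Z hη hθ hg hres N hZN hφ' hover'
  exact exists_conj_of_constituents hη hφ hφ' (by rw [hd']; exact_mod_cast hd.ne')
    (by rw [hd2']; exact_mod_cast hd2.ne')

theorem sq_eq : ∃ d : ℕ, Cfsg.classInner (fun n : N => η n) φ = d ∧
    d ^ 2 * Nat.card N = Nat.card (inertia φ) ∧ (N.index : ℂ) * φ 1 = (d : ℂ) * η 1 := by
  obtain ⟨d, hd, hd', hind⟩ := indFun_eq_smul Z hη hθ hg hres N hZN hφ hover
  refine ⟨d, hd', ?_, ?_⟩
  · have h1 := classInner_indFun_indFun (G := G) hφ hφ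
    rw [hind, Char.classInner_smul_left, Char.classInner_smul_right,
      Char.irr_classInner_self hη, map_natCast, mul_one,
      Nat.card_congr (Equiv.subtypeEquivRight (q := fun x => x ∈ inertia φ)
        fun x => mem_inertia_iff_conjFn.symm), eq_inv_mul_iff_mul_eq₀ Char.natCard_ne_zero] at h1
    rw [← Nat.cast_inj (R := ℂ), Nat.cast_mul, Nat.cast_pow]
    linear_combination h1
  · have := congr_fun hind 1
    rwa [Char.indFun_apply_one, Pi.smul_apply, smul_eq_mul] at this

/-- A cyclic inertia quotient forces the character to be moved by everything outside `N`. -/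
theorem inertia_le_of_cyclic [hcyc : IsCyclic (G ⧸ N)] : inertia φ ≤ N := by
  classical
  obtain ⟨d, hd', hsq, -⟩ := sq_eq Z hη hθ hg hres N hZN hφ hover
  set T := inertia φ with hTdef
  have hT : ∀ x, x ∈ T ↔ conjFn x φ = φ := fun x => mem_inertia_iff_conjFn
  have hNT : N ≤ T := le_inertia (Char.irr_isClassFunction hφ)
  let N' := N.subgroupOf T
  have := Fintype.ofFinite N'
  let e : N' ≃* N := Subgroup.subgroupOfEquivOfLe hNT
  obtain ⟨n, ρ, hρ, hρφ⟩ := Char.isIrrCharacter_comp_surjective hφ e.toMonoidHom e.surjective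
  have hinv : ∀ (t : T) (m : N'), ρ.character (conjN t m) = ρ.character m := fun t m => by
    rw [hρφ]
    exact subgroupOf_conjFn_eq T hT t m
  have hinjq : Function.Injective (QuotientGroup.map N' N T.subtype le_rfl) := by
    rw [injective_iff_map_eq_one]
    intro a ha
    induction a using QuotientGroup.induction_on with
    | H t =>
      replace ha : ((t : G) : G ⧸ N) = 1 := ha
      exact (QuotientGroup.eq_one_iff _).mpr
        (Subgroup.mem_subgroupOf.mpr ((QuotientGroup.eq_one_iff _).mp ha))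
  haveI : IsCyclic (T ⧸ N') := isCyclic_of_injective _ hinjq
  obtain ⟨σ, hσ⟩ := exists_extension_of_one_mem ρ (proj_surjective ρ hinv)
    (one_mem_splitExps_of_isCyclic ρ (proj_surjective ρ hinv))
  have hσirr : Cfsg.IsIrrCharacter T σ.character := by
    exact (isIrrCharacter_extension (N := N') ρ σ hσ).1
  have hσN : (fun m : N => σ.character ⟨(m : G), hNT m.2⟩) = φ := by
    funext m
    have h1 : σ.character ((e.symm m : N') : T) = ρ.character (e.symm m) := by
      rw [Representation.character, Representation.character, hσ]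
    rw [hρφ] at h1
    exact h1.trans (congrArg φ (e.apply_symm_apply m))
  have hne : Cfsg.classInner (fun m : N => σ.character ⟨(m : G), hNT m.2⟩) φ ≠ 0 := by
    rw [hσN, Char.irr_classInner_self hφ]; exact one_ne_zero
  obtain ⟨hirr, -⟩ := indFun_inertia T hNT hφ hT hσirr hne
  have h2 := indFun_inertia_restrict T hNT hφ hT hσirr hne
  have h3 : Cfsg.indFun T σ.character = η := eq_of_above Z hη hθ hg hres N hZN hφ hover hirr
    (by rw [h2]; exact hne)
  rw [h3, hd', hσN, Char.irr_classInner_self hφ, Nat.cast_eq_one] at h2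
  rw [h2, one_pow, one_mul] at hsq
  exact (Subgroup.eq_of_le_of_card_ge hNT hsq.ge).ge

end Above

section Sylow

variable {H : Type u} [Group H] [Fintype H] (Z : Subgroup H) [Z.Normal] [Fintype Z]
  {χ : H → ℂ} (hχ : Cfsg.IsIrrCharacter H χ) {θ : Z → ℂ} (hθ : Cfsg.IsIrrCharacter Z θ) {e : ℕ}
  (he : e ^ 2 = Z.index) (hres : ∀ z : Z, χ z = (e : ℂ) * θ z)
  {p : ℕ} [hp : Fact p.Prime] (P : Subgroup H) [Fintype P] (hZP : Z ≤ P) {k : ℕ}
  (hk : Z.relIndex P = p ^ k) (hPi : ¬ p ∣ P.index)

include hχ hθ he hres hk hPi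

theorem exists_ramified [Fintype (Z.subgroupOf P)] :
    ∃ η : P → ℂ, Cfsg.IsIrrCharacter P η ∧
      (p ^ e.factorization p) ^ 2 = (Z.subgroupOf P).index ∧
      ∀ z : Z.subgroupOf P, η z =
        ((p ^ e.factorization p : ℕ) : ℂ) * θ (Subgroup.subgroupOfEquivOfLe hZP z) := by
  classical
  set Z' := Z.subgroupOf P
  set eq : Z' ≃* Z := Subgroup.subgroupOfEquivOfLe hZP
  set θ' : Z' → ℂ := θ ∘ eq with hθ'def
  have hθ' : Cfsg.IsIrrCharacter Z' θ' :=
    Char.isIrrCharacter_comp_surjective hθ eq.toMonoidHom eq.surjective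
  have he0 : e ≠ 0 := fun h => by
    rw [h] at he; exact (Subgroup.index_ne_zero_of_finite (H := Z)) he.symm
  have hk2 : k = 2 * e.factorization p := by
    have h1 : Z.index = p ^ k * P.index := by rw [← hk, Subgroup.relIndex_mul_index hZP]
    have h2 := congrArg (fun n => Nat.factorization n p) (he.trans h1)
    simp only [Nat.factorization_pow, Finsupp.smul_apply, smul_eq_mul] at h2
    rw [Nat.factorization_mul (pow_ne_zero _ hp.out.ne_zero) Subgroup.index_ne_zero_of_finite,
      Finsupp.add_apply, Nat.Prime.factorization_pow hp.out, Finsupp.single_eq_same,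
      Nat.factorization_eq_zero_of_not_dvd hPi, add_zero] at h2
    omega
  have hidx : Z'.index = p ^ k := hk
  have hinv : ∀ x : P, conjFn x θ' = θ' := fun x => funext fun z => by
    have := congr_fun (FullyRamified.invariant Z hχ he hres (x : H)) (eq z)
    exact this
  obtain ⟨η, hη, hη0⟩ := exists_irr_constituent (Char.isCharacter_indFun Z' (Char.irr_isCharacter hθ'))
    fun h => by
      have := congr_fun h 1
      rw [Char.indFun_apply_one, Pi.zero_apply, mul_eq_zero] at this
      exact this.elim (by exact_mod_cast Subgroup.index_ne_zero_of_finite)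
        (Char.irr_apply_one_ne_zero hθ')
  have hη1 : Cfsg.classInner (fun z : Z' => η z) θ' ≠ 0 := fun h => hη0 (by
    rw [Char.frobenius_reciprocity Z' θ' η (Char.irr_isClassFunction hη),
      ← Char.classInner_conj_symm, h, map_zero])
  have hrest := restrict_eq_smul_of_invariant hη hθ' hinv hη1
  obtain ⟨g, hg1, hgdvd⟩ := degree_quot_dvd_index hη hθ' hη1
  have hgc : Cfsg.classInner (fun z : Z' => η z) θ' = (g : ℂ) := by
    have := congr_fun hrest 1
    simp only [Pi.smul_apply, smul_eq_mul, OneMemClass.coe_one] at this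
    rw [hg1] at this
    exact (mul_right_cancel₀ (Char.irr_apply_one_ne_zero hθ') this).symm
  rw [hgc] at hrest
  -- the multiplicity in the restriction of `χ`
  obtain ⟨a, ha⟩ := Char.classInner_isCharacter_nat
    (Char.isCharacter_restrict (Char.irr_isCharacter hχ) P) (Char.irr_isCharacter hη)
  have hmul : (Nat.card P : ℂ) * a = (e : ℂ) * g * Nat.card Z' := by
    rw [← ha, Char.classInner_def, mul_inv_cancel_left₀ Char.natCard_ne_zero]
    rw [← Finset.sum_filter_of_ne (p := fun x : P => x ∈ Z') fun x _ hne => by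
      by_contra hx
      exact hne (by rw [FullyRamified.eq_zero_off Z hχ hθ he hres
        (fun h => hx (Subgroup.mem_subgroupOf.mpr h)), zero_mul])]
    rw [Finset.sum_subtype _ (p := fun x : P => x ∈ Z') (by simp)]
    have hterm : ∀ z : Z', χ ((z : P) : H) * conj (η z) =
        ((e : ℂ) * g) * (θ' z * conj (θ' z)) := fun z => by
      rw [show χ ((z : P) : H) = (e : ℂ) * θ' z from hres (eq z), congr_fun hrest z,
        Pi.smul_apply, smul_eq_mul, map_mul, map_natCast]
      ring
    rw [Fintype.sum_congr _ _ hterm, ← Finset.mul_sum]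
    congr 1
    have h1 := Char.irr_classInner_self hθ'
    rwa [Char.classInner_def, inv_mul_eq_one₀ Char.natCard_ne_zero, eq_comm] at h1
  have hdiv : p ^ k ∣ e * g := by
    refine ⟨a, Nat.eq_of_mul_eq_mul_right (Nat.card_pos (α := Z')) ?_⟩
    rw [← hidx]
    have h1 : Nat.card P * a = e * g * Nat.card Z' := by exact_mod_cast hmul
    rw [← h1, ← Z'.index_mul_card]
    ring
  rw [hidx] at hgdvd
  obtain ⟨j, hjk, rfl⟩ := (Nat.dvd_prime_pow hp.out).mp hgdvd
  have hlow : k ≤ e.factorization p + j := by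
    have := (Nat.factorization_le_iff_dvd (pow_ne_zero _ hp.out.ne_zero)
      (mul_ne_zero he0 (pow_ne_zero _ hp.out.ne_zero))).mpr hdiv p
    rwa [Nat.factorization_mul he0 (pow_ne_zero _ hp.out.ne_zero), Finsupp.add_apply,
      Nat.Prime.factorization_pow hp.out, Nat.Prime.factorization_pow hp.out,
      Finsupp.single_eq_same, Finsupp.single_eq_same] at this
  -- upper bound from the norm of the induced character
  have hup : (p ^ j) ^ 2 ≤ Z'.index := by
    have hnorm : Cfsg.classInner (Cfsg.indFun Z' θ') (Cfsg.indFun Z' θ') = (Z'.index : ℂ) := by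
      rw [classInner_indFun_indFun hθ' hθ', Nat.card_congr (Equiv.subtypeUnivEquiv hinv),
        ← Z'.card_mul_index, Nat.cast_mul, inv_mul_cancel_left₀ Char.natCard_ne_zero]
    obtain ⟨R, hR, hRe⟩ := exists_add_of_constituent
      (Char.isCharacter_indFun Z' (Char.irr_isCharacter hθ')) hη hη0
    have := Fintype.ofFinite (Cfsg.IrrCharacter P)
    choose c hc using fun ξ : Cfsg.IrrCharacter P => Char.classInner_isCharacter_nat
      (Char.isCharacter_indFun Z' (Char.irr_isCharacter hθ')) (Char.irr_isCharacter ξ.2)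
    rw [Char.classInner_eq_sum_mul (Char.indFun_isClassFunction Z' θ')] at hnorm
    simp only [hc, map_natCast] at hnorm
    have h1 : Z'.index = ∑ ξ, c ξ * c ξ := by exact_mod_cast hnorm.symm
    have h2 : c ⟨η, hη⟩ = p ^ j := by
      have := hc ⟨η, hη⟩
      rw [Char.frobenius_reciprocity Z' θ' η (Char.irr_isClassFunction hη),
        ← Char.classInner_conj_symm, hgc, map_natCast] at this
      exact_mod_cast this.symm
    rw [h1, pow_two, ← h2]
    exact Finset.single_le_sum (f := fun ξ => c ξ * c ξ) (fun _ _ => Nat.zero_le _)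
      (Finset.mem_univ _)
  rw [hidx, ← pow_mul] at hup
  have hj2 := (Nat.pow_le_pow_iff_right hp.out.one_lt).mp hup
  have hj : j = e.factorization p := by omega
  subst hj
  exact ⟨η, hη, by rw [hidx, hk2, ← pow_mul, mul_comm], fun z => congr_fun hrest z⟩

end Sylow

section Complement

variable {H : Type u} [Group H] [Fintype H] (Z : Subgroup H) [Z.Normal] [Fintype Z]
  {χ : H → ℂ} (hχ : Cfsg.IsIrrCharacter H χ) {θ : Z → ℂ} (hθ : Cfsg.IsIrrCharacter Z θ) {e : ℕ}
  (he : e ^ 2 = Z.index) (hres : ∀ z : Z, χ z = (e : ℂ) * θ z)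
  (K : Subgroup H) [hK : K.Normal] (hZK : Z ≤ K) {p : ℕ} [hp : Fact p.Prime]

include hχ hθ he hres hZK

/-- The regularity of the action of every Sylow section gives a complement. -/
theorem exists_index_eq
    (hreg : ∀ (P : Subgroup H) (hZP : Z ≤ P) [Fintype P] [Fintype (K.subgroupOf P)] (k : ℕ),
      Z.relIndex P = p ^ k → ¬ p ∣ P.index →
      ∀ φ : K.subgroupOf P → ℂ, Cfsg.IsIrrCharacter (K.subgroupOf P) φ →
        Cfsg.classInner (fun z : Z => φ ⟨⟨(z : H), hZP z.2⟩, hZK z.2⟩) θ ≠ 0 →
        inertia φ ≤ K.subgroupOf P) :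
    ∃ S : Subgroup (H ⧸ K), S.index = p ^ K.index.factorization p := by
  classical
  obtain ⟨Q⟩ : Nonempty (Sylow p H) := inferInstance
  set P : Subgroup H := (Q : Subgroup H) ⊔ Z with hPdef
  have hZP : Z ≤ P := le_sup_right
  have := Fintype.ofFinite P
  have := Fintype.ofFinite (Z.subgroupOf P)
  set N := K.subgroupOf P with hNdef
  have := Fintype.ofFinite N
  obtain ⟨k, hk⟩ : ∃ k, Z.relIndex P = p ^ k := by
    rw [hPdef, Subgroup.relIndex_sup_right]
    obtain ⟨n, hn⟩ := Q.isPGroup'.exists_card_eq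
    obtain ⟨j, -, hj⟩ := (Nat.dvd_prime_pow hp.out).mp
      (hn ▸ Subgroup.index_dvd_card (H := Z.subgroupOf (Q : Subgroup H)))
    exact ⟨j, hj⟩
  have hPi : ¬ p ∣ P.index := fun h =>
    Q.not_dvd_index (h.trans (Subgroup.index_dvd_of_le le_sup_left))
  obtain ⟨η, hη, hg, hηZ⟩ := exists_ramified Z hχ hθ he hres P hZP hk hPi
  let eq : Z.subgroupOf P ≃* Z := Subgroup.subgroupOfEquivOfLe hZP
  have hθ' : Cfsg.IsIrrCharacter (Z.subgroupOf P) (θ ∘ eq) :=
    Char.isIrrCharacter_comp_surjective hθ eq.toMonoidHom eq.surjective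
  have hZN : Z.subgroupOf P ≤ N := fun z hz => hZK hz
  let ι : Z →* N :=
    { toFun := fun z => ⟨⟨(z : H), hZP z.2⟩, hZK z.2⟩
      map_one' := rfl
      map_mul' := fun _ _ => rfl }
  have hoveq : ∀ f : N → ℂ,
      Cfsg.classInner (fun z : Z.subgroupOf P => f (Subgroup.inclusion hZN z)) (θ ∘ eq) =
        Cfsg.classInner (fun z : Z => f (ι z)) θ := fun f => by
    rw [← classInner_comp_equiv eq (fun z : Z => f (ι z)) θ]
    rfl
  -- one character over `θ`
  obtain ⟨φ, hφ, -, hφθ⟩ := exists_constituent_over (H := (Z.subgroupOf P).subgroupOf N)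
    (F := fun n : N => η n) (θ := (θ ∘ eq) ∘ Subgroup.subgroupOfEquivOfLe hZN)
    (Char.isCharacter_restrict (Char.irr_isCharacter hη) N) (by
      have := classInner_comp_equiv (Subgroup.subgroupOfEquivOfLe hZN)
        (fun z : Z.subgroupOf P => η z) (θ ∘ eq)
      refine ne_of_eq_of_ne this ?_
      rw [show (fun z : Z.subgroupOf P => η z) =
        ((p ^ e.factorization p : ℕ) : ℂ) • (θ ∘ eq) from funext hηZ, Char.classInner_smul_left,
        Char.irr_classInner_self hθ', mul_one]
      exact_mod_cast pow_ne_zero _ hp.out.ne_zero)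
  have hover : Cfsg.classInner (fun z : Z => φ (ι z)) θ ≠ 0 := by
    rw [← hoveq, ← classInner_comp_equiv (Subgroup.subgroupOfEquivOfLe hZN)]
    exact hφθ
  -- the normalizer of the intersection
  set M := Subgroup.normalizer ((K ⊓ P : Subgroup H) : Set H) with hMdef
  have hPM : P ≤ M := fun x hx => Subgroup.mem_normalizer_iff.mpr fun y => by
    simp only [Subgroup.mem_inf]
    constructor
    · rintro ⟨h1, h2⟩
      exact ⟨hK.conj_mem y h1 x, mul_mem (mul_mem hx h2) (inv_mem hx)⟩
    · rintro ⟨h1, h2⟩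
      refine ⟨?_, ?_⟩
      · simpa [mul_assoc] using hK.conj_mem' _ h1 x
      · simpa [mul_assoc] using mul_mem (mul_mem (inv_mem hx) h2) hx
  have hmemM : ∀ x ∈ M, ∀ n : N, x * ((n : P) : H) * x⁻¹ ∈ K ⊓ P := fun x hx n =>
    (Subgroup.mem_normalizer_iff.mp hx _).mp ⟨n.2, (n : P).2⟩
  let c : M → N → N := fun x n =>
    ⟨⟨(x : H) * ((n : P) : H) * (x : H)⁻¹, (hmemM x x.2 n).2⟩, (hmemM x x.2 n).1⟩
  have hc_mul : ∀ (x y : M) (n : N), c (x * y) n = c x (c y n) := fun x y n =>
    Subtype.ext (Subtype.ext (by simp [c, mul_assoc]))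
  have hc_one : ∀ n : N, c 1 n = n := fun n => Subtype.ext (Subtype.ext (by simp [c]))
  let S₀ : Subgroup M :=
    { carrier := {x | ∀ n, φ (c x n) = φ n}
      one_mem' := fun n => by rw [hc_one]
      mul_mem' := fun {a b} ha hb n => by rw [hc_mul, ha, hb]
      inv_mem' := fun {a} ha n => by
        have := ha (c a⁻¹ n)
        rwa [← hc_mul, mul_inv_cancel, hc_one, eq_comm] at this }
  set S := S₀.map M.subtype with hSdef
  have hSM : S ≤ M := Subgroup.map_subtype_le S₀
  have hSmem : ∀ x : M, (x : H) ∈ S ↔ ∀ n, φ (c x n) = φ n := fun x =>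
    Subgroup.mem_map_iff_mem M.subtype_injective
  -- every element of `M` moves `φ` as an element of `P` does
  have hprod : ∀ x ∈ M, ∃ u ∈ P, u⁻¹ * x ∈ S := by
    suffices h : ∀ x ∈ M, ∃ u ∈ P, x * u⁻¹ ∈ S from fun x hx => by
      obtain ⟨u, hu, hxu⟩ := h x⁻¹ (inv_mem hx)
      exact ⟨u⁻¹, inv_mem hu, by simpa using inv_mem hxu⟩
    intro x hx
    let cx : N →* N :=
      { toFun := c ⟨x, hx⟩
        map_one' := Subtype.ext (Subtype.ext (by simp [c]))
        map_mul' := fun a b => Subtype.ext (Subtype.ext (by simp [c, mul_assoc])) }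
    have hφx : Cfsg.IsIrrCharacter N (φ ∘ cx) :=
      Char.isIrrCharacter_comp_surjective hφ cx fun n => ⟨c ⟨x, hx⟩⁻¹ n, by
        show c ⟨x, hx⟩ (c ⟨x, hx⟩⁻¹ n) = n
        rw [← hc_mul, mul_inv_cancel, hc_one]⟩
    let τ : Z ≃* Z :=
      { toFun := fun z => ⟨x * z * x⁻¹, Subgroup.Normal.conj_mem inferInstance _ z.2 x⟩
        invFun := fun z => ⟨x⁻¹ * z * x, Subgroup.Normal.conj_mem' inferInstance _ z.2 x⟩
        left_inv := fun z => Subtype.ext (by simp [mul_assoc])
        right_inv := fun z => Subtype.ext (by simp [mul_assoc])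
        map_mul' := fun a b => Subtype.ext (by simp [mul_assoc]) }
    have hovx : Cfsg.classInner (fun z : Z => (φ ∘ cx) (ι z)) θ ≠ 0 := by
      have e1 : (fun z : Z => (φ ∘ cx) (ι z)) = (fun z : Z => φ (ι z)) ∘ τ := rfl
      have e2 : θ = θ ∘ τ := funext fun z =>
        (congr_fun (FullyRamified.invariant Z hχ he hres x) z).symm
      rw [e1, e2, classInner_comp_equiv]
      exact hover
    obtain ⟨u, hu⟩ := transitive (Z.subgroupOf P) hη hθ' hg hηZ N hZN hφ
      (by rw [hoveq]; exact hover) hφx (by rw [hoveq]; exact hovx)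
    refine ⟨u, u.2, ?_⟩
    rw [show x * (u : H)⁻¹ = (((⟨x, hx⟩ : M) * (⟨u, hPM u.2⟩ : M)⁻¹ : M) : H) from rfl, hSmem]
    intro n
    have h2 : ∀ y, φ (c ⟨u, hPM u.2⟩ y) = φ (c ⟨x, hx⟩ y) := fun y => congr_fun hu y
    rw [hc_mul, ← h2, ← hc_mul, mul_inv_cancel, hc_one]
  -- regularity
  have hreg' := hreg P hZP k hk hPi φ hφ hover
  have hPS : P ⊓ S ≤ K := fun x hx => by
    have h1 := (hSmem ⟨x, hPM hx.1⟩).mp hx.2
    exact Subgroup.mem_subgroupOf.mp (hreg' (x := ⟨x, hx.1⟩) fun n => h1 n)
  have hKPS : K ⊓ P ≤ S := fun x hx => by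
    refine (hSmem ⟨x, hPM hx.2⟩).mpr fun n => ?_
    exact Char.irr_isClassFunction hφ n (⟨⟨x, hx.2⟩, hx.1⟩ : N)
  have hSP : S.relIndex P = K.relIndex P := by
    rw [← Subgroup.inf_relIndex_right S P, ← Subgroup.inf_relIndex_right K P]
    congr 1
    exact le_antisymm (le_inf (fun x hx => hPS ⟨hx.2, hx.1⟩) inf_le_right) (le_inf hKPS inf_le_right)
  have hSMi : S.relIndex M = S.relIndex P := relIndex_eq_of_product S P M hPM hSM hprod
  -- the `p`-part of the index of `K`
  set a := K.index.factorization p with ha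
  have hKP : K.relIndex P = p ^ a := relIndex_eq_ordProj Z K hZK P hk hPi
  -- the normal part fixes `φ`
  have hNK : K ⊓ M ≤ S := by
    rw [← Subgroup.relIndex_eq_one]
    have h1 : S.relIndex (K ⊓ M) ∣ p ^ a := by
      rw [← hKP, ← hSP, ← hSMi, ← relIndex_eq_of_product S (K ⊓ M) (S ⊔ K ⊓ M) le_sup_right
        le_sup_left fun x hx => ?_]
      · exact Dvd.intro _ (Subgroup.relIndex_mul_relIndex S (S ⊔ K ⊓ M) M le_sup_left
          (sup_le hSM inf_le_right))
      · have hnorm : S ≤ Subgroup.normalizer ((K ⊓ M : Subgroup H) : Set H) := fun s hs =>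
          Subgroup.mem_normalizer_iff.mpr fun y => by
            simp only [Subgroup.mem_inf]
            constructor
            · rintro ⟨h1, h2⟩
              exact ⟨hK.conj_mem y h1 s, mul_mem (mul_mem (hSM hs) h2) (inv_mem (hSM hs))⟩
            · rintro ⟨h1, h2⟩
              refine ⟨?_, ?_⟩
              · simpa [mul_assoc] using hK.conj_mem' _ h1 s
              · simpa [mul_assoc] using mul_mem (mul_mem (inv_mem (hSM hs)) h2) (hSM hs)
        rw [← SetLike.mem_coe, sup_comm, Subgroup.coe_mul_of_right_le_normalizer_left (K ⊓ M) S hnorm]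
          at hx
        obtain ⟨n, hn, s, hs, rfl⟩ := hx
        exact ⟨n, hn, by simpa using hs⟩
    have h2 : S.relIndex (K ⊓ M) ∣ P.relIndex K := by
      refine (Subgroup.relIndex_dvd_of_le_left (K ⊓ M) hKPS).trans ?_
      rw [← Subgroup.inf_relIndex_right (K ⊓ P) (K ⊓ M), ← Subgroup.inf_relIndex_right P K,
        inf_comm P K]
      rw [show K ⊓ P ⊓ (K ⊓ M) = K ⊓ P from inf_eq_left.mpr (le_inf inf_le_left
        (inf_le_right.trans hPM))]
      refine Dvd.intro _ (Subgroup.relIndex_mul_relIndex (K ⊓ P) (K ⊓ M) K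
        (le_inf inf_le_left (inf_le_right.trans hPM)) inf_le_left)
    have h3 : (P.relIndex K).Coprime (p ^ a) := by
      refine Nat.Coprime.pow_right _ ((hp.out.coprime_iff_not_dvd.mpr fun h => hPi (h.trans ?_)).symm)
      rw [← relIndex_eq_of_product P K (K ⊔ P) le_sup_left le_sup_right fun x hx => ?_]
      · exact Subgroup.relIndex_dvd_index_of_le le_sup_right
      · obtain ⟨n, hn, s, hs, rfl⟩ := Subgroup.mem_sup_of_normal_left.mp hx
        exact ⟨n, hn, by simpa using hs⟩
    exact Nat.eq_one_of_dvd_coprimes h3 h2 h1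
  -- Frattini
  have hMK : M ⊔ K = ⊤ := by
    have hR1 : IsPGroup p ((Q : Subgroup H).subgroupOf K) := Q.isPGroup'.comap_subtype
    have hR2 : ¬ p ∣ ((Q : Subgroup H).subgroupOf K).index := fun h => Q.not_dvd_index (h.trans (by
      show (Q : Subgroup H).relIndex K ∣ _
      rw [← relIndex_eq_of_product (Q : Subgroup H) K (K ⊔ Q) le_sup_left le_sup_right fun x hx => ?_]
      · exact Subgroup.relIndex_dvd_index_of_le le_sup_right
      · obtain ⟨n, hn, s, hs, rfl⟩ := Subgroup.mem_sup_of_normal_left.mp hx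
        exact ⟨n, hn, by simpa using hs⟩))
    refine top_le_iff.mp ((Sylow.normalizer_sup_eq_top (hR1.toSylow hR2)).ge.trans
      (sup_le_sup_right ?_ K))
    rw [IsPGroup.toSylow_coe, Subgroup.subgroupOf_map_subtype]
    have e : K ⊓ P = ((Q : Subgroup H) ⊓ K) ⊔ Z := by
      refine le_antisymm (fun x hx => ?_) (sup_le (le_inf inf_le_right (inf_le_left.trans le_sup_left))
        (le_inf hZK hZP))
      obtain ⟨q, hq, z, hz, rfl⟩ := Subgroup.mem_sup_of_normal_right.mp hx.2
      have hqK : q ∈ K := by simpa using K.mul_mem hx.1 (K.inv_mem (hZK hz))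
      exact Subgroup.mul_mem _ (Subgroup.mem_sup_left ⟨hq, hqK⟩) (Subgroup.mem_sup_right hz)
    intro x hx
    have hxz : x ∈ Subgroup.normalizer (Z : Set H) := by
      rw [Subgroup.normalizer_eq_top Z]; trivial
    rw [Subgroup.mem_normalizer_iff_map_conj_eq] at hx hxz ⊢
    rw [e, Subgroup.map_sup, hx, hxz]
  refine ⟨S.map (QuotientGroup.mk' K), ?_⟩
  rw [Subgroup.index_map, QuotientGroup.ker_mk', (MonoidHom.range_eq_top).mpr
    (QuotientGroup.mk'_surjective K), Subgroup.index_top, mul_one]
  -- the index of `S K`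
  have hinf : (S ⊔ K) ⊓ M = S := by
    refine le_antisymm (fun x hx => ?_) (le_inf le_sup_left hSM)
    obtain ⟨y, hy, n, hn, rfl⟩ := Subgroup.mem_sup_of_normal_right.mp hx.1
    exact mul_mem hy (hNK ⟨hn, by simpa using mul_mem (inv_mem (hSM hy)) hx.2⟩)
  rw [← hKP, ← hSP, ← hSMi, ← Subgroup.relIndex_top_right (S ⊔ K),
    relIndex_eq_of_product (S ⊔ K) M ⊤ le_top le_top fun x _ => ?_,
    ← Subgroup.inf_relIndex_right (S ⊔ K) M, hinf]
  obtain ⟨m, hm, n, hn, rfl⟩ := Subgroup.mem_sup_of_normal_right.mp (hMK.ge (Subgroup.mem_top x))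
  exact ⟨m, hm, Subgroup.mem_sup_right (by simpa using hn)⟩

/-- A cyclic Sylow subgroup of the quotient has a complement. -/
theorem exists_index_eq_of_cyclic (hcyc : ∀ R : Sylow p (H ⧸ K), IsCyclic R) :
    ∃ S : Subgroup (H ⧸ K), S.index = p ^ K.index.factorization p := by
  refine exists_index_eq Z hχ hθ he hres K hZK fun P hZP _ _ k hk hPi φ hφ hover => ?_
  have := Fintype.ofFinite (Z.subgroupOf P)
  obtain ⟨η, hη, hg, hηZ⟩ := exists_ramified Z hχ hθ he hres P hZP hk hPi
  let eq : Z.subgroupOf P ≃* Z := Subgroup.subgroupOfEquivOfLe hZP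
  let f : P →* H ⧸ K := (QuotientGroup.mk' K).comp P.subtype
  have hker : K.subgroupOf P = f.ker := by
    ext x
    rw [MonoidHom.mem_ker, Subgroup.mem_subgroupOf]
    exact (QuotientGroup.eq_one_iff _).symm
  have hpg : IsPGroup p f.range := by
    obtain ⟨j, -, hj⟩ := (Nat.dvd_prime_pow hp.out).mp
      (hk ▸ Subgroup.relIndex_dvd_of_le_left P hZK : K.relIndex P ∣ p ^ k)
    refine IsPGroup.of_card (n := j) ?_
    rw [← Subgroup.index_ker, ← hker]
    exact hj
  obtain ⟨R, hR⟩ := hpg.exists_le_sylow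
  haveI := hcyc R
  haveI : IsCyclic f.range := isCyclic_of_injective _ (Subgroup.inclusion_injective hR)
  haveI : IsCyclic (P ⧸ K.subgroupOf P) :=
    isCyclic_of_injective ((QuotientGroup.quotientKerEquivRange f).toMonoidHom.comp
      (QuotientGroup.quotientMulEquivOfEq hker).toMonoidHom) (by
      simpa using ((QuotientGroup.quotientKerEquivRange f).injective.comp
        (QuotientGroup.quotientMulEquivOfEq hker).injective))
  refine inertia_le_of_cyclic (Z.subgroupOf P) hη
    (Char.isIrrCharacter_comp_surjective hθ eq.toMonoidHom eq.surjective) hg hηZ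
    (K.subgroupOf P) (fun z hz => hZK hz) hφ ?_
  refine ne_of_eq_of_ne ?_ hover
  rw [← classInner_comp_equiv eq (fun z : Z => φ ⟨⟨(z : H), hZP z.2⟩, hZK z.2⟩) θ]
  rfl

/-- A character induced from `K` gives all `p`-complements in the quotient. -/
theorem exists_index_eq_of_induced [Fintype K] {ψ : K → ℂ} (hψ : Cfsg.IsCharacter K ψ)
    (hind : Cfsg.indFun K ψ = χ) :
    ∃ S : Subgroup (H ⧸ K), S.index = p ^ K.index.factorization p := by
  classical
  -- the restriction to `Z`
  let iZ : Z →* K := Subgroup.inclusion hZK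
  obtain ⟨f, hf⟩ := Char.classInner_isCharacter_nat (Char.isCharacter_comp hψ iZ)
    (Char.irr_isCharacter hθ)
  have hψZ : ∀ z : Z, ψ (iZ z) = (f : ℂ) * θ z := by
    have := Fintype.ofFinite (Cfsg.IrrCharacter Z)
    have := Fintype.ofFinite (Cfsg.IrrCharacter K)
    intro z
    have hz : (ψ ∘ iZ) z = _ := Char.classFunction_apply_eq_sum
      (Char.isCharacter_isClassFunction (Char.isCharacter_comp hψ iZ)) z
    rw [Finset.sum_eq_single ⟨θ, hθ⟩ (fun ν _ hne => ?_) (by simp), hf] at hz
    · exact hz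
    · -- other constituents do not occur in the restriction of `χ`
      have hν0 : Cfsg.classInner (fun z : Z => χ z) (ν : Z → ℂ) = 0 := by
        rw [show (fun z : Z => χ z) = (e : ℂ) • θ from funext hres, Char.classInner_smul_left,
          Char.irr_classInner_ne hθ ν.2 fun h => hne (Subtype.ext h.symm), mul_zero]
      suffices h0 : Cfsg.classInner (ψ ∘ iZ) (ν : Z → ℂ) = 0 by rw [h0, zero_mul]
      by_contra h0
      obtain ⟨ξ, hξ, hξψ, hξν⟩ := exists_constituent_over (H := Z.subgroupOf K) (F := ψ)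
        (θ := (ν : Z → ℂ) ∘ Subgroup.subgroupOfEquivOfLe hZK) hψ (by
          refine ne_of_eq_of_ne ?_ h0
          rw [← classInner_comp_equiv (Subgroup.subgroupOfEquivOfLe hZK) (ψ ∘ iZ) (ν : Z → ℂ)]
          rfl)
      have hmult : Cfsg.classInner (fun x : K => χ x) ξ ≠ 0 := by
        intro h
        have h1 : Cfsg.classInner (fun x : K => χ x) ψ = 1 := by
          rw [← Char.classInner_conj_symm, ← Char.frobenius_reciprocity K ψ χ
            (Char.irr_isClassFunction hχ), hind, Char.irr_classInner_self hχ, map_one]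
        obtain ⟨R, hR, hRe⟩ := exists_add_of_constituent hψ hξ hξψ
        obtain ⟨a, ha⟩ := Char.classInner_isCharacter_nat
          (Char.isCharacter_restrict (Char.irr_isCharacter hχ) K) hR
        -- every constituent of `ψ` is a constituent of the restriction of `χ`
        have hFK : Cfsg.IsCharacter K (fun x : K => Cfsg.indFun K ξ x) :=
          Char.isCharacter_restrict (Char.isCharacter_indFun K (Char.irr_isCharacter hξ)) K
        have hne : Cfsg.classInner (Cfsg.indFun K ξ) χ ≠ 0 := by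
          intro h2
          have h3 : Cfsg.indFun K ψ = Cfsg.indFun K ξ + Cfsg.indFun K R := by
            rw [hRe, Char.indFun_add]
          obtain ⟨c, hc⟩ := Char.classInner_isCharacter_nat
            (Char.isCharacter_indFun K (Char.irr_isCharacter hξ))
            (Char.isCharacter_indFun K (Char.irr_isCharacter hξ))
          have h4 : Cfsg.classInner (Cfsg.indFun K ξ) (Cfsg.indFun K ξ) = 0 := by
            have h5 : Cfsg.classInner (Cfsg.indFun K ξ) (Cfsg.indFun K ξ) +
                Cfsg.classInner (Cfsg.indFun K ξ) (Cfsg.indFun K R) = 0 := by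
              rw [← Char.classInner_add_right, ← h3, hind, h2]
            obtain ⟨c', hc'⟩ := Char.classInner_isCharacter_nat
              (Char.isCharacter_indFun K (Char.irr_isCharacter hξ))
              (Char.isCharacter_indFun K hR)
            rw [hc, hc'] at h5
            have : c + c' = 0 := by exact_mod_cast h5
            rw [hc, show c = 0 by omega, Nat.cast_zero]
          have h6 := congr_fun (Char.classInner_self_eq_zero h4) 1
          rw [Char.indFun_apply_one, Pi.zero_apply, mul_eq_zero] at h6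
          exact h6.elim (by exact_mod_cast Subgroup.index_ne_zero_of_finite)
            (Char.irr_apply_one_ne_zero hξ)
        refine hne ?_
        rw [Char.frobenius_reciprocity K ξ χ (Char.irr_isClassFunction hχ),
          ← Char.classInner_conj_symm, h, map_zero]
      obtain ⟨R, hR, hRe⟩ := exists_add_of_constituent
        (Char.isCharacter_restrict (Char.irr_isCharacter hχ) K) hξ hmult
      obtain ⟨a, ha⟩ := Char.classInner_isCharacter_nat
        (Char.isCharacter_comp (Char.irr_isCharacter hξ) iZ) (Char.irr_isCharacter ν.2)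
      obtain ⟨b, hb⟩ := Char.classInner_isCharacter_nat
        (Char.isCharacter_comp hR iZ) (Char.irr_isCharacter ν.2)
      rw [show (fun z : Z => χ z) = (ξ ∘ iZ) + (R ∘ iZ) from
        funext fun z => congr_fun hRe (iZ z), Char.classInner_add_left, ha, hb] at hν0
      have : a + b = 0 := by exact_mod_cast hν0
      refine hξν ?_
      rw [show (fun x : Z.subgroupOf K => ξ x) = (ξ ∘ iZ) ∘ Subgroup.subgroupOfEquivOfLe hZK
        from rfl, classInner_comp_equiv, ha, show a = 0 by omega, Nat.cast_zero]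
  have hθ0 := Char.irr_apply_one_ne_zero hθ
  have hψ1 : ψ 1 = (f : ℂ) * θ 1 := by simpa [iZ] using hψZ 1
  have hef : e = K.index * f := by
    rw [← Nat.cast_inj (R := ℂ)]
    refine mul_right_cancel₀ hθ0 ?_
    push_cast
    rw [← hres 1, mul_assoc, ← hψ1, OneMemClass.coe_one, ← hind, Char.indFun_apply_one]
  have hf0 : f ≠ 0 := fun h => by
    rw [hef, h, mul_zero] at he; exact (Subgroup.index_ne_zero_of_finite (H := Z)) he.symm
  refine exists_index_eq Z hχ hθ he hres K hZK fun P hZP _ _ k hk hPi φ hφ hover => ?_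
  have := Fintype.ofFinite (Z.subgroupOf P)
  obtain ⟨η, hη, hg, hηZ⟩ := exists_ramified Z hχ hθ he hres P hZP hk hPi
  let eq : Z.subgroupOf P ≃* Z := Subgroup.subgroupOfEquivOfLe hZP
  have hθ' : Cfsg.IsIrrCharacter (Z.subgroupOf P) (θ ∘ eq) :=
    Char.isIrrCharacter_comp_surjective hθ eq.toMonoidHom eq.surjective
  have hZN : Z.subgroupOf P ≤ (K.subgroupOf P) := fun z hz => hZK hz
  have hov : ∀ g : (K.subgroupOf P) → ℂ,
      Cfsg.classInner (fun z : Z.subgroupOf P => g (Subgroup.inclusion hZN z)) (θ ∘ eq) =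
        Cfsg.classInner (fun z : Z => g ⟨⟨(z : H), hZP z.2⟩, hZK z.2⟩) θ := fun g => by
    rw [← classInner_comp_equiv eq (fun z : Z => g ⟨⟨(z : H), hZP z.2⟩, hZK z.2⟩) θ]
    rfl
  have hover' := (hov φ).trans_ne hover
  obtain ⟨d, -, hsq, hdeg⟩ := sq_eq (Z.subgroupOf P) hη hθ' hg hηZ (K.subgroupOf P) hZN hφ hover'
  -- the degree of `φ` in terms of `θ`
  let Z'' := (Z.subgroupOf P).subgroupOf (K.subgroupOf P)
  let e'' : Z'' ≃* Z.subgroupOf P := Subgroup.subgroupOfEquivOfLe hZN
  have := Fintype.ofFinite Z''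
  obtain ⟨b, hb, hbdvd⟩ := degree_quot_dvd_index (N := Z'') hφ
    (Char.isIrrCharacter_comp_surjective hθ' e''.toMonoidHom e''.surjective) (by
      refine ne_of_eq_of_ne ?_ hover'
      rw [← classInner_comp_equiv e'' (fun z : Z.subgroupOf P => φ (Subgroup.inclusion hZN z))]
      rfl)
  have hb1 : φ 1 = (b : ℂ) * θ 1 := by simpa [eq, e''] using hb
  have hbp : b ∣ p ^ k := hbdvd.trans (hk ▸ Subgroup.relIndex_dvd_index_of_le hZN)
  -- the restriction of `ψ` is made of conjugates of `φ`
  have hbf : b ∣ f := by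
    let iN : (K.subgroupOf P) →* K :=
      { toFun := fun n => ⟨((n : P) : H), n.2⟩
        map_one' := rfl
        map_mul' := fun _ _ => rfl }
    have hψN := Char.isCharacter_comp hψ iN
    have := Fintype.ofFinite (Cfsg.IrrCharacter (K.subgroupOf P))
    choose m hm using fun ξ : Cfsg.IrrCharacter (K.subgroupOf P) =>
      Char.classInner_isCharacter_nat hψN (Char.irr_isCharacter ξ.2)
    have hsame : ∀ ξ : Cfsg.IrrCharacter (K.subgroupOf P), m ξ ≠ 0 → (ξ : (K.subgroupOf P) → ℂ) 1 = φ 1 := by
      intro ξ hξ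
      obtain ⟨R, hR, hRe⟩ := exists_add_of_constituent hψN ξ.2 (by rw [hm]; exact_mod_cast hξ)
      have hξov : Cfsg.classInner
          (fun z : Z => (ξ : (K.subgroupOf P) → ℂ) ⟨⟨(z : H), hZP z.2⟩, hZK z.2⟩) θ ≠ 0 := by
        intro h0
        let ι : Z →* (K.subgroupOf P) :=
          { toFun := fun z => ⟨⟨(z : H), hZP z.2⟩, hZK z.2⟩
            map_one' := rfl
            map_mul' := fun _ _ => rfl }
        obtain ⟨ν, hν, hν0⟩ := exists_irr_constituent
          (Char.isCharacter_comp (Char.irr_isCharacter ξ.2) ι) fun h =>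
            Char.irr_apply_one_ne_zero ξ.2 (by have h1 := congr_fun h 1; rwa [Function.comp_apply, map_one] at h1)
        have hνθ : θ ≠ ν := fun h => hν0 (h ▸ h0)
        obtain ⟨a, ha⟩ := Char.classInner_isCharacter_nat
          (Char.isCharacter_comp (Char.irr_isCharacter ξ.2) ι) (Char.irr_isCharacter hν)
        obtain ⟨a', ha'⟩ := Char.classInner_isCharacter_nat
          (Char.isCharacter_comp hR ι) (Char.irr_isCharacter hν)
        have h1 : (f : ℂ) • θ = ((ξ : (K.subgroupOf P) → ℂ) ∘ ι) + (R ∘ ι) :=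
          funext fun z => (hψZ z).symm.trans (congr_fun hRe (ι z))
        have h2 := congrArg (fun g => Cfsg.classInner g ν) h1
        beta_reduce at h2
        rw [Char.classInner_smul_left, Char.irr_classInner_ne hθ hν hνθ, mul_zero,
          Char.classInner_add_left, ha, ha'] at h2
        have : a + a' = 0 := by exact_mod_cast h2.symm
        exact hν0 (by rw [ha, show a = 0 by omega, Nat.cast_zero])
      obtain ⟨x, hx⟩ := transitive (Z.subgroupOf P) hη hθ' hg hηZ (K.subgroupOf P) hZN hφ hover' ξ.2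
        ((hov _).trans_ne hξov)
      rw [← hx, conjFn_apply]
      congr 1
      exact Subtype.ext (by simp)
    have h1 := Char.classFunction_apply_eq_sum (Char.isCharacter_isClassFunction hψN) (1 : (K.subgroupOf P))
    simp only [hm] at h1
    rw [Finset.sum_congr rfl fun ξ _ => show (m ξ : ℂ) * (ξ : (K.subgroupOf P) → ℂ) 1 =
      (m ξ : ℂ) * ((b : ℂ) * θ 1) by
        by_cases h0 : m ξ = 0
        · simp [h0]
        · rw [hsame ξ h0, hb1], ← Finset.sum_mul, Function.comp_apply, map_one, hψ1, ← mul_assoc]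
      at h1
    exact ⟨∑ ξ, m ξ, by
      have := mul_right_cancel₀ hθ0 h1
      rw [← Nat.cast_inj (R := ℂ)]
      push_cast
      linear_combination this⟩
  -- the multiplicity is one
  have hη1 : η 1 = ((p ^ e.factorization p : ℕ) : ℂ) * θ 1 := by simpa [eq] using hηZ 1
  rw [hb1, hη1, ← mul_assoc, ← mul_assoc] at hdeg
  have hnat : (K.subgroupOf P).index * b = d * p ^ e.factorization p := by
    exact_mod_cast mul_right_cancel₀ hθ0 hdeg
  rw [show (K.subgroupOf P).index = p ^ K.index.factorization p from relIndex_eq_ordProj Z K hZK P hk hPi, hef,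
    Nat.factorization_mul Subgroup.index_ne_zero_of_finite hf0, Finsupp.add_apply, pow_add] at hnat
  obtain ⟨j, -, rfl⟩ := (Nat.dvd_prime_pow hp.out).mp hbp
  have hj : j ≤ f.factorization p := (hp.out.pow_dvd_iff_le_factorization hf0).mp hbf
  have hd : d = 1 := by
    have h1 : d * p ^ f.factorization p = p ^ j := by
      refine Nat.eq_of_mul_eq_mul_left (pow_pos hp.out.pos (K.index.factorization p)) ?_
      linear_combination -hnat
    have h2 : p ^ j ≤ p ^ f.factorization p := Nat.pow_le_pow_right hp.out.pos hj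
    rcases Nat.lt_trichotomy d 1 with h | h | h
    · exfalso
      have : d = 0 := by omega
      rw [this, zero_mul] at h1
      exact (pow_ne_zero _ hp.out.ne_zero) h1.symm
    · exact h
    · exfalso
      have : 0 < p ^ f.factorization p := pow_pos hp.out.pos _
      nlinarith
  rw [hd, one_pow, one_mul] at hsq
  exact (Subgroup.eq_of_le_of_card_ge (le_inertia (Char.irr_isClassFunction hφ)) hsq.ge).ge

end Complement

end CfsgLib.Clifford.RamifiedSylow
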