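import Cfsg.Agent.Lib.Clifford.TwoDegrees
import Cfsg.Agent.Lib.Clifford.Correspondence
import Cfsg.Agent.Lib.Clifford.Extension
import Cfsg.Agent.Lib.Char.Constituent

/-!
# The structure of groups with two character degrees
-/

set_option autoImplicit false

namespace CfsgLib.Clifford.TwoDegrees

open CfsgLib
open scoped commutatorElement

universe u

variable {G : Type u} [Group G] [Finite G]

/-- The degree of an irreducible character is at most the index of an abelian subgroup. -/
theorem degree_le_index (χ : Cfsg.IrrCharacter G) (A : Subgroup G)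
    (hA : ∀ a ∈ A, ∀ b ∈ A, a * b = b * a) : Cfsg.charDegree (χ : G → ℂ) ≤ A.index := by
  have := Fintype.ofFinite G
  obtain ⟨n, ρ, hρ, hρc⟩ := χ.2
  have e : (Cfsg.charDegree (χ : G → ℂ) : ℂ) = (Module.finrank ℂ (Fin n → ℂ) : ℂ) := by
    rw [BlockB.charDegree_cast (Char.irr_isCharacter χ.2), ← hρc, Representation.char_one]
  rw [show Cfsg.charDegree (χ : G → ℂ) = Module.finrank ℂ (Fin n → ℂ) by exact_mod_cast e]
  exact Char.finrank_le_index ρ A hA

/-- Degrees `1` and `m` and an abelian subgroup of index less than `m`. -/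
theorem comm_of_small {m : ℕ}
    (hcd : ∀ χ : Cfsg.IrrCharacter G, Cfsg.charDegree (χ : G → ℂ) = 1 ∨ Cfsg.charDegree (χ : G → ℂ) = m)
    (A : Subgroup G) (hA : ∀ a ∈ A, ∀ b ∈ A, a * b = b * a) (h : A.index < m) :
    ∀ a b : G, a * b = b * a :=
  Char.comm_iff_forall_degree_one.mpr fun χ => by
    have := degree_le_index χ A hA
    rw [← BlockB.charDegree_cast (Char.irr_isCharacter χ.2),
      (hcd χ).resolve_right (by omega), Nat.cast_one]

variable {m : ℕ}
  (hcd : ∀ χ : Cfsg.IrrCharacter G, Cfsg.charDegree (χ : G → ℂ) = 1 ∨ Cfsg.charDegree (χ : G → ℂ) = m)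

include hcd

/-- The normal Hall subgroup of order prime to `m`. -/
theorem exists_core (hm0 : m ≠ 0) : ∃ K : Subgroup G, K.Normal ∧ (Nat.card K).Coprime m ∧
    (∀ q : ℕ, q.Prime → q ∣ K.index → q ∣ m) ∧ (∀ (_ : K.Normal), Group.IsNilpotent (G ⧸ K)) ∧
    ((∀ p e : ℕ, p.Prime → m ≠ p ^ e) → commutator G ≤ K) := by
  suffices ∀ s : Finset ℕ, (∀ p ∈ s, p.Prime ∧ p ∣ m) → ∃ K : Subgroup G, K.Normal ∧
      (∀ p ∈ s, (Nat.card K).Coprime p) ∧ (∀ q : ℕ, q.Prime → q ∣ K.index → q ∣ m) ∧
      (∀ (_ : K.Normal), Group.IsNilpotent (G ⧸ K)) ∧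
      ((∀ p e : ℕ, p.Prime → m ≠ p ^ e) → commutator G ≤ K) by
    obtain ⟨K, h1, h2, h3⟩ := this m.primeFactors fun p hp =>
      ⟨Nat.prime_of_mem_primeFactors hp, Nat.dvd_of_mem_primeFactors hp⟩
    refine ⟨K, h1, Nat.coprime_of_dvd fun q hq hqK hqm => ?_, h3⟩
    exact (hq.coprime_iff_not_dvd.1 (h2 q (hq.mem_primeFactors hqm hm0)).symm) hqK
  intro s
  induction s using Finset.induction with
  | empty =>
    exact fun _ => ⟨⊤, inferInstance, by simp, fun q hq h => absurd (by simpa using h) hq.ne_one,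
      fun _ => @Group.isNilpotent_of_subsingleton _ _ QuotientGroup.subsingleton_quotient_top,
      fun _ => le_top⟩
  | insert p s hps ih =>
    intro hs
    obtain ⟨hp, hpm⟩ := hs p (Finset.mem_insert_self p s)
    obtain ⟨K, hK, hKc, hKi, hKn, hK'⟩ := ih fun q hq => hs q (Finset.mem_insert_of_mem hq)
    obtain ⟨N, hN, hNp, k, hk⟩ := Cfsg.Agent.S4456.result p hp
      (fun χ hχ => ((hcd χ).resolve_left hχ).symm ▸ hpm)
    have := Fact.mk hp
    refine ⟨K ⊓ N, inferInstance, fun q hq => ?_, fun q hq h => ?_, fun _ => ?_, fun hpp => ?_⟩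
    · rcases Finset.mem_insert.1 hq with rfl | hq
      · exact hNp.coprime_dvd_left (Subgroup.card_dvd_of_le inf_le_right)
      · exact (hKc q hq).coprime_dvd_left (Subgroup.card_dvd_of_le inf_le_left)
    · rw [← Subgroup.relIndex_mul_index (inf_le_left : K ⊓ N ≤ K), Subgroup.inf_relIndex_left] at h
      rcases hq.dvd_mul.1 h with h | h
      · have h1 := h.trans (Subgroup.relIndex_dvd_index_of_normal N K)
        rw [hk] at h1
        exact ((Nat.prime_dvd_prime_iff_eq hq hp).1 (hq.dvd_of_dvd_pow h1)) ▸ hpm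
      · exact hKi q hq h
    · have := hKn hK
      have : Group.IsNilpotent (G ⧸ N) :=
        IsPGroup.isNilpotent (IsPGroup.of_card (p := p) (n := k) (by
          rw [← hk, Subgroup.index_eq_card]))
      let f : G ⧸ (K ⊓ N) →* (G ⧸ K) × (G ⧸ N) := QuotientGroup.lift (K ⊓ N)
        ((QuotientGroup.mk' K).prod (QuotientGroup.mk' N)) (fun x hx => by
          simp only [MonoidHom.mem_ker, MonoidHom.prod_apply, QuotientGroup.mk'_apply,
            Prod.mk_eq_one, QuotientGroup.eq_one_iff]
          exact hx)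
      suffices hf : Function.Injective f from
        Group.nilpotent_of_mulEquiv (MonoidHom.ofInjective hf).symm
      rw [← MonoidHom.ker_eq_bot_iff, Subgroup.eq_bot_iff_forall]
      intro x hx
      obtain ⟨g, rfl⟩ := QuotientGroup.mk_surjective x
      rw [QuotientGroup.eq_one_iff]
      simpa [f] using hx
    · exact le_inf (hK' hpp) (commutator_le_of_prime_index hcd hp (fun e => hpp p e hp) N hk)

omit hcd

section Action

variable {K : Subgroup G} [K.Normal]

/-- The conjugate of a linear character of a normal subgroup. -/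
noncomputable def actHom (g : G) (l : K →* ℂˣ) : K →* ℂˣ where
  toFun n := l (conjN g n)
  map_one' := by rw [show conjN g (1 : K) = 1 from Subtype.ext (by simp), map_one]
  map_mul' a b := by
    rw [← map_mul]
    exact congrArg l (Subtype.ext (by simp [mul_assoc]))

theorem actHom_apply (g : G) (l : K →* ℂˣ) (n : K) : actHom g l n = l (conjN g n) := rfl

theorem actHom_actHom (g h : G) (l : K →* ℂˣ) : actHom g (actHom h l) = actHom (h * g) l :=
  MonoidHom.ext fun n => by simp only [actHom_apply, conjN_mul]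

theorem actHom_mul (g : G) (l l' : K →* ℂˣ) : actHom g (l * l') = actHom g l * actHom g l' :=
  MonoidHom.ext fun _ => rfl

theorem actHom_div (g : G) (l l' : K →* ℂˣ) : actHom g (l / l') = actHom g l / actHom g l' :=
  MonoidHom.ext fun _ => rfl

theorem actHom_of_mem_centralizer {g : G} (hg : g ∈ Subgroup.centralizer (K : Set G))
    (l : K →* ℂˣ) : actHom g l = l :=
  MonoidHom.ext fun n => congrArg l (Subtype.ext (by
    simp [← Subgroup.mem_centralizer_iff.1 hg n n.2]))

theorem mem_inertia_hom {l : K →* ℂˣ} {g : G} :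
    g ∈ inertia (fun n : K => (l n : ℂ)) ↔ actHom g l = l := by
  rw [mem_inertia]
  exact ⟨fun h => MonoidHom.ext fun n => Units.ext (h n),
    fun h n => congrArg Units.val (DFunLike.congr_fun h n)⟩

theorem exists_not_mem_inertia (hKab : ∀ a ∈ K, ∀ b ∈ K, a * b = b * a) {g : G}
    (hg : g ∉ Subgroup.centralizer (K : Set G)) :
    ∃ l : K →* ℂˣ, g ∉ inertia (fun n : K => (l n : ℂ)) := by
  rw [Subgroup.mem_centralizer_iff] at hg
  push Not at hg
  obtain ⟨c, hc, hne⟩ := hg
  have hx : conjN g (⟨c, hc⟩ : K) * (⟨c, hc⟩ : K)⁻¹ ≠ 1 := fun h => hne (by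
    have h1 := congrArg Subtype.val (mul_inv_eq_one.1 h)
    simp only [coe_conjN] at h1
    calc c * g = (g * c * g⁻¹) * g := by rw [h1]
      _ = g * c := by group)
  obtain ⟨l, hl⟩ := Char.exists_linear_ne_one (G := K)
    (fun a b => Subtype.ext (hKab a a.2 b b.2)) hx
  refine ⟨l, fun h => hl ?_⟩
  have h1 := DFunLike.congr_fun (mem_inertia_hom.1 h) ⟨c, hc⟩
  rw [actHom_apply] at h1
  rw [map_mul, map_inv, h1, mul_inv_cancel]

/-- An element of coprime order fixing `μ^t/μ` fixes `μ`. -/
theorem eq_of_diff_fixed (hco : (Nat.card K).Coprime K.index)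
    (hKab : ∀ a ∈ K, ∀ b ∈ K, a * b = b * a) {t : G} {μ : K →* ℂˣ}
    (h : actHom t (actHom t μ / μ) = actHom t μ / μ) : actHom t μ = μ := by
  set ν := actHom t μ / μ with hν
  have e : ∀ n : K, ν (conjN t n) = ν n := fun n => DFunLike.congr_fun h n
  have e1 : ∀ n : K, μ (conjN t n) = μ n * ν n := fun n => by
    rw [hν, MonoidHom.div_apply, actHom_apply, mul_div_cancel]
  have hi : ∀ (i : ℕ) (n : K), μ (conjN (t ^ i) n) = μ n * ν n ^ i := by
    intro i
    induction i with
    | zero => intro n; rw [pow_zero, pow_zero, mul_one, conjN_one]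
    | succ i ih =>
      intro n
      rw [pow_succ, conjN_mul, ih, e, e1, pow_succ, mul_assoc, mul_comm (ν n) (ν n ^ i)]
  have hC : t ^ K.index ∈ Subgroup.centralizer (K : Set G) :=
    Subgroup.mem_centralizer_iff.2 fun a ha => hKab a ha _ (K.pow_index_mem t)
  refine MonoidHom.ext fun n => ?_
  have h1 : ν n ^ K.index = 1 := by
    have := hi K.index n
    rw [← actHom_apply, actHom_of_mem_centralizer hC] at this
    exact mul_eq_left.1 this.symm
  have h2 : ν n ^ Nat.card K = 1 := by rw [← map_pow, pow_card_eq_one', map_one]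
  have h3 : ν n = 1 := by
    rw [← orderOf_eq_one_iff, ← Nat.dvd_one, ← hco.gcd_eq_one]
    exact Nat.dvd_gcd (orderOf_dvd_of_pow_eq_one h2) (orderOf_dvd_of_pow_eq_one h1)
  rw [actHom_apply, e1, h3, mul_one]

end Action

include hcd

/-- The inertia group of a moved linear character of the core. -/
theorem inertia_facts {K : Subgroup G} [K.Normal] (hco : (Nat.card K).Coprime K.index)
    (l : K →* ℂˣ) (hl : inertia (fun n : K => (l n : ℂ)) ≠ ⊤) :
    (inertia (fun n : K => (l n : ℂ))).index = m ∧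
      ∀ a ∈ inertia (fun n : K => (l n : ℂ)), ∀ b ∈ inertia (fun n : K => (l n : ℂ)),
        ⁅a, b⁆ ∈ K := by
  have := Fintype.ofFinite G
  have := Fintype.ofFinite K
  set T := inertia (fun n : K => (l n : ℂ)) with hTdef
  have := Fintype.ofFinite T
  have hθ := Char.isIrrCharacter_linear l
  have hKT : K ≤ T := le_inertia (Char.irr_isClassFunction hθ)
  let e₀ : K.subgroupOf T ≃* K := Subgroup.subgroupOfEquivOfLe hKT
  have hidx : (K.subgroupOf T).index ∣ K.index :=
    Dvd.intro _ (Subgroup.relIndex_mul_index hKT)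
  obtain ⟨μ, hμ, -, -⟩ := exists_linear_extension (N := K.subgroupOf T) (l.comp e₀.toMonoidHom)
    (fun t n => Units.ext (congr_fun (congr_arg (fun f : K → ℂ => f)
      ((mem_inertia_iff_conjFn (θ := fun n : K => (l n : ℂ))).1 t.2)) (e₀ n)))
    ((hco.coprime_dvd_right hidx).symm.coprime_dvd_right
      ((orderOf_dvd_natCard _).trans (Nat.card_congr e₀.toEquiv).dvd))
  have hT : ∀ g, g ∈ T ↔ conjFn g (fun n : K => (l n : ℂ)) = fun n : K => (l n : ℂ) :=
    fun g => mem_inertia_iff_conjFn
  have hi1 : T.index ≠ 1 := fun h => hl (Subgroup.index_eq_one.1 h)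
  have key : ∀ ψ : Cfsg.IrrCharacter (↥T ⧸ K.subgroupOf T),
      T.index * Cfsg.charDegree (ψ : ↥T ⧸ K.subgroupOf T → ℂ) = m := by
    intro ψ
    have hφ : Cfsg.IsIrrCharacter T
        (fun t => (μ t : ℂ) * (ψ : ↥T ⧸ K.subgroupOf T → ℂ) (t : ↥T ⧸ K.subgroupOf T)) :=
      Char.isIrrCharacter_mul_linear (Char.isIrrCharacter_comp_surjective ψ.2
        (QuotientGroup.mk' _) (QuotientGroup.mk'_surjective _)) μ
    have hres : (fun n : K => (μ ⟨(n : G), hKT n.2⟩ : ℂ) *
        (ψ : ↥T ⧸ K.subgroupOf T → ℂ) ((⟨(n : G), hKT n.2⟩ : T) : ↥T ⧸ K.subgroupOf T)) =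
        (ψ : ↥T ⧸ K.subgroupOf T → ℂ) 1 • fun n : K => (l n : ℂ) := by
      funext n
      rw [(QuotientGroup.eq_one_iff _).2
        (Subgroup.mem_subgroupOf.2 n.2 : (⟨(n : G), hKT n.2⟩ : T) ∈ K.subgroupOf T),
        hμ ⟨⟨(n : G), hKT n.2⟩, Subgroup.mem_subgroupOf.2 n.2⟩, Pi.smul_apply, smul_eq_mul,
        mul_comm]
      rfl
    have hind := (indFun_inertia T hKT hθ hT hφ (by
      rw [hres, Char.classInner_smul_left, Char.irr_classInner_self hθ, mul_one]
      exact Char.irr_apply_one_ne_zero ψ.2)).1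
    have hdeg : Cfsg.charDegree (Cfsg.indFun T fun t => (μ t : ℂ) *
        (ψ : ↥T ⧸ K.subgroupOf T → ℂ) (t : ↥T ⧸ K.subgroupOf T)) =
        T.index * Cfsg.charDegree (ψ : ↥T ⧸ K.subgroupOf T → ℂ) := by
      rw [← Nat.cast_inj (R := ℂ), Nat.cast_mul, BlockB.charDegree_cast (Char.irr_isCharacter hind),
        BlockB.charDegree_cast (Char.irr_isCharacter ψ.2), Char.indFun_apply_one, map_one,
        Units.val_one, one_mul, QuotientGroup.mk_one]
    rcases hcd ⟨_, hind⟩ with h | h
    · exact absurd (Nat.eq_one_of_mul_eq_one_right (hdeg.symm.trans h)) hi1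
    · exact hdeg.symm.trans h
  have hm' : T.index = m := by
    have h := key ⟨fun _ => 1, Char.isIrrCharacter_one⟩
    have h1 : Cfsg.charDegree (fun _ : ↥T ⧸ K.subgroupOf T => (1 : ℂ)) = 1 := by
      rw [← Nat.cast_inj (R := ℂ), BlockB.charDegree_cast
        (Char.irr_isCharacter Char.isIrrCharacter_one), Nat.cast_one]
    rwa [h1, mul_one] at h
  refine ⟨hm', fun a ha b hb => ?_⟩
  have hab := (Char.comm_iff_forall_degree_one (G := ↥T ⧸ K.subgroupOf T)).mpr (fun ψ => by
    have h := key ψ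
    rw [hm'] at h
    rw [← BlockB.charDegree_cast (Char.irr_isCharacter ψ.2),
      (mul_eq_left₀ (hm' ▸ Subgroup.index_ne_zero_of_finite)).1 h, Nat.cast_one])
    ((⟨a, ha⟩ : T) : ↥T ⧸ K.subgroupOf T) ((⟨b, hb⟩ : T) : ↥T ⧸ K.subgroupOf T)
  rw [← QuotientGroup.mk_mul, ← QuotientGroup.mk_mul, eq_comm, QuotientGroup.eq,
    Subgroup.mem_subgroupOf] at hab
  have hab' := (inferInstance : K.Normal).conj_mem _ hab (b * a)
  convert hab' using 1
  simp only [Subgroup.coe_mul, InvMemClass.coe_inv, commutatorElement_def]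
  group

omit hcd

/-- Commutators lying centrally in a Hall subgroup are trivial. -/
theorem commute_of_central_commutator {K : Subgroup G} [K.Normal]
    (hco : (Nat.card K).Coprime K.index) {a b : G} (hc : ⁅a, b⁆ ∈ K)
    (ha : ∀ n ∈ K, n * a = a * n) (hb : ∀ n ∈ K, n * b = b * n) : a * b = b * a := by
  set c := ⁅a, b⁆ with hcdef
  have hi : ∀ i : ℕ, a ^ i * b * (a ^ i)⁻¹ = c ^ i * b := by
    intro i
    induction i with
    | zero => simp
    | succ i ih =>
      rw [pow_succ', mul_inv_rev, show a * a ^ i * b * ((a ^ i)⁻¹ * a⁻¹) =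
        a * (a ^ i * b * (a ^ i)⁻¹) * a⁻¹ by group, ih, ← mul_assoc, ← ha _ (pow_mem hc i),
        pow_succ, hcdef, commutatorElement_def]
      group
  have h1 : c ^ K.index = 1 := by
    have h := hi K.index
    rwa [hb _ (K.pow_index_mem a), mul_inv_cancel_right, eq_comm, mul_eq_right] at h
  have h2 : c ^ Nat.card K = 1 := by
    have := congrArg Subtype.val (pow_card_eq_one' (x := (⟨c, hc⟩ : K)))
    simpa only [Subgroup.coe_pow, Subgroup.coe_one] using this
  have h3 : c = 1 := by
    rw [← orderOf_eq_one_iff, ← Nat.dvd_one, ← hco.gcd_eq_one]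
    exact Nat.dvd_gcd (orderOf_dvd_of_pow_eq_one h2) (orderOf_dvd_of_pow_eq_one h1)
  exact commutatorElement_eq_one_iff_mul_comm.1 h3

include hcd

/-- **Two degrees**: an abelian normal subgroup of index `m`, or a prime power `m` and a direct
product of a `p`-group and an abelian group. -/
theorem structure_two_degrees (hm : ∃ χ : Cfsg.IrrCharacter G, Cfsg.charDegree (χ : G → ℂ) = m)
    (hm1 : m ≠ 1) :
    (∃ A : Subgroup G, A.Normal ∧ (∀ a ∈ A, ∀ b ∈ A, a * b = b * a) ∧ A.index = m) ∨
      ∃ p e : ℕ, p.Prime ∧ m = p ^ e ∧ ∃ P A : Subgroup G, P.Normal ∧ A.Normal ∧ IsPGroup p P ∧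
        (∀ a ∈ A, ∀ b ∈ A, a * b = b * a) ∧ P ⊓ A = ⊥ ∧ P ⊔ A = ⊤ := by
  classical
  have hm0 : m ≠ 0 := by
    obtain ⟨χ, hχ⟩ := hm
    intro h0
    apply Char.irr_apply_one_ne_zero χ.2
    rw [← BlockB.charDegree_cast (Char.irr_isCharacter χ.2), hχ, h0, Nat.cast_zero]
  obtain ⟨K, hKn, hKm, hKi, hKnil, hK'⟩ := exists_core hcd hm0
  have := hKn
  have := hKnil hKn
  have hco : (Nat.card K).Coprime K.index := Nat.coprime_of_dvd fun q hq h1 h2 =>
    hq.not_dvd_one (hKm.gcd_eq_one ▸ Nat.dvd_gcd h1 (hKi q hq h2))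
  have hKab := comm_of_coprime hcd K hKm
  set C := Subgroup.centralizer (K : Set G) with hC
  have hKC : K ≤ C := fun x hx => Subgroup.mem_centralizer_iff.2 fun a ha => hKab a ha x hx
  by_cases hmoved : C = ⊤
  · right
    have hcen : ∀ g : G, ∀ n ∈ K, n * g = g * n := fun g n hn =>
      Subgroup.mem_centralizer_iff.1 (hmoved ▸ Subgroup.mem_top g : g ∈ C) n hn
    by_cases hpp : ∃ p e : ℕ, p.Prime ∧ m = p ^ e
    · obtain ⟨p, e, hp, he⟩ := hpp
      have := Fact.mk hp
      obtain ⟨P⟩ : Nonempty (Sylow p G) := inferInstance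
      have hKp : ¬ p ∣ Nat.card K := fun h => hp.not_dvd_one (hKm.gcd_eq_one ▸
        Nat.dvd_gcd h (he ▸ dvd_pow_self p (fun h0 => hm1 (by rw [he, h0, pow_zero]))))
      have hKpow : ∃ k, K.index = p ^ k := by
        refine ⟨_, Nat.eq_prime_pow_of_unique_prime_dvd Subgroup.index_ne_zero_of_finite
          fun {q} hq h => ?_⟩
        have := hKi q hq h
        rw [he] at this
        exact (Nat.prime_dvd_prime_iff_eq hq hp).1 (hq.dvd_of_dvd_pow this)
      obtain ⟨k, hk⟩ := hKpow
      have hPc : Nat.card (P : Subgroup G) = p ^ k := by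
        rw [P.card_eq_multiplicity, ← K.card_mul_index, hk,
          Nat.factorization_mul Nat.card_pos.ne' (pow_ne_zero _ hp.ne_zero), Finsupp.add_apply,
          Nat.factorization_eq_zero_of_not_dvd hKp, zero_add, hp.factorization_pow,
          Finsupp.single_eq_same]
      have hcoP : (Nat.card K).Coprime (Nat.card (P : Subgroup G)) := by
        rw [hPc]; exact ((hp.coprime_iff_not_dvd.2 hKp).symm).pow_right k
      have hcompl : Subgroup.IsComplement' K (P : Subgroup G) :=
        Subgroup.isComplement'_of_coprime (by rw [hPc, ← hk, K.card_mul_index]) hcoP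
      have hPn : (P : Subgroup G).Normal := by
        refine ⟨fun y hy g => ?_⟩
        obtain ⟨⟨c, s⟩, hcs⟩ := hcompl.2 g
        have hcs' : (c : G) * s = g := hcs
        subst hcs'
        have hm' : (s : G) * y * (s : G)⁻¹ ∈ (P : Subgroup G) :=
          mul_mem (mul_mem s.2 hy) (inv_mem s.2)
        rw [show (c : G) * s * y * ((c : G) * s)⁻¹ = c * ((s : G) * y * (s : G)⁻¹) * (c : G)⁻¹ by
          group, hcen _ c c.2, mul_inv_cancel_right]
        exact hm'
      refine ⟨p, e, hp, he, P, K, hPn, hKn, P.2, hKab, ?_, ?_⟩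
      · exact Subgroup.inf_eq_bot_of_coprime hcoP.symm
      · rw [sup_comm]; exact hcompl.sup_eq_top
    · exfalso
      push Not at hpp
      have hle := hK' hpp
      have hcomm : ∀ a b : G, a * b = b * a := fun a b =>
        commute_of_central_commutator hco
          (hle (Subgroup.commutator_mem_commutator (Subgroup.mem_top a) (Subgroup.mem_top b)))
          (hcen a) (hcen b)
      obtain ⟨χ, hχ⟩ := hm
      refine hm1 (hχ ▸ ?_)
      rw [← Nat.cast_inj (R := ℂ), BlockB.charDegree_cast (Char.irr_isCharacter χ.2),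
        Char.irr_degree_one_of_comm hcomm χ.2, Nat.cast_one]
  · left
    obtain ⟨g₀, hg₀⟩ : ∃ g, g ∉ C := by
      by_contra h
      push Not at h
      exact hmoved ((Subgroup.eq_top_iff' C).2 h)
    obtain ⟨l₀, hl₀⟩ := exists_not_mem_inertia hKab hg₀
    have hne : ∀ {l : K →* ℂˣ} {g : G}, g ∉ inertia (fun n : K => (l n : ℂ)) →
        inertia (fun n : K => (l n : ℂ)) ≠ ⊤ := fun h e => h (e ▸ Subgroup.mem_top _)
    have hCT : ∀ l : K →* ℂˣ, C ≤ inertia (fun n : K => (l n : ℂ)) := fun l g hg =>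
      mem_inertia_hom.2 (actHom_of_mem_centralizer hg l)
    -- the quotient by the centralizer is abelian
    have hQ : ∀ a b : G, ⁅a, b⁆ ∈ C := by
      have : C.Normal := Subgroup.normal_centralizer
      have : Group.IsNilpotent (G ⧸ C) := Group.nilpotent_of_surjective
        (QuotientGroup.map K C (MonoidHom.id G) (by simpa using hKC))
        (fun x => by obtain ⟨g, rfl⟩ := QuotientGroup.mk_surjective x; exact ⟨(g : G ⧸ K), rfl⟩)
      have hab : ∀ x y : G ⧸ C, x * y = y * x := by
        by_contra hab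
        have hnt : Nontrivial (G ⧸ C) := by
          by_contra h
          rw [not_nontrivial_iff_subsingleton] at h
          exact hab fun x y => Subsingleton.elim _ _
        have : Nontrivial (Subgroup.center (G ⧸ C)) := (Subgroup.nontrivial_iff_ne_bot _).2 (Group.IsNilpotent.center_ne_bot _)
        obtain ⟨⟨z, hz⟩, hz1⟩ := exists_ne (1 : Subgroup.center (G ⧸ C))
        obtain ⟨z₀, rfl⟩ := QuotientGroup.mk_surjective z
        have hz₀ : z₀ ∉ C := fun h => hz1 (Subtype.ext ((QuotientGroup.eq_one_iff _).2 h))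
        obtain ⟨l, hl⟩ := exists_not_mem_inertia hKab hz₀
        obtain ⟨hi, hc⟩ := inertia_facts hcd hco l (hne hl)
        set T := inertia (fun n : K => (l n : ℂ))
        set A := T.map (QuotientGroup.mk' C) ⊔ Subgroup.center (G ⧸ C)
        have hTA : T.map (QuotientGroup.mk' C) < A := by
          refine lt_of_le_of_ne le_sup_left fun e => hl ?_
          have : (z₀ : G ⧸ C) ∈ T.map (QuotientGroup.mk' C) := e ▸ Subgroup.mem_sup_right hz
          obtain ⟨t, ht, hte⟩ := this
          rw [QuotientGroup.mk'_apply, QuotientGroup.eq] at hte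
          have := mul_mem ht (hCT l hte)
          rwa [mul_inv_cancel_left] at this
        have hAi : A.index < m := by
          refine lt_of_lt_of_le (Subgroup.index_strictAnti hTA) ?_
          rw [Subgroup.index_map_eq _ (QuotientGroup.mk'_surjective C)
            (by rw [QuotientGroup.ker_mk']; exact hCT l), hi]
        refine hab (comm_of_small (degree_quotient hcd C) A ?_ hAi)
        intro x hx y hy
        obtain ⟨x₁, hx₁, x₂, hx₂, rfl⟩ := Subgroup.mem_sup_of_normal_right.1 hx
        obtain ⟨y₁, hy₁, y₂, hy₂, rfl⟩ := Subgroup.mem_sup_of_normal_right.1 hy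
        obtain ⟨a, ha, rfl⟩ := hx₁
        obtain ⟨b, hb, rfl⟩ := hy₁
        have h0 : Commute (QuotientGroup.mk' C a) (QuotientGroup.mk' C b) := by
          refine commutatorElement_eq_one_iff_mul_comm.1 ?_
          rw [← map_commutatorElement, QuotientGroup.mk'_apply, QuotientGroup.eq_one_iff]
          exact hKC (hc a ha b hb)
        have h1 : ∀ w, Commute w x₂ := fun w => Subgroup.mem_center_iff.1 hx₂ w
        have h2 : ∀ w, Commute w y₂ := fun w => Subgroup.mem_center_iff.1 hy₂ w
        exact (((h0.mul_right (h2 _)).mul_left (((h1 _).symm.mul_right (h2 _)))).eq)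
      intro a b
      rw [← QuotientGroup.eq_one_iff, ← QuotientGroup.mk'_apply, map_commutatorElement,
        commutatorElement_eq_one_iff_mul_comm]
      exact hab _ _
    have hswap : ∀ (g t : G) (l : K →* ℂˣ), actHom g (actHom t l) = actHom t (actHom g l) := by
      intro g t l
      rw [actHom_actHom, actHom_actHom]
      conv_lhs => rw [show t * g = ⁅t, g⁆ * (g * t) by rw [commutatorElement_def]; group]
      rw [← actHom_actHom (g * t) ⁅t, g⁆, actHom_of_mem_centralizer (hQ t g)]
    obtain ⟨hi, hc⟩ := inertia_facts hcd hco l₀ (hne hl₀)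
    set T := inertia (fun n : K => (l₀ n : ℂ)) with hTdef
    have hTC : T ≤ C := by
      intro t ht
      by_contra htC
      obtain ⟨μ, hμ⟩ := exists_not_mem_inertia hKab htC
      set ν := actHom t μ / μ with hν
      have htν : t ∉ inertia (fun n : K => (ν n : ℂ)) := fun h =>
        hμ (mem_inertia_hom.2 (eq_of_diff_fixed hco hKab (mem_inertia_hom.1 h)))
      have hsub : ∀ g, g ∈ inertia (fun n : K => (((l₀ * ν) n : ℂˣ) : ℂ)) →
          g ∈ T ∧ g ∈ inertia (fun n : K => (ν n : ℂ)) := by
        intro g hg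
        have hg' := mem_inertia_hom.1 hg
        rw [actHom_mul] at hg'
        have hε : ∀ n, actHom g ν n / ν n = l₀ n / actHom g l₀ n := fun n => by
          rw [div_eq_div_iff_mul_eq_mul, mul_comm]
          exact DFunLike.congr_fun hg' n
        have h1 : actHom t (actHom g ν / ν) = actHom g ν / ν := by
          have e : actHom g ν / ν = l₀ / actHom g l₀ := MonoidHom.ext hε
          rw [e, actHom_div, ← hswap, mem_inertia_hom.1 ht]
        have h2 : actHom t (actHom g μ / μ) / (actHom g μ / μ) = actHom g ν / ν := by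
          rw [hν, actHom_div, actHom_div, ← hswap g t μ]
          exact MonoidHom.ext fun n => div_div_div_comm _ _ _ _
        have h3 := eq_of_diff_fixed hco hKab (μ := actHom g μ / μ) (t := t) (by rw [h2]; exact h1)
        have h4 : actHom g ν = ν := MonoidHom.ext fun n => div_eq_one.1 (by
          rw [← MonoidHom.div_apply, ← h2, h3, MonoidHom.div_apply, div_self'])
        rw [h4] at hg'
        exact ⟨mem_inertia_hom.2 (MonoidHom.ext fun n =>
          mul_right_cancel (b := ν n) (DFunLike.congr_fun hg' n)), mem_inertia_hom.2 h4⟩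
      have hne' : inertia (fun n : K => (((l₀ * ν) n : ℂˣ) : ℂ)) ≠ ⊤ := fun e =>
        htν (hsub t (e ▸ Subgroup.mem_top t)).2
      have heq := Subgroup.eq_of_le_of_card_ge (fun g hg => (hsub g hg).1) (by
        have h1 := Subgroup.card_mul_index (inertia (fun n : K => (((l₀ * ν) n : ℂˣ) : ℂ)))
        rw [(inertia_facts hcd hco _ hne').1, ← T.card_mul_index, hi] at h1
        exact (Nat.eq_of_mul_eq_mul_right (Nat.pos_of_ne_zero hm0) h1).ge)
      exact htν (hsub t (heq ▸ ht)).2
    have hTeq : T = C := le_antisymm hTC (hCT l₀)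
    refine ⟨C, Subgroup.normal_centralizer, fun a ha b hb => ?_, hTeq ▸ hi⟩
    exact commute_of_central_commutator hco (hc a (hTeq.symm ▸ ha) b (hTeq.symm ▸ hb))
      (Subgroup.mem_centralizer_iff.1 ha) (Subgroup.mem_centralizer_iff.1 hb)

end CfsgLib.Clifford.TwoDegrees
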