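import Cfsg.Agent.Lib.Clifford.Degree
import Cfsg.Agent.Lib.Clifford.Constituents

/-!
# Invariant characters extend in a finite central cover; products and surjective pullbacks
-/

namespace CfsgLib.Clifford

open Module

universe u

variable {G : Type u} [Group G]

/-- An invariant irreducible character of a normal subgroup extends in a finite central cover. -/
theorem exists_central_cover [Finite G] (N : Subgroup G) [N.Normal] {θ : N → ℂ}
    (hθ : Cfsg.IsIrrCharacter N θ) (hinv : ∀ g : G, conjFn g θ = θ) :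
    ∃ (E : Type u) (_ : Group E) (_ : Fintype E) (π : E →* G) (emb : N →* E) (σ : E → ℂ),
      Function.Surjective π ∧ (∀ k, π k = 1 → k ∈ Subgroup.center E) ∧ emb.range.Normal ∧
      (∀ m, π (emb m) = m) ∧ Cfsg.IsCharacter E σ ∧ (∀ m, σ (emb m) = θ m) ∧
      ∀ k, π k = 1 → ∃ s : ℂ, ∀ x, σ (x * k) = s * σ x := by
  classical
  obtain ⟨n, ρ, hρ, rfl⟩ := hθ
  have hsurj := proj_surjective ρ fun g m => congr_fun (hinv g) m
  have := Char.nontrivial_of_isIrreducible ρ
  have hn : 0 < n := by
    have := finrank_pos (R := ℂ) (M := Fin n → ℂ)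
    rwa [finrank_fin_fun] at this
  let D : intertwiners ρ →* ℂˣ := (powMonoidHom (Nat.card N)).comp
    ((Units.map LinearMap.det).comp (opUnits ρ))
  let E := D.ker
  let π : E →* G := (proj ρ).comp E.subtype
  have hπ : Function.Surjective π := by
    intro g
    obtain ⟨e, rfl⟩ := hsurj g
    obtain ⟨z, hz⟩ := IsAlgClosed.exists_pow_nat_eq
      ((((Units.map LinearMap.det (opUnits ρ e))⁻¹ : ℂˣ)) : ℂ) hn
    have hz0 : z ≠ 0 := fun h => Units.ne_zero _ (by rw [← hz, h, zero_pow hn.ne'])
    have hs : Units.map LinearMap.det (scalarUnits (V := Fin n → ℂ) (Units.mk0 z hz0)) =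
        (Units.map LinearMap.det (opUnits ρ e))⁻¹ := Units.ext (by
      simp [Algebra.algebraMap_eq_smul_one, Module.End.one_eq_id, ← hz])
    refine ⟨⟨scalarEmb ρ (Units.mk0 z hz0) * e, ?_⟩, by simp [π]⟩
    simp only [E, D, MonoidHom.mem_ker, MonoidHom.comp_apply, map_mul, opUnits_scalarEmb, hs,
      ← mul_pow, powMonoidHom_apply]
    rw [inv_mul_cancel, one_pow]
  let emb : N →* E := (normalEmb ρ).codRestrict E fun m => by
    simp only [E, D, MonoidHom.mem_ker, MonoidHom.comp_apply, opUnits_normalEmb, powMonoidHom_apply,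
      ← map_pow, pow_card_eq_one', map_one]
  have hKscal : ∀ k : E, π k = 1 → ∃ z : ℂˣ, (k : intertwiners ρ) = scalarEmb ρ z :=
    fun k hk => (proj_eq_one_iff ρ _).mp hk
  choose zof hzof using hKscal
  let K : Subgroup E := π.ker
  have hKfin : Finite K := by
    have hne : NeZero (n * Nat.card N) := ⟨mul_ne_zero hn.ne' Nat.card_pos.ne'⟩
    refine Finite.of_injective (fun k : K =>
      (⟨zof k.1 k.2, ?_⟩ : rootsOfUnity (n * Nat.card N) ℂ)) fun a b h => ?_
    · rw [mem_rootsOfUnity]
      have h1 : D (k.1 : intertwiners ρ) = 1 := k.1.2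
      simp only [D, hzof k.1 k.2, MonoidHom.comp_apply, opUnits_scalarEmb, powMonoidHom_apply] at h1
      rw [pow_mul, ← h1]
      congr 1
      exact Units.ext (by simp [Algebra.algebraMap_eq_smul_one, Module.End.one_eq_id])
    · refine Subtype.ext (Subtype.ext ?_)
      rw [hzof a.1 a.2, hzof b.1 b.2]
      exact congr_arg (scalarEmb ρ) (congr_arg Subtype.val h)
  have hfin : Finite E := by
    have : Finite (E ⧸ K) := Finite.of_injective _ (QuotientGroup.kerLift_injective π)
    exact Finite.of_equiv _ (Subgroup.groupEquivQuotientProdSubgroup (s := K)).symm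
  let σ : Representation ℂ E (Fin n → ℂ) :=
    (Units.coeHom _).comp ((opUnits ρ).comp E.subtype)
  refine ⟨E, inferInstance, Fintype.ofFinite E, π, emb, σ.character, hπ, fun k hk => ?_, ⟨?_⟩,
    fun m => rfl, Char.isCharacter_of_rep σ, fun m => rfl, fun k hk => ⟨(zof k hk : ℂ), fun x => ?_⟩⟩
  · refine Subgroup.mem_center_iff.mpr fun x => Subtype.ext ?_
    rw [Subgroup.coe_mul, Subgroup.coe_mul, hzof k hk]
    exact (scalarEmb_comm ρ _ _).symm
  · rintro _ ⟨m, rfl⟩ e
    exact ⟨conjN (proj ρ e) m, Subtype.ext (conj_normalEmb ρ e m).symm⟩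
  · have hk' : σ k = (zof k hk : ℂ) • (1 : Module.End ℂ (Fin n → ℂ)) := by
      change ((opUnits ρ (k : intertwiners ρ) : (Module.End ℂ (Fin n → ℂ))ˣ) :
        Module.End ℂ (Fin n → ℂ)) = _
      rw [hzof k hk, opUnits_scalarEmb, coe_scalarUnits, Algebra.algebraMap_eq_smul_one]
    rw [Representation.character, Representation.character, map_mul, hk', mul_smul_comm,
      mul_one, map_smul, smul_eq_mul]

theorem eq_zero_of_apply_one_eq_zero [Finite G] {R : G → ℂ} (hR : Cfsg.IsCharacter G R)
    (h : R 1 = 0) : R = 0 := by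
  obtain ⟨n, ρ, rfl⟩ := hR
  rw [Representation.char_one, Nat.cast_eq_zero] at h
  exact (Char.char_eq_zero_iff ρ).mpr h

/-- An irreducible character is not a sum of two nonzero characters. -/
theorem eq_zero_of_add_irr [Fintype G] {X R : G → ℂ} (hX : Cfsg.IsCharacter G X)
    (hR : Cfsg.IsCharacter G R) (h : Cfsg.IsIrrCharacter G (X + R)) : X = 0 ∨ R = 0 := by
  have h1 := Char.irr_classInner_self h
  rw [Char.classInner_add_left, Char.classInner_add_right, Char.classInner_add_right] at h1
  obtain ⟨i, hi⟩ := Char.classInner_isCharacter_nat hX hX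
  obtain ⟨j, hj⟩ := Char.classInner_isCharacter_nat hR hR
  obtain ⟨k, hk⟩ := Char.classInner_isCharacter_nat hX hR
  obtain ⟨l, hl⟩ := Char.classInner_isCharacter_nat hR hX
  rw [hi, hj, hk, hl] at h1
  have h2 : i + k + (l + j) = 1 := by exact_mod_cast h1
  rcases Nat.eq_zero_or_pos i with h0 | h0
  · exact Or.inl (Char.classInner_self_eq_zero (by rw [hi, h0, Nat.cast_zero]))
  · exact Or.inr (Char.classInner_self_eq_zero (by rw [hj, show j = 0 by omega, Nat.cast_zero]))

/-- A factor of an irreducible product of characters is irreducible. -/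
theorem isIrrCharacter_left_of_mul [Fintype G] {a b : G → ℂ} (ha : Cfsg.IsCharacter G a)
    (hb : Cfsg.IsCharacter G b) (h : Cfsg.IsIrrCharacter G (a * b)) : Cfsg.IsIrrCharacter G a := by
  have h1 := Char.irr_apply_one_ne_zero h
  rw [Pi.mul_apply, mul_ne_zero_iff] at h1
  obtain ⟨X, hX, hne⟩ := exists_irr_constituent ha fun h0 => h1.1 (by rw [h0]; rfl)
  obtain ⟨R, hR, rfl⟩ := exists_add_of_constituent ha hX hne
  rw [add_mul] at h
  rcases eq_zero_of_add_irr (Char.isCharacter_mul (Char.irr_isCharacter hX) hb)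
    (Char.isCharacter_mul hR hb) h with h0 | h0
  · exact absurd ((mul_eq_zero.mp (congr_fun h0 1)).resolve_right h1.2)
      (Char.irr_apply_one_ne_zero hX)
  · rw [eq_zero_of_apply_one_eq_zero hR ((mul_eq_zero.mp (congr_fun h0 1)).resolve_right h1.2),
      add_zero]
    exact hX

/-- A character inducing an irreducible character is irreducible. -/
theorem isIrrCharacter_of_indFun [Fintype G] {H : Subgroup G} [Fintype H] {ψ : H → ℂ}
    (hψ : Cfsg.IsCharacter H ψ) (h : Cfsg.IsIrrCharacter G (Cfsg.indFun H ψ)) :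
    Cfsg.IsIrrCharacter H ψ := by
  obtain ⟨X, hX, hne⟩ := exists_irr_constituent hψ fun h0 => Char.irr_apply_one_ne_zero h
    (by rw [Char.indFun_apply_one, h0, Pi.zero_apply, mul_zero])
  obtain ⟨R, hR, rfl⟩ := exists_add_of_constituent hψ hX hne
  rw [Char.indFun_add] at h
  have hi : (H.index : ℂ) ≠ 0 := Nat.cast_ne_zero.mpr H.index_ne_zero_of_finite
  rcases eq_zero_of_add_irr (Char.isCharacter_indFun H (Char.irr_isCharacter hX))
    (Char.isCharacter_indFun H hR) h with h0 | h0
  · have := congr_fun h0 1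
    rw [Char.indFun_apply_one, Pi.zero_apply] at this
    exact absurd ((mul_eq_zero.mp this).resolve_left hi) (Char.irr_apply_one_ne_zero hX)
  · have := congr_fun h0 1
    rw [Char.indFun_apply_one, Pi.zero_apply] at this
    rw [eq_zero_of_apply_one_eq_zero hR ((mul_eq_zero.mp this).resolve_left hi), add_zero]
    exact hX

theorem indFun_congr [Fintype G] {A B : Subgroup G} (h : A = B) {f : A → ℂ} {g : B → ℂ}
    (hfg : ∀ x : A, f x = g ⟨x, h ▸ x.2⟩) : Cfsg.indFun A f = Cfsg.indFun B g := by
  subst h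
  rw [funext hfg]

/-- Induction commutes with pulling back along an epimorphism. -/
theorem indFun_comap {E : Type*} [Group E] [Fintype E] [Fintype G] (f : E →* G)
    (hf : Function.Surjective f) (H : Subgroup G) (θ : H → ℂ) (e : E) :
    Cfsg.indFun (H.comap f) (fun x => θ ⟨f (x : E), x.2⟩) e = Cfsg.indFun H θ (f e) := by
  classical
  have hfib : ∀ g : G, (Finset.univ.filter fun x : E => f x = g).card = Nat.card f.ker := by
    intro g
    obtain ⟨x₀, rfl⟩ := hf g
    rw [← Fintype.card_subtype, ← Nat.card_eq_fintype_card]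
    exact Nat.card_congr
      { toFun := fun x => ⟨x₀⁻¹ * x.1, by simp [MonoidHom.mem_ker, x.2]⟩
        invFun := fun k => ⟨x₀ * k.1, by simp [MonoidHom.mem_ker.mp k.2]⟩
        left_inv := fun x => by simp
        right_inv := fun k => by simp }
  have hsum : ∀ F : G → ℂ, ∑ x : E, F (f x) = (Nat.card f.ker : ℂ) * ∑ g, F g := by
    intro F
    rw [← Finset.sum_fiberwise Finset.univ f, Finset.mul_sum]
    refine Finset.sum_congr rfl fun g _ => ?_
    rw [Finset.sum_congr rfl fun x hx => by rw [(Finset.mem_filter.mp hx).2], Finset.sum_const,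
      hfib, nsmul_eq_mul]
  have hE : Nat.card E = Nat.card f.ker * Nat.card G := by
    have := hsum fun _ => 1
    simp only [Finset.sum_const, Finset.card_univ, nsmul_eq_mul, mul_one,
      ← Nat.card_eq_fintype_card] at this
    exact_mod_cast this
  have hH : (Nat.card (H.comap f) : ℂ) = Nat.card f.ker * Nat.card H := by
    have h1 := (H.comap f).index_mul_card
    rw [H.index_comap_of_surjective hf, hE, ← H.index_mul_card] at h1
    exact_mod_cast Nat.eq_of_mul_eq_mul_left (Nat.pos_of_ne_zero H.index_ne_zero_of_finite)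
      (h1.trans (by ring))
  have hext : ∀ x : E, Cfsg.extendByZero (H.comap f) (fun x => θ ⟨f (x : E), x.2⟩) x =
      Cfsg.extendByZero H θ (f x) := by
    intro x
    by_cases hx : f x ∈ H
    · rw [Char.extendByZero_of_mem θ hx]
      exact Char.extendByZero_of_mem _ (show x ∈ H.comap f from hx)
    · rw [Char.extendByZero_of_not_mem θ hx]
      exact Char.extendByZero_of_not_mem _ (show x ∉ H.comap f from hx)
  simp only [Char.indFun_def, hext, map_mul, map_inv]
  rw [hsum fun g => Cfsg.extendByZero H θ (g⁻¹ * f e * g), hH, mul_inv, ← mul_assoc]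
  congr 1
  rw [mul_comm (Nat.card f.ker : ℂ)⁻¹, mul_assoc,
    inv_mul_cancel₀ (Nat.cast_ne_zero.mpr Nat.card_pos.ne'), mul_one]

end CfsgLib.Clifford
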