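import Cfsg.Agent.Lib.Clifford.Correspondence
import Cfsg.Agent.Lib.Clifford.Extension
import Cfsg.Agent.Lib.Clifford.Intertwiner
import Cfsg.Agent.Lib.Clifford.Constituents
import Cfsg.Agent.Lib.Char.Linear
import Cfsg.Agent.Lib.HallHigman.LinAlg

/-!
# Fully ramified characters

`χ` restricts to `Z` as `e θ` with `e² = [G : Z]`.
-/

set_option autoImplicit false

namespace CfsgLib.Clifford.FullyRamified

open Module

universe u

variable {G : Type u} [Group G] [Fintype G] (Z : Subgroup G) [Fintype Z] [hZ : Z.Normal]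
  {χ : G → ℂ} (hχ : Cfsg.IsIrrCharacter G χ) {θ : Z → ℂ} (hθ : Cfsg.IsIrrCharacter Z θ) {e : ℕ}
  (he : e ^ 2 = Z.index) (hres : ∀ z : Z, χ z = (e : ℂ) * θ z)

include he in
omit [Fintype Z] hZ in
theorem e_ne_zero : (e : ℂ) ≠ 0 := by
  refine Nat.cast_ne_zero.mpr fun h => (Subgroup.index_ne_zero_of_finite (H := Z)) ?_
  rw [← he, h]; rfl

include hχ he hres in
omit [Fintype Z] in
theorem invariant (g : G) : conjFn g θ = θ := by
  funext z
  refine mul_left_cancel₀ (e_ne_zero Z he) ?_
  rw [conjFn_apply, ← hres, ← hres]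
  exact Char.irr_isClassFunction hχ z g

include hχ hθ he hres

theorem classInner_restrict : Cfsg.classInner (fun z : Z => χ z) θ = (e : ℂ) := by
  rw [show (fun z : Z => χ z) = (e : ℂ) • θ from funext hres, Char.classInner_smul_left,
    Char.irr_classInner_self hθ, mul_one]

theorem indFun_eq : Cfsg.indFun Z θ = (e : ℂ) • χ := by
  have hcl : Cfsg.IsClassFunction G (Cfsg.indFun Z θ - (e : ℂ) • χ) := fun g x => by
    simp [Char.indFun_isClassFunction Z θ g x, Char.irr_isClassFunction hχ g x]
  refine sub_eq_zero.mp (Char.classInner_self_eq_zero ?_)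
  have h1 : Cfsg.classInner (Cfsg.indFun Z θ) χ = (e : ℂ) := by
    rw [Char.frobenius_reciprocity Z θ χ (Char.irr_isClassFunction hχ), ← Char.classInner_conj_symm,
      classInner_restrict Z hχ hθ he hres, map_natCast]
  have h2 : Cfsg.classInner χ (Cfsg.indFun Z θ) = (e : ℂ) := by
    rw [← Char.classInner_conj_symm, h1, map_natCast]
  have h3 : Cfsg.classInner (Cfsg.indFun Z θ) (Cfsg.indFun Z θ) = (e : ℂ) * e := by
    rw [classInner_indFun_indFun hθ hθ, Nat.card_congr (Equiv.subtypeUnivEquiv fun x =>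
      invariant Z hχ he hres x), ← Z.card_mul_index, Nat.cast_mul, inv_mul_cancel_left₀
      CfsgLib.Char.natCard_ne_zero, ← he, pow_two, Nat.cast_mul]
  rw [Char.classInner_sub_left, Char.classInner_sub_right, Char.classInner_sub_right, h3,
    Char.classInner_smul_left, Char.classInner_smul_left, Char.classInner_smul_right, h1,
    Char.classInner_smul_right, Char.irr_classInner_self hχ, h2, map_natCast]
  ring

theorem eq_zero_off {g : G} (hg : g ∉ Z) : χ g = 0 := by
  have := congr_fun (indFun_eq Z hχ hθ he hres) g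
  rw [indFun_eq_zero_of_not_mem θ hg, Pi.smul_apply, smul_eq_mul, eq_comm, mul_eq_zero] at this
  exact this.resolve_left (e_ne_zero Z he)

/-- A character of a subgroup lying over `θ` induces a function vanishing off `Z`. -/
theorem indFun_eq_zero_off (K : Subgroup G) [Fintype K] (hZK : Z ≤ K) {η : K → ℂ}
    (hη : Cfsg.IsCharacter K η) {d : ℕ} (hηZ : ∀ z : Z, η ⟨z, hZK z.2⟩ = (d : ℂ) * θ z)
    {g : G} (hg : g ∉ Z) : Cfsg.indFun K η g = 0 := by
  classical
  have hF := Char.isCharacter_indFun K hη
  obtain ⟨l, hl, hsum⟩ := Char.isCharacter_exists_multiset hF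
  have hall : ∀ φ ∈ l, φ = χ := by
    intro φ hφl
    by_contra hne
    have hφ := hl φ hφl
    have hθφ : Cfsg.classInner (fun z : Z => φ z) θ = 0 := by
      rw [← Char.classInner_conj_symm, ← Char.frobenius_reciprocity Z θ φ (Char.irr_isClassFunction hφ),
        indFun_eq Z hχ hθ he hres, Char.classInner_smul_left, Char.irr_classInner_ne hχ hφ (Ne.symm hne),
        mul_zero, map_zero]
    -- so `φ` restricted to `K` is orthogonal to `η`
    have hin : Cfsg.classInner (fun k : K => φ k) η = 0 := by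
      by_contra h0
      obtain ⟨le, hle, hse⟩ := Char.isCharacter_exists_multiset hη
      obtain ⟨ν, hνl, hν0⟩ : ∃ ν ∈ le, Cfsg.classInner (fun k : K => φ k) ν ≠ 0 := by
        by_contra hall0
        push Not at hall0
        refine h0 ?_
        rw [hse]
        clear hse hle
        induction le using Multiset.induction with
        | empty => simp [Char.classInner_def]
        | cons a s ih =>
          rw [Multiset.sum_cons, Char.classInner_add_right, hall0 a (Multiset.mem_cons_self _ _),
            ih fun ν hν => hall0 ν (Multiset.mem_cons_of_mem hν), add_zero]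
      obtain ⟨R, hR, hRe⟩ := exists_add_of_constituent
        (Char.isCharacter_restrict (Char.irr_isCharacter hφ) K) (hle ν hνl) hν0
      obtain ⟨t, ht⟩ := Multiset.exists_cons_of_mem hνl
      rw [ht, Multiset.sum_cons] at hse
      have ht' : ∀ ν' ∈ t, Cfsg.IsCharacter K ν' := fun ν' h =>
        Char.irr_isCharacter (hle ν' (ht ▸ Multiset.mem_cons_of_mem h))
      have hν : Cfsg.IsCharacter K ν := Char.irr_isCharacter (hle ν hνl)
      let i : Z →* K := Subgroup.inclusion hZK
      obtain ⟨a, ha⟩ := Char.classInner_isCharacter_nat (Char.isCharacter_comp hν i)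
        (Char.irr_isCharacter hθ)
      obtain ⟨b, hb⟩ := Char.classInner_isCharacter_nat (Char.isCharacter_comp hR i)
        (Char.irr_isCharacter hθ)
      rw [show (fun z : Z => φ z) = (ν ∘ i) + (R ∘ i) from funext fun z => congr_fun hRe (i z),
        Char.classInner_add_left, ha, hb] at hθφ
      have ha0 : a = 0 := by
        have : a + b = 0 := by exact_mod_cast hθφ
        omega
      rw [ha0, Nat.cast_zero] at ha
      obtain ⟨ξ, hξ, hξ0⟩ := exists_irr_constituent (Char.isCharacter_comp hν i) fun h =>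
        Char.irr_apply_one_ne_zero (hle ν hνl) (by simpa [i] using congr_fun h 1)
      obtain ⟨c, hc⟩ := Char.classInner_isCharacter_nat (Char.isCharacter_comp hν i)
        (Char.irr_isCharacter hξ)
      obtain ⟨c', hc'⟩ := Char.classInner_isCharacter_nat
        (Char.isCharacter_comp (Char.isCharacter_multiset_sum ht') i) (Char.irr_isCharacter hξ)
      have hξθ : θ ≠ ξ := fun h => hξ0 (h ▸ ha)
      have heq : (d : ℂ) • θ = (ν ∘ i) + (t.sum ∘ i) := funext fun z => by
        rw [Pi.smul_apply, smul_eq_mul, ← hηZ z, hse]; rfl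
      have h5 := congrArg (fun f => Cfsg.classInner f ξ) heq
      beta_reduce at h5
      rw [Char.classInner_smul_left, Char.irr_classInner_ne hθ hξ hξθ, mul_zero,
        Char.classInner_add_left, hc, hc'] at h5
      have : c + c' = 0 := by exact_mod_cast h5.symm
      exact hξ0 (by rw [hc, show c = 0 by omega, Nat.cast_zero])
    obtain ⟨t, ht⟩ := Multiset.exists_cons_of_mem hφl
    have hχF : Cfsg.classInner (Cfsg.indFun K η) φ = 0 := by
      rw [Char.frobenius_reciprocity K η φ (Char.irr_isClassFunction hφ), ← Char.classInner_conj_symm,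
        hin, map_zero]
    rw [hsum, ht, Multiset.sum_cons, Char.classInner_add_left, Char.irr_classInner_self hφ] at hχF
    obtain ⟨k, hk⟩ := Char.classInner_isCharacter_nat (Char.isCharacter_multiset_sum (l := t)
      fun ν h => Char.irr_isCharacter (hl ν (ht ▸ Multiset.mem_cons_of_mem h))) (Char.irr_isCharacter hφ)
    rw [hk] at hχF
    have : 1 + k = 0 := by exact_mod_cast hχF
    omega
  rw [hsum, Multiset.eq_replicate_card.mpr hall, Multiset.sum_replicate, Pi.smul_apply,
    eq_zero_off Z hχ hθ he hres hg, smul_zero]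

omit hχ hθ he hres in
/-- An endomorphism with trace zero against an irreducible representation is zero. -/
theorem eq_zero_of_trace_mul {K : Type*} [Group K] [Finite K] {V : Type*} [AddCommGroup V]
    [Module ℂ V] [FiniteDimensional ℂ V] (ρ : Representation ℂ K V) [ρ.IsIrreducible]
    (T : V →ₗ[ℂ] V) (h : ∀ k, LinearMap.trace ℂ V (T * ρ k) = 0) : T = 0 := by
  haveI := Char.nontrivial_of_isIrreducible ρ
  have htop : Algebra.adjoin ℂ (Set.range ρ) = ⊤ := by
    refine HallHigman.eq_top_of_no_invariant _ fun W hW => ?_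
    let p : Subrepresentation ρ := ⟨W, fun k w hw => hW _ (Algebra.subset_adjoin ⟨k, rfl⟩) w hw⟩
    rcases IsSimpleOrder.eq_bot_or_eq_top p with hp | hp
    · exact Or.inl (congr_arg Subrepresentation.toSubmodule hp)
    · exact Or.inr (congr_arg Subrepresentation.toSubmodule hp)
  have hall : ∀ A : Module.End ℂ V, LinearMap.trace ℂ V (T * A) = 0 := by
    intro A
    have hA : A ∈ Submodule.span ℂ (Set.range ρ) := by
      have h1 : A ∈ Subalgebra.toSubmodule (Algebra.adjoin ℂ (Set.range ρ)) := by
        rw [htop]; exact Submodule.mem_top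
      rwa [Algebra.adjoin_eq_span, ← MonoidHom.coe_mrange, Submonoid.closure_eq,
        MonoidHom.coe_mrange] at h1
    induction hA using Submodule.span_induction with
    | mem x hx => obtain ⟨k, rfl⟩ := hx; exact h k
    | zero => rw [mul_zero, map_zero]
    | add a b _ _ ha hb => rw [mul_add, map_add, ha, hb, add_zero]
    | smul c a _ ha => rw [mul_smul_comm, map_smul, ha, smul_zero]
  classical
  let b := Module.finBasis ℂ V
  refine (LinearMap.toMatrix b b).injective ?_
  rw [map_zero]
  ext i j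
  have := hall ((LinearMap.toMatrix b b).symm (Matrix.single j i 1))
  rw [LinearMap.trace_eq_matrix_trace ℂ b, Module.End.mul_eq_comp, LinearMap.toMatrix_comp b b b,
    LinearEquiv.apply_symm_apply, Matrix.trace_mul_single] at this
  simpa using this

/-- No nontrivial element of `G/Z` has a cyclic centraliser generated by itself. -/
theorem mem_of_centralizer_le (x : G)
    (hx : ∀ g : G, g⁻¹ * x⁻¹ * g * x ∈ Z → g ∈ Subgroup.zpowers x ⊔ Z) : x ∈ Z := by
  classical
  by_contra hxZ
  set K := Subgroup.zpowers x ⊔ Z with hK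
  have hxK : x ∈ K := Subgroup.mem_sup_left (Subgroup.mem_zpowers x)
  have hZK : Z ≤ K := le_sup_right
  set N := Z.subgroupOf K with hN
  haveI : IsCyclic (K ⧸ N) := by
    refine ⟨⟨QuotientGroup.mk' N ⟨x, hxK⟩, fun y => ?_⟩⟩
    obtain ⟨⟨k, hk⟩, rfl⟩ := QuotientGroup.mk'_surjective N y
    obtain ⟨a, ⟨i, rfl⟩, z, hz, rfl⟩ := Subgroup.mem_sup_of_normal_right.mp hk
    refine ⟨i, ?_⟩
    show QuotientGroup.mk' N ⟨x, hxK⟩ ^ i = _
    rw [← map_zpow, QuotientGroup.mk'_eq_mk']
    exact ⟨⟨z, hZK hz⟩, Subgroup.mem_subgroupOf.mpr hz, Subtype.ext (by simp)⟩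
  let eqv : N ≃* Z := Subgroup.subgroupOfEquivOfLe hZK
  have := Fintype.ofFinite N
  obtain ⟨n, ρ, hρ, hρθ⟩ := Char.isIrrCharacter_comp_surjective hθ eqv.toMonoidHom eqv.surjective
  have hinv : ∀ (g : K) (m : N), ρ.character (conjN g m) = ρ.character m := fun g m => by
    rw [hρθ]
    exact congr_fun (invariant Z hχ he hres (g : G)) (eqv m)
  obtain ⟨σ, hσ⟩ := exists_extension_of_one_mem ρ (proj_surjective ρ hinv)
    (one_mem_splitExps_of_isCyclic ρ (proj_surjective ρ hinv))
  -- the linear characters of `K/Z`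
  haveI : Finite (K ⧸ N) := Quotient.finite _
  have hab : ∀ a b : K ⧸ N, a * b = b * a := IsCyclic.commGroup.mul_comm
  set xb : K ⧸ N := QuotientGroup.mk' N ⟨x, hxK⟩ with hxb
  have hval : ∀ (z : Z), σ.character (⟨x, hxK⟩ * ⟨z, hZK z.2⟩) = 0 := by
    intro z
    set y : K := ⟨x, hxK⟩ * ⟨z, hZK z.2⟩ with hy
    have hyG : (y : G) ∉ Z := fun h => hxZ (by
      simpa [hy] using mul_mem h (inv_mem z.2))
    have := Fintype.ofFinite ((K ⧸ N) →* ℂˣ)
    -- twisting kills the conjugates outside the coset
    let c : K → ℂ := fun k => ∑ μ : (K ⧸ N) →* ℂˣ, ((μ xb)⁻¹ * μ (QuotientGroup.mk' N k) : ℂˣ)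
    have hF : Cfsg.indFun K (fun k => c k * σ.character k) (y : G) = 0 := by
      have e1 : (fun k => c k * σ.character k) = ∑ μ : (K ⧸ N) →* ℂˣ, (((μ xb)⁻¹ : ℂˣ) : ℂ) •
          fun k => (μ (QuotientGroup.mk' N k) : ℂ) * σ.character k := by
        funext k
        simp [c, Finset.sum_apply, Finset.sum_mul, mul_assoc]
      rw [e1, Char.indFun_sum, Finset.sum_apply]
      refine Finset.sum_eq_zero fun μ _ => ?_
      rw [Char.indFun_smul, Pi.smul_apply, indFun_eq_zero_off Z hχ hθ he hres K hZK
        (η := fun k => (μ (QuotientGroup.mk' N k) : ℂ) * σ.character k)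
        (Char.isCharacter_mul (Char.irr_isCharacter (Char.isIrrCharacter_linear
          (μ.comp (QuotientGroup.mk' N)))) (Char.isCharacter_of_rep σ)) (d := 1) (fun w => ?_) hyG,
        smul_zero]
      rw [show QuotientGroup.mk' N ⟨(w : G), hZK w.2⟩ = 1 from
        (QuotientGroup.eq_one_iff _).mpr (Subgroup.mem_subgroupOf.mpr w.2), map_one, Units.val_one,
        one_mul, Nat.cast_one, one_mul]
      have h1 := congr_fun hρθ ⟨⟨w, hZK w.2⟩, Subgroup.mem_subgroupOf.mpr w.2⟩
      have h2 : σ.character ⟨(w : G), hZK w.2⟩ =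
          ρ.character ⟨⟨w, hZK w.2⟩, Subgroup.mem_subgroupOf.mpr w.2⟩ := by
        rw [Representation.character, Representation.character, ← hσ]
      rw [h2, h1]
      rfl
    have hc : ∀ k : K, c k = if QuotientGroup.mk' N k = xb then
        (Fintype.card ((K ⧸ N) →* ℂˣ) : ℂ) else 0 := by
      intro k
      simp only [c]
      split_ifs with h
      · rw [h]; simp
      · have hne : xb⁻¹ * QuotientGroup.mk' N k ≠ 1 := fun h' => h (inv_mul_eq_one.mp h').symm
        obtain ⟨μ₀, hμ₀⟩ := Char.exists_linear_ne_one hab hne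
        refine eq_zero_of_mul_eq_self_left (b := (μ₀ (xb⁻¹ * QuotientGroup.mk' N k) : ℂ))
          (fun h' => hμ₀ (Units.ext h')) ?_
        rw [Finset.mul_sum]
        refine Fintype.sum_equiv (Equiv.mulLeft μ₀) _ _ fun μ => ?_
        rw [← Units.val_mul]
        congr 1
        simp only [Equiv.coe_mulLeft, MonoidHom.mul_apply, map_mul, map_inv, mul_inv]
        exact mul_mul_mul_comm _ _ _ _
    -- evaluate
    have hterm : ∀ g : G, Cfsg.extendByZero K (fun k => c k * σ.character k) (g⁻¹ * (y : G) * g) =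
        if g ∈ K then (Fintype.card ((K ⧸ N) →* ℂˣ) : ℂ) * σ.character y else 0 := by
      intro g
      by_cases hg : g ∈ K
      · rw [if_pos hg, show g⁻¹ * (y : G) * g = (((⟨g, hg⟩ : K)⁻¹ * y * ⟨g, hg⟩ : K) : G) from rfl,
          Char.extendByZero_coe, hc, if_pos]
        · congr 1
          have := Char.isCharacter_isClassFunction (Char.isCharacter_of_rep σ) y (⟨g, hg⟩ : K)⁻¹
          rwa [inv_inv] at this
        · rw [map_mul, map_mul, map_inv, hab, mul_inv_cancel_left]
          exact (QuotientGroup.mk'_eq_mk' N).mpr ⟨(⟨z, hZK z.2⟩ : K)⁻¹,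
            inv_mem (Subgroup.mem_subgroupOf.mpr z.2), mul_inv_cancel_right _ _⟩
      · rw [if_neg hg]
        by_cases hm : g⁻¹ * (y : G) * g ∈ K
        · rw [Char.extendByZero_of_mem _ hm, hc, if_neg, zero_mul]
          intro h
          obtain ⟨w, hw, hw'⟩ := (QuotientGroup.mk'_eq_mk' N).mp h
          refine hg (hx g ?_)
          have h1 : g⁻¹ * (x * z) * g * (w : G) = x := congr_arg Subtype.val hw'
          have h3 : g⁻¹ * (x⁻¹) * g * x = g⁻¹ * (x⁻¹ * g * g⁻¹ * x) * (z : G) * g * w := by
            conv_lhs => arg 2; rw [← h1]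
            group
          rw [h3, show g⁻¹ * (x⁻¹ * g * g⁻¹ * x) * (z : G) * g * w = g⁻¹ * (z : G) * g * w by group]
          exact mul_mem (hZ.conj_mem' _ z.2 g) (Subgroup.mem_subgroupOf.mp hw)
        · exact Char.extendByZero_of_not_mem _ hm
    rw [Char.indFun_def, Finset.sum_congr rfl fun g _ => hterm g, ← Finset.sum_filter,
      Finset.sum_const, nsmul_eq_mul] at hF
    rcases mul_eq_zero.mp hF with h | h
    · exact absurd h (inv_ne_zero CfsgLib.Char.natCard_ne_zero)
    rcases mul_eq_zero.mp h with h | h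
    · refine absurd (Nat.cast_eq_zero.mp h) (Finset.card_pos.mpr ⟨1, ?_⟩).ne'
      exact Finset.mem_filter.mpr ⟨Finset.mem_univ _, one_mem _⟩
    · exact (mul_eq_zero.mp h).resolve_left (Nat.cast_ne_zero.mpr Fintype.card_ne_zero)
  have hT : σ ⟨x, hxK⟩ = 0 := by
    refine eq_zero_of_trace_mul ρ _ fun m => ?_
    have := hval (eqv m)
    rw [Representation.character, map_mul] at this
    rw [← hσ m]
    exact this
  have h1 : σ (⟨x, hxK⟩⁻¹ * ⟨x, hxK⟩) = 0 := by rw [map_mul, hT, mul_zero]
  rw [inv_mul_cancel, map_one] at h1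
  haveI := Char.nontrivial_of_isIrreducible ρ
  exact one_ne_zero h1

end CfsgLib.Clifford.FullyRamified
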