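import Cfsg.Agent.Lib.Clifford.ExtendCoprime
import Cfsg.Agent.Lib.Clifford.CosetAvg
import Cfsg.Agent.Lib.Clifford.Cover
import Cfsg.Agent.Lib.Clifford.Degrees
import Cfsg.Agent.Lib.Clifford.FullyRamified
import Cfsg.Agent.Lib.BlockA.Galois
import Cfsg.Agent.Lib.Char.Galois
import Cfsg.Agent.Lib.Char.Linear

/-!
# Glauberman correspondence for a cyclic group of operators

On a coset generating the operators the canonical extensions restrict to orthonormal rational
combinations of the irreducible characters of the fixed points.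
-/

set_option autoImplicit false

namespace CfsgLib.Clifford.CyclicGlauberman

open CfsgLib
open scoped ComplexConjugate

universe u

/-- Exponents congruent modulo the order give equal powers. -/
theorem pow_congr {M : Type*} [Group M] (x : M) {a b : ℕ} (h : a ≡ b [MOD Nat.card M]) :
    x ^ a = x ^ b := by
  rw [← pow_mod_natCard x a, h, pow_mod_natCard]

/-- The determinant of a Galois conjugate. -/
theorem detChar_comp_pow {Γ : Type u} [Group Γ] [Finite Γ] {k : ℕ} (hk : k.Coprime (Nat.card Γ))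
    {χ : Γ → ℂ} (hχ : Cfsg.IsIrrCharacter Γ χ) (g : Γ) :
    Cfsg.detChar (fun x => χ (x ^ k)) g = Cfsg.detChar χ g ^ k := by
  obtain ⟨n, σ, hσ, hσe⟩ := BlockA.isIrrCharacter_comp_pow hk hχ
  obtain ⟨m, ρ, hρ, rfl⟩ := hχ
  have hnm : n = m := by
    have := congr_fun hσe 1
    simp only [one_pow, Representation.char_one, Module.finrank_fin_fun] at this
    exact_mod_cast this
  subst hnm
  rw [← hσe, Clifford.detChar_eq σ, Clifford.detChar_eq ρ]
  show LinearMap.det (σ g) = LinearMap.det (ρ g) ^ k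
  let H := Subgroup.zpowers g
  let pw : H →* Γ :=
    { toFun := fun x => (x : Γ) ^ k
      map_one' := one_pow k
      map_mul' := fun a b => by
        have : Commute (a : Γ) (b : Γ) := by
          obtain ⟨i, hi⟩ := a.2
          obtain ⟨j, hj⟩ := b.2
          simp only at hi hj
          rw [← hi, ← hj]
          exact Commute.zpow_zpow_self g i j
        rw [Subgroup.coe_mul, this.mul_pow] }
  let τ₁ : Representation ℂ H (Fin n → ℂ) := σ.comp H.subtype
  let τ₂ : Representation ℂ H (Fin n → ℂ) := ρ.comp pw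
  obtain ⟨φ⟩ := Char.equiv_of_char_eq τ₁ τ₂ (funext fun x => congr_fun hσe (x : Γ))
  have h1 := φ.conj_apply_self ⟨g, Subgroup.mem_zpowers g⟩
  change φ.toLinearEquiv.conj (σ g) = ρ (g ^ k) at h1
  rw [← map_pow, ← map_pow, ← h1, LinearEquiv.conj_apply, LinearMap.comp_assoc, LinearMap.det_conj]

variable {Γ : Type u} [Group Γ] [Fintype Γ] (G : Subgroup Γ) [Fintype G] [G.Normal] (S : Subgroup Γ)
  (hcop : (Nat.card G).Coprime (Nat.card S)) (htop : G ⊔ S = ⊤)

include hcop htop

theorem complement (g : Γ) : ∃ a : G, ∃ s : S, (a : Γ) * s = g := by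
  obtain ⟨a, ha, s, hs, e⟩ := Subgroup.mem_sup_of_normal_left.mp (htop ▸ Subgroup.mem_top g)
  exact ⟨⟨a, ha⟩, ⟨s, hs⟩, e⟩

/-- The projection to the operators. -/
theorem exists_proj : ∃ π : Γ →* S, (∀ s : S, π s = s) ∧ (∀ a : G, π a = 1) ∧
    ∀ x, π x = 1 → x ∈ G := by
  have hinf : G ⊓ S = ⊥ := Subgroup.inf_eq_bot_of_coprime hcop
  let e₀ : S →* Γ ⧸ G := (QuotientGroup.mk' G).comp S.subtype
  have he₀ : Function.Bijective e₀ := by
    refine ⟨(injective_iff_map_eq_one e₀).mpr fun h hh => ?_, fun q => ?_⟩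
    · have : (h : Γ) ∈ G ⊓ S := ⟨(QuotientGroup.eq_one_iff _).mp hh, h.2⟩
      rw [hinf] at this
      exact Subtype.ext this
    · obtain ⟨g, rfl⟩ := QuotientGroup.mk_surjective q
      obtain ⟨a, s, rfl⟩ := complement G S hcop htop g
      refine ⟨s, ?_⟩
      show (s : Γ ⧸ G) = _
      rw [QuotientGroup.mk_mul, (QuotientGroup.eq_one_iff _).mpr a.2, one_mul]
  let e := MulEquiv.ofBijective e₀ he₀
  refine ⟨e.symm.toMonoidHom.comp (QuotientGroup.mk' G), fun s => e.symm_apply_apply s,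
    fun a => ?_, fun x hx => ?_⟩
  · show e.symm ((a : Γ) : Γ ⧸ G) = 1
    rw [(QuotientGroup.eq_one_iff _).mpr a.2, map_one]
  · refine (QuotientGroup.eq_one_iff x).mp ?_
    change e.symm (x : Γ ⧸ G) = 1 at hx
    rwa [MulEquiv.map_eq_one_iff] at hx

theorem index_eq : G.index = Nat.card S := by
  have h1 : G.index = G.relIndex (G ⊔ S) := by rw [htop, Subgroup.relIndex_top_right]
  rw [h1, Subgroup.relIndex_sup_left, Subgroup.relIndex,
    Subgroup.subgroupOf_eq_bot.mpr (disjoint_iff.mpr (Subgroup.inf_eq_bot_of_coprime hcop)),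
    Subgroup.index_bot]

omit hcop htop [Fintype G] in
/-- The determinant character of an irreducible character is linear. -/
theorem exists_det_hom {X : Γ → ℂ} (hX : Cfsg.IsIrrCharacter Γ X) :
    ∃ μ : Γ →* ℂˣ, Cfsg.detChar X = fun x => (μ x : ℂ) := by
  obtain ⟨n, ρ, hρ, rfl⟩ := hX
  exact ⟨(Units.map LinearMap.det).comp (Clifford.repUnits ρ), by
    rw [Clifford.detChar_eq ρ]; rfl⟩

/-- Twisting by a linear character changes the determinant by its power. -/
theorem twist_unique {χ : G → ℂ} (hχ : Cfsg.IsIrrCharacter G χ) {X Y : Γ → ℂ}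
    (hX : Cfsg.IsIrrCharacter Γ X) (hY : Cfsg.IsIrrCharacter Γ Y)
    (hXr : ∀ a : G, X a = χ a) (hYr : ∀ a : G, Y a = χ a)
    (hdX : (Cfsg.detOrder X).Coprime (Nat.card S)) (hdY : (Cfsg.detOrder Y).Coprime (Nat.card S)) :
    Y = X := by
  classical
  have hres : Cfsg.IsIrrCharacter G fun a : G => X a := by rw [funext hXr]; exact hχ
  have hone : Cfsg.classInner (fun a : G => Y a) (fun a : G => X a) = 1 := by
    rw [funext hXr, funext hYr]; exact Char.irr_classInner_self hχ
  obtain ⟨hβ, hfac⟩ := Clifford.gallagher_factor G hY (Char.irr_isCharacter hX) hres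
    (by rw [hone]; exact one_ne_zero)
  set β := Clifford.gallagherQuot G Y X
  have hβ1 : β 1 = 1 := (Clifford.gallagherQuot_apply_one G Y X).trans hone
  obtain ⟨l, hl⟩ := Char.exists_hom_of_degree_one (Char.irr_isCharacter hβ) hβ1
  have hlG : ∀ a : G, l (a : Γ) = 1 := fun a => Units.ext (by
    have h := Clifford.cosetAvg_mul_left G (fun x => Y x * conj (X x)) a (1 : Γ)
    rw [mul_one] at h
    change β (a : Γ) = β 1 at h
    rw [hβ1, hl] at h
    exact h)
  obtain ⟨n, ρ, hρ, rfl⟩ := hX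
  let τ : Representation ℂ Γ (Fin n → ℂ) :=
    { toFun := fun x => (l x : ℂ) • ρ x
      map_one' := by simp
      map_mul' := fun a b => by
        rw [map_mul, map_mul, Units.val_mul, smul_mul_smul_comm] }
  have hτc : τ.character = Y := by
    rw [hfac, hl]
    funext x
    show LinearMap.trace ℂ (Fin n → ℂ) ((l x : ℂ) • ρ x) = _
    rw [map_smul, smul_eq_mul, mul_comm]
    rfl
  have : Fintype Γ := inferInstance
  have : τ.IsIrreducible := Clifford.isIrreducible_of_classInner_self τ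
    (by rw [hτc]; exact Char.irr_classInner_self hY)
  have hdet : ∀ x, Cfsg.detChar Y x = (l x : ℂ) ^ n * Cfsg.detChar ρ.character x := fun x => by
    rw [← hτc, Clifford.detChar_eq τ, Clifford.detChar_eq ρ]
    show LinearMap.det ((l x : ℂ) • ρ x) = _
    rw [LinearMap.det_smul, Module.finrank_fin_fun]
  have hl1 : l = 1 := by
    refine MonoidHom.ext fun x => ?_
    have hm : l x ^ Nat.card S = 1 := by
      rw [← map_pow, ← index_eq G S hcop htop]
      exact hlG ⟨_, G.pow_index_mem x⟩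
    have hn : ((l x : ℂ) ^ n) ^ (Cfsg.detOrder Y * Cfsg.detOrder ρ.character) = 1 := by
      have e1 := congr_fun (pow_orderOf_eq_one (Cfsg.detChar Y)) x
      have e2 := congr_fun (pow_orderOf_eq_one (Cfsg.detChar ρ.character)) x
      rw [Pi.pow_apply, Pi.one_apply] at e1 e2
      change Cfsg.detChar Y x ^ Cfsg.detOrder Y = 1 at e1
      change Cfsg.detChar ρ.character x ^ Cfsg.detOrder ρ.character = 1 at e2
      have e3 := hdet x
      calc ((l x : ℂ) ^ n) ^ (Cfsg.detOrder Y * Cfsg.detOrder ρ.character)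
          = ((l x : ℂ) ^ n) ^ (Cfsg.detOrder Y * Cfsg.detOrder ρ.character) *
            (Cfsg.detChar ρ.character x ^ Cfsg.detOrder ρ.character) ^ Cfsg.detOrder Y := by
              rw [e2, one_pow, mul_one]
        _ = ((l x : ℂ) ^ n * Cfsg.detChar ρ.character x) ^
            (Cfsg.detOrder Y * Cfsg.detOrder ρ.character) := by
              rw [mul_pow]; congr 1; rw [← pow_mul, mul_comm]
        _ = 1 := by rw [← e3, pow_mul, e1, one_pow]
    have hn' : l x ^ (n * (Cfsg.detOrder Y * Cfsg.detOrder ρ.character)) = 1 :=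
      Units.ext (by rw [Units.val_pow_eq_pow_val, pow_mul, hn, Units.val_one])
    have hnS : n.Coprime (Nat.card S) := by
      obtain ⟨m, σ, hσ, hσe⟩ := hχ
      have hmn : m = n := by
        have := congr_fun hσe 1
        rw [← hXr, OneMemClass.coe_one, Representation.char_one, Representation.char_one,
          Module.finrank_fin_fun, Module.finrank_fin_fun] at this
        exact_mod_cast this
      have hd := Char.degree_dvd_card σ
      rw [Module.finrank_fin_fun, hmn] at hd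
      exact hcop.coprime_dvd_left hd
    have h := Nat.dvd_gcd (orderOf_dvd_of_pow_eq_one hm) (orderOf_dvd_of_pow_eq_one hn')
    rw [Nat.Coprime.gcd_eq_one ((hnS.mul_left (hdY.mul_left hdX)).symm), Nat.dvd_one,
      orderOf_eq_one_iff] at h
    exact h
  rw [hfac, hl, hl1]
  funext x
  simp

/-- An invariant character has a canonical extension. -/
theorem exists_canonical {χ : G → ℂ} (hχ : Cfsg.IsIrrCharacter G χ)
    (hinv : ∀ s ∈ S, ∀ g g' : G, (g' : Γ) = s * g * s⁻¹ → χ g' = χ g) :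
    ∃ X : Γ → ℂ, Cfsg.IsIrrCharacter Γ X ∧ (∀ a : G, X a = χ a) ∧
      (Cfsg.detOrder X).Coprime (Nat.card S) := by
  classical
  have hinv' : ∀ (x : Γ) (a : G), χ (conjN x a) = χ a := by
    intro x a
    obtain ⟨b, s, rfl⟩ := complement G S hcop htop x
    rw [show conjN ((b : Γ) * s) a = b * conjN (s : Γ) a * b⁻¹ from Subtype.ext (by
      simp [mul_assoc]), Char.irr_isClassFunction hχ]
    exact hinv s s.2 a _ rfl
  obtain ⟨X₀, hX₀, hX₀r⟩ := ExtendCoprime.exists_extension G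
    (by rw [index_eq G S hcop htop]; exact hcop) hχ hinv'
  obtain ⟨π, hπS, hπG, -⟩ := exists_proj G S hcop htop
  obtain ⟨n, ρ, hρ, rfl⟩ := hX₀
  let ν : Γ →* ℂˣ := (Units.map LinearMap.det).comp (Clifford.repUnits ρ)
  have hnS : n.Coprime (Nat.card S) := by
    obtain ⟨m, σ, hσ, hσe⟩ := hχ
    have hmn : m = n := by
      have := congr_fun hσe 1
      rw [← hX₀r, OneMemClass.coe_one, Representation.char_one, Representation.char_one,
        Module.finrank_fin_fun, Module.finrank_fin_fun] at this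
      exact_mod_cast this
    have hd := Char.degree_dvd_card σ
    rw [Module.finrank_fin_fun, hmn] at hd
    exact hcop.coprime_dvd_left hd
  set t : ℤ := -Nat.gcdA n (Nat.card S)
  have ht : 1 + (n : ℤ) * t = (Nat.card S : ℤ) * Nat.gcdB n (Nat.card S) := by
    have := Nat.gcd_eq_gcd_ab n (Nat.card S)
    rw [hnS.gcd_eq_one, Nat.cast_one] at this
    simp only [t]
    linarith
  let l : Γ →* ℂˣ := (zpowGroupHom t).comp ((ν.comp S.subtype).comp π)
  have hlG : ∀ a : G, l (a : Γ) = 1 := fun a => by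
    show ν (π (a : Γ) : Γ) ^ t = 1
    rw [hπG, OneMemClass.coe_one, map_one, one_zpow]
  let τ : Representation ℂ Γ (Fin n → ℂ) :=
    { toFun := fun x => (l x : ℂ) • ρ x
      map_one' := by simp
      map_mul' := fun a b => by
        rw [map_mul, map_mul, Units.val_mul, smul_mul_smul_comm] }
  have hτc : ∀ x, τ.character x = (l x : ℂ) * ρ.character x := fun x => by
    show LinearMap.trace ℂ (Fin n → ℂ) ((l x : ℂ) • ρ x) = _
    rw [map_smul, smul_eq_mul]
    rfl
  have hτr : ∀ a : G, τ.character a = χ a := fun a => by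
    rw [hτc, hlG, Units.val_one, one_mul, hX₀r]
  have hτ : Cfsg.IsIrrCharacter Γ τ.character :=
    Clifford.isIrrCharacter_of_restrict (H := G) (Char.isCharacter_of_rep τ)
      (by rw [funext hτr]; exact hχ)
  refine ⟨τ.character, hτ, hτr, ?_⟩
  have : τ.IsIrreducible := Clifford.isIrreducible_of_classInner_self τ (Char.irr_classInner_self hτ)
  refine Nat.Coprime.coprime_dvd_left ?_ hcop
  refine orderOf_dvd_of_pow_eq_one (funext fun x => ?_)
  rw [Pi.pow_apply, Pi.one_apply, Clifford.detChar_eq τ]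
  show LinearMap.det ((l x : ℂ) • ρ x) ^ Nat.card G = 1
  rw [LinearMap.det_smul, Module.finrank_fin_fun]
  have key : (l x ^ n * ν x) ^ Nat.card G = 1 := by
    obtain ⟨a, s, rfl⟩ := complement G S hcop htop x
    have hs : ν (s : Γ) ^ (Nat.card S : ℤ) = 1 := by
      rw [zpow_natCast, ← map_pow, ← Subgroup.coe_pow, pow_card_eq_one', OneMemClass.coe_one,
        map_one]
    have e : l ((a : Γ) * s) ^ n * ν ((a : Γ) * s) = ν a := by
      rw [map_mul l, hlG, one_mul, map_mul ν, show l (s : Γ) = ν (s : Γ) ^ t by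
        show ν (π (s : Γ) : Γ) ^ t = _
        rw [hπS], ← zpow_natCast, ← zpow_mul, mul_comm (ν (a : Γ)), ← mul_assoc]
      nth_rw 2 [← zpow_one (ν (s : Γ))]
      rw [← zpow_add, show t * (n : ℤ) + 1 = (Nat.card S : ℤ) * Nat.gcdB n (Nat.card S) by
        rw [← ht]; ring, zpow_mul, hs, one_zpow, one_mul]
    rw [e, ← map_pow, ← Subgroup.coe_pow, pow_card_eq_one', OneMemClass.coe_one, map_one]
  exact congrArg Units.val key

/-- Canonical extensions are invariant under the Galois automorphisms moving only the operators. -/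
theorem apply_pow {X : Γ → ℂ} (hX : Cfsg.IsIrrCharacter Γ X)
    (hχ : Cfsg.IsIrrCharacter G fun a : G => X a) (hd : (Cfsg.detOrder X).Coprime (Nat.card S))
    {k : ℕ} (hk : k.Coprime (Nat.card S)) (c : G) (x : S)
    (hcx : Commute (c : Γ) (x : Γ)) : X ((c : Γ) * (x : Γ) ^ k) = X ((c : Γ) * x) := by
  obtain ⟨k', hk1, hk2⟩ := Nat.chineseRemainder hcop 1 k
  have hcard : Nat.card Γ = Nat.card G * Nat.card S := by
    rw [← index_eq G S hcop htop, G.card_mul_index]
  have hk' : k'.Coprime (Nat.card Γ) := by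
    rw [hcard]
    refine Nat.Coprime.mul_right ?_ ?_
    · show Nat.gcd k' (Nat.card G) = 1
      rw [Nat.ModEq.gcd_eq hk1, Nat.gcd_one_left]
    · show Nat.gcd k' (Nat.card S) = 1
      rw [Nat.ModEq.gcd_eq hk2]
      exact hk
  have hG : ∀ a : G, (a : Γ) ^ k' = a := fun a => by
    rw [← Subgroup.coe_pow]
    congr 1
    conv_rhs => rw [← pow_one a]
    exact pow_congr _ hk1
  have hS : (x : Γ) ^ k' = (x : Γ) ^ k := by
    rw [← Subgroup.coe_pow, ← Subgroup.coe_pow]
    exact congrArg Subtype.val (pow_congr _ hk2)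
  have hY := BlockA.isIrrCharacter_comp_pow hk' hX
  have hdY : (Cfsg.detOrder fun g => X (g ^ k')).Coprime (Nat.card S) := by
    refine Nat.Coprime.coprime_dvd_left ?_ hd
    show orderOf (Cfsg.detChar fun g => X (g ^ k')) ∣ orderOf (Cfsg.detChar X)
    rw [show (Cfsg.detChar fun g => X (g ^ k')) = Cfsg.detChar X ^ k' from
      funext fun g => detChar_comp_pow hk' hX g]
    exact orderOf_pow_dvd k'
  have e := congr_fun (twist_unique G S hcop htop hχ hX hY (fun _ => rfl)
    (fun a => by rw [hG]) hd hdY) ((c : Γ) * x)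
  rw [hcx.mul_pow, hG, hS] at e
  exact e

variable (C : Subgroup Γ) [Fintype C] (hC : C = G ⊓ Subgroup.centralizer (S : Set Γ))
  (s : Γ) (hs : Subgroup.zpowers s = S)

include hC hs

omit hcop htop [Fintype Γ] [Fintype G] [G.Normal] [Fintype C] in
theorem mem_C {c : Γ} : c ∈ C ↔ c ∈ G ∧ Commute c s := by
  rw [hC, Subgroup.mem_inf]
  refine and_congr_right fun _ => ⟨fun h => (h s (hs ▸ Subgroup.mem_zpowers s)).symm, fun h y hy => ?_⟩
  rw [← hs] at hy
  obtain ⟨i, rfl⟩ := hy
  exact (h.zpow_right i).symm.eq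

omit htop in
/-- A sum over the coset of a class function is a multiple of the sum over the fixed points. -/
theorem coset_sum (F : Γ → ℂ) (hF : Cfsg.IsClassFunction Γ F) :
    (Nat.card C : ℂ) * ∑ a : G, F ((a : Γ) * s) = (Nat.card G : ℂ) * ∑ c : C, F ((c : Γ) * s) := by
  classical
  have hsS : s ∈ S := hs ▸ Subgroup.mem_zpowers s
  have hmem := fun {c : Γ} => mem_C G S C hC s hs (c := c)
  have hmove : ∀ (x : G) (c : C), (x : Γ) * ((c : Γ) * s) * (x : Γ)⁻¹ * s⁻¹ ∈ G := fun x c => by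
    rw [show (x : Γ) * ((c : Γ) * s) * (x : Γ)⁻¹ * s⁻¹ =
      (x : Γ) * c * (s * (x : Γ)⁻¹ * s⁻¹) by group]
    exact mul_mem (mul_mem x.2 (hmem.mp c.2).1)
      (‹G.Normal›.conj_mem _ (inv_mem x.2) s)
  let Φ : G × C → G := fun p => ⟨_, hmove p.1 p.2⟩
  have hΦ : ∀ p, ((Φ p : G) : Γ) * s = (p.1 : Γ) * ((p.2 : Γ) * s) * (p.1 : Γ)⁻¹ := fun p => by
    simp [Φ]
  obtain ⟨e, he1, he2⟩ := Nat.chineseRemainder hcop 0 1
  have hpow : ∀ c : C, ((c : Γ) * s) ^ e = s := fun c => by
    rw [(hmem.mp c.2).2.mul_pow]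
    have h1 : (⟨(c : Γ), (hmem.mp c.2).1⟩ : G) ^ e = 1 := by
      rw [← pow_zero (⟨(c : Γ), (hmem.mp c.2).1⟩ : G)]
      exact pow_congr _ he1
    have h2 : (⟨s, hsS⟩ : S) ^ e = ⟨s, hsS⟩ := by
      conv_rhs => rw [← pow_one (⟨s, hsS⟩ : S)]
      exact pow_congr _ he2
    rw [show (c : Γ) ^ e = 1 from congrArg Subtype.val h1,
      show s ^ e = s from congrArg Subtype.val h2, one_mul]
  have hfib : ∀ z ∈ Finset.univ.image Φ,
      (Finset.univ.filter fun p => Φ p = z).card = Nat.card C := by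
    intro z hz
    obtain ⟨⟨x₀, c₀⟩, -, rfl⟩ := Finset.mem_image.mp hz
    rw [← Fintype.card_subtype, ← Nat.card_eq_fintype_card]
    refine Nat.card_congr (Equiv.symm (Equiv.ofBijective (fun y : C =>
      (⟨(x₀ * ⟨(y : Γ), (hmem.mp y.2).1⟩, y⁻¹ * c₀ * y), ?_⟩ : {p // Φ p = Φ (x₀, c₀)})) ⟨?_, ?_⟩))
    · refine Subtype.ext (mul_right_cancel (b := s) ?_)
      rw [hΦ, hΦ]
      simp only [Subgroup.coe_mul, InvMemClass.coe_inv]
      have hy := (hmem.mp y.2).2
      calc (x₀ : Γ) * y * ((y : Γ)⁻¹ * c₀ * y * s) * ((x₀ : Γ) * y)⁻¹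
          = (x₀ : Γ) * c₀ * ((y : Γ) * s * (y : Γ)⁻¹) * (x₀ : Γ)⁻¹ := by group
        _ = _ := by rw [hy.eq, mul_inv_cancel_right]; group
    · intro y y' h
      have h1 := congrArg (fun p : {p // Φ p = Φ (x₀, c₀)} => p.1.1) h
      exact Subtype.ext (congrArg Subtype.val (mul_left_cancel h1) :)
    · rintro ⟨⟨x, c⟩, hp⟩
      have h1 := congrArg (fun a : G => (a : Γ) * s) hp
      simp only [hΦ] at h1
      have h2 : (x₀ : Γ)⁻¹ * x * ((c : Γ) * s) * ((x₀ : Γ)⁻¹ * x)⁻¹ = (c₀ : Γ) * s := by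
        calc (x₀ : Γ)⁻¹ * x * ((c : Γ) * s) * ((x₀ : Γ)⁻¹ * x)⁻¹
            = (x₀ : Γ)⁻¹ * ((x : Γ) * ((c : Γ) * s) * (x : Γ)⁻¹) * x₀ := by group
          _ = _ := by rw [h1]; group
      have h3 := congrArg (fun z : Γ => z ^ e) h2
      simp only [conj_pow, hpow] at h3
      have hyC : (x₀ : Γ)⁻¹ * x ∈ C :=
        hmem.mpr ⟨mul_mem (inv_mem x₀.2) x.2, mul_inv_eq_iff_eq_mul.mp h3⟩
      refine ⟨⟨_, hyC⟩, Subtype.ext (Prod.ext ?_ ?_)⟩
      · exact Subtype.ext (mul_inv_cancel_left (x₀ : Γ) (x : Γ))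
      · refine Subtype.ext (mul_right_cancel (b := s) ?_)
        simp only [Subgroup.coe_mul, InvMemClass.coe_inv]
        have h4 : (x₀ : Γ)⁻¹ * x * s = s * ((x₀ : Γ)⁻¹ * x) := mul_inv_eq_iff_eq_mul.mp h3
        calc ((x₀ : Γ)⁻¹ * x)⁻¹ * c₀ * ((x₀ : Γ)⁻¹ * x) * s
            = ((x₀ : Γ)⁻¹ * x)⁻¹ * (c₀ * s) * ((x₀ : Γ)⁻¹ * x) := by
              rw [mul_assoc _ ((x₀ : Γ)⁻¹ * x) s, h4]; group
          _ = _ := by rw [← h2]; group
  have himg : Finset.univ.image Φ = Finset.univ := by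
    refine Finset.eq_univ_of_card _ ?_
    have h := Finset.card_eq_sum_card_image Φ (Finset.univ : Finset (G × C))
    rw [Finset.sum_congr rfl hfib, Finset.sum_const, smul_eq_mul, Finset.card_univ,
      Fintype.card_prod, Nat.card_eq_fintype_card] at h
    exact (Nat.eq_of_mul_eq_mul_right Fintype.card_pos h).symm
  have h1 : ∑ p : G × C, F (((Φ p : G) : Γ) * s) = (Nat.card C : ℂ) * ∑ a : G, F ((a : Γ) * s) := by
    rw [← Finset.sum_fiberwise Finset.univ Φ, Finset.mul_sum]
    refine Finset.sum_congr rfl fun a _ => ?_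
    rw [Finset.sum_congr rfl fun p hp => by rw [(Finset.mem_filter.mp hp).2], Finset.sum_const,
      hfib a (by rw [himg]; exact Finset.mem_univ a), nsmul_eq_mul]
  rw [← h1]
  simp only [hΦ]
  rw [Fintype.sum_prod_type]
  dsimp only
  rw [show (∑ x : G, ∑ c : C, F ((x : Γ) * ((c : Γ) * s) * (x : Γ)⁻¹)) = ∑ _x : G, ∑ c : C, F ((c : Γ) * s)
    from Finset.sum_congr rfl fun x _ => Finset.sum_congr rfl fun c _ => hF _ _]
  rw [Finset.sum_const, Finset.card_univ, nsmul_eq_mul, Nat.card_eq_fintype_card]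

/-- Canonical extensions are orthonormal on the coset. -/
theorem classInner_coset {X Y : Γ → ℂ} (hX : Cfsg.IsIrrCharacter Γ X)
    (hY : Cfsg.IsIrrCharacter Γ Y) (hXr : Cfsg.IsIrrCharacter G fun a : G => X a)
    (hYr : Cfsg.IsIrrCharacter G fun a : G => Y a) :
    ((∀ a : G, X a = Y a) → X = Y →
      Cfsg.classInner (fun c : C => X ((c : Γ) * s)) (fun c : C => Y ((c : Γ) * s)) = 1) ∧
    ((fun a : G => X a) ≠ (fun a : G => Y a) →
      Cfsg.classInner (fun c : C => X ((c : Γ) * s)) (fun c : C => Y ((c : Γ) * s)) = 0) := by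
  classical
  obtain ⟨π, hπS, hπG, hπ1⟩ := exists_proj G S hcop htop
  have hsS : s ∈ S := hs ▸ Subgroup.mem_zpowers s
  have habS : ∀ a b : S, a * b = b * a := by
    rintro ⟨a, ha⟩ ⟨b, hb⟩
    rw [← hs] at ha hb
    obtain ⟨i, rfl⟩ := ha
    obtain ⟨j, rfl⟩ := hb
    exact Subtype.ext (Commute.zpow_zpow_self s i j).eq
  have := Fintype.ofFinite (S →* ℂˣ)
  set N := (Fintype.card (S →* ℂˣ) : ℂ)
  have hsum : ∀ x : Γ, ∑ l : S →* ℂˣ, (((l ⟨s, hsS⟩)⁻¹ * l (π x) : ℂˣ) : ℂ) =
      if π x = ⟨s, hsS⟩ then N else 0 := by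
    intro x
    split_ifs with h
    · simp [h, N]
    · obtain ⟨l₀, hl₀⟩ := Char.exists_linear_ne_one habS
        (g := (⟨s, hsS⟩ : S)⁻¹ * π x) (fun h' => h (inv_mul_eq_one.mp h').symm)
      refine eq_zero_of_mul_eq_self_left (b := (l₀ ((⟨s, hsS⟩ : S)⁻¹ * π x) : ℂ))
        (fun h' => hl₀ (Units.ext h')) ?_
      rw [Finset.mul_sum]
      refine Fintype.sum_equiv (Equiv.mulLeft l₀) _ _ fun l => ?_
      rw [← Units.val_mul]
      congr 1
      simp only [Equiv.coe_mulLeft, MonoidHom.mul_apply, map_mul, map_inv, mul_inv]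
      exact mul_mul_mul_comm _ _ _ _
  have hA : ∑ l : S →* ℂˣ, (((l ⟨s, hsS⟩)⁻¹ : ℂˣ) : ℂ) *
      Cfsg.classInner (fun x => X x * (l (π x) : ℂ)) Y =
      (Nat.card Γ : ℂ)⁻¹ * (N * ∑ a : G, X ((a : Γ) * s) * conj (Y ((a : Γ) * s))) := by
    simp only [Char.classInner_def, Finset.mul_sum]
    rw [Finset.sum_comm]
    rw [← Finset.sum_subset (Finset.subset_univ (Finset.univ.image fun a : G => (a : Γ) * s))
      (fun x _ hx => ?_), Finset.sum_image fun a _ b _ h => Subtype.ext (mul_right_cancel h)]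
    · refine Finset.sum_congr rfl fun a _ => ?_
      have e : π ((a : Γ) * s) = ⟨s, hsS⟩ := by
        rw [map_mul, hπG, one_mul]; exact hπS ⟨s, hsS⟩
      have h := hsum ((a : Γ) * s)
      rw [if_pos e] at h
      rw [← h, Finset.sum_mul, Finset.mul_sum]
      refine Finset.sum_congr rfl fun l _ => ?_
      rw [Units.val_mul]
      ring
    · have e : π x ≠ ⟨s, hsS⟩ := fun e => hx (Finset.mem_image.mpr
        ⟨⟨x * s⁻¹, hπ1 _ (by rw [map_mul, map_inv, e, show π s = ⟨s, hsS⟩ from hπS ⟨s, hsS⟩,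
          mul_inv_cancel])⟩, Finset.mem_univ _, inv_mul_cancel_right x s⟩)
      have h := hsum x
      rw [if_neg e] at h
      calc ∑ l : S →* ℂˣ, (((l ⟨s, hsS⟩)⁻¹ : ℂˣ) : ℂ) *
            ((Nat.card Γ : ℂ)⁻¹ * (X x * (l (π x) : ℂ) * conj (Y x)))
          = (Nat.card Γ : ℂ)⁻¹ * X x * conj (Y x) *
            ∑ l : S →* ℂˣ, (((l ⟨s, hsS⟩)⁻¹ * l (π x) : ℂˣ) : ℂ) := by
              rw [Finset.mul_sum]
              refine Finset.sum_congr rfl fun l _ => ?_
              rw [Units.val_mul]; ring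
        _ = 0 := by rw [h, mul_zero]
  have hN : N = (Nat.card S : ℂ) := by
    have h := Char.natCard_linear (G := S)
    rw [Nat.card_eq_fintype_card] at h
    rw [show N = ((Fintype.card (S →* ℂˣ) : ℕ) : ℂ) from rfl, h]
    norm_cast
    have hc : commutator S = ⊥ := by
      rw [_root_.commutator_def, eq_bot_iff, Subgroup.commutator_le]
      intro a _ b _
      rw [Subgroup.mem_bot, commutatorElement_eq_one_iff_mul_comm]
      exact habS a b
    rw [hc, Subgroup.index_bot]
  have hfun : Cfsg.IsClassFunction Γ (fun x => X x * conj (Y x)) := fun g h => by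
    simp only [Char.irr_isClassFunction hX g h, Char.irr_isClassFunction hY g h]
  have hcs := coset_sum G S hcop C hC s hs _ hfun
  have hcard : (Nat.card Γ : ℂ) = Nat.card G * Nat.card S := by
    rw [← index_eq G S hcop htop, ← G.card_mul_index, Nat.cast_mul]
  have key : Cfsg.classInner (fun c : C => X ((c : Γ) * s)) (fun c : C => Y ((c : Γ) * s)) =
      ∑ l : S →* ℂˣ, (((l ⟨s, hsS⟩)⁻¹ : ℂˣ) : ℂ) *
        Cfsg.classInner (fun x => X x * (l (π x) : ℂ)) Y := by
    rw [hA, hcard, hN, Char.classInner_def]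
    have h1 : (Nat.card C : ℂ) ≠ 0 := Char.natCard_ne_zero
    have h2 : (Nat.card G : ℂ) ≠ 0 := Char.natCard_ne_zero
    have h3 : (Nat.card S : ℂ) ≠ 0 := Char.natCard_ne_zero
    field_simp
    linear_combination -hcs
  have hlinN : ∀ (l : S →* ℂˣ) (a : G) (g : Γ), (l (π ((a : Γ) * g)) : ℂ) = l (π g) := fun l a g => by
    rw [map_mul, hπG, one_mul]
  refine ⟨fun _ hXY => ?_, fun hne => ?_⟩
  · subst hXY
    rw [key, Finset.sum_eq_single 1]
    · simp [Char.irr_classInner_self hX]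
    · intro l _ hl
      have h := Clifford.classInner_mul_mul G (Char.irr_isCharacter hX) hXr
        (fun g => (l (π g) : ℂ)) (fun _ => 1) (hlinN l) (fun _ _ => rfl)
      rw [show X * (fun _ => (1 : ℂ)) = X from funext fun x => mul_one _] at h
      change Cfsg.classInner (fun x => X x * (l (π x) : ℂ)) X = _ at h
      have h0 := Char.irr_classInner_ne (Char.isIrrCharacter_linear (l.comp π))
        Char.isIrrCharacter_one fun e => hl (MonoidHom.ext fun a => Units.ext (by
          simpa [hπS] using congr_fun e a))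
      change Cfsg.classInner (fun g => (l (π g) : ℂ)) (fun _ => 1) = 0 at h0
      rw [h, h0, mul_zero]
    · simp
  · rw [key]
    refine Finset.sum_eq_zero fun l _ => ?_
    have h0 := Char.irr_classInner_ne (Clifford.isIrrCharacter_mul_of_invariant G
      (Char.irr_isCharacter hX) hXr (Char.isIrrCharacter_linear (l.comp π)) (hlinN l)) hY
      (fun e => hne (funext fun a => by simpa [hπG] using congr_fun e (a : Γ)))
    change Cfsg.classInner (fun x => X x * (l (π x) : ℂ)) Y = 0 at h0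
    rw [h0, mul_zero]

/-- The restriction to the coset of a canonical extension is `±` irreducible. -/
theorem coset_irr {X : Γ → ℂ} (hX : Cfsg.IsIrrCharacter Γ X)
    (hXr : Cfsg.IsIrrCharacter G fun a : G => X a) (hd : (Cfsg.detOrder X).Coprime (Nat.card S)) :
    ∃ β : Cfsg.IrrCharacter C, ∃ ε : ℤ, (ε = 1 ∨ ε = -1) ∧
      (∀ c : C, X ((c : Γ) * s) = (ε : ℂ) * (β : C → ℂ) c) ∧
      Cfsg.classInner (fun c : C => X (c : Γ)) (β : C → ℂ) ≠ 0 := by
  classical
  have := Fintype.ofFinite S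
  have hsS : s ∈ S := hs ▸ Subgroup.mem_zpowers s
  have hmem := fun {c : Γ} => mem_C G S C hC s hs (c := c)
  have hcomm : ∀ (c : C) (x : S), Commute (c : Γ) (x : Γ) := by
    rintro c ⟨x, hx⟩
    rw [← hs] at hx
    obtain ⟨i, rfl⟩ := hx
    exact (hmem.mp c.2).2.zpow_right i
  let j : C × S →* Γ :=
    { toFun := fun p => (p.1 : Γ) * (p.2 : Γ)
      map_one' := by simp
      map_mul' := fun p q => by
        show ((p.1 * q.1 : C) : Γ) * ((p.2 * q.2 : S) : Γ) = _
        rw [Subgroup.coe_mul, Subgroup.coe_mul, mul_assoc, mul_assoc, ← mul_assoc (q.1 : Γ),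
          (hcomm q.1 p.2).eq, mul_assoc (p.2 : Γ)] }
  set f : C → ℂ := fun c => X ((c : Γ) * s)
  have hfcl : Cfsg.IsClassFunction C f := fun c d => by
    show X (((d * c * d⁻¹ : C) : Γ) * s) = X ((c : Γ) * s)
    rw [← Char.irr_isClassFunction hX ((c : Γ) * s) (d : Γ)]
    congr 1
    have hd' : Commute (d : Γ) s := (hmem.mp d.2).2
    simp only [Subgroup.coe_mul, InvMemClass.coe_inv, mul_assoc]
    rw [hd'.inv_left.eq]
  -- coefficients are rational
  have hcoef : ∀ β : Cfsg.IrrCharacter C, ∃ ψ : S → ℂ, Cfsg.IsCharacter S ψ ∧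
      ψ ⟨s, hsS⟩ = Cfsg.classInner f (β : C → ℂ) ∧
      ψ 1 = Cfsg.classInner (fun c : C => X (c : Γ)) (β : C → ℂ) ∧
      ∀ k : ℕ, k.Coprime (Nat.card S) → ψ (⟨s, hsS⟩ ^ k) = ψ ⟨s, hsS⟩ := by
    intro β
    refine ⟨fun x => Cfsg.classInner (fun c : C => X ((c : Γ) * (x : Γ))) (β : C → ℂ), ?_, rfl,
      by simp, fun k hk => ?_⟩
    · refine Char.isCharacter_of_nat (fun g h => ?_) fun lam hlam => ?_
      · show Cfsg.classInner (fun c : C => X ((c : Γ) * ((h * g * h⁻¹ : S) : Γ))) (β : C → ℂ) = _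
        congr 1
        funext c
        rw [← Char.irr_isClassFunction hX ((c : Γ) * g) (h : Γ)]
        congr 1
        simp only [Subgroup.coe_mul, InvMemClass.coe_inv, ← mul_assoc]
        rw [(hcomm c h).eq]
      · have hfst := Char.isIrrCharacter_comp_surjective β.2 (MonoidHom.fst C S)
          fun c => ⟨(c, 1), rfl⟩
        have hlam1 : lam 1 = 1 := Char.irr_degree_one_of_comm (fun a b => by
          obtain ⟨a, ha⟩ := a
          obtain ⟨b, hb⟩ := b
          rw [← hs] at ha hb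
          obtain ⟨i, rfl⟩ := ha
          obtain ⟨i', rfl⟩ := hb
          exact Subtype.ext (Commute.zpow_zpow_self s i i').eq) hlam
        obtain ⟨l, hl⟩ := Char.exists_hom_of_degree_one (Char.irr_isCharacter hlam) hlam1
        have hprod := Char.isIrrCharacter_mul_linear hfst (l.comp (MonoidHom.snd C S))
        obtain ⟨v, hv⟩ := Char.classInner_isCharacter_nat
          (Char.isCharacter_comp (Char.irr_isCharacter hX) j) (Char.irr_isCharacter hprod)
        refine ⟨v, ?_⟩
        rw [← hv]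
        simp only [Char.classInner_def, Nat.card_prod, Nat.cast_mul, mul_inv, hl]
        rw [Fintype.sum_prod_type, Finset.sum_comm]
        simp only [Finset.mul_sum, Finset.sum_mul]
        refine Finset.sum_congr rfl fun x _ => ?_
        refine Finset.sum_congr rfl fun c _ => ?_
        simp only [Function.comp_apply, MonoidHom.comp_apply, MonoidHom.coe_fst, MonoidHom.coe_snd, map_mul, j,
          MonoidHom.coe_mk, OneHom.coe_mk]
        ring
    · show Cfsg.classInner (fun c : C => X ((c : Γ) * ((⟨s, hsS⟩ ^ k : S) : Γ))) (β : C → ℂ) = _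
      congr 1
      funext c
      rw [Subgroup.coe_pow]
      exact apply_pow G S hcop htop hX hXr hd hk ⟨c, (hmem.mp c.2).1⟩ ⟨s, hsS⟩ (hmem.mp c.2).2
  choose ψ hψc hψs hψ1 hψk using hcoef
  have hint : ∀ β : Cfsg.IrrCharacter C, ∃ k : ℤ, Cfsg.classInner f (β : C → ℂ) = k := by
    intro β
    obtain ⟨q, hq⟩ := Char.exists_rat_of_emb_fixed (Char.charVal (hψc β) ⟨s, hsS⟩) fun e => by
      obtain ⟨m, hm, he⟩ := Char.exists_pow_of_emb (Nat.card_pos (α := S)) e
      rw [Char.emb_charVal (hψc β) e he, hψk β m hm]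
      rfl
    obtain ⟨k, hk⟩ := Char.exists_int_of_isIntegral_rat (q := q) (by
      rw [← hq]
      show IsIntegral ℤ (ψ β ⟨s, hsS⟩)
      obtain ⟨d, σ, hσ⟩ := hψc β
      rw [← hσ]
      exact Char.char_isIntegral σ _)
    exact ⟨k, by rw [← hψs]; exact hq.trans (show (q : ℂ) = (k : ℂ) by simp [hk])⟩
  have hgen : Cfsg.IsGeneralizedCharacter C f :=
    Char.isGeneralized_of_int hfcl fun β hβ => hint ⟨β, hβ⟩
  have hnorm : Cfsg.classInner f f = 1 :=
    (classInner_coset G S hcop htop C hC s hs hX hX hXr hXr).1 (fun _ => rfl) rfl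
  have hmult : ∀ β : Cfsg.IrrCharacter C, Cfsg.classInner f (β : C → ℂ) ≠ 0 →
      Cfsg.classInner (fun c : C => X (c : Γ)) (β : C → ℂ) ≠ 0 := by
    intro β hne h0
    obtain ⟨d, σ, hσ⟩ := hψc β
    apply hne
    rw [← hψs, ← hσ]
    have h1 : σ.character 1 = 0 := by rw [hσ, hψ1, h0]
    exact congr_fun (Clifford.eq_zero_of_apply_one_eq_zero ⟨d, σ, rfl⟩ h1) _
  rcases Char.isGeneralized_norm_one hgen hnorm with h | h
  · refine ⟨⟨f, h⟩, 1, Or.inl rfl, fun c => ?_, hmult ⟨f, h⟩ ?_⟩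
    · simp [f]
    · show Cfsg.classInner f f ≠ 0
      rw [hnorm]; exact one_ne_zero
  · refine ⟨⟨-f, h⟩, -1, Or.inr rfl, fun c => ?_, hmult ⟨-f, h⟩ ?_⟩
    · simp [f]
    · show Cfsg.classInner f (-f) ≠ 0
      rw [show -f = (-1 : ℂ) • f by simp, Char.classInner_smul_right, hnorm]
      simp

/-- Every character of the fixed points is reached. -/
theorem exists_of_fixed (β : Cfsg.IrrCharacter C) :
    ∃ χ : Cfsg.IrrCharacter G, ∃ X : Cfsg.IrrCharacter Γ,
      (∀ x ∈ S, ∀ g g' : G, (g' : Γ) = x * g * x⁻¹ → (χ : G → ℂ) g' = (χ : G → ℂ) g) ∧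
      (∀ a : G, (X : Γ → ℂ) a = (χ : G → ℂ) a) ∧
      (Cfsg.detOrder (X : Γ → ℂ)).Coprime (Nat.card S) ∧
      Cfsg.classInner (fun c : C => (X : Γ → ℂ) ((c : Γ) * s)) (β : C → ℂ) ≠ 0 := by
  classical
  have hsS : s ∈ S := hs ▸ Subgroup.mem_zpowers s
  have hmem := fun {c : Γ} => mem_C G S C hC s hs (c := c)
  obtain ⟨π, hπS, hπG, hπ1⟩ := exists_proj G S hcop htop
  obtain ⟨e, he1, he2⟩ := Nat.chineseRemainder hcop 0 1
  have hpow : ∀ c : C, ((c : Γ) * s) ^ e = s := fun c => by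
    rw [(hmem.mp c.2).2.mul_pow]
    have h1 : (⟨(c : Γ), (hmem.mp c.2).1⟩ : G) ^ e = 1 := by
      rw [← pow_zero (⟨(c : Γ), (hmem.mp c.2).1⟩ : G)]
      exact pow_congr _ he1
    have h2 : (⟨s, hsS⟩ : S) ^ e = ⟨s, hsS⟩ := by
      conv_rhs => rw [← pow_one (⟨s, hsS⟩ : S)]
      exact pow_congr _ he2
    rw [show (c : Γ) ^ e = 1 from congrArg Subtype.val h1,
      show s ^ e = s from congrArg Subtype.val h2, one_mul]
  -- the class function supported by the coset
  let F : Γ → ℂ := fun x => if h : ∃ c : C, IsConj x ((c : Γ) * s) then (β : C → ℂ) h.choose else 0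
  have hFc : ∀ c : C, F ((c : Γ) * s) = (β : C → ℂ) c := by
    intro c
    have h : ∃ d : C, IsConj ((c : Γ) * s) ((d : Γ) * s) := ⟨c, IsConj.refl _⟩
    simp only [F, dif_pos h]
    obtain ⟨y, hy⟩ := isConj_iff.mp h.choose_spec
    have h3 := congrArg (fun z : Γ => z ^ e) hy
    simp only [conj_pow, hpow] at h3
    obtain ⟨a, x, rfl⟩ := complement G S hcop htop y
    have hx : Commute (x : Γ) ((c : Γ) * s) := by
      obtain ⟨x, hxS⟩ := x
      rw [← hs] at hxS
      obtain ⟨i, rfl⟩ := hxS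
      exact ((hmem.mp c.2).2.symm.mul_right (Commute.refl s)).zpow_left i
    have hxs : Commute (x : Γ) s := by
      obtain ⟨x, hxS⟩ := x
      rw [← hs] at hxS
      obtain ⟨i, rfl⟩ := hxS
      exact (Commute.refl s).zpow_left i
    have ha : (a : Γ) ∈ C := hmem.mpr ⟨a.2, by
      rw [mul_inv_eq_iff_eq_mul, mul_assoc, hxs.eq, ← mul_assoc, ← mul_assoc] at h3
      exact mul_right_cancel h3⟩
    have hy' : (a : Γ) * c * (a : Γ)⁻¹ = (h.choose : Γ) := by
      refine mul_right_cancel (b := s) ?_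
      rw [← hy]
      have h4 : (a : Γ) * x * ((c : Γ) * s) * ((a : Γ) * x)⁻¹ =
          (a : Γ) * ((c : Γ) * s) * (a : Γ)⁻¹ := by
        rw [mul_assoc (a : Γ) x, hx.eq]; group
      rw [h4, mul_assoc _ (a : Γ)⁻¹ s, (hmem.mp ha).2.inv_left.eq]
      group
    rw [show h.choose = ⟨a, ha⟩ * c * (⟨a, ha⟩ : C)⁻¹ from Subtype.ext hy'.symm]
    exact Char.irr_isClassFunction β.2 _ _
  have hFcl : Cfsg.IsClassFunction Γ F := by
    intro x y
    have hiff : ∀ c : C, IsConj (y * x * y⁻¹) ((c : Γ) * s) ↔ IsConj x ((c : Γ) * s) := fun c =>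
      ⟨(isConj_iff.mpr ⟨y, rfl⟩ : IsConj x (y * x * y⁻¹)).trans,
        (isConj_iff.mpr ⟨y, rfl⟩ : IsConj x (y * x * y⁻¹)).symm.trans⟩
    simp only [F]
    by_cases h : ∃ c : C, IsConj x ((c : Γ) * s)
    · have h' : ∃ c : C, IsConj (y * x * y⁻¹) ((c : Γ) * s) := by
        obtain ⟨c, hc⟩ := h; exact ⟨c, (hiff c).mpr hc⟩
      rw [dif_pos h, dif_pos h']
      congr 1
      simp only [hiff]
    · rw [dif_neg h, dif_neg fun ⟨c, hc⟩ => h ⟨c, (hiff c).mp hc⟩]
  have hsupp : ∀ x, F x ≠ 0 → π x = ⟨s, hsS⟩ := by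
    intro x hx
    by_cases h : ∃ c : C, IsConj x ((c : Γ) * s)
    · obtain ⟨c, hc⟩ := h
      obtain ⟨y, hy⟩ := isConj_iff.mp hc
      have h1 := congrArg π hy
      rw [map_mul, map_mul, map_inv, map_mul,
        show π (c : Γ) = 1 from hπG ⟨c, (hmem.mp c.2).1⟩, one_mul,
        show π s = ⟨s, hsS⟩ from hπS ⟨s, hsS⟩] at h1
      rw [← h1]
      have hab : ∀ a b : S, a * b = b * a := by
        rintro ⟨a, ha⟩ ⟨b, hb⟩
        rw [← hs] at ha hb
        obtain ⟨i, rfl⟩ := ha
        obtain ⟨i', rfl⟩ := hb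
        exact Subtype.ext (Commute.zpow_zpow_self s i i').eq
      rw [hab (π y), mul_inv_cancel_right]
    · exact absurd (by simp only [F, dif_neg h]) hx
  have hF0 : F ≠ 0 := fun h => Char.irr_apply_one_ne_zero β.2 (by rw [← hFc 1, h]; rfl)
  obtain ⟨Y, hY, hYne⟩ : ∃ Y, Cfsg.IsIrrCharacter Γ Y ∧ Cfsg.classInner F Y ≠ 0 := by
    by_contra! hno
    exact hF0 (Char.classFunction_eq_zero hFcl hno)
  obtain ⟨θ, hθ, hθne⟩ := Clifford.exists_irr_constituent_restrict (N := G) hY
  have hgt : G ≤ Clifford.inertia θ := Clifford.le_inertia (Char.irr_isClassFunction hθ)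
  have hsI : s ∈ Clifford.inertia θ := by
    by_contra hsI
    have hTn : (Clifford.inertia θ).Normal := by
      refine ⟨fun t ht g => ?_⟩
      obtain ⟨a, x, rfl⟩ := complement G S hcop htop g
      obtain ⟨b, z, rfl⟩ := complement G S hcop htop t
      have hz : (z : Γ) ∈ Clifford.inertia θ := by
        have := mul_mem (inv_mem (hgt b.2)) ht
        rwa [inv_mul_cancel_left] at this
      have hxz : (x : Γ) * z * (x : Γ)⁻¹ = z := by
        obtain ⟨x, hxS⟩ := x
        obtain ⟨z, hzS⟩ := z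
        rw [← hs] at hxS hzS
        obtain ⟨i, rfl⟩ := hxS
        obtain ⟨i', rfl⟩ := hzS
        rw [(Commute.zpow_zpow_self s i i').eq, mul_inv_cancel_right]
      rw [show (a : Γ) * x * ((b : Γ) * z) * ((a : Γ) * x)⁻¹ =
        (a : Γ) * (((x : Γ) * b * (x : Γ)⁻¹) * ((x : Γ) * z * (x : Γ)⁻¹)) * (a : Γ)⁻¹ by group, hxz]
      exact mul_mem (mul_mem (hgt a.2) (mul_mem (hgt (‹G.Normal›.conj_mem b b.2 x)) hz))
        (inv_mem (hgt a.2))
    obtain ⟨η, hη, hYη, -⟩ := Clifford.exists_indFun_inertia (Clifford.inertia θ) hgt hθ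
      (fun g => Clifford.mem_inertia_iff_conjFn) hY hθne
    apply hYne
    rw [Char.classInner_def, Finset.sum_eq_zero fun x _ => ?_, mul_zero]
    by_cases hx : F x = 0
    · rw [hx, zero_mul]
    · have hxT : x ∉ Clifford.inertia θ := by
        intro hxT
        obtain ⟨a, z, rfl⟩ := complement G S hcop htop x
        have h1 := hsupp _ hx
        rw [map_mul, hπG, one_mul, hπS] at h1
        subst h1
        have := mul_mem (inv_mem (hgt a.2)) hxT
        rw [inv_mul_cancel_left] at this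
        exact hsI this
      rw [← hYη, Clifford.indFun_eq_zero_of_not_mem η hxT, map_zero, mul_zero]
  have hθinv : ∀ x ∈ S, ∀ g g' : G, (g' : Γ) = x * g * x⁻¹ → θ g' = θ g := by
    intro x hx g g' he
    rw [← hs] at hx
    have hxI : x ∈ Clifford.inertia θ := Subgroup.zpowers_le.mpr hsI hx
    rw [show g' = conjN x g from Subtype.ext he]
    exact hxI g
  obtain ⟨X, hX, hXr, hXd⟩ := exists_canonical G S hcop htop hθ hθinv
  have hXres : Cfsg.IsIrrCharacter G fun a : G => X a := by rw [funext hXr]; exact hθ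
  refine ⟨⟨θ, hθ⟩, ⟨X, hX⟩, hθinv, hXr, hXd, fun h0 => hYne ?_⟩
  obtain ⟨hb, hfac⟩ := Clifford.gallagher_factor G hY (Char.irr_isCharacter hX) hXres
    (by rw [funext hXr]; exact hθne)
  set b := Clifford.gallagherQuot G Y X
  have hbs : ∀ a : G, b ((a : Γ) * s) = b s := fun a => Clifford.cosetAvg_mul_left G _ a s
  have hcs := coset_sum G S hcop C hC s hs (fun x => F x * conj (X x))
    (fun g h => by simp only [hFcl g h, Char.irr_isClassFunction hX g h])
  have hz : ∑ c : C, F ((c : Γ) * s) * conj (X ((c : Γ) * s)) = 0 := by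
    have h1 : Cfsg.classInner (β : C → ℂ) (fun c : C => X ((c : Γ) * s)) = 0 := by
      rw [← Char.classInner_conj_symm]
      exact (congrArg conj h0).trans (map_zero _)
    rw [Char.classInner_def, mul_eq_zero, or_iff_right (inv_ne_zero Char.natCard_ne_zero)] at h1
    simpa only [hFc] using h1
  simp only [hz, mul_zero] at hcs
  have hG0 : ∑ a : G, F ((a : Γ) * s) * conj (X ((a : Γ) * s)) = 0 :=
    (mul_eq_zero.mp hcs).resolve_left Char.natCard_ne_zero
  rw [Char.classInner_def, mul_eq_zero]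
  right
  rw [← Finset.sum_subset (Finset.subset_univ (Finset.univ.image fun a : G => (a : Γ) * s))
    (fun x _ hx => ?_), Finset.sum_image fun a _ a' _ h => Subtype.ext (mul_right_cancel h)]
  · calc ∑ a : G, F ((a : Γ) * s) * conj (Y ((a : Γ) * s))
        = conj (b s) * ∑ a : G, F ((a : Γ) * s) * conj (X ((a : Γ) * s)) := by
          rw [Finset.mul_sum]
          refine Finset.sum_congr rfl fun a _ => ?_
          rw [hfac, Pi.mul_apply, hbs, map_mul]
          ring
      _ = 0 := by rw [hG0, mul_zero]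
  · by_cases hFx : F x = 0
    · rw [hFx, zero_mul]
    · refine absurd (Finset.mem_image.mpr ⟨⟨x * s⁻¹, hπ1 _ ?_⟩, Finset.mem_univ _,
        inv_mul_cancel_right x s⟩) hx
      rw [map_mul, map_inv, hsupp x hFx, show π s = ⟨s, hsS⟩ from hπS ⟨s, hsS⟩, mul_inv_cancel]

end CfsgLib.Clifford.CyclicGlauberman
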