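import Cfsg.Agent.Lib.BlockB.McKayBasic
import Cfsg.Agent.Lib.Clifford.CosetAvg
import Cfsg.Agent.Lib.Clifford.Correspondence

/-!
Cosets of a normal subgroup with cyclic centralizer in the quotient carry class functions that are
combinations of the characters over an invariant character: with at most two such characters these
cosets form one class, and the index is a sum of two squares.
-/

set_option autoImplicit false
set_option linter.unusedSectionVars false
set_option maxHeartbeats 1000000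

namespace CfsgLib.Clifford.RegularCosets

open Cfsg
open scoped ComplexConjugate

universe u

variable {T : Type u} [Group T] [Fintype T] (C : Subgroup T) [hCn : C.Normal] [Fintype C]
  {θ : C → ℂ} (hθ : IsIrrCharacter C θ) (hinv : ∀ t : T, conjFn t θ = θ)
include hθ hinv

/-- A class function on one coset class, orthogonal to the characters not over `θ`. -/
theorem exists_fun {t : T} (hcyc : IsCyclic (Subgroup.centralizer ({(t : T ⧸ C)} : Set (T ⧸ C)))) :
    ∃ F : T → ℂ, IsClassFunction T F ∧ (∀ g, F g ≠ 0 → IsConj (g : T ⧸ C) (t : T ⧸ C)) ∧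
      (∃ g, F g ≠ 0) ∧
      ∀ χ : T → ℂ, IsIrrCharacter T χ → classInner (fun c : C => χ c) θ = 0 →
        classInner F χ = 0 := by
  classical
  set Z := Subgroup.centralizer ({(t : T ⧸ C)} : Set (T ⧸ C)) with hZ
  set U := Z.comap (QuotientGroup.mk' C) with hU
  have hmemU : ∀ x : T, x ∈ U ↔ (x : T ⧸ C) * (t : T ⧸ C) = (t : T ⧸ C) * (x : T ⧸ C) := fun x =>
    Subgroup.mem_centralizer_singleton_iff
  have htU : t ∈ U := (hmemU t).2 rfl
  have hCU : C ≤ U := fun c hc => by
    rw [hU, Subgroup.mem_comap, QuotientGroup.mk'_apply, (QuotientGroup.eq_one_iff c).2 hc]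
    exact Z.one_mem
  set C' := C.subgroupOf U with hC'
  have := Fintype.ofFinite C'
  have := Fintype.ofFinite U
  let π : U →* Z := ((QuotientGroup.mk' C).comp U.subtype).codRestrict Z fun u => u.2
  have hπs : Function.Surjective π := by
    rintro ⟨q, hq⟩
    obtain ⟨x, rfl⟩ := QuotientGroup.mk'_surjective C q
    exact ⟨⟨x, hq⟩, rfl⟩
  have hker : π.ker = C' := by
    ext u
    rw [MonoidHom.mem_ker, hC', Subgroup.mem_subgroupOf, ← QuotientGroup.eq_one_iff]
    exact ⟨fun h => congrArg Subtype.val h, fun h => Subtype.ext h⟩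
  have : IsCyclic (U ⧸ C') :=
    isCyclic_of_surjective ((QuotientGroup.quotientMulEquivOfEq hker).symm.trans
      (QuotientGroup.quotientKerEquivOfSurjective π hπs)).symm.toMonoidHom
      ((QuotientGroup.quotientMulEquivOfEq hker).symm.trans
        (QuotientGroup.quotientKerEquivOfSurjective π hπs)).symm.surjective
  let e : C' ≃* C := Subgroup.subgroupOfEquivOfLe hCU
  have hθ' : IsIrrCharacter C' (fun n => θ (e n)) :=
    CfsgLib.Char.isIrrCharacter_comp_surjective hθ e.toMonoidHom e.surjective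
  obtain ⟨Θ, hΘ, hres⟩ := CfsgLib.BlockB.McKay.exists_extension_cyclic C' hθ' fun u =>
    funext fun n => by
      refine Eq.trans ?_ (congr_fun (hinv (u : T)) (e n))
      exact congrArg θ (Subtype.ext rfl)
  have hresf : (fun n : C' => Θ n) = fun n => θ (e n) := funext hres
  have hΘres : IsIrrCharacter C' (fun n : C' => Θ n) := by rw [hresf]; exact hθ'
  let f₀ : T → ℂ := fun g => if h : g ∈ U then if t⁻¹ * g ∈ C then Θ ⟨g, h⟩ else 0 else 0
  let F : T → ℂ := fun g => ∑ x : T, f₀ (x * g * x⁻¹)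
  have hf₀ : ∀ g, f₀ g ≠ 0 → (g : T ⧸ C) = t := by
    intro g hg
    simp only [f₀] at hg
    split_ifs at hg with h1 h2
    · exact (QuotientGroup.eq.2 h2).symm
    · exact absurd rfl hg
    · exact absurd rfl hg
  have hF : IsClassFunction T F := by
    intro g h
    refine Fintype.sum_equiv (Equiv.mulRight h) _ _ fun x => ?_
    simp [mul_assoc]
  refine ⟨F, hF, fun g hg => ?_, ?_, fun χ hχ h0 => ?_⟩
  · obtain ⟨x, -, hx⟩ := Finset.exists_ne_zero_of_sum_ne_zero hg
    refine isConj_iff.2 ⟨(x : T ⧸ C), ?_⟩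
    have := hf₀ _ hx
    rwa [QuotientGroup.mk_mul, QuotientGroup.mk_mul, QuotientGroup.mk_inv] at this
  · have h1 := congr_fun (cosetAvg_normSq_eq_one C' (CfsgLib.Char.irr_isCharacter hΘ) hΘres) ⟨t, htU⟩
    obtain ⟨n, hn⟩ : ∃ n : C', Θ ((n : U) * ⟨t, htU⟩) ≠ 0 := by
      by_contra hcon
      push Not at hcon
      rw [cosetAvg, Finset.sum_eq_zero (fun n _ => by rw [hcon n, zero_mul]), mul_zero] at h1
      exact zero_ne_one h1
    set v : U := (n : U) * ⟨t, htU⟩ with hv
    have hvt : ((v : T) : T ⧸ C) = t := by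
      rw [hv, Subgroup.coe_mul, QuotientGroup.mk_mul,
        (QuotientGroup.eq_one_iff ((n : U) : T)).2 n.2, one_mul]
    refine ⟨v, ?_⟩
    have key : F (v : T) = ∑ x ∈ Finset.univ.filter (· ∈ U), Θ v := by
      rw [Finset.sum_filter]
      refine Finset.sum_congr rfl fun x _ => ?_
      by_cases hx : x ∈ U
      · rw [if_pos hx]
        have hmem : x * (v : T) * x⁻¹ ∈ U := U.mul_mem (U.mul_mem hx v.2) (U.inv_mem hx)
        have hC : t⁻¹ * (x * (v : T) * x⁻¹) ∈ C := by
          refine QuotientGroup.eq.1 ?_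
          rw [QuotientGroup.mk_mul, QuotientGroup.mk_mul, QuotientGroup.mk_inv, hvt,
            (hmemU x).1 hx, mul_inv_cancel_right]
        simp only [f₀, dif_pos hmem, if_pos hC]
        exact CfsgLib.Char.irr_isClassFunction hΘ v ⟨x, hx⟩
      · rw [if_neg hx]
        by_contra hne
        refine hx ((hmemU x).2 ?_)
        have := hf₀ _ hne
        rw [QuotientGroup.mk_mul, QuotientGroup.mk_mul, QuotientGroup.mk_inv, hvt,
          mul_inv_eq_iff_eq_mul] at this
        exact this
    rw [key, Finset.sum_const, nsmul_eq_mul]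
    exact mul_ne_zero (Nat.cast_ne_zero.2 (Finset.card_ne_zero.2
      ⟨1, Finset.mem_filter.2 ⟨Finset.mem_univ _, U.one_mem⟩⟩)) hn
  · have hχU := CfsgLib.Char.isCharacter_restrict (CfsgLib.Char.irr_isCharacter hχ) U
    have h0' : classInner (fun n : C' => χ ((n : U) : T)) (fun n : C' => Θ n) = 0 := by
      rw [hresf, ← h0, CfsgLib.Char.classInner_def, CfsgLib.Char.classInner_def,
        Nat.card_congr e.toEquiv]
      congr 1
      exact Fintype.sum_equiv e.toEquiv _ _ fun n => rfl
    have hg := congr_fun (gallagherQuot_eq_zero C' hχU (CfsgLib.Char.irr_isCharacter hΘ) h0')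
      ⟨t, htU⟩
    rw [gallagherQuot, cosetAvg, Pi.zero_apply, mul_eq_zero] at hg
    have hsum : ∑ n : C', χ (((n : U) : T) * t) * conj (Θ ((n : U) * ⟨t, htU⟩)) = 0 :=
      hg.resolve_left (inv_ne_zero (natCard_sub_ne_zero C'))
    have hz : ∑ g : T, f₀ g * conj (χ g) = 0 := by
      have e1 : ∑ g : T, f₀ g * conj (χ g) =
          ∑ n : C', f₀ (((n : U) : T) * t) * conj (χ (((n : U) : T) * t)) := by
        rw [← Finset.sum_subset (Finset.subset_univ
          (Finset.univ.image fun n : C' => ((n : U) : T) * t))]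
        · rw [Finset.sum_image fun a _ b _ h => Subtype.ext (Subtype.ext (mul_right_cancel h))]
        · intro g _ hg'
          by_contra hne
          have h2 : (g : T ⧸ C) = t := hf₀ g fun h => hne (by rw [h, zero_mul])
          have h3 : g * t⁻¹ ∈ C := by
            rw [← QuotientGroup.eq_one_iff, QuotientGroup.mk_mul, h2, QuotientGroup.mk_inv,
              mul_inv_cancel]
          exact hg' (Finset.mem_image.2 ⟨⟨⟨g * t⁻¹, hCU h3⟩, h3⟩, Finset.mem_univ _,
            inv_mul_cancel_right g t⟩)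
      rw [e1]
      have e2 : ∀ n : C', f₀ (((n : U) : T) * t) = Θ ((n : U) * ⟨t, htU⟩) := fun n => by
        have hm : ((n : U) : T) * t ∈ U := U.mul_mem (n : U).2 htU
        have hc : t⁻¹ * (((n : U) : T) * t) ∈ C := hCn.conj_mem' _ n.2 t |> fun h => by
          rwa [mul_assoc] at h
        simp only [f₀, dif_pos hm, if_pos hc]
        rfl
      rw [← map_eq_zero (starRingEnd ℂ), map_sum]
      refine Eq.trans (Finset.sum_congr rfl fun n _ => ?_) hsum
      rw [e2, map_mul, Complex.conj_conj, mul_comm]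
    rw [CfsgLib.Char.classInner_def]
    simp only [F, Finset.sum_mul]
    rw [Finset.sum_comm, Finset.sum_eq_zero fun x _ => ?_, mul_zero]
    rw [← hz]
    refine Fintype.sum_equiv (MulAut.conj x).toEquiv _ _ fun g => ?_
    show _ = f₀ (x * g * x⁻¹) * conj (χ (x * g * x⁻¹))
    rw [CfsgLib.Char.irr_isClassFunction hχ g x]

/-- **One class of cosets with cyclic centralizer.** -/
theorem isConj_of_two
    (h2 : Nat.card {χ : IrrCharacter T // classInner (fun c : C => (χ : T → ℂ) c) θ ≠ 0} ≤ 2)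
    {f g : T ⧸ C} (hf : f ≠ 1) (hg : g ≠ 1)
    (hfc : IsCyclic (Subgroup.centralizer ({f} : Set (T ⧸ C))))
    (hgc : IsCyclic (Subgroup.centralizer ({g} : Set (T ⧸ C)))) : IsConj f g := by
  classical
  by_contra hne
  obtain ⟨t₁, rfl⟩ := QuotientGroup.mk_surjective f
  obtain ⟨t₂, rfl⟩ := QuotientGroup.mk_surjective g
  have := Fintype.ofFinite (IrrCharacter T)
  -- the coset of the identity
  obtain ⟨F₁, hF₁, hs₁, ⟨g₁, hg₁⟩, ho₁⟩ := exists_fun C hθ hinv hfc
  obtain ⟨F₂, hF₂, hs₂, ⟨g₂, hg₂⟩, ho₂⟩ := exists_fun C hθ hinv hgc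
  set F₀ := indFun C θ with hF₀def
  have hs₀ : ∀ x, F₀ x ≠ 0 → (x : T ⧸ C) = 1 := fun x hx => by
    rw [QuotientGroup.eq_one_iff]
    by_contra h
    exact hx (indFun_eq_zero_of_not_mem θ h)
  have hg₀ : F₀ 1 ≠ 0 := by
    intro h
    have h' := congr_fun (indFun_restrict (N := C) θ) 1
    rw [hF₀def] at h
    rw [Subgroup.coe_one, h] at h'
    simp only [Pi.smul_apply, Finset.sum_apply, conjFn_apply, map_one, smul_eq_mul] at h'
    rw [Finset.sum_congr rfl (g := fun _ => θ 1) fun x _ => congrArg θ (Subtype.ext (by simp)),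
      Finset.sum_const, nsmul_eq_mul, eq_comm, mul_eq_zero, mul_eq_zero] at h'
    rcases h' with h' | h' | h'
    · exact inv_ne_zero (natCard_sub_ne_zero C) h'
    · exact Nat.cast_ne_zero.2 (Finset.card_ne_zero.2 ⟨1, Finset.mem_univ _⟩) h'
    · exact CfsgLib.Char.irr_apply_one_ne_zero hθ h'
  have ho₀ : ∀ χ : T → ℂ, IsIrrCharacter T χ → classInner (fun c : C => χ c) θ = 0 →
      classInner F₀ χ = 0 := fun χ hχ h => by
    rw [hF₀def, CfsgLib.Char.frobenius_reciprocity C θ χ (CfsgLib.Char.irr_isClassFunction hχ),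
      ← CfsgLib.Char.classInner_conj_symm, h, map_zero]
  set S : Finset (IrrCharacter T) := (Finset.univ : Finset (IrrCharacter T)).filter
    (fun χ : IrrCharacter T => classInner (fun c : C => (χ : T → ℂ) c) θ ≠ 0) with hS
  have hScard : S.card ≤ 2 := by
    rw [Nat.card_eq_fintype_card, Fintype.card_subtype] at h2
    exact h2
  set W := Submodule.span ℂ ((S.image fun χ : IrrCharacter T => (χ : T → ℂ) : Finset (T → ℂ)) :
    Set (T → ℂ))
  have hmem : ∀ F : T → ℂ, IsClassFunction T F →
      (∀ χ : T → ℂ, IsIrrCharacter T χ → classInner (fun c : C => χ c) θ = 0 →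
        classInner F χ = 0) → F ∈ W := by
    intro F hF ho
    rw [CfsgLib.Char.classFunction_eq_sum hF]
    refine Submodule.sum_mem _ fun χ _ => ?_
    by_cases h : classInner (fun c : C => (χ : T → ℂ) c) θ = 0
    · rw [ho _ χ.2 h, zero_smul]; exact zero_mem _
    · exact Submodule.smul_mem _ _ (Submodule.subset_span (Finset.mem_image_of_mem _
        (Finset.mem_filter.2 ⟨Finset.mem_univ _, h⟩)))
  let v : Fin 3 → W := ![⟨F₀, hmem F₀ (CfsgLib.Char.indFun_isClassFunction C θ) ho₀⟩,
    ⟨F₁, hmem F₁ hF₁ ho₁⟩, ⟨F₂, hmem F₂ hF₂ ho₂⟩]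
  have h01 : ∀ x, F₀ x ≠ 0 → F₁ x = 0 := fun x h0 => by
    by_contra h1
    have := hs₁ x h1
    rw [hs₀ x h0] at this
    exact hf (isConj_one_right.1 this)
  have h02 : ∀ x, F₀ x ≠ 0 → F₂ x = 0 := fun x h0 => by
    by_contra h1
    have := hs₂ x h1
    rw [hs₀ x h0] at this
    exact hg (isConj_one_right.1 this)
  have h12 : ∀ x, F₁ x ≠ 0 → F₂ x = 0 := fun x h0 => by
    by_contra h1
    exact hne ((hs₁ x h0).symm.trans (hs₂ x h1))
  have hind : LinearIndependent ℂ v := by
    rw [Fintype.linearIndependent_iff]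
    intro a ha i
    have hev : ∀ x, a 0 * F₀ x + a 1 * F₁ x + a 2 * F₂ x = 0 := fun x => by
      have := congr_fun (congrArg (Subtype.val : W → T → ℂ) ha) x
      simpa [v, Fin.sum_univ_three] using this
    have z0 : F₁ g₁ ≠ 0 → F₀ g₁ = 0 := fun h => by
      by_contra h'; exact h (h01 g₁ h')
    have z0' : F₂ g₂ ≠ 0 → F₀ g₂ = 0 := fun h => by
      by_contra h'; exact h (h02 g₂ h')
    have z1 : F₂ g₂ ≠ 0 → F₁ g₂ = 0 := fun h => by
      by_contra h'; exact h (h12 g₂ h')
    fin_cases i
    · have := hev 1; rw [h01 1 hg₀, h02 1 hg₀] at this; simpa [hg₀] using this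
    · have := hev g₁; rw [z0 hg₁, h12 g₁ hg₁] at this; simpa [hg₁] using this
    · have := hev g₂; rw [z0' hg₂, z1 hg₂] at this; simpa [hg₂] using this
  have h := hind.fintype_card_le_finrank
  have h' := finrank_span_finset_le_card (R := ℂ)
    (S.image fun χ : IrrCharacter T => (χ : T → ℂ))
  have h'' := Finset.card_image_le (s := S) (f := fun χ : IrrCharacter T => (χ : T → ℂ))
  rw [Fintype.card_fin] at h
  have : Module.finrank ℂ W ≤ 2 := le_trans h' (le_trans h'' hScard)
  omega

/-- The index is the sum of the squares of the multiplicities. -/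
theorem sum_sq_eq_index {e : IrrCharacter T → ℕ}
    (he : ∀ χ : IrrCharacter T, classInner (fun c : C => (χ : T → ℂ) c) θ = e χ)
    [Fintype (IrrCharacter T)] : ∑ χ : IrrCharacter T, e χ ^ 2 = Nat.card (T ⧸ C) := by
  classical
  have h1 := classInner_indFun_indFun (N := C) hθ hθ
  have h2 : Nat.card {x : T // conjFn x θ = θ} = Nat.card T :=
    Nat.card_congr (Equiv.subtypeUnivEquiv hinv)
  rw [h2] at h1
  have h3 : classInner (indFun C θ) (indFun C θ) = ∑ χ : IrrCharacter T, ((e χ : ℂ) ^ 2) := by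
    conv_lhs => arg 1; rw [CfsgLib.Char.classFunction_eq_sum (CfsgLib.Char.indFun_isClassFunction C θ)]
    rw [CfsgLib.Char.classInner_sum_left]
    refine Finset.sum_congr rfl fun χ _ => ?_
    rw [CfsgLib.Char.classInner_smul_left,
      CfsgLib.Char.frobenius_reciprocity C θ _ (CfsgLib.Char.irr_isClassFunction χ.2),
      ← CfsgLib.Char.classInner_conj_symm (fun c : C => (χ : T → ℂ) c),
      ← CfsgLib.Char.classInner_conj_symm (indFun C θ) (χ : T → ℂ),
      CfsgLib.Char.frobenius_reciprocity C θ _ (CfsgLib.Char.irr_isClassFunction χ.2),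
      ← CfsgLib.Char.classInner_conj_symm (fun c : C => (χ : T → ℂ) c), he χ, map_natCast,
      map_natCast, sq]
  have h4 : ((∑ χ : IrrCharacter T, e χ ^ 2 : ℕ) : ℂ) = (Nat.card (T ⧸ C) : ℂ) := by
    push_cast
    rw [← h3, h1, Subgroup.card_eq_card_quotient_mul_card_subgroup C]
    push_cast
    field_simp [natCard_sub_ne_zero C]
  exact_mod_cast h4

/-- **Two squares.** -/
theorem exists_two_squares
    (h2 : Nat.card {χ : IrrCharacter T // classInner (fun c : C => (χ : T → ℂ) c) θ ≠ 0} ≤ 2) :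
    ∃ a b : ℕ, Nat.card (T ⧸ C) = a ^ 2 + b ^ 2 := by
  classical
  have := Fintype.ofFinite (IrrCharacter T)
  choose e he using fun χ : IrrCharacter T => CfsgLib.Char.classInner_isCharacter_nat
    (CfsgLib.Char.isCharacter_restrict (CfsgLib.Char.irr_isCharacter χ.2) C)
    (CfsgLib.Char.irr_isCharacter hθ)
  rw [← sum_sq_eq_index C hθ hinv he]
  rw [Nat.card_eq_fintype_card, Fintype.card_subtype] at h2
  set S := Finset.univ.filter
    fun χ : IrrCharacter T => classInner (fun c : C => (χ : T → ℂ) c) θ ≠ 0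
  have hs : ∑ χ : IrrCharacter T, e χ ^ 2 = ∑ χ ∈ S, e χ ^ 2 := by
    refine (Finset.sum_subset (Finset.subset_univ S) fun χ _ hχ => ?_).symm
    simp only [S, Finset.mem_filter, Finset.mem_univ, true_and, not_not, he,
      Nat.cast_eq_zero] at hχ
    simp [hχ]
  rw [hs]
  rcases (show S.card = 0 ∨ S.card = 1 ∨ S.card = 2 by omega) with h | h | h
  · exact ⟨0, 0, by simp [Finset.card_eq_zero.1 h]⟩
  · obtain ⟨a, ha⟩ := Finset.card_eq_one.1 h
    exact ⟨e a, 0, by simp [ha]⟩
  · obtain ⟨a, b, hab, he'⟩ := Finset.card_eq_two.1 h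
    exact ⟨e a, e b, by rw [he', Finset.sum_pair hab]⟩

end CfsgLib.Clifford.RegularCosets
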