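import Cfsg.Agent.Lib.Clifford.AbelianQuot
import Cfsg.Agent.Lib.Char.Integral

/-!
# Inducing an irreducible character with abelian inertia quotient
-/

namespace CfsgLib.Clifford

open Module
open scoped ComplexConjugate

universe u

variable {G : Type u} [Group G] [Fintype G]

/-- Decomposition of an induced character with abelian inertia quotient, with the extension
criterion. -/
theorem indFun_decomp_inertia (H T : Subgroup G) [hN : H.Normal] [Fintype H] {θ : H → ℂ}
    (hθ : Cfsg.IsIrrCharacter H θ) (hT : ∀ g, g ∈ T ↔ conjFn g θ = θ)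
    (hab : ∀ x ∈ T, ∀ y ∈ T, x * y * x⁻¹ * y⁻¹ ∈ H) :
    ∃ (e : ℕ) (C : Finset (G → ℂ)), 0 < e ∧ (∀ χ ∈ C, Cfsg.IsIrrCharacter G χ) ∧
      e ^ 2 * C.card * Nat.card H = Nat.card T ∧
      Cfsg.indFun H θ = (e : ℂ) • ∑ χ ∈ C, χ ∧
      (∀ χ ∈ C, χ 1 = (T.index : ℂ) * e * θ 1) ∧
      (Nat.Coprime (Nat.card H) (H.relIndex T) → e = 1) := by
  classical
  have hHT : H ≤ T := fun h hh => (hT h).mpr
    (mem_inertia_iff_conjFn.mp (le_inertia (Char.irr_isClassFunction hθ) hh))
  let e₀ : H.subgroupOf T ≃* H := Subgroup.subgroupOfEquivOfLe hHT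
  let θ' : H.subgroupOf T → ℂ := θ ∘ e₀
  have hθ' : Cfsg.IsIrrCharacter (H.subgroupOf T) θ' :=
    Char.isIrrCharacter_comp_surjective hθ e₀.toMonoidHom e₀.surjective
  have hinv : ∀ t : T, conjFn t θ' = θ' := fun t => funext fun m => subgroupOf_conjFn_eq T hT t m
  obtain ⟨e, C, he, hC, hcard, hsum, hall⟩ := indFun_decomp_abelian_quot (N := H.subgroupOf T)
    (fun x y => Subgroup.mem_subgroupOf.mpr (hab x x.2 y y.2)) hθ' hinv
  have hmult : ∀ ψ ∈ C, Cfsg.classInner (fun n : H => ψ ⟨(n : G), hHT n.2⟩) θ ≠ 0 := by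
    intro ψ hψ
    rw [show Cfsg.classInner (fun n : H => ψ ⟨(n : G), hHT n.2⟩) θ = (e : ℂ) from ?_]
    · exact_mod_cast he.ne'
    rw [← (hC ψ hψ).2.2, Char.classInner_def, Char.classInner_def, Nat.card_congr e₀.toEquiv]
    congr 1
    exact (Fintype.sum_equiv e₀.toEquiv _ _ fun m => rfl).symm
  have hinj : Set.InjOn (fun ψ => Cfsg.indFun T ψ) (C : Set (T → ℂ)) := fun a ha b hb h => by
    obtain ⟨hirr, huniq⟩ := indFun_inertia T hHT hθ hT (hC a ha).1 (hmult a ha)
    refine huniq b (hC b hb).1 (hmult b hb) ?_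
    rw [show Cfsg.indFun T b = Cfsg.indFun T a from h.symm, Char.irr_classInner_self hirr]
    exact one_ne_zero
  refine ⟨e, C.image (fun ψ => Cfsg.indFun T ψ), he, ?_, ?_, ?_, ?_, ?_⟩
  · intro χ hχ
    obtain ⟨ψ, hψ, rfl⟩ := Finset.mem_image.mp hχ
    exact (indFun_inertia T hHT hθ hT (hC ψ hψ).1 (hmult ψ hψ)).1
  · rw [Finset.card_image_of_injOn hinj, hcard, ← Nat.card_congr e₀.toEquiv]
    exact Subgroup.index_mul_card _
  · have h1 := Char.indFun_trans H T hHT θ
    rw [show (fun x : H.subgroupOf T => θ ⟨(x : T), Subgroup.mem_subgroupOf.mp x.2⟩) = θ' from rfl,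
      hsum, Char.indFun_smul, Char.indFun_sum] at h1
    rw [← h1, Finset.sum_image hinj]
  · intro χ hχ
    obtain ⟨ψ, hψ, rfl⟩ := Finset.mem_image.mp hχ
    rw [Char.indFun_apply_one, (hC ψ hψ).2.1]
    simp [θ', mul_assoc]
  · intro hcop
    obtain ⟨k, ρ, hρ, hρc⟩ := id hθ'
    have hi : ∀ (t : T) (m : H.subgroupOf T), ρ.character (conjN t m) = ρ.character m := fun t m => by
      rw [hρc]; exact congr_fun (hinv t) m
    let lam : H.subgroupOf T →* ℂˣ := (Units.map LinearMap.det).comp (repUnits ρ)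
    have hlinv : ∀ (t : T) (m : H.subgroupOf T), lam (conjN t m) = lam m := by
      intro t m
      obtain ⟨a, rfl⟩ := proj_surjective ρ hi t
      have h := congr_arg (Units.map LinearMap.det) (opUnits_mul_rep ρ a m)
      rw [map_mul, map_mul, mul_comm] at h
      exact (mul_right_cancel h).symm
    have hcop' : Nat.Coprime (H.subgroupOf T).index (Nat.card (H.subgroupOf T)) := by
      rw [Nat.card_congr e₀.toEquiv]; exact hcop.symm
    obtain ⟨μ, hμ, -, -⟩ := exists_linear_extension lam hlinv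
      (hcop'.coprime_dvd_right (orderOf_dvd_natCard lam))
    have hk : k ∣ Nat.card (H.subgroupOf T) := by
      simpa using Char.degree_dvd_card ρ
    obtain ⟨Θ, hΘ, hres⟩ := exists_irr_extension_of_det ρ hi μ
      (fun m => by rw [hμ]; rfl) (hcop'.coprime_dvd_right hk)
    have hres' : ∀ m : H.subgroupOf T, Θ m = θ' m := fun m => by rw [hres, hρc]
    have hΘC : Θ ∈ C := hall Θ hΘ (by
      rw [funext hres', Char.irr_classInner_self hθ']
      exact one_ne_zero)
    exact eq_one_of_extension hθ' hres' (hC Θ hΘC).2.2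

end CfsgLib.Clifford
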