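import Cfsg.Agent.Lib.Clifford.InvariantCentral
import Cfsg.Agent.Lib.Clifford.Cover
import Cfsg.Agent.Lib.Clifford.CosetAvg
import Cfsg.Agent.Lib.Clifford.Extension

/-!
# Invariant characters over invariant characters for normal subgroups with coprime indices

A central cover in which the character extends reduces the question to a central character.
-/

set_option autoImplicit false

namespace CfsgLib.Clifford.InvariantNormal

open CfsgLib
open scoped ComplexConjugate

universe u

theorem exists_invariant {Γ : Type u} [Group Γ] [Finite Γ] (G N : Subgroup Γ) [G.Normal] [N.Normal]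
    [Fintype N] (hNG : N ≤ G) (hcop : G.index.Coprime (N.relIndex G))
    (hsolv : Group.IsSolvable (Γ ⧸ G) ∨ Group.IsSolvable (G ⧸ N.subgroupOf G))
    {θ : N → ℂ} (hθ : Cfsg.IsIrrCharacter N θ) (hinv : ∀ x : Γ, conjFn x θ = θ) :
    ∃ χ : Cfsg.IrrCharacter G,
      Cfsg.classInner (fun n : N => (χ : G → ℂ) ⟨n, hNG n.2⟩) θ ≠ 0 ∧
      ∀ (x : Γ) (g g' : G), (g' : Γ) = x * g * x⁻¹ → (χ : G → ℂ) g' = (χ : G → ℂ) g := by
  classical
  obtain ⟨E, _, _, π, emb, σ, hπ, hKc, hNn, hπe, hσ, hσe, hscal⟩ :=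
    exists_central_cover N hθ hinv
  haveI := hNn
  set P₀ := G.comap π with hP₀
  set K := π.ker with hK
  have hembP : ∀ n : N, emb n ∈ P₀ := fun n => by
    rw [hP₀, Subgroup.mem_comap, hπe]; exact hNG n.2
  let mk := QuotientGroup.mk' emb.range
  let P := P₀.map mk
  let Z := K.map mk
  haveI : P.Normal := Subgroup.Normal.map inferInstance _ (QuotientGroup.mk'_surjective _)
  have hKP : K ≤ P₀ := fun k hk => by
    rw [hP₀, Subgroup.mem_comap, MonoidHom.mem_ker.mp hk]; exact one_mem G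
  have hrP : emb.range ≤ P₀ := by rintro _ ⟨n, rfl⟩; exact hembP n
  have hZP : Z ≤ P := Subgroup.map_mono hKP
  have hZc : Z ≤ Subgroup.center (E ⧸ emb.range) := by
    rintro _ ⟨k, hk, rfl⟩
    refine Subgroup.mem_center_iff.mpr fun q => ?_
    obtain ⟨e, rfl⟩ := QuotientGroup.mk'_surjective emb.range q
    rw [← map_mul, ← map_mul, Subgroup.mem_center_iff.mp (hKc k (MonoidHom.mem_ker.mp hk)) e]
  have hZcomap : Z.comap mk = N.comap π := by
    rw [Subgroup.comap_map_eq, QuotientGroup.ker_mk']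
    refine le_antisymm (sup_le (fun k hk => ?_) ?_) fun y hy => ?_
    · rw [Subgroup.mem_comap, MonoidHom.mem_ker.mp hk]; exact one_mem N
    · rintro _ ⟨n, rfl⟩
      rw [Subgroup.mem_comap, hπe]; exact n.2
    · set n : N := ⟨π y, Subgroup.mem_comap.mp hy⟩
      rw [show y = emb n * ((emb n)⁻¹ * y) by group]
      refine mul_mem (Subgroup.mem_sup_right ⟨n, rfl⟩) (Subgroup.mem_sup_left ?_)
      rw [hK, MonoidHom.mem_ker, map_mul, map_inv, hπe, inv_mul_cancel]
  have hrel : Z.relIndex P = N.relIndex G := by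
    rw [← Subgroup.relIndex_comap (f := mk), hZcomap, Subgroup.relIndex_comap,
      Subgroup.map_comap_eq_self_of_surjective hπ]
  have hidx : P.index = G.index := by
    rw [Subgroup.index_map_eq P₀ (QuotientGroup.mk'_surjective _)
      (by rw [QuotientGroup.ker_mk']; exact hrP), hP₀, Subgroup.index_comap_of_surjective G hπ]
  have hsolv' : Group.IsSolvable ((E ⧸ emb.range) ⧸ P) ∨ Group.IsSolvable P := by
    rcases hsolv with hs | hs
    · left
      haveI := hs
      let h₁ : E ⧸ emb.range →* Γ ⧸ G :=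
        QuotientGroup.lift emb.range ((QuotientGroup.mk' G).comp π) (by
          rintro _ ⟨n, rfl⟩
          rw [MonoidHom.mem_ker, MonoidHom.comp_apply, hπe]
          exact (QuotientGroup.eq_one_iff _).mpr (hNG n.2))
      have hle : P ≤ h₁.ker := by
        rintro _ ⟨e, he, rfl⟩
        exact (QuotientGroup.eq_one_iff (π e)).mpr (Subgroup.mem_comap.mp he)
      refine Group.isSolvable_of_isSolvable_injective (f := QuotientGroup.lift P h₁ hle) ?_
      rw [← MonoidHom.ker_eq_bot_iff, eq_bot_iff]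
      intro q hq
      obtain ⟨q, rfl⟩ := QuotientGroup.mk_surjective q
      obtain ⟨e, rfl⟩ := QuotientGroup.mk_surjective q
      exact (QuotientGroup.eq_one_iff _).mpr
        ⟨e, Subgroup.mem_comap.mpr ((QuotientGroup.eq_one_iff (π e)).mp hq), rfl⟩
    · right
      haveI := hs
      let h₂ : E ⧸ emb.range →* Γ ⧸ N :=
        QuotientGroup.lift emb.range ((QuotientGroup.mk' N).comp π) (by
          rintro _ ⟨n, rfl⟩
          rw [MonoidHom.mem_ker, MonoidHom.comp_apply, hπe]
          exact (QuotientGroup.eq_one_iff _).mpr n.2)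
      let j : G ⧸ N.subgroupOf G →* Γ ⧸ N :=
        QuotientGroup.map (N.subgroupOf G) N G.subtype le_rfl
      haveI : Group.IsSolvable j.range :=
        Group.isSolvable_of_surjective j.rangeRestrict_surjective
      have hmem : ∀ p : P, h₂ p ∈ j.range := by
        rintro ⟨_, e, he, rfl⟩
        exact ⟨((⟨π e, Subgroup.mem_comap.mp he⟩ : G) : G ⧸ N.subgroupOf G), rfl⟩
      let Z' : Subgroup P := Z.subgroupOf P
      haveI : IsMulCommutative Z' := ⟨⟨fun a b => Subtype.ext (Subtype.ext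
        ((Subgroup.mem_center_iff.mp (hZc (Subgroup.mem_subgroupOf.mp b.2)) _)))⟩⟩
      haveI : Group.IsSolvable Z' := by open scoped IsMulCommutative in exact inferInstance
      refine Group.isSolvable_of_ker_le_range Z'.subtype
        ((h₂.comp P.subtype).codRestrict j.range hmem) ?_
      rintro ⟨_, e, he, rfl⟩ hp
      rw [Subgroup.range_subtype]
      refine Subgroup.mem_subgroupOf.mpr ?_
      have h0 : e ∈ Z.comap mk := by
        rw [hZcomap, Subgroup.mem_comap]
        exact (QuotientGroup.eq_one_iff (π e)).mp (congrArg Subtype.val hp :)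
      exact h0
  -- the scalar by which the kernel acts
  have := Fintype.ofFinite E
  have hσ1 : σ 1 ≠ 0 := by
    rw [← map_one emb, hσe]; exact Char.irr_apply_one_ne_zero hθ
  let s : K →* ℂ :=
    { toFun := fun k => σ k / σ 1
      map_one' := div_self hσ1
      map_mul' := fun a b => by
        obtain ⟨c, hc⟩ := hscal b (MonoidHom.mem_ker.mp b.2)
        have h1 : σ b = c * σ 1 := by rw [← hc, one_mul]
        show σ ((a : E) * b) / σ 1 = σ a / σ 1 * (σ b / σ 1)
        rw [hc, h1]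
        field_simp }
  have hs : ∀ (k : K) (x : E), σ (x * k) = s k * σ x := fun k x => by
    obtain ⟨c, hc⟩ := hscal k (MonoidHom.mem_ker.mp k.2)
    show σ (x * k) = σ k / σ 1 * σ x
    rw [show σ k = c * σ 1 by rw [← hc, one_mul], hc, mul_div_cancel_right₀ _ hσ1]
  let fK : K →* Z := mk.subgroupMap K
  have hfK : Function.Bijective fK := by
    refine ⟨fun a b h => ?_, mk.subgroupMap_surjective K⟩
    have h1 : (a : E)⁻¹ * b ∈ emb.range := QuotientGroup.eq.mp (congrArg Subtype.val h :)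
    obtain ⟨n, hn⟩ := h1
    have h2 : π ((a : E)⁻¹ * b) = 1 := by
      rw [map_mul, map_inv, MonoidHom.mem_ker.mp a.2, MonoidHom.mem_ker.mp b.2, inv_one, one_mul]
    rw [← hn, hπe, OneMemClass.coe_eq_one] at h2
    rw [h2, map_one] at hn
    exact Subtype.ext (inv_mul_eq_one.mp hn.symm)
  let μ : Z →* ℂˣ :=
    (s.toHomUnits⁻¹).comp (MulEquiv.ofBijective fK hfK).symm.toMonoidHom
  have hμ : ∀ k : K, (μ (fK k) : ℂ) = (s k)⁻¹ := fun k => by
    have : (MulEquiv.ofBijective fK hfK).symm (fK k) = k := MulEquiv.symm_apply_apply _ k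
    show (((s.toHomUnits⁻¹) ((MulEquiv.ofBijective fK hfK).symm (fK k)) : ℂˣ) : ℂ) = _
    rw [this, MonoidHom.inv_apply, Units.val_inv_eq_inv_val, MonoidHom.coe_toHomUnits]
  obtain ⟨β, hβinv, hβμ⟩ := InvariantCentral.exists_invariant_central P Z hZP hZc
    (by rw [hidx, hrel]; exact hcop) hsolv' μ
  -- the product
  have := Fintype.ofFinite P₀
  let Nh : Subgroup P₀ := emb.range.subgroupOf P₀
  let eN : N →* Nh :=
    { toFun := fun n => ⟨⟨emb n, hembP n⟩, Subgroup.mem_subgroupOf.mpr ⟨n, rfl⟩⟩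
      map_one' := Subtype.ext (Subtype.ext (map_one emb))
      map_mul' := fun a b => Subtype.ext (Subtype.ext (map_mul emb a b)) }
  have heN : Function.Bijective eN := by
    refine ⟨fun a b h => ?_, fun y => ?_⟩
    · have h1 := congrArg (fun y : Nh => π (y : P₀)) h
      simp only [eN, MonoidHom.coe_mk, OneHom.coe_mk, hπe] at h1
      exact Subtype.ext h1
    · obtain ⟨n, hn⟩ := Subgroup.mem_subgroupOf.mp y.2
      exact ⟨n, Subtype.ext (Subtype.ext hn)⟩
  have := Fintype.ofFinite Nh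
  let π₁ : P₀ →* P := mk.subgroupMap P₀
  have hres : Cfsg.IsIrrCharacter Nh fun y : Nh => σ ((y : P₀) : E) := by
    have h1 := Char.isIrrCharacter_comp_surjective hθ
      (MulEquiv.ofBijective eN heN).symm.toMonoidHom (MulEquiv.ofBijective eN heN).symm.surjective
    convert h1 using 1
    funext y
    obtain ⟨n, rfl⟩ := heN.2 y
    show σ (emb n) = θ ((MulEquiv.ofBijective eN heN).symm (eN n))
    rw [show (MulEquiv.ofBijective eN heN).symm (eN n) = n from MulEquiv.symm_apply_apply _ n, hσe]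
  set X : P₀ → ℂ := (fun y : P₀ => σ (y : E)) * fun y => (β : P → ℂ) (π₁ y) with hX
  have hXirr : Cfsg.IsIrrCharacter P₀ X :=
    isIrrCharacter_mul_of_invariant Nh (Char.isCharacter_restrict hσ P₀) hres
      (Char.isIrrCharacter_comp_surjective β.2 π₁ (mk.subgroupMap_surjective P₀)) fun n g => by
        rw [map_mul, show π₁ (n : P₀) = 1 from
          Subtype.ext ((QuotientGroup.eq_one_iff _).mpr (Subgroup.mem_subgroupOf.mp n.2)), one_mul]
  let π₀ : P₀ →* G := π.subgroupComap G
  have hπ₀ : Function.Surjective π₀ := π.subgroupComap_surjective_of_surjective G hπ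
  have hXker : ∀ (y : P₀) (k : P₀), k ∈ π₀.ker → X (y * k) = X y := by
    intro y k hk
    have hk' : (k : E) ∈ K := congrArg Subtype.val hk
    rw [hX, Pi.mul_apply, Pi.mul_apply, Subgroup.coe_mul, hs ⟨k, hk'⟩, map_mul,
      show π₁ k = ⟨(fK ⟨k, hk'⟩ : E ⧸ emb.range), hZP (fK ⟨k, hk'⟩).2⟩ from Subtype.ext rfl,
      hβμ, hμ]
    have : s ⟨k, hk'⟩ ≠ 0 := by
      have h1 := (s.toHomUnits ⟨k, hk'⟩).ne_zero
      rwa [MonoidHom.coe_toHomUnits] at h1
    field_simp
  obtain ⟨ψ, hψ, hXψ⟩ := Char.isIrr_quotient_lift π₀.ker hXirr fun k hk => by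
    simpa using hXker 1 k hk
  let eG := QuotientGroup.quotientKerEquivOfSurjective π₀ hπ₀
  let χ : Cfsg.IrrCharacter G :=
    ⟨fun g => ψ (eG.symm g), Char.isIrrCharacter_comp_surjective hψ eG.symm.toMonoidHom
      eG.symm.surjective⟩
  have hχ : ∀ y : P₀, (χ : G → ℂ) (π₀ y) = X y := fun y => by
    rw [hXψ]
    show ψ (eG.symm (π₀ y)) = ψ (QuotientGroup.mk' π₀.ker y)
    congr 1
    rw [MulEquiv.symm_apply_eq]
    rfl
  refine ⟨χ, ?_, fun x g g' h => ?_⟩
  · have hv : (fun n : N => (χ : G → ℂ) ⟨n, hNG n.2⟩) = (β : P → ℂ) 1 • θ := by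
      funext n
      rw [show (⟨n, hNG n.2⟩ : G) = π₀ ⟨emb n, hembP n⟩ from Subtype.ext (hπe n).symm, hχ, hX,
        Pi.mul_apply, hσe, Pi.smul_apply, smul_eq_mul, mul_comm,
        show π₁ ⟨emb n, hembP n⟩ = 1 from Subtype.ext ((QuotientGroup.eq_one_iff _).mpr ⟨n, rfl⟩)]
    rw [hv, Char.classInner_smul_left, Char.irr_classInner_self hθ, mul_one]
    exact Char.irr_apply_one_ne_zero β.2
  · obtain ⟨y, rfl⟩ := hπ₀ g
    obtain ⟨e, rfl⟩ := hπ x
    let y' : P₀ := ⟨e * y * e⁻¹, (inferInstance : P₀.Normal).conj_mem y y.2 e⟩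
    have e1 : g' = π₀ y' := Subtype.ext (by
      rw [h]
      show π e * π (y : E) * (π e)⁻¹ = π (e * y * e⁻¹)
      rw [map_mul, map_mul, map_inv])
    rw [e1, hχ, hχ, hX, Pi.mul_apply, Pi.mul_apply]
    congr 1
    · exact Char.isCharacter_isClassFunction hσ _ _
    · exact hβinv (mk e) (π₁ y) (π₁ y') (by
        show mk (e * y * e⁻¹) = mk e * mk (y : E) * (mk e)⁻¹
        rw [map_mul, map_mul, map_inv])

end CfsgLib.Clifford.InvariantNormal
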