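import Cfsg.Agent.Lib.Clifford.TwoDegreeStructure
import Cfsg.Agent.Lib.Char.CliffordApps
import Cfsg.Agent.Lib.BlockB.ClassMul
import Cfsg.Agent.Lib.Block.Omega
import Cfsg.Agent.Lib.Solvable.Nilpotent

/-!
# Groups with character degrees `1` and `p`
-/

set_option autoImplicit false
set_option linter.unusedSectionVars false

namespace CfsgLib.Clifford.DegreesOneP

open CfsgLib CfsgLib.Clifford.TwoDegrees
open scoped commutatorElement ComplexConjugate

universe u

variable {G : Type u} [Group G] [Finite G]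

/-- The square of a degree is at most the index of the centre. -/
theorem charDegree_sq_le_center_index (χ : Cfsg.IrrCharacter G) :
    Cfsg.charDegree (χ : G → ℂ) ^ 2 ≤ (Subgroup.center G).index := by
  classical
  have := Fintype.ofFinite G
  set d := Cfsg.charDegree (χ : G → ℂ)
  have hd : (χ : G → ℂ) 1 = (d : ℂ) := (BlockB.charDegree_cast (Char.irr_isCharacter χ.2)).symm
  have hz : ∀ z ∈ Subgroup.center G, Complex.normSq ((χ : G → ℂ) z) = (d : ℝ) ^ 2 := by
    intro z hz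
    have h := BlockB.sum_irr_mul_conj χ z z⁻¹
    have e : ∀ t : G, z * (t * z⁻¹ * t⁻¹) = 1 := fun t => by
      rw [show t * z⁻¹ * t⁻¹ = z⁻¹ by
        rw [Subgroup.mem_center_iff.1 (inv_mem hz) t, mul_inv_cancel_right], mul_inv_cancel]
    simp only [e, Finset.sum_const, Finset.card_univ, nsmul_eq_mul, ← Nat.card_eq_fintype_card,
      hd] at h
    have hd0 : (d : ℂ) ≠ 0 := hd ▸ Char.irr_apply_one_ne_zero χ.2
    have hG : (Nat.card G : ℂ) ≠ 0 := Char.natCard_ne_zero
    rw [eq_div_iff hd0, mul_assoc (Nat.card G : ℂ), mul_assoc (Nat.card G : ℂ)] at h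
    have h2 := (mul_left_cancel₀ hG h).symm
    rw [← CfsgLib.Block.irr_conj_eq χ.2 z, Complex.mul_conj] at h2
    have h3 : ((Complex.normSq ((χ : G → ℂ) z) : ℝ) : ℂ) = (((d : ℝ) ^ 2 : ℝ) : ℂ) := by
      rw [h2]; push_cast; ring
    exact_mod_cast h3
  have h1 := Char.irr_classInner_self χ.2
  rw [Char.classInner_def, inv_mul_eq_one₀ Char.natCard_ne_zero] at h1
  have h2 : (Nat.card G : ℝ) = ∑ g : G, Complex.normSq ((χ : G → ℂ) g) := by
    have := congrArg Complex.re h1
    simpa [Complex.re_sum, Complex.mul_conj] using this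
  have h3 : (Nat.card (Subgroup.center G) : ℝ) * (d : ℝ) ^ 2 ≤ (Nat.card G : ℝ) := by
    rw [h2]
    refine le_trans (le_of_eq ?_) (Finset.sum_le_univ_sum_of_nonneg
      (s := Finset.univ.filter (· ∈ Subgroup.center G)) fun g => Complex.normSq_nonneg _)
    rw [Finset.sum_congr rfl (fun z hz' => hz z (Finset.mem_filter.1 hz').2), Finset.sum_const,
      nsmul_eq_mul, ← Fintype.card_subtype, Nat.card_eq_fintype_card]
  have h4 : Nat.card (Subgroup.center G) * d ^ 2 ≤
      Nat.card (Subgroup.center G) * (Subgroup.center G).index := by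
    rw [Subgroup.card_mul_index]; exact_mod_cast h3
  exact Nat.le_of_mul_le_mul_left h4 Nat.card_pos

/-- In a nilpotent group a subgroup of prime index is normal. -/
theorem normal_of_prime_index [Group.IsNilpotent G] {T : Subgroup G} {p : ℕ} (hp : p.Prime)
    (hT : T.index = p) : T.Normal := by
  have hne : T < ⊤ := lt_top_iff_ne_top.2 fun h => hp.ne_one (by rw [← hT, h, Subgroup.index_top])
  have hlt := Group.normalizerCondition_of_isNilpotent T hne
  have h1 := Subgroup.index_dvd_of_le hlt.le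
  rw [hT] at h1
  rcases (Nat.dvd_prime hp).1 h1 with h | h
  · exact Subgroup.normalizer_eq_top_iff.1 (Subgroup.index_eq_one.1 h)
  · exact absurd h ((Subgroup.index_strictAnti hlt).trans_eq hT).ne

/-- A subgroup of prime index is maximal. -/
theorem eq_top_of_gt {T U : Subgroup G} {p : ℕ} (hp : p.Prime) (hT : T.index = p) (h : T ≤ U)
    {x : G} (hx : x ∈ U) (hxT : x ∉ T) : U = ⊤ := by
  have hlt : T < U := lt_of_le_of_ne h fun e => hxT (e ▸ hx)
  have h1 := Subgroup.index_dvd_of_le hlt.le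
  rw [hT] at h1
  rcases (Nat.dvd_prime hp).1 h1 with h | h
  · exact Subgroup.index_eq_one.1 h
  · exact absurd h ((Subgroup.index_strictAnti hlt).trans_eq hT).ne

/-- A nontrivial element generates a group of prime order. -/
theorem zpowers_eq_of_prime {L : Type*} [Group L] {p : ℕ} (hp : p.Prime) {e x : L}
    (he : e ^ p = 1) (hx : x ∈ Subgroup.zpowers e) (hx1 : x ≠ 1) :
    Subgroup.zpowers x = Subgroup.zpowers e := by
  refine le_antisymm (Subgroup.zpowers_le.2 hx) (Subgroup.zpowers_le.2 ?_)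
  obtain ⟨i, rfl⟩ := hx
  have hi : ¬ (p : ℤ) ∣ i := fun ⟨c, hc⟩ => hx1 (by
    show e ^ i = 1
    rw [hc, zpow_mul, zpow_natCast, he, one_zpow])
  obtain ⟨u, v, huv⟩ := (Nat.prime_iff_prime_int.1 hp).coprime_iff_not_dvd.2 hi
  refine ⟨v, ?_⟩
  show (e ^ i) ^ v = e
  rw [← zpow_mul, show i * v = 1 + -(u * p) by linarith, zpow_add, zpow_one, zpow_neg, mul_comm u,
    zpow_mul, zpow_natCast, he, one_zpow, inv_one, mul_one]

/-- An exponent killing a nontrivial element of exponent `p` is divisible by `p`. -/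
theorem dvd_of_zpow_eq_one {L : Type*} [Group L] {p : ℕ} (hp : p.Prime) {x : L} (hx : x ≠ 1)
    (hxp : x ^ p = 1) {i : ℤ} (hxi : x ^ i = 1) : (p : ℤ) ∣ i := by
  have := Fact.mk hp
  exact orderOf_eq_prime hxp hx ▸ orderOf_dvd_iff_zpow_eq_one.2 hxi

/-- An element with two coprime powers in a subgroup lies in it. -/
theorem mem_of_coprime_powers {L : Type*} [Group L] {p : ℕ} (hp : p.Prime) {U : Subgroup L} {x : L}
    {j : ℕ} (hj : ¬ p ∣ j) (h1 : x ^ p ∈ U) (h2 : x ^ j ∈ U) : x ∈ U := by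
  obtain ⟨u, v, huv⟩ := (Nat.isCoprime_iff_coprime.2 (hp.coprime_iff_not_dvd.2 hj) :
    IsCoprime (p : ℤ) (j : ℤ))
  have : x = (x ^ p) ^ u * (x ^ j) ^ v := by
    rw [← zpow_natCast, ← zpow_natCast, ← zpow_mul, ← zpow_mul, ← zpow_add,
      show (p : ℤ) * u + (j : ℤ) * v = 1 by linarith, zpow_one]
  rw [this]
  exact mul_mem (zpow_mem h1 u) (zpow_mem h2 v)

/-- Two homomorphisms with pointwise proportional values are proportional when the second has
non-cyclic image. -/
theorem exists_zpow_eq {L : Type*} [CommGroup L] {p : ℕ} (hp : p.Prime) (f g : G →* L)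
    (hg : ∀ h, g h ^ p = 1) (hfg : ∀ h, f h ∈ Subgroup.zpowers (g h))
    (hnc : ∀ h₁, ∃ h, g h ∉ Subgroup.zpowers (g h₁)) : ∃ s : ℤ, ∀ h, f h = g h ^ s := by
  obtain ⟨h₀, hh₀⟩ := hnc 1
  rw [map_one] at hh₀
  obtain ⟨s, hs⟩ := hfg h₀
  refine ⟨s, ?_⟩
  have hs' : g h₀ ^ s = f h₀ := hs
  have hg0 : g h₀ ≠ 1 := fun e => hh₀ (by rw [e]; exact one_mem _)
  have hoff : ∀ h, g h ∉ Subgroup.zpowers (g h₀) → f h = g h ^ s := by
    intro h hh
    obtain ⟨t, ht⟩ := hfg h
    obtain ⟨w, hw⟩ := hfg (h * h₀)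
    have ht' : g h ^ t = f h := ht
    have hw' : g (h * h₀) ^ w = f (h * h₀) := hw
    rw [map_mul, map_mul, ← ht', ← hs', mul_zpow] at hw'
    have h1 : g h ^ (t - w) = g h₀ ^ (w - s) := by
      rw [zpow_sub, zpow_sub, mul_inv_eq_iff_eq_mul, mul_comm, ← mul_assoc, eq_mul_inv_iff_mul_eq,
        ← hw', mul_comm]
    have h2 : g h₀ ^ (w - s) = 1 := by
      by_contra hne
      refine hh ?_
      rw [← zpowers_eq_of_prime hp (hg h₀) ⟨_, rfl⟩ hne,
        zpowers_eq_of_prime hp (hg h) ⟨_, h1⟩ hne]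
      exact Subgroup.mem_zpowers _
    have hh1 : g h ≠ 1 := fun e => hh (by rw [e]; exact one_mem _)
    have d1 := dvd_of_zpow_eq_one hp hg0 (hg h₀) h2
    have d2 := dvd_of_zpow_eq_one hp hh1 (hg h) (h1.trans h2)
    have d3 : (p : ℤ) ∣ t - s := by simpa using dvd_add d2 d1
    obtain ⟨c, hc⟩ := d3
    rw [← ht', show t = s + p * c by linarith, zpow_add, zpow_mul, zpow_natCast, hg, one_zpow,
      mul_one]
  intro h
  by_cases hh : g h ∈ Subgroup.zpowers (g h₀)
  · obtain ⟨h₁, hh₁⟩ := hnc h₀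
    have h2 : g (h * h₁) ∉ Subgroup.zpowers (g h₀) := fun hm => hh₁ (by
      rw [map_mul] at hm
      exact (Subgroup.mul_mem_cancel_left _ hh).1 hm)
    have h3 := hoff _ h2
    rw [map_mul, map_mul, hoff _ hh₁, mul_zpow] at h3
    exact mul_right_cancel h3
  · exact hoff h hh

/-- Two elements of exponent `p` do not generate a subgroup of order `p³`. -/
theorem exists_not_mem_sup {W : Type*} [CommGroup W] [Finite W] {p : ℕ} (hp : p.Prime)
    (φ : G →* W) (hφ : p ^ 3 ≤ Nat.card φ.range) (x y : W) (hx : x ^ p = 1) (hy : y ^ p = 1) :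
    ∃ g, φ g ∉ Subgroup.zpowers x ⊔ Subgroup.zpowers y := by
  by_contra h
  push Not at h
  have hle : φ.range ≤ Subgroup.zpowers x ⊔ Subgroup.zpowers y := by
    rintro _ ⟨g, rfl⟩; exact h g
  have h2 : Nat.card (Subgroup.zpowers x ⊔ Subgroup.zpowers y : Subgroup W) ≤
      Nat.card (Subgroup.zpowers x × Subgroup.zpowers y) := by
    refine Nat.card_le_card_of_surjective (fun z => ⟨(z.1 : W) * (z.2 : W),
      mul_mem (Subgroup.mem_sup_left z.1.2) (Subgroup.mem_sup_right z.2.2)⟩) fun z => ?_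
    obtain ⟨u, hu, v, hv, huv⟩ := Subgroup.mem_sup.1 z.2
    exact ⟨(⟨u, hu⟩, ⟨v, hv⟩), Subtype.ext huv⟩
  have h3 := hφ.trans ((Subgroup.card_le_of_le hle).trans h2)
  rw [Nat.card_prod, Nat.card_zpowers, Nat.card_zpowers] at h3
  have h4 : orderOf x * orderOf y ≤ p * p := Nat.mul_le_mul
    (Nat.le_of_dvd hp.pos (orderOf_dvd_of_pow_eq_one hx))
    (Nat.le_of_dvd hp.pos (orderOf_dvd_of_pow_eq_one hy))
  exact absurd ((Nat.pow_le_pow_iff_right hp.one_lt).1 (h3.trans (h4.trans (le_of_eq (sq p).symm))))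
    (by norm_num)

section Core

variable [Group.IsNilpotent G] {p : ℕ} (hp : p.Prime)

/-- A maximal normal abelian subgroup is its own centralizer. -/
theorem exists_self_centralizing : ∃ A : Subgroup G, A.Normal ∧
    Subgroup.centralizer (A : Set G) = A := by
  classical
  obtain ⟨A, -, ⟨hAn, hAc⟩, hmax⟩ := Finite.exists_le_maximal
    (p := fun A : Subgroup G => A.Normal ∧ ∀ a ∈ A, ∀ b ∈ A, a * b = b * a) (a := ⊥)
    ⟨inferInstance, fun a ha b hb => by simp [Subgroup.mem_bot.1 ha, Subgroup.mem_bot.1 hb]⟩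
  refine ⟨A, hAn, le_antisymm ?_ fun a ha => Subgroup.mem_centralizer_iff.2
    fun b hb => hAc b hb a ha⟩
  set C := Subgroup.centralizer (A : Set G)
  have hCn : C.Normal := Subgroup.normal_centralizer
  have hAC : A ≤ C := fun a ha => Subgroup.mem_centralizer_iff.2 fun b hb => hAc b hb a ha
  by_contra hne
  have hne' : C.map (QuotientGroup.mk' A) ≠ ⊥ := fun h => hne (by
    rwa [Subgroup.map_eq_bot_iff, QuotientGroup.ker_mk'] at h)
  have : (C.map (QuotientGroup.mk' A)).Normal := hCn.map _ (QuotientGroup.mk'_surjective A)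
  obtain ⟨⟨z, hzC, hzZ⟩, hz1⟩ : ∃ z : ↥(C.map (QuotientGroup.mk' A) ⊓ Subgroup.center (G ⧸ A)),
      (z : G ⧸ A) ≠ 1 := by
    by_contra h
    push Not at h
    refine CfsgLib.Solvable.normal_inf_center_ne_bot (C.map (QuotientGroup.mk' A)) hne' ?_
    exact (Subgroup.eq_bot_iff_forall _).2 fun z hz => h ⟨z, hz⟩
  obtain ⟨x, hxC, rfl⟩ := hzC
  have hxA : x ∉ A := fun h => hz1 ((QuotientGroup.eq_one_iff x).2 h)
  let B := A ⊔ Subgroup.zpowers x
  have hBc : ∀ a ∈ B, ∀ b ∈ B, a * b = b * a := by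
    intro a ha b hb
    obtain ⟨a₁, ha₁, a₂, ⟨i, rfl⟩, rfl⟩ := Subgroup.mem_sup_of_normal_left.1 ha
    obtain ⟨b₁, hb₁, b₂, ⟨j, rfl⟩, rfl⟩ := Subgroup.mem_sup_of_normal_left.1 hb
    have h1 : ∀ (k : ℤ), ∀ c ∈ A, Commute c (x ^ k) := fun k c hc =>
      Commute.zpow_right (Subgroup.mem_centralizer_iff.1 hxC c hc) k
    have h0 : Commute a₁ b₁ := hAc a₁ ha₁ b₁ hb₁
    exact ((h0.mul_right (h1 j a₁ ha₁)).mul_left
      ((h1 i b₁ hb₁).symm.mul_right ((Commute.refl x).zpow_zpow i j))).eq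
  have hBn : B.Normal := by
    have hg : ∀ g : G, g * x * g⁻¹ ∈ B := fun g => by
      have h := Subgroup.mem_center_iff.1 hzZ (g : G ⧸ A)
      rw [QuotientGroup.mk'_apply, ← QuotientGroup.mk_mul, ← QuotientGroup.mk_mul,
        QuotientGroup.eq] at h
      have h2 := (inferInstance : A.Normal).conj_mem _ h g
      have h3 := mul_mem (Subgroup.mem_sup_right (Subgroup.mem_zpowers x) : x ∈ B)
        (Subgroup.mem_sup_left (inv_mem h2) : _ ∈ B)
      first
        | exact (by convert h3 using 1; group)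
        | exact (by
            have h4 := mul_mem (Subgroup.mem_sup_left h2 : _ ∈ B)
              (Subgroup.mem_sup_right (Subgroup.mem_zpowers x) : x ∈ B)
            convert h4 using 1; group)
    have hmap : ∀ g : G, B.map (MulAut.conj g).toMonoidHom ≤ B := fun g => by
      rw [Subgroup.map_sup, MonoidHom.map_zpowers, sup_le_iff, Subgroup.zpowers_le]
      exact ⟨(Subgroup.map_le_iff_le_comap).2 fun a ha =>
        Subgroup.mem_sup_left (hAn.conj_mem a ha g), hg g⟩
    exact ⟨fun b hb g => hmap g ⟨b, hb, rfl⟩⟩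
  exact hxA ((hmax ⟨hBn, hBc⟩ le_sup_left) (Subgroup.mem_sup_right (Subgroup.mem_zpowers x)))

include hp

/-- An action on an abelian group with orbits of size at most `p`: the differences lie on one
fixed line. -/
theorem exists_common_line {L : Type*} [CommGroup L] (act : G → L →* L)
    (hact : ∀ g h l, act g (act h l) = act (h * g) l) (A : Subgroup G) [A.Normal]
    (hfix : ∀ g ∈ A, ∀ l, act g l = l) (hsep : ∀ g, g ∉ A → ∃ l, act g l ≠ l)
    (T : L → Subgroup G) (hT : ∀ {l g}, g ∈ T l ↔ act g l = l)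
    (hidx : ∀ {l g}, g ∉ T l → (T l).index = p) (hA1 : A.index ≠ 1) (hAp : A.index ≠ p) :
    (∀ g : G, g ^ p ∈ A) ∧ (∀ g h : G, ⁅g, h⁆ ∈ A) ∧
      ∃ e : L, e ≠ 1 ∧ e ^ p = 1 ∧ (∀ g, act g e = e) ∧ (∃ g l, act g l / l = e) ∧
        ∀ g l, act g l / l ∈ Subgroup.zpowers e := by
  classical
  have := Fact.mk hp
  have hpow : ∀ g : G, g ^ p ∈ A := by
    intro g
    by_contra h
    obtain ⟨l, hl⟩ := hsep _ h
    have h1 := hidx (fun h' => hl (hT.1 h'))
    have := normal_of_prime_index hp h1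
    exact hl (hT.1 (h1 ▸ (T l).pow_index_mem g))
  have hcomm : ∀ g h : G, ⁅g, h⁆ ∈ A := by
    intro g h
    by_contra hgh
    obtain ⟨l, hl⟩ := hsep _ hgh
    have h1 := hidx (fun h' => hl (hT.1 h'))
    have := normal_of_prime_index hp h1
    have : IsCyclic (G ⧸ T l) := isCyclic_of_prime_card (p := p) (by rw [← Subgroup.index_eq_card, h1])
    refine hl (hT.1 ((QuotientGroup.eq_one_iff _).1 ?_))
    rw [← QuotientGroup.mk'_apply, map_commutatorElement, commutatorElement_eq_one_iff_mul_comm]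
    exact IsCyclic.commGroup.mul_comm _ _
  refine ⟨hpow, hcomm, ?_⟩
  have hswap : ∀ (g h : G) (l : L), act g (act h l) = act h (act g l) := by
    intro g h l
    rw [hact, hact]
    conv_lhs => rw [show h * g = ⁅h, g⁆ * (g * h) by rw [commutatorElement_def]; group]
    rw [← hact (g * h) ⁅h, g⁆, hfix _ (hcomm h g)]
  let D : G → L → L := fun g l => act g l / l
  have hD : ∀ g l, act g l = l * D g l := fun g l => (mul_div_cancel l (act g l)).symm
  have hpair : ∀ {l μ : L} {h k : G}, h ∈ T μ → h ∉ T l → k ∈ T l → k ∉ T μ →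
      ∃ e : L, (∀ g, act g e = e) ∧ e ^ p = 1 ∧ (∀ g, D g l ∈ Subgroup.zpowers e) ∧
        (∀ g, D g μ ∈ Subgroup.zpowers e) ∧ D h l = e := by
    intro l μ h k hhμ hhl hkl hkμ
    have hkh : k ∉ T (l * μ) ∧ h ∉ T (l * μ) := by
      constructor
      · intro hm
        have := hT.1 hm
        rw [map_mul, hT.1 hkl] at this
        exact hkμ (hT.2 (mul_left_cancel this))
      · intro hm
        have := hT.1 hm
        rw [map_mul, hT.1 hhμ] at this
        exact hhl (hT.2 (mul_right_cancel this))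
    have hi' := hidx hkh.1
    have hTn := normal_of_prime_index hp hi'
    obtain ⟨j, hj⟩ : ∃ j : ℕ, (h ^ j)⁻¹ * k ∈ T (l * μ) := by
      have hgen : (k : G ⧸ T (l * μ)) ∈ Subgroup.zpowers (h : G ⧸ T (l * μ)) :=
        mem_zpowers_of_prime_card (p := p) (by rw [← Subgroup.index_eq_card, hi'])
          (fun e => hkh.2 ((QuotientGroup.eq_one_iff h).1 e))
      rw [mem_zpowers_iff_mem_range_orderOf] at hgen
      obtain ⟨j, -, hj⟩ := Finset.mem_image.1 hgen
      exact ⟨j, QuotientGroup.eq.1 hj⟩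
    have hjk : act k (l * μ) = act (h ^ j) (l * μ) := by
      have h2 := congrArg (act (h ^ j)) (hT.1 hj)
      rwa [hswap, hact, mul_inv_cancel_left] at h2
    have hb : D (h ^ j) l = D k μ := by
      rw [map_mul, map_mul, hT.1 hkl, hT.1 (pow_mem hhμ j), hD (h ^ j) l, hD k μ] at hjk
      refine mul_left_cancel (a := l) (mul_right_cancel (b := μ) ?_)
      rw [← hjk, mul_assoc, mul_comm μ]
    have hhb : act h (D k μ) = D k μ := by
      show act h (act k μ / μ) = _
      rw [map_div, hswap h k, hT.1 hhμ]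
    have hjp : ¬ p ∣ j := fun ⟨c, hc⟩ => hkμ (hT.2 (by
      rw [hD k μ, ← hb]
      show μ * (act (h ^ j) l / l) = μ
      rw [hfix _ (by rw [hc, pow_mul]; exact pow_mem (hpow h) c), div_self', mul_one]))
    have hja : act (h ^ j) (D h l) = D h l := by
      rw [← hb] at hhb
      change act h (act (h ^ j) l / l) = act (h ^ j) l / l at hhb
      show act (h ^ j) (act h l / l) = act h l / l
      rw [map_div, hswap h (h ^ j)] at hhb
      rw [map_div]
      exact div_eq_div_iff_div_eq_div.1 hhb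
    have hha : h ∈ T (D h l) :=
      mem_of_coprime_powers hp hjp (hT.2 (hfix _ (hpow h) _)) (hT.2 hja)
    have htop : T (D h l) = ⊤ := eq_top_of_gt hp (hidx hhl) (fun t ht => hT.2 (by
      show act t (act h l / l) = _
      rw [map_div, hswap t h, hT.1 ht])) hha hhl
    have haf : ∀ g, act g (D h l) = D h l := fun g => hT.1 (htop ▸ Subgroup.mem_top g)
    have hai : ∀ i : ℕ, D (h ^ i) l = D h l ^ i := by
      intro i
      induction i with
      | zero =>
        show act (h ^ 0) l / l = _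
        rw [pow_zero, pow_zero, hfix _ (one_mem A), div_self']
      | succ i ih =>
        show act (h ^ (i + 1)) l / l = _
        rw [pow_succ, pow_succ, ← hact, hD (h ^ i) l, ih, map_mul, map_pow, haf, hD h l, mul_assoc,
          mul_div_cancel_left, mul_comm]
    have hap : D h l ^ p = 1 := by
      rw [← hai]; show act (h ^ p) l / l = 1
      rw [hfix _ (hpow h), div_self']
    have hfz : ∀ g, ∀ z ∈ Subgroup.zpowers (D h l), act g z = z := by
      rintro g _ ⟨i, rfl⟩
      show act g (D h l ^ i) = D h l ^ i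
      rw [map_zpow, haf]
    have hcl : ∀ (ν : L) (x : G), x ∉ T ν → D x ν ∈ Subgroup.zpowers (D h l) →
        ∀ g, D g ν ∈ Subgroup.zpowers (D h l) := by
      intro ν x hx hxD
      let U : Subgroup G :=
        { carrier := {g | act g ν / ν ∈ Subgroup.zpowers (D h l)}
          one_mem' := by
            show act 1 ν / ν ∈ Subgroup.zpowers (D h l)
            rw [hfix _ (one_mem A), div_self']; exact one_mem _
          mul_mem' := fun {g g'} hg hg' => by
            show act (g * g') ν / ν ∈ Subgroup.zpowers (D h l)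
            rw [← hact, hD g ν, map_mul, hfz g' _ hg, hD g' ν, mul_assoc, mul_div_cancel_left]
            exact mul_mem hg' hg
          inv_mem' := fun {g} hg => by
            show act g⁻¹ ν / ν ∈ Subgroup.zpowers (D h l)
            have e : act g⁻¹ (act g ν) = ν := by rw [hact, mul_inv_cancel, hfix _ (one_mem A)]
            rw [hD g ν, map_mul, hfz g⁻¹ _ hg] at e
            rw [eq_div_iff_mul_eq'.2 e, div_div_cancel_left]
            exact inv_mem hg }
      have htopU : U = ⊤ := eq_top_of_gt hp (hidx hx) (fun t ht => by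
        show act t ν / ν ∈ Subgroup.zpowers (D h l)
        rw [hT.1 ht, div_self']; exact one_mem _) (x := x) hxD hx
      exact fun g => (htopU ▸ Subgroup.mem_top g : g ∈ U)
    exact ⟨D h l, haf, hap, hcl l h hhl (Subgroup.mem_zpowers _),
      hcl μ k hkμ (by rw [← hb, hai]; exact pow_mem (Subgroup.mem_zpowers _) j), rfl⟩
  have hpair' : ∀ {l μ : L} {g g' : G}, g ∉ T l → g' ∉ T μ → T l ≠ T μ →
      ∃ e : L, (∀ g, act g e = e) ∧ e ^ p = 1 ∧ (∀ g, D g l ∈ Subgroup.zpowers e) ∧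
        (∀ g, D g μ ∈ Subgroup.zpowers e) ∧ ∃ g, D g l = e := by
    intro l μ g g' hg hg' hne
    have h1 : ∀ {ν ν' : L} {x x' : G}, x ∉ T ν → x' ∉ T ν' → T ν ≠ T ν' →
        ∃ y, y ∈ T ν ∧ y ∉ T ν' := by
      intro ν ν' x x' hx hx' hne
      by_contra hno'
      push Not at hno'
      refine hne (Subgroup.eq_of_le_of_card_ge hno' ?_)
      have e1 := (T ν).card_mul_index
      rw [hidx hx, ← (T ν').card_mul_index, hidx hx'] at e1
      exact (Nat.eq_of_mul_eq_mul_right hp.pos e1).ge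
    obtain ⟨k, hk1, hk2⟩ := h1 hg hg' hne
    obtain ⟨h, hh1, hh2⟩ := h1 hg' hg (Ne.symm hne)
    obtain ⟨e, h1, h2, h3, h4, h5⟩ := hpair hh1 hh2 hk1 hk2
    exact ⟨e, h1, h2, h3, h4, h, h5⟩
  obtain ⟨g₀, hg₀⟩ : ∃ g, g ∉ A := by
    by_contra h
    push Not at h
    exact hA1 (Subgroup.index_eq_one.2 ((Subgroup.eq_top_iff' A).2 h))
  obtain ⟨l₀, hl₀⟩ := hsep _ hg₀
  have hg₀T : g₀ ∉ T l₀ := fun h => hl₀ (hT.1 h)
  obtain ⟨g₁, hg₁T, hg₁A⟩ : ∃ g, g ∈ T l₀ ∧ g ∉ A := by
    by_contra h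
    push Not at h
    have : T l₀ = A := le_antisymm h fun a ha => hT.2 (hfix a ha l₀)
    exact hAp (this ▸ hidx hg₀T)
  obtain ⟨l₁, hl₁⟩ := hsep _ hg₁A
  have hg₁T' : g₁ ∉ T l₁ := fun h => hl₁ (hT.1 h)
  have hne01 : T l₀ ≠ T l₁ := fun e => hg₁T' (e ▸ hg₁T)
  obtain ⟨ε, hεf, hεp, hε0, hε1, gε, hgε⟩ := hpair' hg₀T hg₁T' hne01
  have hD1 : ∀ {g : G} {l : L}, g ∉ T l → D g l ≠ 1 := fun {g l} hg h =>
    hg (hT.2 (div_eq_one.1 h))
  refine ⟨ε, fun h => hD1 hg₀T ?_, hεp, hεf, ⟨gε, l₀, hgε⟩, fun g l => ?_⟩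
  · have := hε0 g₀
    rwa [h, Subgroup.zpowers_one_eq_bot, Subgroup.mem_bot] at this
  · by_cases hgl : g ∈ T l
    · rw [hT.1 hgl, div_self']; exact one_mem _
    by_cases he : T l = T l₀
    · obtain ⟨e, -, hep, hel, he1, -⟩ := hpair' hgl hg₁T' (he ▸ hne01)
      rw [← zpowers_eq_of_prime hp hεp (hε1 g₁) (hD1 hg₁T'),
        zpowers_eq_of_prime hp hep (he1 g₁) (hD1 hg₁T')]
      exact hel g
    · obtain ⟨e, -, hep, hel, he0, -⟩ := hpair' hgl hg₀T he
      rw [← zpowers_eq_of_prime hp hεp (hε0 g₀) (hD1 hg₀T),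
        zpowers_eq_of_prime hp hep (he0 g₀) (hD1 hg₀T)]
      exact hel g

/-- Commutators proportional to those with one element: an abelian normal subgroup of index `p`. -/
theorem exists_abelian_index {W : Type*} [CommGroup W] [Finite W] (ι : W →* G)
    (hι : Function.Injective ι) (hιc : ∀ w, ι w ∈ Subgroup.center G) (A : Subgroup G) {a : G}
    (haA : a ∈ A) (φ : G →* W) (hφ : ∀ g, ι (φ g) = ⁅g, a⁆) (hφker : φ.ker = A)
    (hφp : ∀ g, φ g ^ p = 1) (hcard : p ^ 3 ≤ Nat.card φ.range)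
    (hAgen : ∀ n ∈ A, ∃ i : ℤ, n * (a ^ i)⁻¹ ∈ Subgroup.center G)
    (hap : a ^ p ∈ Subgroup.center G)
    (hkey : ∀ t u, ∃ c ∈ Subgroup.zpowers (φ t) ⊔ Subgroup.zpowers (φ u), ι c = ⁅t, u⁆) :
    ∃ B : Subgroup G, B.Normal ∧ (∀ x ∈ B, ∀ y ∈ B, x * y = y * x) ∧ B.index = p := by
  classical
  have := Fact.mk hp
  have hGZ : ∀ t u : G, ⁅t, u⁆ ∈ Subgroup.center G := fun t u => by
    obtain ⟨c, -, hc⟩ := hkey t u; exact hc ▸ hιc c
  choose γf hγm hγe using hkey
  let γ : G → (G →* W) := fun x =>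
    { toFun := γf x
      map_one' := hι (by rw [hγe, map_one]; simp [commutatorElement_def])
      map_mul' := fun g h => hι (by
        rw [map_mul, hγe, hγe, hγe, show ⁅x, g * h⁆ = ⁅x, g⁆ * (g * ⁅x, h⁆ * g⁻¹) by
          simp only [commutatorElement_def]; group, Subgroup.mem_center_iff.1 (hGZ x h) g,
          mul_inv_cancel_right]) }
  have hγe' : ∀ x h, ι (γ x h) = ⁅x, h⁆ := hγe
  have hadj : ∀ x : G, ∃ s : ℤ, ∀ h, γ x h * φ h ^ s ∈ Subgroup.zpowers (φ x) := by
    intro x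
    let E := Subgroup.zpowers (φ x)
    let q : W →* W ⧸ E := QuotientGroup.mk' E
    have hq : ∀ {w : W}, q w = 1 ↔ w ∈ E := fun {w} => QuotientGroup.eq_one_iff w
    obtain ⟨s, hs⟩ := exists_zpow_eq hp (q.comp (γ x)) (q.comp φ)
      (fun h => by rw [MonoidHom.comp_apply, ← map_pow, hφp, map_one])
      (fun h => by
        obtain ⟨c, hc, d, hd, hcd'⟩ := Subgroup.mem_sup.1 (hγm x h)
        rw [MonoidHom.comp_apply, MonoidHom.comp_apply, show γ x h = c * d from hcd'.symm, map_mul,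
          hq.2 hc, one_mul, ← MonoidHom.map_zpowers]
        exact Subgroup.mem_map_of_mem _ hd)
      (fun h₁ => by
        obtain ⟨w, hw⟩ := exists_not_mem_sup hp φ hcard (φ x) (φ h₁) (hφp x) (hφp h₁)
        refine ⟨w, fun ⟨i, hi⟩ => hw ?_⟩
        have hi' : q (φ h₁) ^ i = q (φ w) := hi
        have h2 : (φ h₁ ^ i)⁻¹ * φ w ∈ E := hq.1 (by
          rw [map_mul, map_inv, map_zpow, hi', inv_mul_cancel])
        have := mul_mem (Subgroup.mem_sup_right (zpow_mem (Subgroup.mem_zpowers (φ h₁)) i) :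
            φ h₁ ^ i ∈ Subgroup.zpowers (φ x) ⊔ Subgroup.zpowers (φ h₁))
          (Subgroup.mem_sup_left h2)
        rwa [mul_inv_cancel_left] at this)
    refine ⟨-s, fun h => hq.1 ?_⟩
    have := hs h
    rw [MonoidHom.comp_apply, MonoidHom.comp_apply] at this
    rw [map_mul, map_zpow, this, zpow_neg, mul_inv_cancel]
  have hγa : ∀ h, γ a h = (φ h)⁻¹ := fun h => hι (by
    rw [hγe', map_inv, hφ, commutatorElement_inv])
  have hγmul : ∀ x y h, γ (x * y) h = γ x h * γ y h := fun x y h => hι (by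
    rw [map_mul, hγe', hγe', hγe', show ⁅x * y, h⁆ = (x * ⁅y, h⁆ * x⁻¹) * ⁅x, h⁆ by
        simp only [commutatorElement_def]; group,
      Subgroup.mem_center_iff.1 (hGZ y h) x, mul_inv_cancel_right,
      Subgroup.mem_center_iff.1 (hGZ y h) ⁅x, h⁆])
  have hγzpow : ∀ (i : ℤ) h, γ (a ^ i) h = (φ h)⁻¹ ^ i := fun i h => by
    let δ : G →* W := MonoidHom.mk' (fun x => γ x h) fun x y => hγmul x y h
    show δ (a ^ i) = _
    rw [map_zpow, show δ a = (φ h)⁻¹ from hγa h]
  have haker : φ a = 1 := MonoidHom.mem_ker.1 (hφker.symm ▸ haA)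
  obtain ⟨w₀, hw₀⟩ := exists_not_mem_sup hp φ hcard 1 1 (one_pow p) (one_pow p)
  obtain ⟨s₀, hs₀⟩ := hadj w₀
  obtain ⟨x, hxdef⟩ : ∃ x, x = w₀ * (a ^ s₀)⁻¹ := ⟨_, rfl⟩
  have hγx : ∀ h, γ x h = γ w₀ h * φ h ^ s₀ := fun h => by
    rw [hxdef, hγmul, ← zpow_neg, hγzpow, inv_zpow', neg_neg]
  have hφx : φ x = φ w₀ := by
    rw [hxdef, map_mul, map_inv, map_zpow, haker, one_zpow, inv_one, mul_one]
  have hφx1 : φ x ≠ 1 := fun h => hw₀ (by rw [← hφx, h]; exact one_mem _)
  let B := (γ x).ker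
  have hxim : ∀ h, γ x h ∈ Subgroup.zpowers (φ x) := fun h => by rw [hγx, hφx]; exact hs₀ h
  have hγxa : γ x a = φ x := hι (by rw [hγe', hφ])
  have haB : a ∉ B := fun h => hφx1 (hγxa ▸ MonoidHom.mem_ker.1 h)
  have hrange : (γ x).range = Subgroup.zpowers (φ x) :=
    le_antisymm (by rintro _ ⟨h, rfl⟩; exact hxim h)
      (Subgroup.zpowers_le.2 ⟨a, hγxa⟩)
  have hBi : B.index = p := by
    show (γ x).ker.index = p
    rw [Subgroup.index_ker, hrange, Nat.card_zpowers]
    exact orderOf_eq_prime (hφp x) hφx1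
  have hBgood : ∀ y ∈ B, φ y ∉ Subgroup.zpowers (φ x) → ∀ h, γ y h ∈ Subgroup.zpowers (φ y) := by
    intro y hy hyx
    obtain ⟨s, hs⟩ := hadj y
    have h1 : γ y x = 1 := hι (by
      rw [map_one, hγe', ← commutatorElement_inv, ← hγe', MonoidHom.mem_ker.1 hy, map_one, inv_one])
    have h2 := hs x
    rw [h1, one_mul] at h2
    have h3 : φ x ^ s = 1 := by
      by_contra hne
      apply hyx
      rw [← zpowers_eq_of_prime hp (hφp x) ⟨s, rfl⟩ hne, zpowers_eq_of_prime hp (hφp y) h2 hne]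
      exact Subgroup.mem_zpowers _
    intro h
    obtain ⟨c, hc⟩ := dvd_of_zpow_eq_one hp hφx1 (hφp x) h3
    have := hs h
    rwa [hc, zpow_mul, zpow_natCast, hφp, one_zpow, mul_one] at this
  have hsplit : ∀ g, ∃ i : ℤ, g * (a ^ i)⁻¹ ∈ B := by
    intro g
    obtain ⟨i, hi⟩ := hxim g
    refine ⟨i, MonoidHom.mem_ker.2 ?_⟩
    rw [map_mul, map_inv, map_zpow, hγxa, show φ x ^ i = γ x g from hi, mul_inv_cancel]
  obtain ⟨w, hwB, hwx⟩ : ∃ w ∈ B, φ w ∉ Subgroup.zpowers (φ x) := by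
    obtain ⟨g, hg⟩ := exists_not_mem_sup hp φ hcard (φ x) 1 (hφp x) (one_pow p)
    obtain ⟨i, hi⟩ := hsplit g
    refine ⟨_, hi, fun h => hg (Subgroup.mem_sup_left ?_)⟩
    rwa [map_mul, map_inv, map_zpow, haker, one_zpow, inv_one, mul_one] at h
  have hgood2 : ∀ y ∈ B, ∀ z ∈ B, φ y ∉ Subgroup.zpowers (φ x) → φ z ∉ Subgroup.zpowers (φ x) →
      Commute y z := by
    intro y hy z hz hyx hzx
    by_cases hmem : φ z ∈ Subgroup.zpowers (φ y)
    · obtain ⟨i, hi⟩ := hmem
      have hi' : φ y ^ i = φ z := hi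
      have hnA : z * (y ^ i)⁻¹ ∈ A := by
        rw [← hφker, MonoidHom.mem_ker, map_mul, map_inv, map_zpow, hi', mul_inv_cancel]
      have hnB : z * (y ^ i)⁻¹ ∈ B := mul_mem hz (inv_mem (zpow_mem hy i))
      obtain ⟨j, hj⟩ := hAgen _ hnA
      have hcB : z * (y ^ i)⁻¹ * (a ^ j)⁻¹ ∈ B := MonoidHom.mem_ker.2 (hι (by
        rw [map_one, hγe']
        exact commutatorElement_eq_one_iff_mul_comm.2 (Subgroup.mem_center_iff.1 hj x)))
      have hjB : γ x (a ^ j) = 1 := by
        have := mul_mem (inv_mem hcB) hnB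
        rw [mul_inv_rev, inv_inv, inv_mul_cancel_right] at this
        exact MonoidHom.mem_ker.1 this
      rw [map_zpow, hγxa] at hjB
      obtain ⟨c, hc⟩ := dvd_of_zpow_eq_one hp hφx1 (hφp x) hjB
      have hnc : z * (y ^ i)⁻¹ ∈ Subgroup.center G := by
        have := mul_mem hj (zpow_mem hap c)
        rwa [← zpow_natCast, ← zpow_mul, ← hc, inv_mul_cancel_right] at this
      have hcm : Commute y (z * (y ^ i)⁻¹ * y ^ i) :=
        Commute.mul_right (Subgroup.mem_center_iff.1 hnc y) ((Commute.refl y).zpow_right i)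
      rwa [inv_mul_cancel_right] at hcm
    · refine commutatorElement_eq_one_iff_mul_comm.1 ?_
      by_contra hne
      have h1 := hBgood y hy hyx z
      have h2 := hBgood z hz hzx y
      rw [show γ z y = (γ y z)⁻¹ from hι (by rw [map_inv, hγe', hγe', commutatorElement_inv]),
        Subgroup.inv_mem_iff] at h2
      have hne' : γ y z ≠ 1 := fun h => hne (by rw [← hγe', h, map_one])
      apply hmem
      rw [← zpowers_eq_of_prime hp (hφp y) h1 hne', zpowers_eq_of_prime hp (hφp z) h2 hne']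
      exact Subgroup.mem_zpowers _
  refine ⟨B, normal_of_prime_index hp hBi, ?_, hBi⟩
  have key : ∀ y ∈ B, ∀ z ∈ B, φ z ∉ Subgroup.zpowers (φ x) → Commute y z := by
    intro y hy z hz hzx
    by_cases hyx : φ y ∈ Subgroup.zpowers (φ x)
    · have hyw : φ (y * w) ∉ Subgroup.zpowers (φ x) := fun h => hwx (by
        rw [map_mul] at h
        exact (Subgroup.mul_mem_cancel_left _ hyx).1 h)
      have h3 := (hgood2 _ (mul_mem hy hwB) z hz hyw hzx).mul_left
        (hgood2 _ hwB z hz hwx hzx).inv_left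
      rwa [mul_inv_cancel_right] at h3
    · exact hgood2 y hy z hz hyx hzx
  intro y hy z hz
  by_cases hzx : φ z ∈ Subgroup.zpowers (φ x)
  · have hzw : φ (z * w) ∉ Subgroup.zpowers (φ x) := fun h => hwx (by
      rw [map_mul] at h
      exact (Subgroup.mul_mem_cancel_left _ hzx).1 h)
    have h3 := (key y hy _ (mul_mem hz hwB) hzw).mul_right (key y hy w hwB hwx).inv_right
    rw [mul_inv_cancel_right] at h3
    exact h3.eq
  · exact (key y hy z hz hzx).eq

variable (hcd : ∀ χ : Cfsg.IrrCharacter G, Cfsg.charDegree (χ : G → ℂ) = 1 ∨ Cfsg.charDegree (χ : G → ℂ) = p)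
include hcd

/-- Without an abelian normal subgroup of index `p` the centre has index `p³`. -/
theorem center_index (hna : ∃ a b : G, a * b ≠ b * a)
    (hno : ¬ ∃ A : Subgroup G, A.Normal ∧ (∀ a ∈ A, ∀ b ∈ A, a * b = b * a) ∧ A.index = p) :
    (Subgroup.center G).index = p ^ 3 := by
  classical
  have := Fintype.ofFinite G
  have := Fact.mk hp
  obtain ⟨A, hA, hCA⟩ := exists_self_centralizing (G := G)
  have := hA
  have := Fintype.ofFinite A
  have hAc : ∀ a ∈ A, ∀ b ∈ A, a * b = b * a := fun a ha b hb =>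
    Subgroup.mem_centralizer_iff.1 (hCA.symm ▸ hb : b ∈ Subgroup.centralizer (A : Set G)) a ha
  let act : G → (A →* ℂˣ) →* (A →* ℂˣ) := fun g => MonoidHom.mk' (actHom g) (actHom_mul g)
  have hfix : ∀ g ∈ A, ∀ l : A →* ℂˣ, act g l = l := fun g hg l =>
    actHom_of_mem_centralizer (hCA.symm ▸ hg) l
  have hsep : ∀ g, g ∉ A → ∃ l : A →* ℂˣ, act g l ≠ l := fun g hg => by
    obtain ⟨l, hl⟩ := exists_not_mem_inertia hAc (hCA.symm ▸ hg : g ∉ Subgroup.centralizer (A : Set G))
    exact ⟨l, fun h => hl (mem_inertia_hom.2 h)⟩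
  let T : (A →* ℂˣ) → Subgroup G := fun l => inertia (fun n : A => (l n : ℂ))
  have hT : ∀ {l : A →* ℂˣ} {g : G}, g ∈ T l ↔ act g l = l := mem_inertia_hom
  have hidx : ∀ {l : A →* ℂˣ} {g : G}, g ∉ T l → (T l).index = p := by
    intro l g hg
    have hθ := Char.isIrrCharacter_linear l
    obtain ⟨χ, hχ, hne⟩ := Degrees.exists_over A hθ
    have hdvd := dvd_trans (Dvd.intro _ rfl) (Degrees.index_inertia_mul_dvd A hθ hχ hne)
    have h1 : (T l).index ≠ 1 := fun h => hg (Subgroup.index_eq_one.1 h ▸ Subgroup.mem_top g)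
    rcases hcd ⟨χ, hχ⟩ with h | h
    · change Cfsg.charDegree χ = 1 at h
      rw [h, Nat.dvd_one] at hdvd
      exact absurd hdvd h1
    · change Cfsg.charDegree χ = p at h
      rw [h] at hdvd
      exact ((Nat.dvd_prime hp).1 hdvd).resolve_left h1
  have hA1 : A.index ≠ 1 := fun h => by
    obtain ⟨a, b, hab⟩ := hna
    rw [Subgroup.index_eq_one] at h
    exact hab (hAc a (h ▸ Subgroup.mem_top a) b (h ▸ Subgroup.mem_top b))
  obtain ⟨hpow, hcomm, ε, hε, hεp, hεf, ⟨gε, lε, hgε⟩, hall⟩ := exists_common_line hp act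
    (fun g h l => actHom_actHom g h l) A hfix hsep T hT hidx hA1 (fun h => hno ⟨A, hA, hAc, h⟩)
  have hDval : ∀ (g : G) (l : A →* ℂˣ) (n : A), (act g l / l) n = l (conjN g n * n⁻¹) :=
    fun g l n => by
      show l (conjN g n) / l n = _
      rw [map_mul, map_inv, div_eq_mul_inv]
  have hεv : ∀ (g : G) (n : A), ε (conjN g n) = ε n := fun g n => DFunLike.congr_fun (hεf g) n
  have hεn : ∀ n : A, ε n ^ p = 1 := fun n => DFunLike.congr_fun hεp n
  have hZA : Subgroup.center G ≤ A := fun z hz => hCA ▸ Subgroup.mem_centralizer_iff.2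
    fun a _ => Subgroup.mem_center_iff.1 hz a
  have hker : ∀ n : A, (n : G) ∈ Subgroup.center G ↔ ε n = 1 := by
    intro n
    constructor
    · intro hn
      rw [← hgε, hDval, show conjN gε n = n from Subtype.ext (by
        rw [coe_conjN, Subgroup.mem_center_iff.1 hn gε, mul_inv_cancel_right]), mul_inv_cancel,
        map_one]
    · intro hn
      rw [Subgroup.mem_center_iff]
      intro g
      by_contra hne
      obtain ⟨l, hl⟩ := Char.exists_linear_ne_one (G := A)
        (fun a b => Subtype.ext (hAc a a.2 b b.2)) (g := conjN g n * n⁻¹) (fun h => hne (by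
        have h1 := congrArg Subtype.val (mul_inv_eq_one.1 h)
        rw [coe_conjN] at h1
        calc g * (n : G) = (g * n * g⁻¹) * g := by group
          _ = (n : G) * g := by rw [h1]))
      obtain ⟨i, hi⟩ := hall g l
      apply hl
      rw [← hDval, ← hi]
      show (ε n) ^ i = 1
      rw [hn, one_zpow]
  have hZker : (Subgroup.center G).subgroupOf A = ε.ker := by
    ext n
    rw [Subgroup.mem_subgroupOf, MonoidHom.mem_ker]
    exact hker n
  obtain ⟨a, ha⟩ : ∃ a : A, ε a ≠ 1 := by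
    by_contra h
    push Not at h
    exact hε (MonoidHom.ext h)
  have hrange : ε.range = Subgroup.zpowers (ε a) := by
    refine le_antisymm ?_ (Subgroup.zpowers_le.2 ⟨a, rfl⟩)
    have hr : rootsOfUnity p ℂ = Subgroup.zpowers (ε a) := by
      refine (Subgroup.eq_of_le_of_card_ge (Subgroup.zpowers_le.2 (by
        rw [mem_rootsOfUnity]; exact hεn a)) ?_).symm
      rw [Nat.card_zpowers, orderOf_eq_prime (hεn a) ha]
      exact card_rootsOfUnity ℂ p
    rintro _ ⟨x, rfl⟩
    rw [← hr, mem_rootsOfUnity]; exact hεn x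
  have hrel : (Subgroup.center G).relIndex A = p := by
    rw [Subgroup.relIndex, hZker, Subgroup.index_ker, hrange, Nat.card_zpowers,
      orderOf_eq_prime (hεn a) ha]
  rw [← Subgroup.relIndex_mul_index hZA, hrel]
  obtain ⟨k, hk⟩ : ∃ k, A.index = p ^ k := by
    have hpg : IsPGroup p (G ⧸ A) := fun x => by
      obtain ⟨g, rfl⟩ := QuotientGroup.mk_surjective x
      exact ⟨1, by rw [pow_one, ← QuotientGroup.mk_pow, QuotientGroup.eq_one_iff]; exact hpow g⟩
    obtain ⟨k, hk⟩ := IsPGroup.iff_card.1 hpg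
    exact ⟨k, by rw [Subgroup.index_eq_card, hk]⟩
  suffices k ≤ 2 by
    interval_cases k
    · exact absurd (by rw [hk, pow_zero]) hA1
    · exact absurd ⟨A, hA, hAc, by rw [hk, pow_one]⟩ hno
    · rw [hk, ← pow_succ']
  by_contra hk3
  apply hno
  have hAgen : ∀ n : A, ∃ i : ℤ, ((n * (a ^ i)⁻¹ : A) : G) ∈ Subgroup.center G := by
    intro n
    have : ε n ∈ Subgroup.zpowers (ε a) := hrange ▸ ⟨n, rfl⟩
    obtain ⟨i, hi⟩ := this
    refine ⟨i, (hker _).2 ?_⟩
    rw [map_mul, map_inv, map_zpow, show ε a ^ i = ε n from hi, mul_inv_cancel]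
  have hca : ∀ g : G, g * a * g⁻¹ * (a : G)⁻¹ ∈ Subgroup.center G := by
    intro g
    refine (hker (conjN g a * a⁻¹)).2 ?_
    rw [map_mul, map_inv, hεv, mul_inv_cancel]
  let φ₀ : G → Subgroup.center G := fun g => ⟨g * a * g⁻¹ * (a : G)⁻¹, hca g⟩
  let φ : G →* Subgroup.center G := MonoidHom.mk' φ₀ fun g h => Subtype.ext (by
    show g * h * a * (g * h)⁻¹ * (a : G)⁻¹ =
      (g * a * g⁻¹ * (a : G)⁻¹) * (h * a * h⁻¹ * (a : G)⁻¹)
    rw [show g * h * a * (g * h)⁻¹ * (a : G)⁻¹ =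
      g * (h * a * h⁻¹ * (a : G)⁻¹) * g⁻¹ * (g * a * g⁻¹ * (a : G)⁻¹) by group,
      Subgroup.mem_center_iff.1 (hca h) g, mul_inv_cancel_right,
      Subgroup.mem_center_iff.1 (hca h) (g * a * g⁻¹ * (a : G)⁻¹)])
  have hφv : ∀ g, (φ g : G) = g * a * g⁻¹ * (a : G)⁻¹ := fun g => rfl
  have hφker : φ.ker = A := by
    refine le_antisymm (fun g hg => ?_) fun g hg => MonoidHom.mem_ker.2 (Subtype.ext ?_)
    · rw [← hCA, Subgroup.mem_centralizer_iff]
      intro n hn
      have h1 : g * (a : G) * g⁻¹ = (a : G) :=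
        mul_inv_eq_one.1 ((hφv g).symm.trans (congrArg Subtype.val (MonoidHom.mem_ker.1 hg)))
      have h2 : Commute g (a : G) := mul_inv_eq_iff_eq_mul.1 h1
      obtain ⟨i, hi⟩ := hAgen ⟨n, hn⟩
      have h3 : Commute g (n * ((a : G) ^ i)⁻¹) :=
        Subgroup.mem_center_iff.1 (by simpa using hi) g
      have h4 := h3.mul_right (h2.zpow_right i)
      rw [inv_mul_cancel_right] at h4
      exact h4.eq.symm
    · show g * a * g⁻¹ * (a : G)⁻¹ = 1
      rw [hAc g hg a a.2, mul_inv_cancel_right, mul_inv_cancel]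
  have hφp : ∀ g, φ g ^ p = 1 := fun g => by
    rw [← map_pow, ← MonoidHom.mem_ker, hφker]; exact hpow g
  let iW : CommGroup (Subgroup.center G) :=
    { (inferInstance : Group (Subgroup.center G)) with
      mul_comm := fun x y => Subtype.ext (Subgroup.mem_center_iff.1 y.2 x) }
  have hcard : p ^ 3 ≤ Nat.card φ.range := by
    rw [← Subgroup.index_ker, hφker, hk]
    exact Nat.pow_le_pow_right hp.pos (by omega)
  refine exists_abelian_index (W := Subgroup.center G) hp (Subgroup.center G).subtype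
    Subtype.val_injective (fun w => w.2) A a.2 φ (fun g => hφv g) hφker hφp hcard
    (fun n hn => by obtain ⟨i, hi⟩ := hAgen ⟨n, hn⟩; exact ⟨i, by simpa using hi⟩)
    (by simpa using (hker (a ^ p)).2 (by rw [map_pow]; exact hεn a)) ?_
  -- commutators are proportional to those with `a`
  intro t u
  let U := (Subgroup.zpowers (φ t) ⊔ Subgroup.zpowers (φ u)).map (Subgroup.center G).subtype
  suffices hU : ⁅t, u⁆ ∈ U from hU
  by_contra hnU
  let V : Subgroup A := U.subgroupOf A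
  have hVn : V.Normal := ⟨fun v hv w => by
    rwa [show w * v * w⁻¹ = v from Subtype.ext (by
      rw [Subgroup.coe_mul, Subgroup.coe_mul, hAc w w.2 v v.2, InvMemClass.coe_inv,
        mul_inv_cancel_right])]⟩
  have hQc : ∀ x y : A ⧸ V, x * y = y * x := by
    intro x y
    obtain ⟨x, rfl⟩ := QuotientGroup.mk_surjective x
    obtain ⟨y, rfl⟩ := QuotientGroup.mk_surjective y
    rw [← QuotientGroup.mk_mul, ← QuotientGroup.mk_mul,
      show x * y = y * x from Subtype.ext (hAc x x.2 y y.2)]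
  obtain ⟨η, hη⟩ := Char.exists_linear_ne_one (G := A ⧸ V) hQc
    (g := ((⟨⁅t, u⁆, hcomm t u⟩ : A) : A ⧸ V))
    (fun h => hnU (Subgroup.mem_subgroupOf.1 ((QuotientGroup.eq_one_iff _).1 h)))
  obtain ⟨w, hw⟩ := exists_not_mem_sup (W := Subgroup.center G) hp φ hcard (φ t) (φ u) (hφp t) (hφp u)
  let fw : A := ⟨(φ w : G), hZA (φ w).2⟩
  obtain ⟨η', hη'⟩ := Char.exists_linear_ne_one (G := A ⧸ V) hQc (g := (fw : A ⧸ V))
    (fun h => hw (by
      obtain ⟨c, hc, hce⟩ := Subgroup.mem_subgroupOf.1 ((QuotientGroup.eq_one_iff _).1 h)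
      rwa [← (Subtype.ext hce : c = φ w)]))
  have hgood : ∀ l : A →* ℂˣ, (∀ v ∈ V, l v = 1) → l fw ≠ 1 → l ⟨⁅t, u⁆, hcomm t u⟩ = 1 := by
    intro l hlV hlw
    have he1 : ∀ g : G, l (conjN g a) = l ⟨(φ g : G), hZA (φ g).2⟩ * l a := fun g => by
      rw [← map_mul]
      refine congrArg l (Subtype.ext ?_)
      show g * a * g⁻¹ = g * a * g⁻¹ * (a : G)⁻¹ * (a : G)
      rw [inv_mul_cancel_right]
    have hactl : ∀ g : G, l ⟨(φ g : G), hZA (φ g).2⟩ = 1 → g ∈ T l := by
      intro g hg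
      refine hT.2 (MonoidHom.ext fun n => ?_)
      show l (conjN g n) = l n
      obtain ⟨i, hi⟩ := hAgen n
      have e2 : conjN g (n * (a ^ i)⁻¹) = n * (a ^ i)⁻¹ := Subtype.ext (by
        rw [coe_conjN, Subgroup.mem_center_iff.1 hi g, mul_inv_cancel_right])
      have e1 : actHom g l a = l a := by rw [actHom_apply, he1, hg, one_mul]
      have e3 : actHom g l (n * (a ^ i)⁻¹) = l (n * (a ^ i)⁻¹) := by rw [actHom_apply, e2]
      rw [map_mul, map_mul, map_inv, map_inv, map_zpow, map_zpow, e1, actHom_apply] at e3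
      exact mul_right_cancel e3
    have ht : t ∈ T l := hactl t (hlV _ (Subgroup.mem_subgroupOf.2
      ⟨φ t, Subgroup.mem_sup_left (Subgroup.mem_zpowers _), rfl⟩))
    have hu : u ∈ T l := hactl u (hlV _ (Subgroup.mem_subgroupOf.2
      ⟨φ u, Subgroup.mem_sup_right (Subgroup.mem_zpowers _), rfl⟩))
    have hwT : w ∉ T l := fun h => hlw (by
      have e : l (conjN w a) = l a := DFunLike.congr_fun (hT.1 h) a
      rw [he1] at e
      exact mul_eq_right.1 e)
    have hθ := Char.isIrrCharacter_linear l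
    have := Fintype.ofFinite (T l)
    obtain ⟨χ, hχ, hne⟩ := Degrees.exists_over A hθ
    have hAT : A ≤ T l := fun x hx => hT.2 (hfix x hx l)
    obtain ⟨ψ, hψ, hind, hm⟩ := exists_indFun_inertia (T l) hAT hθ
      (fun g => mem_inertia_iff_conjFn) hχ hne
    have hψ1 : ψ 1 = 1 := by
      have e : (Cfsg.charDegree χ : ℂ) = ((T l).index : ℂ) * (Cfsg.charDegree ψ : ℂ) := by
        rw [BlockB.charDegree_cast (Char.irr_isCharacter hχ),
          BlockB.charDegree_cast (Char.irr_isCharacter hψ)]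
        first
          | rw [← hind, Char.indFun_apply_one]
          | rw [hind, Char.indFun_apply_one]
      rw [hidx hwT] at e
      have e' : Cfsg.charDegree χ = p * Cfsg.charDegree ψ := by exact_mod_cast e
      rw [← BlockB.charDegree_cast (Char.irr_isCharacter hψ)]
      rcases hcd ⟨χ, hχ⟩ with h | h
      · change Cfsg.charDegree χ = 1 at h
        rw [h] at e'
        exact absurd (Nat.eq_one_of_mul_eq_one_right e'.symm) hp.ne_one
      · change Cfsg.charDegree χ = p at h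
        rw [h] at e'
        rw [(mul_eq_left₀ hp.ne_zero).1 e'.symm, Nat.cast_one]
    obtain ⟨m, hm'⟩ := Char.exists_hom_of_degree_one (Char.irr_isCharacter hψ) hψ1
    let mA : A →* ℂˣ := m.comp (Subgroup.inclusion hAT)
    have hml : mA = l := by
      by_contra hne'
      apply hne
      rw [← hm, hm']
      exact Char.irr_classInner_ne (Char.isIrrCharacter_linear mA) hθ fun e =>
        hne' (MonoidHom.ext fun n => Units.ext (congr_fun e n))
    rw [← hml]
    show m ⟨⁅t, u⁆, hAT (hcomm t u)⟩ = 1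
    rw [show (⟨⁅t, u⁆, hAT (hcomm t u)⟩ : T l) = ⁅(⟨t, ht⟩ : T l), ⟨u, hu⟩⁆ from
      Subtype.ext (by simp [commutatorElement_def]), map_commutatorElement,
      commutatorElement_eq_one_iff_mul_comm]
    exact mul_comm _ _
  let lη : A →* ℂˣ := η.comp (QuotientGroup.mk' V)
  let lη' : A →* ℂˣ := η'.comp (QuotientGroup.mk' V)
  have hV1 : ∀ v ∈ V, lη v = 1 ∧ lη' v = 1 := fun v hv => by
    simp [lη, lη', (QuotientGroup.eq_one_iff v).2 hv]
  apply hη
  show lη ⟨⁅t, u⁆, hcomm t u⟩ = 1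
  have h2 := hgood lη' (fun v hv => (hV1 v hv).2) hη'
  by_cases hlw : lη fw = 1
  · have h1 := hgood (lη * lη') (fun v hv => by
      rw [MonoidHom.mul_apply, (hV1 v hv).1, (hV1 v hv).2, one_mul])
      (by rw [MonoidHom.mul_apply, hlw, one_mul]; exact hη')
    rwa [MonoidHom.mul_apply, h2, mul_one] at h1
  · exact hgood lη (fun v hv => (hV1 v hv).1) hlw

end Core

/-- A product of a normal `p`-subgroup and a disjoint normal abelian subgroup is nilpotent. -/
theorem isNilpotent_of_product {p : ℕ} (hp : p.Prime) (P A : Subgroup G) (hP : P.Normal)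
    (hA : A.Normal) (hPp : IsPGroup p P) (hAc : ∀ a ∈ A, ∀ b ∈ A, a * b = b * a)
    (hinf : P ⊓ A = ⊥) (hsup : P ⊔ A = ⊤) : Group.IsNilpotent G := by
  have := Fact.mk hp
  have : Group.IsNilpotent P := hPp.isNilpotent
  let iA : CommGroup A :=
    { (inferInstance : Group A) with mul_comm := fun a b => Subtype.ext (hAc a a.2 b b.2) }
  have : Group.IsNilpotent A := CommGroup.isNilpotent (G := A)
  have hcomm : ∀ (x : P) (y : A), Commute (x : G) y := fun x y =>
    Subgroup.commute_of_normal_of_disjoint P A hP hA (disjoint_iff.2 hinf) x y x.2 y.2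
  refine Group.nilpotent_of_surjective (MonoidHom.noncommCoprod P.subtype A.subtype hcomm) ?_
  intro g
  have : g ∈ P ⊔ A := hsup ▸ Subgroup.mem_top g
  obtain ⟨x, hx, y, hy, rfl⟩ := Subgroup.mem_sup_of_normal_left.1 this
  exact ⟨(⟨x, hx⟩, ⟨y, hy⟩), rfl⟩

/-- **Character degrees `1` and `p`**. -/
theorem degrees_one_p_iff (hG : ∃ a b : G, a * b ≠ b * a) {p : ℕ} (hp : p.Prime) :
    ((∀ χ : Cfsg.IrrCharacter G, Cfsg.charDegree (χ : G → ℂ) = 1 ∨
        Cfsg.charDegree (χ : G → ℂ) = p) ∧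
      ∃ χ : Cfsg.IrrCharacter G, Cfsg.charDegree (χ : G → ℂ) = p) ↔
      ((∃ A : Subgroup G, A.Normal ∧ (∀ a ∈ A, ∀ b ∈ A, a * b = b * a) ∧ A.index = p) ∨
        (Subgroup.center G).index = p ^ 3) := by
  constructor
  · rintro ⟨hcd, hm⟩
    by_cases hA : ∃ A : Subgroup G, A.Normal ∧ (∀ a ∈ A, ∀ b ∈ A, a * b = b * a) ∧ A.index = p
    · exact Or.inl hA
    rcases structure_two_degrees hcd hm hp.ne_one with h | ⟨q, e, hq, -, P, A, hP, hA', hPp, hAc, hinf, hsup⟩
    · exact absurd h hA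
    have := isNilpotent_of_product hq P A hP hA' hPp hAc hinf hsup
    exact Or.inr (center_index hp hcd hG hA)
  · intro h
    have hcd : ∀ χ : Cfsg.IrrCharacter G, Cfsg.charDegree (χ : G → ℂ) = 1 ∨
        Cfsg.charDegree (χ : G → ℂ) = p := by
      intro χ
      have := Fintype.ofFinite G
      obtain ⟨n, ρ, hρ, hρc⟩ := χ.2
      have e : Cfsg.charDegree (χ : G → ℂ) = Module.finrank ℂ (Fin n → ℂ) := by
        rw [← Nat.cast_inj (R := ℂ), BlockB.charDegree_cast (Char.irr_isCharacter χ.2), ← hρc,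
          Representation.char_one]
      rcases h with ⟨A, hA, hAc, hAi⟩ | hZ
      · have hd := Char.ito_degree_dvd_index ρ A hAc
        rw [hAi, ← e] at hd
        exact (Nat.dvd_prime hp).1 hd
      · have hd := Char.degree_dvd_center_index ρ
        rw [hZ, ← e] at hd
        obtain ⟨i, -, hi⟩ := (Nat.dvd_prime_pow hp).1 hd
        have hsq := charDegree_sq_le_center_index χ
        rw [hZ, hi, ← pow_mul, Nat.pow_le_pow_iff_right hp.one_lt] at hsq
        rcases i with _ | _ | i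
        · exact Or.inl (by rw [hi, pow_zero])
        · exact Or.inr (by rw [hi, zero_add, pow_one])
        · omega
    refine ⟨hcd, ?_⟩
    by_contra hne
    obtain ⟨a, b, hab⟩ := hG
    refine hab (Char.comm_iff_forall_degree_one.mpr (fun χ => ?_) a b)
    rw [← BlockB.charDegree_cast (Char.irr_isCharacter χ.2),
      (hcd χ).resolve_right (fun h => hne ⟨χ, h⟩), Nat.cast_one]

end CfsgLib.Clifford.DegreesOneP
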