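import Cfsg.Agent.Lib.Clifford.Degrees
import Cfsg.Agent.Lib.Char.MonomialAbelian
import Cfsg.Agent.Lib.Char.Constituent
import Cfsg.Agent.Lib.Char.Linear
import Cfsg.Agent.S4456

/-!
# Groups with two character degrees are metabelian
-/

set_option autoImplicit false

namespace CfsgLib.Clifford.TwoDegrees

open CfsgLib
open scoped commutatorElement

universe u

variable {G : Type u} [Group G] [Finite G]

/-- Degrees of a quotient occur among the degrees of the group. -/
theorem degree_quotient {m : ℕ}
    (hcd : ∀ χ : Cfsg.IrrCharacter G, Cfsg.charDegree (χ : G → ℂ) = 1 ∨ Cfsg.charDegree (χ : G → ℂ) = m)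
    (N : Subgroup G) [N.Normal] (ψ : Cfsg.IrrCharacter (G ⧸ N)) :
    Cfsg.charDegree (ψ : G ⧸ N → ℂ) = 1 ∨ Cfsg.charDegree (ψ : G ⧸ N → ℂ) = m := by
  have h := hcd ⟨fun g => (ψ : G ⧸ N → ℂ) (g : G ⧸ N),
    Char.isIrrCharacter_comp_surjective ψ.2 (QuotientGroup.mk' N) (QuotientGroup.mk'_surjective N)⟩
  exact h

/-- A quotient by a subgroup of `p`-power index is abelian unless `m` is a power of `p`. -/
theorem commutator_le_of_prime_index {m : ℕ}
    (hcd : ∀ χ : Cfsg.IrrCharacter G, Cfsg.charDegree (χ : G → ℂ) = 1 ∨ Cfsg.charDegree (χ : G → ℂ) = m)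
    {p : ℕ} (hp : p.Prime) (hm : ∀ e, m ≠ p ^ e) (N : Subgroup G) [N.Normal] {k : ℕ}
    (hk : N.index = p ^ k) : commutator G ≤ N := by
  have hab : ∀ a b : G ⧸ N, a * b = b * a := by
    refine Char.comm_iff_forall_degree_one.mpr fun ψ => ?_
    have hd := Degrees.charDegree_dvd_card ψ.2
    rw [← Subgroup.index_eq_card, hk] at hd
    obtain ⟨i, -, hi⟩ := (Nat.dvd_prime_pow hp).mp hd
    rw [← BlockB.charDegree_cast (Char.irr_isCharacter ψ.2)]
    rcases degree_quotient hcd N ψ with h | h
    · rw [h, Nat.cast_one]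
    · exact absurd (h.symm.trans hi) (hm i)
  rw [_root_.commutator_def, Subgroup.commutator_le]
  intro a _ b _
  rw [← QuotientGroup.eq_one_iff, ← QuotientGroup.mk'_apply, map_commutatorElement,
    commutatorElement_eq_one_iff_mul_comm]
  exact hab _ _

/-- A normal subgroup of order prime to `m` is abelian. -/
theorem comm_of_coprime {m : ℕ}
    (hcd : ∀ χ : Cfsg.IrrCharacter G, Cfsg.charDegree (χ : G → ℂ) = 1 ∨ Cfsg.charDegree (χ : G → ℂ) = m)
    (N : Subgroup G) [N.Normal] (h : (Nat.card N).Coprime m) :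
    ∀ a ∈ N, ∀ b ∈ N, a * b = b * a := by
  intro a ha b hb
  have := Fintype.ofFinite G
  have := Fintype.ofFinite N
  refine congr_arg Subtype.val ((Char.comm_iff_forall_degree_one (G := N)).mpr (fun θ => ?_)
    ⟨a, ha⟩ ⟨b, hb⟩)
  obtain ⟨χ, hχ, hne⟩ := Degrees.exists_over N θ.2
  have hdvd := dvd_trans (Dvd.intro_left _ rfl) (Degrees.index_inertia_mul_dvd N θ.2 hχ hne)
  rw [← BlockB.charDegree_cast (Char.irr_isCharacter θ.2)]
  rcases hcd ⟨χ, hχ⟩ with h1 | h1
  · change Cfsg.charDegree χ = 1 at h1
    rw [h1, Nat.dvd_one] at hdvd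
    rw [hdvd, Nat.cast_one]
  · change Cfsg.charDegree χ = m at h1
    rw [h1] at hdvd
    rw [Nat.eq_one_of_dvd_coprimes h (Degrees.charDegree_dvd_card θ.2) hdvd, Nat.cast_one]

/-- Two degrees: the derived subgroup is abelian. -/
theorem commutator_comm {m : ℕ} (hm : ∃ χ : Cfsg.IrrCharacter G, Cfsg.charDegree (χ : G → ℂ) = m)
    (hm1 : m ≠ 1)
    (hcd : ∀ χ : Cfsg.IrrCharacter G, Cfsg.charDegree (χ : G → ℂ) = 1 ∨ Cfsg.charDegree (χ : G → ℂ) = m) :
    ∀ a ∈ commutator G, ∀ b ∈ commutator G, a * b = b * a := by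
  classical
  have := Fintype.ofFinite G
  have hm0 : m ≠ 0 := by
    obtain ⟨χ, hχ⟩ := hm
    intro h0
    apply Char.irr_apply_one_ne_zero χ.2
    rw [← BlockB.charDegree_cast (Char.irr_isCharacter χ.2), hχ, h0, Nat.cast_zero]
  have hdiv : ∀ p : ℕ, p ∣ m → ∀ χ : Cfsg.IrrCharacter G, Cfsg.charDegree (χ : G → ℂ) ≠ 1 →
      p ∣ Cfsg.charDegree (χ : G → ℂ) := fun p hp χ hχ => ((hcd χ).resolve_left hχ).symm ▸ hp
  by_cases hpp : ∃ p e : ℕ, p.Prime ∧ m = p ^ e
  · obtain ⟨p, e, hp, he⟩ := hpp
    have he0 : e ≠ 0 := fun h => hm1 (by rw [he, h, pow_zero])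
    obtain ⟨N, hN, hNp, k, hk⟩ := Cfsg.Agent.S4456.result p hp
      (hdiv p (he ▸ dvd_pow_self p he0))
    have hNab := comm_of_coprime hcd N (he ▸ hNp.pow_right e)
    have : Fact p.Prime := ⟨hp⟩
    have hnil : Group.IsNilpotent (G ⧸ N) :=
      IsPGroup.isNilpotent (IsPGroup.of_card (p := p) (n := k) (by rw [← hk, Subgroup.index_eq_card]))
    have hG : Char.IsAbelianByNilpotent G := ⟨N, hN, hNab, hnil⟩
    intro a ha b hb
    by_contra hne
    obtain ⟨χ, hχ⟩ := Char.exists_irr_apply_ne (g := a * b * a⁻¹ * b⁻¹)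
      (fun h => hne (by
        calc a * b = a * b * a⁻¹ * b⁻¹ * (b * a) := by group
          _ = b * a := by rw [h, one_mul]))
    apply hχ
    obtain ⟨H, lam, hHe⟩ := Char.monomial_of_isAbelianByNilpotent G hG χ.1 χ.2
    -- the derived subgroup lies in `H`
    have hidx : H.index = Cfsg.charDegree (χ : G → ℂ) := by
      rw [← Nat.cast_inj (R := ℂ), BlockB.charDegree_cast (Char.irr_isCharacter χ.2), hHe,
        Char.indFun_apply_one, map_one, Units.val_one, mul_one]
    have hle : commutator G ≤ H := by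
      by_cases h1 : H.index = 1
      · rw [Subgroup.index_eq_one.mp h1]; exact le_top
      have hHm : H.index = m := by
        rcases hcd χ with h | h
        · exact absurd (hidx.trans h) h1
        · exact hidx.trans h
      have := Fintype.ofFinite (Cfsg.IrrCharacter G)
      have := Fintype.ofFinite H
      set π := Cfsg.indFun H (fun _ => (1 : ℂ)) with hπ
      have hπc : Cfsg.IsCharacter G π := Char.isCharacter_indFun H Char.isCharacter_one
      have hnat : ∀ η : Cfsg.IrrCharacter G, ∃ c : ℕ, Cfsg.classInner π (η : G → ℂ) = c := fun η =>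
        Char.classInner_isCharacter_nat hπc (Char.irr_isCharacter η.2)
      choose c hc using hnat
      let one : Cfsg.IrrCharacter G := ⟨fun _ => 1, Char.isIrrCharacter_one⟩
      have hone : c one = 1 := by
        have h := hc one
        rw [hπ, Char.frobenius_reciprocity _ _ _ (Char.irr_isClassFunction one.2),
          Char.irr_classInner_self Char.isIrrCharacter_one] at h
        exact_mod_cast h.symm
      have hexp : ∀ g, π g = ∑ η : Cfsg.IrrCharacter G, (c η : ℂ) * (η : G → ℂ) g := fun g => by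
        simp only [← hc]
        conv_lhs => rw [Char.classFunction_eq_sum (Char.isCharacter_isClassFunction hπc)]
        simp
      have hdeg : ∑ η : Cfsg.IrrCharacter G, c η * Cfsg.charDegree (η : G → ℂ) = m := by
        rw [← Nat.cast_inj (R := ℂ), Nat.cast_sum, ← hHm]
        simp only [Nat.cast_mul, BlockB.charDegree_cast (Char.irr_isCharacter (Subtype.prop _))]
        rw [← hexp, hπ, Char.indFun_apply_one, mul_one]
      rw [_root_.commutator_def, Subgroup.commutator_le]
      intro x _ y _
      set g := ⁅x, y⁆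
      have hval : π g = π 1 := by
        rw [hexp, hexp]
        refine Finset.sum_congr rfl fun η _ => ?_
        by_cases hc0 : c η = 0
        · simp [hc0]
        congr 1
        have hlin : (η : G → ℂ) 1 = 1 := by
          rw [← BlockB.charDegree_cast (Char.irr_isCharacter η.2)]
          rcases hcd η with h | h
          · rw [h, Nat.cast_one]
          · exfalso
            have hne1 : η ≠ one := fun e' => hm1 (by
              rw [← h, e', ← Nat.cast_inj (R := ℂ),
                BlockB.charDegree_cast (Char.irr_isCharacter one.2)]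
              simp [one])
            have h2 : ∑ z ∈ ({one, η} : Finset (Cfsg.IrrCharacter G)),
                c z * Cfsg.charDegree (z : G → ℂ) ≤ m := by
              rw [← hdeg]
              exact Finset.sum_le_univ_sum_of_nonneg fun _ => Nat.zero_le _
            have hdone : Cfsg.charDegree (one : G → ℂ) = 1 := by
              rw [← Nat.cast_inj (R := ℂ), BlockB.charDegree_cast (Char.irr_isCharacter one.2)]
              simp [one]
            rw [Finset.sum_pair (Ne.symm hne1), hone, hdone, h] at h2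
            have := Nat.le_mul_of_pos_left m (Nat.pos_of_ne_zero hc0)
            omega
        obtain ⟨l, hl⟩ := Char.exists_hom_of_degree_one (Char.irr_isCharacter η.2) hlin
        rw [hl]
        simp only [g, map_commutatorElement, commutatorElement_def, map_one, mul_comm (l x) (l y)]
        simp
      by_contra hg
      rw [hπ, Char.indFun_def, Char.indFun_def] at hval
      have h2 := congrArg Complex.re (mul_left_cancel₀ (inv_ne_zero Char.natCard_ne_zero) hval)
      rw [Complex.re_sum, Complex.re_sum] at h2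
      have hterm : ∀ z : G, (Cfsg.extendByZero H (fun _ => (1 : ℂ)) (z⁻¹ * 1 * z)).re = 1 :=
        fun z => by
          rw [mul_one, inv_mul_cancel, Char.extendByZero_of_mem _ H.one_mem, Complex.one_re]
      simp only [hterm] at h2
      refine (Finset.sum_lt_sum (s := (Finset.univ : Finset G))
        (f := fun z => (Cfsg.extendByZero H (fun _ => (1 : ℂ)) (z⁻¹ * g * z)).re)
        (g := fun _ => (1 : ℝ)) (fun z _ => ?_) ⟨1, Finset.mem_univ _, ?_⟩).ne h2
      · by_cases hz : z⁻¹ * g * z ∈ H
        · rw [Char.extendByZero_of_mem _ hz, Complex.one_re]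
        · rw [Char.extendByZero_of_not_mem _ hz, Complex.zero_re]; exact zero_le_one
      · rw [inv_one, one_mul, mul_one, Char.extendByZero_of_not_mem _ (show g ∉ H from hg),
          Complex.zero_re]
        exact zero_lt_one
    rw [hHe, Char.indFun_def, Char.indFun_def]
    congr 1
    refine Finset.sum_congr rfl fun x _ => ?_
    have hcn : ∀ y ∈ commutator G, x⁻¹ * y * x ∈ H := fun y hy =>
      hle (by simpa using (inferInstance : (commutator G).Normal).conj_mem y hy x⁻¹)
    rw [show x⁻¹ * 1 * x = ((1 : H) : G) by simp, Char.extendByZero_coe,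
      show x⁻¹ * (a * b * a⁻¹ * b⁻¹) * x = ((⟨_, hcn a ha⟩ * ⟨_, hcn b hb⟩ *
        (⟨_, hcn a ha⟩ : H)⁻¹ * (⟨_, hcn b hb⟩ : H)⁻¹ : H) : G) by
          simp only [Subgroup.coe_mul, InvMemClass.coe_inv]; group,
      Char.extendByZero_coe]
    congr 1
    rw [map_mul, map_mul, map_mul, map_inv, map_inv, map_one, mul_comm (lam ⟨_, hcn a ha⟩),
      mul_inv_cancel_right, mul_inv_cancel]
  · push Not at hpp
    refine comm_of_coprime hcd (commutator G) (Nat.coprime_of_dvd fun p hp hpc hpm => ?_)
    obtain ⟨N, hN, hNp, k, hk⟩ := Cfsg.Agent.S4456.result p hp (hdiv p hpm)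
    have hle := commutator_le_of_prime_index hcd hp (fun e => hpp p e hp) N hk
    exact (hp.coprime_iff_not_dvd.mp hNp.symm) (hpc.trans (Subgroup.card_dvd_of_le hle))

end CfsgLib.Clifford.TwoDegrees
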