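import Cfsg.Agent.S0878
import Cfsg.Agent.S0739
import Cfsg.Agent.Lib.Char.Inner
import Cfsg.Agent.Lib.Char.Induce
import Cfsg.Agent.Lib.Char.Linear
import Cfsg.Agent.Lib.Perm.ZassenhausKernel

/-!
# Zassenhaus groups with two point stabiliser of odd order inverted by the swaps

The kernel of the point stabiliser is not assumed abelian.
-/

set_option autoImplicit false
set_option linter.unusedSectionVars false

namespace CfsgLib.Clifford

open MulAction
open scoped ComplexConjugate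

universe u v

variable {G : Type u} {Ω : Type v} [Group G] [MulAction G Ω] [Fintype Ω]

/-- The configuration. -/
structure Zass (G : Type u) (Ω : Type v) [Group G] [MulAction G Ω] [Fintype Ω] (a b : Ω)
    (H : Subgroup G) : Prop where
  ab : a ≠ b
  two : IsMultiplyPretransitive G Ω 2
  faithful : ∀ g : G, (∀ c : Ω, g • c = c) → g = 1
  three : ∀ g : G, ∀ x y z : Ω, x ≠ y → y ≠ z → x ≠ z → g • x = x → g • y = y → g • z = z → g = 1
  fix : ∀ x ∈ H, x • a = a
  normal : ∀ g : G, g • a = a → ∀ x ∈ H, g * x * g⁻¹ ∈ H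
  reg : ∀ z : Ω, z ≠ a → ∃! u : H, (u : G) • b = z
  free : ∀ x ∈ H, ∀ y : Ω, y ≠ a → x • y = y → x = 1
  big : 3 ≤ Fintype.card Ω
  odd : Odd (Nat.card (stabilizer G a ⊓ stabilizer G b : Subgroup G))
  inv : ∀ s : G, s • a = b → s • b = a → ∀ x ∈ stabilizer G a ⊓ stabilizer G b, s * x * s⁻¹ = x⁻¹
  one_lt : 1 < Nat.card (stabilizer G a ⊓ stabilizer G b : Subgroup G)

section Basics

variable [Finite G]

/-- Two point stabilisers are nontrivial and there are three points. -/
theorem zass_big (hZ : Cfsg.IsZassenhausGroup G Ω) {a b : Ω} (hab : a ≠ b) :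
    1 < Nat.card (stabilizer G a ⊓ stabilizer G b : Subgroup G) ∧ 3 ≤ Fintype.card Ω := by
  classical
  obtain ⟨hf, h2t, h3, ⟨g₀, hg₀, c₀, d₀, hcd, hg₀c, hg₀d⟩, -⟩ := hZ
  obtain ⟨t, t1, t2⟩ := CfsgLib.Perm.exists_smul_pair h2t hcd hab
  have hk : t * g₀ * t⁻¹ ∈ stabilizer G a ⊓ stabilizer G b := by
    refine ⟨?_, ?_⟩
    · show (t * g₀ * t⁻¹) • a = a
      rw [mul_smul, mul_smul, inv_smul_eq_iff.mpr t1.symm, hg₀c, t1]
    · show (t * g₀ * t⁻¹) • b = b
      rw [mul_smul, mul_smul, inv_smul_eq_iff.mpr t2.symm, hg₀d, t2]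
  have hk1 : t * g₀ * t⁻¹ ≠ 1 := fun e => hg₀ (conj_eq_one_iff.mp e)
  refine ⟨Finite.one_lt_card_iff_nontrivial.mpr
    ⟨⟨⟨_, hk⟩, 1, fun e => hk1 (congr_arg Subtype.val e)⟩⟩, ?_⟩
  by_contra hlt
  refine hk1 (eq_of_smul_eq_smul fun x : Ω => ?_)
  rw [one_smul]
  by_cases hxa : x = a
  · rw [hxa]; exact hk.1
  by_cases hxb : x = b
  · rw [hxb]; exact hk.2
  exfalso
  have : ({a, b, x} : Finset Ω).card ≤ Fintype.card Ω := Finset.card_le_univ _
  rw [Finset.card_eq_three.mpr ⟨a, b, x, hab, Ne.symm hxa, Ne.symm hxb, rfl⟩] at this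
  omega

/-- In a simple group the swaps invert the two point stabiliser. -/
theorem zass_inv_of_simple (hZ : Cfsg.IsZassenhausGroup G Ω) {a b : Ω} (hab : a ≠ b)
    [IsSimpleGroup G] (hodd : Odd (Nat.card (stabilizer G a ⊓ stabilizer G b : Subgroup G))) :
    ∀ s : G, s • a = b → s • b = a → ∀ x ∈ stabilizer G a ⊓ stabilizer G b, s * x * s⁻¹ = x⁻¹ := by
  refine (Cfsg.Agent.S0739.result hZ hab hodd ?_).2.2
  rintro q hq hqd ⟨N, hNn, hNi⟩
  have hv : 0 < (Nat.card G).factorization q :=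
    hq.factorization_pos_of_dvd Nat.card_pos.ne'
      (hqd.trans (Subgroup.card_subgroup_dvd_card _))
  rcases hNn.eq_bot_or_eq_top with h | h
  · rw [h, Subgroup.index_bot] at hNi
    have h2 : 2 ∣ Nat.card G := by
      rw [CfsgLib.Perm.natCard_two_transitive hZ.2.1 hab]
      exact (Nat.even_mul_pred_self _).two_dvd.mul_left _
    rw [hNi] at h2
    have : q = 2 := ((Nat.prime_dvd_prime_iff_eq Nat.prime_two hq).mp
      (Nat.prime_two.dvd_of_dvd_pow h2)).symm
    subst this
    exact (Nat.not_even_iff_odd.mpr hodd) (even_iff_two_dvd.mpr hqd)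
  · rw [h, Subgroup.index_top] at hNi
    exact absurd hNi.symm (Nat.one_lt_pow hv.ne' hq.one_lt).ne'

/-- The configuration from a kernel given by its fixed point property. -/
theorem zass_of_kernel (hZ : Cfsg.IsZassenhausGroup G Ω) {a b : Ω} (hab : a ≠ b)
    (hodd : Odd (Nat.card (stabilizer G a ⊓ stabilizer G b : Subgroup G)))
    (hinv : ∀ s : G, s • a = b → s • b = a → ∀ x ∈ stabilizer G a ⊓ stabilizer G b,
      s * x * s⁻¹ = x⁻¹)
    (H : Subgroup G) (hHa : H ≤ stabilizer G a) (hHcard : Nat.card H + 1 = Fintype.card Ω)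
    (hHfix : ∀ u ∈ H, u ≠ 1 → ∀ c : Ω, u • c = c → c = a) : Zass G Ω a b H := by
  classical
  obtain ⟨h1, hbig⟩ := zass_big hZ hab
  have hn := (Cfsg.Agent.S0878.result hZ a H hHa hHcard hHfix).2
  obtain ⟨hf, h2t, h3, -, -⟩ := hZ
  have hfree : ∀ x ∈ H, ∀ y : Ω, y ≠ a → x • y = y → x = 1 := fun x hx y hy e =>
    by_contra fun hx1 => hy (hHfix x hx hx1 y e)
  refine ⟨hab, h2t, fun g hg => eq_of_smul_eq_smul fun c : Ω => by rw [hg c, one_smul], h3,
    fun x hx => hHa hx, fun g hg x hx => ?_, fun z hz => ?_, hfree, hbig, hodd, hinv, h1⟩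
  · exact (Subgroup.mem_normalizer_iff.mp
      (hn.symm ▸ (hg : g ∈ stabilizer G a)) x).mp hx
  · let f : H → {c : Ω // c ≠ a} := fun u => ⟨(u : G) • b, fun h => hab
      (smul_left_cancel (u : G) ((hHa u.2 : (u : G) • a = a).trans h.symm))⟩
    have hf : Function.Bijective f := by
      refine (Nat.bijective_iff_injective_and_card f).mpr ⟨fun u v h => ?_, ?_⟩
      · have h' : (u : G) • b = (v : G) • b := congr_arg Subtype.val h
        refine Subtype.ext (inv_mul_eq_one.mp (hfree _ (H.mul_mem (H.inv_mem v.2) u.2) b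
          (Ne.symm hab) ?_)).symm
        rw [mul_smul, h', inv_smul_smul]
      · have := Fintype.card_subtype_compl (fun c : Ω => c = a)
        rw [Fintype.card_subtype_eq] at this
        rw [Nat.card_eq_fintype_card (α := {c : Ω // c ≠ a})]
        simp only [ne_eq]
        omega
    obtain ⟨u, hu⟩ := hf.2 ⟨z, hz⟩
    exact ⟨u, congr_arg Subtype.val hu, fun v hv => hf.1 (Subtype.ext (hv.trans
      (congr_arg Subtype.val hu).symm))⟩

/-- A kernel exists. -/
theorem exists_zass_kernel (hZ : Cfsg.IsZassenhausGroup G Ω) {a b : Ω} (hab : a ≠ b) :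
    ∃ H : Subgroup G, H ≤ stabilizer G a ∧ Nat.card H + 1 = Fintype.card Ω ∧
      ∀ u ∈ H, u ≠ 1 → ∀ c : Ω, u • c = c → c = a := by
  classical
  obtain ⟨h1, hbig⟩ := zass_big hZ hab
  obtain ⟨hf, h2t, h3, -, -⟩ := hZ
  obtain ⟨w, hwa, hwb⟩ : ∃ w : Ω, w ≠ a ∧ w ≠ b := by
    have h : 0 < (((Finset.univ : Finset Ω).erase a).erase b).card := by
      rw [Finset.card_erase_of_mem (Finset.mem_erase.mpr ⟨hab.symm, Finset.mem_univ _⟩),
        Finset.card_erase_of_mem (Finset.mem_univ _), Finset.card_univ]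
      omega
    obtain ⟨w, hw⟩ := Finset.card_pos.mp h
    exact ⟨w, (Finset.mem_erase.mp (Finset.mem_of_mem_erase hw)).1, (Finset.mem_erase.mp hw).1⟩
  obtain ⟨F, hF, -, hreg⟩ := CfsgLib.Perm.exists_regular_kernel h2t h3 hab hwa hwb
    (fun e => by rw [e, Subgroup.card_bot] at h1; exact lt_irrefl _ h1)
  have hfree : ∀ u ∈ F, u ≠ 1 → ∀ c : Ω, u • c = c → c = a := fun u hu hu1 c hc =>
    by_contra fun hca => hu1 (congr_arg Subtype.val ((hreg c c hca hca).unique
      (y₁ := (⟨u, hu⟩ : F)) hc (show ((1 : F) : G) • c = c from one_smul _ _)))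
  refine ⟨F, hF, ?_, hfree⟩
  have e : Nat.card F = Nat.card {z : Ω // z ≠ a} := by
    refine Nat.card_eq_of_bijective (fun u => ⟨(u : G) • b, fun h => hab
      (smul_left_cancel (u : G) ((hF u.2 : (u : G) • a = a).trans h.symm))⟩) ⟨fun u v h => ?_, fun z => ?_⟩
    · exact (hreg b ((v : G) • b) hab.symm (fun h' => hab (smul_left_cancel (v : G)
        ((hF v.2 : (v : G) • a = a).trans h'.symm)))).unique (congr_arg Subtype.val h) rfl
    · obtain ⟨u, hu, -⟩ := hreg b z.1 hab.symm z.2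
      exact ⟨u, Subtype.ext hu⟩
  rw [e, Nat.card_eq_fintype_card, Fintype.card_subtype_compl, Fintype.card_subtype_eq]
  omega

end Basics

namespace Zass

variable {a b : Ω} {H : Subgroup G} (C : Zass G Ω a b H)

local notation "𝐄" => (stabilizer G a ⊓ stabilizer G b : Subgroup G)
local notation "𝐁" => stabilizer G a

include C

theorem fix_only {x : G} (hx : x ∈ H) (hx1 : x ≠ 1) {y : Ω} (e : x • y = y) : y = a :=
  by_contra fun hy => hx1 (C.free x hx y hy e)

theorem card_H : Nat.card H + 1 = Fintype.card Ω := by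
  classical
  have e : Nat.card H = Nat.card {z : Ω // z ≠ a} := by
    refine Nat.card_eq_of_bijective (fun u => ⟨(u : G) • b, fun h => C.ab
      (smul_left_cancel (u : G) ((C.fix u u.2).trans h.symm))⟩) ⟨fun u v h => ?_, fun z => ?_⟩
    · exact (C.reg ((v : G) • b) (fun h' => C.ab (smul_left_cancel (v : G)
        ((C.fix v v.2).trans h'.symm)))).unique (congr_arg Subtype.val h) rfl
    · obtain ⟨u, hu, -⟩ := C.reg z.1 z.2
      exact ⟨u, Subtype.ext hu⟩
  rw [e, Nat.card_eq_fintype_card, Fintype.card_subtype_compl, Fintype.card_subtype_eq]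
  have := C.big
  omega

theorem card_G [Finite G] : Nat.card G = Nat.card 𝐄 * ((Nat.card H + 1) * Nat.card H) := by
  rw [CfsgLib.Perm.natCard_two_transitive C.two C.ab, ← C.card_H, Nat.add_sub_cancel]

theorem fpf {k : G} (hk : k ∈ 𝐄) (hk1 : k ≠ 1) {x : G} (hx : x ∈ H) (e : k * x = x * k) :
    x = 1 := by
  by_contra hx1
  have h1 : k • (x • b) = x • b := by rw [← mul_smul, e, mul_smul, show k • b = b from hk.2]
  have h2 : x • b ≠ b := fun h => hx1 (C.free x hx b C.ab.symm h)
  have h3 : x • b ≠ a := fun h => C.ab (smul_left_cancel x ((C.fix x hx).trans h.symm))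
  exact hk1 (C.three k a b (x • b) C.ab (Ne.symm h2) (Ne.symm h3) hk.1 hk.2 h1)

theorem exists_decomp {g : G} (hg : g • a = a) : ∃ u ∈ H, ∃ k ∈ 𝐄, g = u * k := by
  obtain ⟨u, hu, -⟩ := C.reg (g • b) (fun h => C.ab (smul_left_cancel g (hg.trans h.symm)))
  refine ⟨u, u.2, (u : G)⁻¹ * g, ⟨?_, ?_⟩, by group⟩
  · show ((u : G)⁻¹ * g) • a = a
    rw [mul_smul, hg, inv_smul_eq_iff, C.fix u u.2]
  · show ((u : G)⁻¹ * g) • b = b
    rw [mul_smul, ← hu, inv_smul_smul]

theorem decomp_unique {u u' k k' : G} (hu : u ∈ H) (hu' : u' ∈ H) (hk : k ∈ 𝐄) (hk' : k' ∈ 𝐄)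
    (e : u * k = u' * k') : u = u' ∧ k = k' := by
  have h : (u'⁻¹ * u) • b = b := by
    rw [show u'⁻¹ * u = k' * k⁻¹ by rw [eq_mul_inv_iff_mul_eq, mul_assoc, e, inv_mul_cancel_left],
      mul_smul, show k⁻¹ • b = b by rw [inv_smul_eq_iff]; exact hk.2.symm]
    exact hk'.2
  have h' : u' = u := inv_mul_eq_one.mp (C.free _ (mul_mem (inv_mem hu') hu) b C.ab.symm h)
  subst h'
  exact ⟨rfl, mul_left_cancel e⟩

theorem exists_conj [Finite G] {k : G} (hk : k ∈ 𝐄) (hk1 : k ≠ 1) {u : G} (hu : u ∈ H) :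
    ∃ v ∈ H, u * k = v * k * v⁻¹ := by
  let f : H → H := fun v => ⟨(v : G) * (k * (v : G) * k⁻¹)⁻¹,
    mul_mem v.2 (inv_mem (C.normal k hk.1 v v.2))⟩
  have hf : Function.Injective f := by
    intro v w e
    have e' : (v : G) * (k * (v : G) * k⁻¹)⁻¹ = (w : G) * (k * (w : G) * k⁻¹)⁻¹ :=
      congr_arg Subtype.val e
    refine Subtype.ext (inv_mul_eq_one.mp (C.fpf hk hk1 (mul_mem (inv_mem v.2) w.2) ?_))
    have h2 : k * ((v : G)⁻¹ * w) * k⁻¹ = (v : G)⁻¹ * w := by
      have h3 : (k * (v : G) * k⁻¹)⁻¹ * (k * (w : G) * k⁻¹) = (v : G)⁻¹ * w := by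
        have h4 := congr_arg (fun x => (v : G)⁻¹ * x * (k * (w : G) * k⁻¹)) e'
        simpa [mul_assoc] using h4
      conv_rhs => rw [← h3]
      group
    exact mul_inv_eq_iff_eq_mul.mp h2
  obtain ⟨v, hv⟩ := (Finite.injective_iff_surjective.mp hf) ⟨u, hu⟩
  refine ⟨v, v.2, ?_⟩
  rw [show u = (v : G) * (k * (v : G) * k⁻¹)⁻¹ from (congr_arg Subtype.val hv).symm]
  group

theorem mem_or_fix [Finite G] {g : G} (hg : g • a = a) : g ∈ H ∨ ∃ y : Ω, y ≠ a ∧ g • y = y := by
  obtain ⟨u, hu, k, hk, rfl⟩ := C.exists_decomp hg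
  by_cases hk1 : k = 1
  · left; rw [hk1, mul_one]; exact hu
  · obtain ⟨v, hv, e⟩ := C.exists_conj hk hk1 hu
    refine Or.inr ⟨v • b, fun h => C.ab (smul_left_cancel v ((C.fix v hv).trans h.symm)), ?_⟩
    rw [e, mul_smul, mul_smul, inv_smul_smul, show k • b = b from hk.2]

theorem eq_one_of_sq {x : G} (hx : x ∈ 𝐄) (h2 : x * x = 1) : x = 1 := by
  have hc : Nat.Coprime (Nat.card 𝐄) 2 := Nat.coprime_two_right.mpr C.odd
  have h3 := pow_card_eq_one' (x := (⟨x, hx⟩ : 𝐄))
  have h4 : (⟨x, hx⟩ : 𝐄) ^ 2 = 1 := Subtype.ext (by simpa [pow_two] using h2)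
  have h5 := pow_gcd_eq_one.mpr ⟨h3, h4⟩
  rw [hc.gcd_eq_one, pow_one] at h5
  exact congr_arg Subtype.val h5

theorem exists_swap : ∃ s : G, s • a = b ∧ s • b = a :=
  CfsgLib.Perm.exists_smul_pair C.two C.ab C.ab.symm

theorem swap_sq {s : G} (h1 : s • a = b) (h2 : s • b = a) : s * s = 1 := by
  have hm : s * s ∈ 𝐄 :=
    ⟨show (s * s) • a = a by rw [mul_smul, h1, h2], show (s * s) • b = b by rw [mul_smul, h2, h1]⟩
  refine C.eq_one_of_sq hm (eq_inv_iff_mul_eq_one.mp ?_)
  have e := C.inv s h1 h2 _ hm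
  rwa [show s * (s * s) * s⁻¹ = s * s by group] at e

/-- An involution fixes at most one point. -/
theorem unique_fixed {g : G} (hg : g * g = 1) (hg1 : g ≠ 1) {c d : Ω} (hc : g • c = c)
    (hd : g • d = d) : c = d := by
  by_contra hcd
  obtain ⟨t, hta, htb⟩ := CfsgLib.Perm.exists_smul_pair C.two C.ab hcd
  have h1 : t⁻¹ * g * t ∈ 𝐄 :=
    ⟨show (t⁻¹ * g * t) • a = a by rw [mul_smul, mul_smul, hta, hc, inv_smul_eq_iff, hta],
      show (t⁻¹ * g * t) • b = b by rw [mul_smul, mul_smul, htb, hd, inv_smul_eq_iff, htb]⟩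
  have h2 := C.eq_one_of_sq h1 (by
    rw [show t⁻¹ * g * t * (t⁻¹ * g * t) = t⁻¹ * (g * g) * t by group, hg]; group)
  exact hg1 (by rw [show g = t * (t⁻¹ * g * t) * t⁻¹ by group, h2]; group)

/-- All involutions are conjugate. -/
theorem involution_conj [Finite G] {x y : G} (hx : x * x = 1) (hx1 : x ≠ 1) (hy : y * y = 1)
    (hy1 : y ≠ 1) : IsConj x y := by
  obtain ⟨s, hsa, hsb⟩ := C.exists_swap
  have key : ∀ g : G, g * g = 1 → g ≠ 1 → IsConj s g := by
    intro g hg hg1
    obtain ⟨c, hc⟩ : ∃ c : Ω, g • c ≠ c := by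
      by_contra h
      push Not at h
      exact hg1 (C.faithful g h)
    obtain ⟨t, t1, t2⟩ := CfsgLib.Perm.exists_smul_pair C.two (Ne.symm hc) C.ab
    have hgc : g • (g • c) = c := by rw [← mul_smul, hg, one_smul]
    have e1 : (t * g * t⁻¹) • a = b := by
      rw [mul_smul, mul_smul, inv_smul_eq_iff.mpr t1.symm, t2]
    have e2 : (t * g * t⁻¹) • b = a := by
      rw [mul_smul, mul_smul, inv_smul_eq_iff.mpr t2.symm, hgc, t1]
    have hk : s * (t * g * t⁻¹) ∈ 𝐄 :=
      ⟨show (s * (t * g * t⁻¹)) • a = a by rw [mul_smul, e1, hsb],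
        show (s * (t * g * t⁻¹)) • b = b by rw [mul_smul, e2, hsa]⟩
    obtain ⟨m, hm⟩ := C.odd
    -- the element is `s * k` with `k` a square in `𝐄`
    set k := s * (t * g * t⁻¹) with hkdef
    set r := k ^ (m + 1) with hrdef
    have hr : r ∈ 𝐄 := pow_mem hk _
    have hrr : r * r = k := by
      have := congr_arg Subtype.val (pow_card_eq_one' (x := (⟨k, hk⟩ : 𝐄)))
      rw [hm] at this
      rw [hrdef, ← pow_add, show m + 1 + (m + 1) = 2 * m + 1 + 1 by ring, pow_succ]
      simp only [Subgroup.coe_pow, OneMemClass.coe_one] at this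
      rw [this, one_mul]
    have hss := C.swap_sq hsa hsb
    have hsi : s⁻¹ = s := inv_eq_of_mul_eq_one_right hss
    have hrs : r⁻¹ * s = s * r := by
      rw [← C.inv s hsa hsb r hr, inv_mul_cancel_right]
    have h3 : IsConj s (t * g * t⁻¹) := isConj_iff.mpr ⟨r⁻¹, by
      rw [inv_inv, hrs, mul_assoc, hrr, hkdef, ← mul_assoc, hss, one_mul]⟩
    exact h3.trans (isConj_iff.mpr ⟨t⁻¹, by group⟩)
  exact (key x hx hx1).symm.trans (key y hy hy1)

/-- The involutions swapping two given points. -/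
theorem card_swaps [Fintype G] [DecidableEq G] [DecidableEq Ω] {c d : Ω} (hcd : c ≠ d) :
    (Finset.univ.filter fun g : G => g * g = 1 ∧ g ≠ 1 ∧ g • c = d).card = Nat.card 𝐄 := by
  classical
  obtain ⟨s, hsa, hsb⟩ := C.exists_swap
  obtain ⟨t, hta, htb⟩ := CfsgLib.Perm.exists_smul_pair C.two C.ab hcd
  have hss := C.swap_sq hsa hsb
  rw [Nat.card_eq_fintype_card, ← Finset.card_univ]
  symm
  refine Finset.card_bij (fun k _ => t * (s * (k : G)) * t⁻¹) (fun k _ => ?_) ?_ ?_
  · have e1 : (s * (k : G)) • a = b := by rw [mul_smul, show (k : G) • a = a from k.2.1, hsa]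
    have e2 : (s * (k : G)) • b = a := by rw [mul_smul, show (k : G) • b = b from k.2.2, hsb]
    have h2 := C.swap_sq e1 e2
    have hcd' : (t * (s * (k : G)) * t⁻¹) • c = d := by
      rw [mul_smul, mul_smul, ← hta, inv_smul_smul, e1, htb]
    refine Finset.mem_filter.mpr ⟨Finset.mem_univ _, ?_, fun e => ?_, hcd'⟩
    · rw [show t * (s * (k : G)) * t⁻¹ * (t * (s * (k : G)) * t⁻¹) =
        t * ((s * (k : G)) * (s * (k : G))) * t⁻¹ by group, h2]
      group
    · rw [e, one_smul] at hcd'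
      exact hcd hcd'
  · intro k _ l _ e
    exact Subtype.ext (mul_left_cancel (mul_left_cancel (mul_right_cancel e)))
  · intro g hg
    obtain ⟨hg2, -, hgc⟩ := (Finset.mem_filter.mp hg).2
    have hgd : g • d = c := by rw [← hgc, ← mul_smul, hg2, one_smul]
    have hk : s * (t⁻¹ * g * t) ∈ 𝐄 := by
      refine ⟨?_, ?_⟩
      · show (s * (t⁻¹ * g * t)) • a = a
        rw [mul_smul, mul_smul, mul_smul, hta, hgc, ← htb, inv_smul_smul, hsb]
      · show (s * (t⁻¹ * g * t)) • b = b
        rw [mul_smul, mul_smul, mul_smul, htb, hgd, ← hta, inv_smul_smul, hsa]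
    refine ⟨⟨_, hk⟩, Finset.mem_univ _, ?_⟩
    show t * (s * (s * (t⁻¹ * g * t))) * t⁻¹ = g
    rw [← mul_assoc s s, hss]
    group

theorem exists_fixed_of_odd [Finite G] (hn : Odd (Fintype.card Ω)) {g : G} (hg : g * g = 1) :
    ∃ c : Ω, g • c = c := by
  classical
  have _ := C
  haveI : Fact (Nat.Prime 2) := ⟨Nat.prime_two⟩
  have h2 : ¬ 2 ∣ Fintype.card Ω := Nat.two_dvd_ne_zero.mpr (Nat.odd_iff.mp hn)
  obtain ⟨c, hc⟩ := Equiv.Perm.exists_fixed_point_of_prime (p := 2) (n := 1) h2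
    (σ := MulAction.toPerm g) (by
      ext c
      show ((MulAction.toPermHom G Ω g) ^ 2 ^ 1) c = c
      rw [← map_pow, pow_one, pow_two, hg, map_one]
      rfl)
  exact ⟨c, hc⟩

/-- An involution fixing a point lies in the kernel at that point. -/
theorem involution_mem [Finite G] {x : G} (hx : x * x = 1) (hxa : x • a = a) : x ∈ H := by
  by_cases hx1 : x = 1
  · rw [hx1]; exact one_mem _
  refine (C.mem_or_fix hxa).resolve_right ?_
  rintro ⟨y, hy, hxy⟩
  exact hy (C.unique_fixed hx hx1 hxy hxa)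

/-- With an even number of points an involution fixes no point. -/
theorem no_fixed_of_even [Finite G] (hn : Even (Fintype.card Ω)) {x : G} (hx : x * x = 1)
    (hx1 : x ≠ 1) (c : Ω) : x • c ≠ c := by
  intro hc
  haveI := isPretransitive_of_is_two_pretransitive (h2 := C.two)
  obtain ⟨t, ht⟩ := exists_smul_eq G a c
  have h1 : t⁻¹ * x * t ∈ H := C.involution_mem
    (by rw [show t⁻¹ * x * t * (t⁻¹ * x * t) = t⁻¹ * (x * x) * t by group, hx]; group)
    (by rw [mul_smul, mul_smul, ht, hc, inv_smul_eq_iff, ht])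
  have h2 : orderOf (t⁻¹ * x * t) = 2 := by
    refine orderOf_eq_prime ?_ ?_
    · rw [pow_two, show t⁻¹ * x * t * (t⁻¹ * x * t) = t⁻¹ * (x * x) * t by group, hx]; group
    · intro e; exact hx1 (by rw [show x = t * (t⁻¹ * x * t) * t⁻¹ by group, e]; group)
  have h3 : 2 ∣ Nat.card H := h2 ▸ Subgroup.orderOf_dvd_natCard H h1
  have h4 := C.card_H
  obtain ⟨m, hm⟩ := hn
  omega

open scoped Classical in
/-- The number of involutions. -/
theorem card_involutions [Fintype G] :
    (Finset.univ.filter fun g : G => g * g = 1 ∧ g ≠ 1).card =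
      if Even (Nat.card H) then Nat.card 𝐄 * (Nat.card H + 1) else Nat.card 𝐄 * Nat.card H := by
  have hh := C.card_H
  let T := Finset.univ.filter fun g : G => g * g = 1 ∧ g ≠ 1
  have hbig := C.big
  -- pairs consisting of an involution and a moved point
  have hsum : ∑ g ∈ T, (Finset.univ.filter fun c : Ω => g • c ≠ c).card =
      Fintype.card Ω * (Nat.card H * Nat.card 𝐄) := by
    simp only [Finset.card_filter]
    rw [Finset.sum_comm]
    rw [Finset.sum_congr rfl (g := fun _ => Nat.card H * Nat.card 𝐄) fun c _ => ?_, Finset.sum_const,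
      Finset.card_univ, smul_eq_mul]
    rw [← Finset.card_filter, Finset.card_eq_sum_card_fiberwise (f := fun g : G => g • c)
      (t := Finset.univ.erase c)
      (fun g hg => Finset.mem_coe.mpr (Finset.mem_erase.mpr
        ⟨(Finset.mem_filter.mp (Finset.mem_coe.mp hg)).2, Finset.mem_univ _⟩)),
      Finset.sum_const_nat (m := Nat.card 𝐄) fun d hd => ?_,
      Finset.card_erase_of_mem (Finset.mem_univ _), Finset.card_univ,
      show Fintype.card Ω - 1 = Nat.card H by omega]
    rw [← C.card_swaps (Finset.mem_erase.mp hd).1.symm]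
    congr 1
    ext g
    simp only [T, Finset.mem_filter, Finset.mem_univ, true_and]
    constructor
    · rintro ⟨⟨⟨h1, h2⟩, -⟩, h4⟩; exact ⟨h1, h2, h4⟩
    · rintro ⟨h1, h2, h4⟩
      exact ⟨⟨⟨h1, h2⟩, by rw [h4]; exact (Finset.mem_erase.mp hd).1⟩, h4⟩
  show T.card = _
  split_ifs with hev
  · have hn : Odd (Fintype.card Ω) := hh ▸ hev.add_one
    rw [Finset.sum_const_nat (m := Nat.card H) fun g hg => ?_] at hsum
    · refine Nat.eq_of_mul_eq_mul_right (Nat.card_pos (α := H)) (hsum.trans ?_)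
      rw [← hh]; ring
    · obtain ⟨h1, h2⟩ := (Finset.mem_filter.mp hg).2
      obtain ⟨c, hc⟩ := C.exists_fixed_of_odd hn h1
      rw [show (Finset.univ.filter fun d : Ω => g • d ≠ d) = Finset.univ.erase c from ?_,
        Finset.card_erase_of_mem (Finset.mem_univ _), Finset.card_univ]
      · omega
      · ext d
        simp only [Finset.mem_filter, Finset.mem_univ, true_and, Finset.mem_erase, and_true]
        exact ⟨fun h e => h (by rw [e, hc]), fun h e => h (C.unique_fixed h1 h2 e hc)⟩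
  · have hn : Even (Fintype.card Ω) := hh ▸ (Nat.not_even_iff_odd.mp hev).add_one
    rw [Finset.sum_const_nat (m := Fintype.card Ω) fun g hg => ?_] at hsum
    · refine Nat.eq_of_mul_eq_mul_right (show 0 < Fintype.card Ω by omega) (hsum.trans ?_)
      ring
    · obtain ⟨h1, h2⟩ := (Finset.mem_filter.mp hg).2
      rw [Finset.filter_true_of_mem fun d _ => C.no_fixed_of_even hn h1 h2 d, Finset.card_univ]

open scoped Classical in
/-- The involutions in the kernel. -/
theorem card_kernel_involutions [Fintype G] (hev : Even (Nat.card H)) :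
    (Finset.univ.filter fun g : G => g * g = 1 ∧ g ≠ 1 ∧ g ∈ H).card = Nat.card 𝐄 := by
  have hh := C.card_H
  have hn : Odd (Fintype.card Ω) := hh ▸ hev.add_one
  let T := Finset.univ.filter fun g : G => g * g = 1 ∧ g ≠ 1
  have hT : T.card = Nat.card 𝐄 * (Nat.card H + 1) := by
    rw [C.card_involutions, if_pos hev]
  haveI := isPretransitive_of_is_two_pretransitive (h2 := C.two)
  have hfib : ∀ c : Ω, (T.filter fun g => g • c = c).card = (T.filter fun g => g • a = a).card := by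
    intro c
    obtain ⟨t, ht⟩ := exists_smul_eq G a c
    refine Finset.card_equiv (MulAut.conj t⁻¹).toEquiv fun g => ?_
    simp only [T, Finset.mem_filter, Finset.mem_univ, true_and, MulEquiv.toEquiv_eq_coe,
      MulEquiv.coe_toEquiv, MulAut.conj_apply, inv_inv, mul_smul, ht, inv_smul_eq_iff]
    refine and_congr (and_congr ?_ ?_) Iff.rfl
    · rw [show t⁻¹ * g * t * (t⁻¹ * g * t) = t⁻¹ * (g * g) * t by group]
      constructor
      · intro e; rw [e]; group
      · intro e
        rw [show g * g = t * (t⁻¹ * (g * g) * t) * t⁻¹ by group, e]; group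
    · refine not_congr ⟨fun e => by rw [e]; group, fun e => ?_⟩
      rw [show g = t * (t⁻¹ * g * t) * t⁻¹ by group, e]; group
  have hsum : T.card = ∑ c : Ω, (T.filter fun g => g • c = c).card := by
    simp only [Finset.card_filter]
    rw [Finset.sum_comm]
    simp only [← Finset.card_filter]
    rw [Finset.sum_const_nat (m := 1) fun g hg => ?_, mul_one]
    obtain ⟨h1, h2⟩ := (Finset.mem_filter.mp hg).2
    obtain ⟨c, hc⟩ := C.exists_fixed_of_odd hn h1
    exact Finset.card_eq_one.mpr ⟨c, by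
      ext d
      simp only [Finset.mem_filter, Finset.mem_univ, true_and, Finset.mem_singleton]
      exact ⟨fun e => C.unique_fixed h1 h2 e hc, fun e => by rw [e, hc]⟩⟩
  rw [Finset.sum_congr rfl fun c _ => hfib c, Finset.sum_const, Finset.card_univ, smul_eq_mul, ← hh,
    hT, mul_comm] at hsum
  rw [Nat.eq_of_mul_eq_mul_left (Nat.succ_pos _) hsum]
  congr 1
  ext g
  simp only [T, Finset.mem_filter, Finset.mem_univ, true_and]
  constructor
  · rintro ⟨h1, h2, h3⟩; exact ⟨⟨h1, h2⟩, C.fix g h3⟩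
  · rintro ⟨⟨h1, h2⟩, h3⟩; exact ⟨h1, h2, C.involution_mem h1 h3⟩

/-- The involutions in the kernel are central in it. -/
theorem involution_central [Finite G] {x : G} (hx : x * x = 1) (hxH : x ∈ H) {u : G} (hu : u ∈ H) :
    x * u = u * x := by
  classical
  by_cases hx1 : x = 1
  · simp [hx1]
  have := Fintype.ofFinite G
  have hev : Even (Nat.card H) := even_iff_two_dvd.mpr (by
    rw [← orderOf_eq_prime (show x ^ 2 = 1 by rw [pow_two, hx]) hx1]
    exact Subgroup.orderOf_dvd_natCard H hxH)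
  let I := Finset.univ.filter fun g : G => g * g = 1 ∧ g ≠ 1 ∧ g ∈ H
  have hI : I.card = Nat.card 𝐄 := C.card_kernel_involutions hev
  have hmem : ∀ g : G, g • a = a → g * x * g⁻¹ ∈ I := fun g hg =>
    Finset.mem_filter.mpr ⟨Finset.mem_univ _,
      by rw [show g * x * g⁻¹ * (g * x * g⁻¹) = g * (x * x) * g⁻¹ by group, hx]; group,
      fun e => hx1 (conj_eq_one_iff.mp e), C.normal g hg x hxH⟩
  -- the stabiliser of `a` is transitive on the involutions of `H`
  have htrans : ∀ y ∈ I, ∃ g : G, g • a = a ∧ g * x * g⁻¹ = y := by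
    intro y hy
    obtain ⟨hy2, hy1, hyH⟩ := (Finset.mem_filter.mp hy).2
    obtain ⟨g, hg⟩ := isConj_iff.mp (C.involution_conj hx hx1 hy2 hy1)
    refine ⟨g, C.fix_only hyH hy1 ?_, hg⟩
    rw [← hg, mul_smul, mul_smul, inv_smul_smul, C.fix x hxH]
  let Hx : Subgroup H := (Subgroup.centralizer ({x} : Set G)).subgroupOf H
  -- each conjugacy class of `H` inside `I` has the same size
  let K := fun y : G => (Finset.univ : Finset H).image fun v : H => (v : G) * y * (v : G)⁻¹
  have hK : ∀ g : G, g • a = a → (K (g * x * g⁻¹)).card = (K x).card := by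
    intro g hg
    refine Finset.card_bij' (fun y _ => g⁻¹ * y * g) (fun y _ => g * y * g⁻¹) ?_ ?_ ?_ ?_
    · intro y hy
      obtain ⟨v, -, rfl⟩ := Finset.mem_image.mp hy
      refine Finset.mem_image.mpr ⟨⟨g⁻¹ * v * g, by
        have := C.normal g⁻¹ (by rw [inv_smul_eq_iff, hg]) v v.2
        simpa using this⟩, Finset.mem_univ _, ?_⟩
      simp only; group
    · intro y hy
      obtain ⟨v, -, rfl⟩ := Finset.mem_image.mp hy
      refine Finset.mem_image.mpr ⟨⟨g * v * g⁻¹, C.normal g hg v v.2⟩, Finset.mem_univ _, ?_⟩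
      simp only; group
    · intro y _; group
    · intro y _; group
  have hdvdI : (K x).card ∣ I.card := by
    rw [Finset.card_eq_sum_card_fiberwise (f := K) (t := I.image K)
      (fun y hy => Finset.mem_coe.mpr (Finset.mem_image_of_mem _ (Finset.mem_coe.mp hy)))]
    refine Finset.dvd_sum fun Q hQ => ?_
    obtain ⟨y, hy, rfl⟩ := Finset.mem_image.mp hQ
    obtain ⟨g, hg, rfl⟩ := htrans y hy
    rw [← hK g hg]
    refine dvd_of_eq (congr_arg Finset.card ?_)
    ext w
    constructor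
    · intro hw
      obtain ⟨v, -, rfl⟩ := Finset.mem_image.mp hw
      refine Finset.mem_filter.mpr ⟨?_, ?_⟩
      · have := hmem ((v : G) * g) (by rw [mul_smul, hg, C.fix v v.2])
        convert this using 1
        group
      · ext z
        simp only [K, Finset.mem_image, Finset.mem_univ, true_and]
        constructor
        · rintro ⟨r, rfl⟩; exact ⟨r * v, by simp only [Subgroup.coe_mul]; group⟩
        · rintro ⟨r, rfl⟩; exact ⟨r * v⁻¹, by simp only [Subgroup.coe_mul, Subgroup.coe_inv]; group⟩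
    · intro hw
      obtain ⟨-, hw2⟩ := Finset.mem_filter.mp hw
      rw [← hw2]
      exact Finset.mem_image.mpr ⟨1, Finset.mem_univ _, by simp⟩
  have hdvdH : (K x).card ∣ Nat.card H := by
    refine ⟨Nat.card Hx, ?_⟩
    rw [Nat.card_eq_fintype_card (α := H), ← Finset.card_univ,
      Finset.card_eq_sum_card_fiberwise (f := fun v : H => (v : G) * x * (v : G)⁻¹) (t := K x)
      (fun v hv => Finset.mem_coe.mpr (Finset.mem_image_of_mem _ (Finset.mem_coe.mp hv))),
      Finset.sum_const_nat fun y hy => ?_]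
    obtain ⟨v₀, -, rfl⟩ := Finset.mem_image.mp hy
    rw [← Fintype.card_subtype, ← Nat.card_eq_fintype_card]
    refine Nat.card_congr
      { toFun := fun v => ⟨v₀⁻¹ * v.1, ?_⟩
        invFun := fun v => ⟨v₀ * v.1, ?_⟩
        left_inv := fun v => by simp
        right_inv := fun v => by simp }
    · show ((v₀⁻¹ * v.1 : H) : G) ∈ Subgroup.centralizer ({x} : Set G)
      rw [Subgroup.mem_centralizer_singleton_iff, ← mul_inv_eq_iff_eq_mul, Subgroup.coe_mul,
        Subgroup.coe_inv]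
      calc (v₀ : G)⁻¹ * v.1 * x * ((v₀ : G)⁻¹ * v.1)⁻¹
          = (v₀ : G)⁻¹ * ((v.1 : G) * x * (v.1 : G)⁻¹) * v₀ := by group
        _ = x := by rw [v.2]; group
    · have hc := Subgroup.mem_centralizer_singleton_iff.mp (show ((v.1 : H) : G) ∈ _ from v.2)
      rw [Subgroup.coe_mul, mul_inv_rev, mul_assoc (v₀ : G), hc]
      group
  -- coprimality of `|H|` and `|E|`
  have hcop : Nat.Coprime (Nat.card H) (Nat.card 𝐄) := by
    refine Nat.coprime_of_dvd' fun p hp hpH hpE => ?_
    exfalso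
    have := Fact.mk hp
    obtain ⟨k, hk⟩ := exists_prime_orderOf_dvd_card' (G := 𝐄) p hpE
    have hk1 : (k : G) ≠ 1 := fun e => by
      rw [← Subgroup.orderOf_coe, e, orderOf_one] at hk; exact hp.ne_one hk.symm
    have hpg : IsPGroup p (Subgroup.zpowers (k : G)) := IsPGroup.of_card (n := 1) (by
      rw [Nat.card_zpowers, Subgroup.orderOf_coe, hk, pow_one])
    have hmod := hpg.card_modEq_card_fixedPoints Ω
    have hfix : fixedPoints (Subgroup.zpowers (k : G)) Ω = {a, b} := by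
      ext z
      simp only [mem_fixedPoints, Set.mem_insert_iff, Set.mem_singleton_iff]
      constructor
      · intro hz
        by_contra hc
        push Not at hc
        exact hk1 (C.three _ a b z C.ab hc.2.symm hc.1.symm k.2.1 k.2.2
          (hz ⟨_, Subgroup.mem_zpowers _⟩))
      · rintro (rfl | rfl) ⟨g, hg⟩
        · exact mem_stabilizer_iff.mp ((Subgroup.zpowers_le.mpr k.2.1) hg)
        · exact mem_stabilizer_iff.mp ((Subgroup.zpowers_le.mpr k.2.2) hg)
    have hp3 : 3 ≤ p := by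
      have := hp.two_le
      rcases Nat.lt_or_ge p 3 with h | h
      · exact absurd (even_iff_two_dvd.mpr ((show p = 2 by omega) ▸ hpE))
          (Nat.not_even_iff_odd.mpr C.odd)
      · exact h
    rw [Nat.card_eq_fintype_card, ← C.card_H, hfix, Nat.card_coe_set_eq, Set.ncard_pair C.ab] at hmod
    have h0 : Nat.card H % p = 0 := Nat.mod_eq_zero_of_dvd hpH
    unfold Nat.ModEq at hmod
    rw [Nat.add_mod, h0, zero_add, Nat.mod_mod, Nat.mod_eq_of_lt (by omega),
      Nat.mod_eq_of_lt (by omega : 2 < p)] at hmod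
    omega
  have h1 : (K x).card = 1 := Nat.eq_one_of_dvd_coprimes hcop hdvdH (hI ▸ hdvdI)
  obtain ⟨y, hy⟩ := Finset.card_eq_one.mp h1
  have hx' : x ∈ K x := Finset.mem_image.mpr ⟨1, Finset.mem_univ _, by simp⟩
  have hu' : u * x * u⁻¹ ∈ K x := Finset.mem_image.mpr ⟨⟨u, hu⟩, Finset.mem_univ _, rfl⟩
  rw [hy, Finset.mem_singleton] at hx' hu'
  have := hu'.trans hx'.symm
  rw [mul_inv_eq_iff_eq_mul] at this
  exact this.symm

/-- A product of two involutions lying in the kernel. -/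
theorem mem_of_mul_mem [Finite G] {x y u : G} (hx : x * x = 1) (hy : y * y = 1) (hu : u ∈ H)
    (hu1 : u ≠ 1) (hxy : x * y = u) : x ∈ H ∧ y ∈ H ∧ u * u = 1 := by
  have hyx : y = x * u := by rw [← hxy, ← mul_assoc, hx, one_mul]
  have hinv : x * u = u⁻¹ * x := by
    rw [← hyx, ← hxy, mul_inv_rev, inv_eq_of_mul_eq_one_right hx, inv_eq_of_mul_eq_one_right hy,
      mul_assoc, hx, mul_one]
  have hxa : x • a = a := C.fix_only hu hu1 (by
    have h : u⁻¹ • (x • a) = x • a := by
      rw [← mul_smul, ← hinv, mul_smul, C.fix u hu]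
    rw [inv_smul_eq_iff] at h
    exact h.symm)
  have hxH := C.involution_mem hx hxa
  have hyH : y ∈ H := hyx ▸ mul_mem hxH hu
  refine ⟨hxH, hyH, ?_⟩
  rw [← hxy, mul_assoc, ← mul_assoc y, ← C.involution_central hx hxH hyH, mul_assoc x y y, hy,
    mul_one, hx]

end Zass

end CfsgLib.Clifford
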