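import Mathlib
import Cfsg.Prelude.Def_Characters
import Cfsg.Agent.Lib.Char.Basic
import Cfsg.Agent.Lib.Char.Inner

/-!
# The class function `1 + ε - θ` on the dihedral group of order 8
-/

set_option autoImplicit false

namespace CfsgLib.Clifford.DihedralEight

open DihedralGroup

/-- `1 + ε - θ`, with integer values. -/
def phiZ : DihedralGroup 4 → ℤ
  | r i => if i = 0 then 0 else if i = 2 then 4 else 2
  | sr _ => 0

/-- The representation `1 ⊕ ε` by integer matrices. -/
def plusFun : DihedralGroup 4 → Matrix (Fin 2) (Fin 2) ℤ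
  | r _ => 1
  | sr _ => !![1, 0; 0, -1]

/-- The two-dimensional representation by integer matrices. -/
def rotFun : DihedralGroup 4 → Matrix (Fin 2) (Fin 2) ℤ
  | r i => !![0, -1; 1, 0] ^ i.val
  | sr i => !![1, 0; 0, -1] * !![0, -1; 1, 0] ^ i.val

/-- Bundled `plusFun`. -/
def plusHom : DihedralGroup 4 →* Matrix (Fin 2) (Fin 2) ℤ where
  toFun := plusFun
  map_one' := by decide
  map_mul' := by decide

/-- Bundled `rotFun`. -/
def rotHom : DihedralGroup 4 →* Matrix (Fin 2) (Fin 2) ℤ where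
  toFun := rotFun
  map_one' := by decide
  map_mul' := by decide

theorem phiZ_eq : ∀ x, phiZ x = (plusHom x).trace - (rotHom x).trace := by decide

theorem isCharacter_trace {H : Type*} [Group H] {n : ℕ}
    (f : H →* Matrix (Fin n) (Fin n) ℤ) :
    Cfsg.IsCharacter H (fun h => ((f h).trace : ℂ)) := by
  let ρ : Representation ℂ H (Fin n → ℂ) :=
    ((Matrix.toLinAlgEquiv' (R := ℂ) (n := Fin n)).toRingEquiv.toMonoidHom).comp
      (((Int.castRingHom ℂ).mapMatrix : Matrix (Fin n) (Fin n) ℤ →+* _).toMonoidHom.comp f)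
  refine ⟨n, ρ, funext fun h => ?_⟩
  rw [Representation.character, LinearMap.trace_eq_matrix_trace ℂ (Pi.basisFun ℂ (Fin n))]
  have : LinearMap.toMatrix (Pi.basisFun ℂ (Fin n)) (Pi.basisFun ℂ (Fin n)) (ρ h) =
      (f h).map (Int.castRingHom ℂ) := LinearMap.toMatrix'_toLin' _
  rw [this]
  simp [Matrix.trace]

theorem eq_center : ∀ x : DihedralGroup 4, (∀ y, x * y = y * x) → x = 1 ∨ x = r 2 := by decide

theorem eq_of_rot_invol : ∀ i : ZMod 4, r i * r i = 1 → r i ≠ (1 : DihedralGroup 4) → r i = r 2 := by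
  decide

theorem square_cases : ∀ x : DihedralGroup 4, phiZ x ≠ 0 → x = r 2 ∨ x * x = r 2 := by decide

theorem phiZ_inv : ∀ x : DihedralGroup 4, phiZ x⁻¹ = phiZ x := by decide

theorem phiZ_conj : ∀ h x : DihedralGroup 4, phiZ (h * x * h⁻¹) = phiZ x := by decide

theorem sum_phiZ : ∑ x : DihedralGroup 4, phiZ x = 8 := by decide

theorem sum_phiZ_sq : ∑ x : DihedralGroup 4, phiZ x * phiZ x = 24 := by decide

theorem sum_pairs : ∑ p ∈ Finset.univ.filter (fun p : DihedralGroup 4 × DihedralGroup 4 =>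
    (p.1 * p.1 = 1 ∧ p.1 ≠ 1) ∧ (p.2 * p.2 = 1 ∧ p.2 ≠ 1)), phiZ (p.1 * p.2) = 32 := by decide

theorem mem_rot {x : DihedralGroup 4} (h : x ∈ Subgroup.zpowers (r 1 : DihedralGroup 4)) :
    ∃ i, x = r i := by
  obtain ⟨k, rfl⟩ := h
  exact ⟨(k : ZMod 4), r_one_zpow k⟩

end CfsgLib.Clifford.DihedralEight
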