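import Cfsg.Agent.Lib.BlockA.Galois
import Cfsg.Agent.Lib.Char.SmallDegree
import Cfsg.Agent.Lib.Char.Monomial
import Cfsg.Agent.Lib.Char.Diag
import Cfsg.Agent.Lib.Char.Inner
import Mathlib.GroupTheory.Sylow

/-!
# Blichfeldt: abelian Hall subgroups for the primes exceeding `n + 1`

Key step: an irreducible character of degree `< p - 1, q - 1`, suitably twisted, takes rational
values on `p`-elements or on `q`-elements unless noncentral elements of both kinds commute.
-/

set_option autoImplicit false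
set_option linter.unusedSectionVars false

namespace CfsgLib.Clifford.BlichfeldtHall

open Module

universe u v

section Irreducible

variable {G : Type u} [Group G] [Finite G]

/-- A finite order endomorphism of prime order with Galois stable trace is trivial. -/
theorem eq_one_of_trace_pow {V : Type v} [AddCommGroup V] [Module ℂ V] [FiniteDimensional ℂ V]
    {p : ℕ} (hp : p.Prime) (hdim : finrank ℂ V + 1 < p) (y : V →ₗ[ℂ] V) (hy : y ^ p = 1)
    (hint : IsIntegral ℤ (LinearMap.trace ℂ V y))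
    (htr : ∀ t : ℕ, ¬ p ∣ t → LinearMap.trace ℂ V (y ^ t) = LinearMap.trace ℂ V y) : y = 1 := by
  classical
  set S := ∑ i ∈ Finset.range p, y ^ i with hS
  have hyS : y * S = S := by
    have h1 : y * S + 1 = S + y ^ p := by
      rw [hS, Finset.mul_sum]
      simp only [← pow_succ']
      rw [← Finset.sum_range_succ, Finset.sum_range_succ']
      simp
    rw [hy] at h1
    exact add_right_cancel h1
  have hpow : ∀ i : ℕ, y ^ i * S = S := by
    intro i
    induction i with
    | zero => rw [pow_zero, one_mul]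
    | succ i ih => rw [pow_succ, mul_assoc, hyS, ih]
  have hSS : S * S = (p : ℂ) • S := by
    conv_lhs => arg 1; rw [hS]
    rw [Finset.sum_mul, Finset.sum_congr rfl fun i _ => hpow i, Finset.sum_const, Finset.card_range,
      Nat.cast_smul_eq_nsmul]
  set e := (p : ℂ)⁻¹ • S with he
  have hp0 : (p : ℂ) ≠ 0 := Nat.cast_ne_zero.mpr hp.ne_zero
  have hee : IsIdempotentElem e := by
    rw [IsIdempotentElem, he, smul_mul_smul_comm, hSS, smul_smul]
    congr 1
    field_simp
  have hproj := LinearMap.IsIdempotentElem.isProj_range e hee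
  set m := finrank ℂ (LinearMap.range e) with hm
  have htrS : LinearMap.trace ℂ V S =
      (finrank ℂ V : ℂ) + ((p : ℂ) - 1) * LinearMap.trace ℂ V y := by
    rw [hS, map_sum, ← Finset.add_sum_erase _ _ (Finset.mem_range.mpr hp.pos), pow_zero,
      LinearMap.trace_one]
    congr 1
    rw [Finset.sum_congr rfl (g := fun _ => LinearMap.trace ℂ V y) fun i hi => htr i fun hdvd => ?_,
      Finset.sum_const, Finset.card_erase_of_mem (Finset.mem_range.mpr hp.pos), Finset.card_range,
      nsmul_eq_mul, Nat.cast_sub hp.pos, Nat.cast_one]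
    obtain ⟨h0, h1⟩ := Finset.mem_erase.mp hi
    exact absurd (Nat.le_of_dvd (Nat.pos_of_ne_zero h0) hdvd) (not_le.mpr (Finset.mem_range.mp h1))
  have htre : (p : ℂ) * (m : ℂ) = (finrank ℂ V : ℂ) + ((p : ℂ) - 1) * LinearMap.trace ℂ V y := by
    rw [hm, ← hproj.trace, ← htrS, he, map_smul, smul_eq_mul, mul_inv_cancel_left₀ hp0]
  have hc : LinearMap.trace ℂ V y =
      ((((p : ℚ) * m - finrank ℂ V) / ((p : ℚ) - 1) : ℚ) : ℂ) := by
    have hp1 : (p : ℂ) - 1 ≠ 0 := sub_ne_zero.mpr (by exact_mod_cast hp.one_lt.ne')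
    push_cast
    rw [eq_div_iff hp1, htre]
    ring
  rw [hc] at hint
  obtain ⟨c, hcz⟩ := Char.exists_int_of_isIntegral_rat hint
  rw [hc, hcz] at htre
  have hz : (p : ℤ) * m = (finrank ℂ V : ℤ) + ((p : ℤ) - 1) * c := by
    have : (((p : ℤ) * m : ℤ) : ℂ) = (((finrank ℂ V : ℤ) + ((p : ℤ) - 1) * c : ℤ) : ℂ) := by
      push_cast
      rw [htre]
      push_cast
      ring
    exact_mod_cast this
  have hmle : m ≤ finrank ℂ V := Submodule.finrank_le _
  have hdvd : ((p : ℤ) - 1) ∣ (finrank ℂ V : ℤ) - m := ⟨(m : ℤ) - c, by linear_combination -hz⟩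
  have hnm : (finrank ℂ V : ℤ) - m = 0 :=
    Int.eq_zero_of_dvd_of_nonneg_of_lt (by omega) (by omega) hdvd
  have hrange : LinearMap.range e = ⊤ := Submodule.eq_top_of_finrank_eq (by omega)
  have he1 : e = 1 := LinearMap.ext fun v =>
    hproj.map_id v (by rw [hrange]; exact Submodule.mem_top)
  calc y = y * e := by rw [he1, mul_one]
    _ = e := by rw [he, mul_smul_comm, hyS]
    _ = 1 := he1

/-- Exponents raising `p`-parts to the power `t` and fixing the other parts. -/
theorem exists_exponent {p : ℕ} (hp : p.Prime) (t : ℕ) (ht : ¬ p ∣ t) :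
    ∃ a : ℕ, a.Coprime (Nat.card G) ∧ a % p = t % p ∧
      ∀ g : G, ∃ u : G, g ^ a = g * u ∧ Commute g u ∧ u ^ p ^ (Nat.card G).factorization p = 1 := by
  have hN : Nat.card G ≠ 0 := Nat.card_pos.ne'
  set α := (Nat.card G).factorization p with hα
  set M := Nat.card G / p ^ α with hM
  have hco : Nat.Coprime (p ^ (α + 1)) M :=
    Nat.Coprime.pow_left _ (Nat.coprime_ordCompl hp hN)
  obtain ⟨a, ha1, ha2⟩ := Nat.chineseRemainder hco t 1
  have hMpos : 0 < M := Nat.ordCompl_pos p hN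
  set a' := a + p ^ (α + 1) * M with ha'
  have hprod : p ^ α * M = Nat.card G := Nat.ordProj_mul_ordCompl_eq_self _ _
  have e1 : a' ≡ t [MOD p ^ (α + 1)] := by
    refine Nat.ModEq.trans ?_ ha1
    rw [Nat.ModEq, ha', Nat.add_mul_mod_self_left]
  have e2 : a' ≡ 1 [MOD M] := by
    refine Nat.ModEq.trans ?_ ha2
    rw [Nat.ModEq, ha', Nat.add_mul_mod_self_right]
  have e3 : a' % p = t % p := e1.of_dvd (dvd_pow_self p (Nat.succ_ne_zero α))
  have hpos : 1 ≤ a' := by
    have : 0 < p ^ (α + 1) * M := Nat.mul_pos (pow_pos hp.pos _) hMpos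
    omega
  refine ⟨a', ?_, e3, fun g => ⟨g ^ (a' - 1), ?_, Commute.self_pow g _, ?_⟩⟩
  · rw [← hprod]
    refine Nat.Coprime.mul_right (Nat.Coprime.pow_right _ ?_) ?_
    · refine ((hp.coprime_iff_not_dvd).mpr fun h => ht ?_).symm
      rw [Nat.dvd_iff_mod_eq_zero, ← e3, ← Nat.dvd_iff_mod_eq_zero]
      exact h
    · rw [Nat.Coprime, e2.gcd_eq, Nat.gcd_one_left]
  · rw [← pow_succ', Nat.sub_add_cancel hpos]
  · obtain ⟨c, hc⟩ : M ∣ a' - 1 := (Nat.modEq_iff_dvd' hpos).mp e2.symm
    rw [← pow_mul, hc, show M * c * p ^ α = p ^ α * M * c by ring, hprod, pow_mul,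
      pow_card_eq_one', one_pow]

theorem scalar_or_scalar {W : Type v} [AddCommGroup W] [Module ℂ W] [FiniteDimensional ℂ W]
    (σ : Representation ℂ G W) [σ.IsIrreducible] {p q : ℕ} (hp : p.Prime) (hq : q.Prime)
    (hnp : finrank ℂ W + 1 < p) (hnq : finrank ℂ W + 1 < q)
    (hbad : ∀ u v : G, (∃ i, u ^ p ^ i = 1) → (∃ j, v ^ q ^ j = 1) → Commute u v →
      u ∈ Subgroup.center G ∨ v ∈ Subgroup.center G) :
    (∀ x : G, (∃ i, x ^ p ^ i = 1) → ∃ c : ℂ, σ x = c • LinearMap.id) ∨
      (∀ x : G, (∃ i, x ^ q ^ i = 1) → ∃ c : ℂ, σ x = c • LinearMap.id) := by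
  classical
  have := Fintype.ofFinite G
  haveI := Char.nontrivial_of_isIrreducible σ
  set N := p ^ (Nat.card G).factorization p * q ^ (Nat.card G).factorization q with hN
  have hn : 0 < finrank ℂ W := finrank_pos
  have hcop : Nat.Coprime (finrank ℂ W) N :=
    Nat.Coprime.mul_right
      (Nat.Coprime.pow_right _ (Nat.Coprime.symm ((hp.coprime_iff_not_dvd).mpr fun h => by
        have := Nat.le_of_dvd hn h; omega)))
      (Nat.Coprime.pow_right _ (Nat.Coprime.symm ((hq.coprime_iff_not_dvd).mpr fun h => by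
        have := Nat.le_of_dvd hn h; omega)))
  have hN0 : 0 < N := Nat.mul_pos (pow_pos hp.pos _) (pow_pos hq.pos _)
  obtain ⟨k, hk⟩ : ∃ k : ℕ, N ∣ finrank ℂ W * k + 1 := by
    have := NeZero.of_pos hN0
    refine ⟨(-((finrank ℂ W : ZMod N))⁻¹).val, (ZMod.natCast_eq_zero_iff _ _).mp ?_⟩
    push_cast
    rw [ZMod.natCast_zmod_val, mul_neg, ZMod.coe_mul_inv_eq_one _ hcop, neg_add_cancel]
  set μ : G →* ℂˣ := ((LinearMap.det : (W →ₗ[ℂ] W) →* ℂ).comp σ).toHomUnits ^ k with hμ
  have hμv : ∀ g, (μ g : ℂ) = LinearMap.det (σ g) ^ k := fun g => by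
    rw [hμ, MonoidHom.pow_apply, Units.val_pow_eq_pow_val, MonoidHom.coe_toHomUnits]; rfl
  let σ' : Representation ℂ G W :=
    { toFun := fun g => (μ g : ℂ) • σ g
      map_one' := by simp
      map_mul' := fun g h => by
        rw [map_mul, map_mul, Units.val_mul, smul_mul_smul_comm] }
  have hσ' : ∀ g, σ' g = (μ g : ℂ) • σ g := fun g => rfl
  set χ' := σ'.character with hχ'def
  have hχ' : Cfsg.IsIrrCharacter G χ' := by
    have := Char.isIrrCharacter_mul_linear (Char.isIrrCharacter_of_rep σ) μ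
    convert this using 1
    funext g
    show LinearMap.trace ℂ W (σ' g) = (μ g : ℂ) * LinearMap.trace ℂ W (σ g)
    rw [hσ', map_smul, smul_eq_mul]
  have hker : ∀ z ∈ Subgroup.center G, ∀ m, z ^ m = 1 → m ∣ N → σ' z = 1 := by
    intro z hz m hm hmN
    obtain ⟨c, hc⟩ := Char.exists_scalar_of_commute σ (σ z) fun g => by
      rw [← Module.End.mul_eq_comp, ← Module.End.mul_eq_comp, ← map_mul, ← map_mul,
        Subgroup.mem_center_iff.mp hz g]
    have hid : (LinearMap.id : W →ₗ[ℂ] W) = 1 := rfl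
    rw [hid] at hc
    have hcm : c ^ m = 1 := by
      have h1 : (σ z) ^ m = 1 := by rw [← map_pow, hm, map_one]
      rw [hc, smul_pow, one_pow] at h1
      exact smul_left_injective ℂ (one_ne_zero : (1 : W →ₗ[ℂ] W) ≠ 0) (by simpa using h1)
    rw [hσ', hμv, hc, LinearMap.det_smul, map_one, mul_one, smul_smul, ← pow_mul, ← pow_succ]
    obtain ⟨d, hd⟩ := hmN.trans hk
    rw [hd, pow_mul, hcm, one_pow, one_smul]
  -- for every pair of exponents one of the two conjugates is equal
  have hfix : ∀ a b : ℕ, a.Coprime (Nat.card G) → b.Coprime (Nat.card G) →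
      (∀ g : G, ∃ u : G, g ^ a = g * u ∧ Commute g u ∧ u ^ p ^ (Nat.card G).factorization p = 1) →
      (∀ g : G, ∃ u : G, g ^ b = g * u ∧ Commute g u ∧ u ^ q ^ (Nat.card G).factorization q = 1) →
      (fun g => χ' (g ^ a)) = χ' ∨ (fun g => χ' (g ^ b)) = χ' := by
    intro a b ha hb hua hub
    have hid : (fun g => χ' (g ^ (a * b))) + χ' = (fun g => χ' (g ^ a)) + fun g => χ' (g ^ b) := by
      funext g
      obtain ⟨u, hu, hgu, hup⟩ := hua g
      obtain ⟨v, hv, hgv, hvq⟩ := hub g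
      have hcomm : Commute u v := by
        have h1 : Commute (g⁻¹ * g ^ a) (g⁻¹ * g ^ b) :=
          ((Commute.refl g).inv_left.inv_right.mul_right ((Commute.refl g).inv_left.pow_right b)).mul_left
            ((((Commute.refl g).pow_left a).inv_right).mul_right ((Commute.refl g).pow_pow a b))
        rwa [hu, hv, inv_mul_cancel_left, inv_mul_cancel_left] at h1
      show LinearMap.trace ℂ W (σ' (g ^ (a * b))) + LinearMap.trace ℂ W (σ' g) =
        LinearMap.trace ℂ W (σ' (g ^ a)) + LinearMap.trace ℂ W (σ' (g ^ b))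
      rcases hbad u v ⟨_, hup⟩ ⟨_, hvq⟩ hcomm with hz | hz
      · have h := hker u hz _ hup (dvd_mul_right _ _)
        have e : σ' (g ^ a) = σ' g := by rw [hu, map_mul, h, mul_one]
        rw [pow_mul, map_pow σ' (g ^ a), e, ← map_pow, add_comm]
      · have h := hker v hz _ hvq (dvd_mul_left _ _)
        have e : σ' (g ^ b) = σ' g := by rw [hv, map_mul, h, mul_one]
        rw [mul_comm, pow_mul, map_pow σ' (g ^ b), e, ← map_pow]
    have h1 := BlockA.isIrrCharacter_comp_pow ha hχ'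
    have h2 := BlockA.isIrrCharacter_comp_pow hb hχ'
    have h3 := BlockA.isIrrCharacter_comp_pow (Nat.Coprime.mul_left ha hb) hχ'
    by_contra hne
    push Not at hne
    have := congrArg (fun f => Cfsg.classInner f χ') hid
    beta_reduce at this
    rw [Char.classInner_add_left, Char.classInner_add_left, Char.irr_classInner_ne h1 hχ' hne.1,
      Char.irr_classInner_ne h2 hχ' hne.2, Char.irr_classInner_self hχ', add_zero,
      Char.irr_classInner h3 hχ'] at this
    split_ifs at this with he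
    · norm_num at this
    · norm_num at this
  -- Galois stable values on `r`-elements force the twisted kernel
  have hfinal : ∀ r : ℕ, r.Prime → finrank ℂ W + 1 < r →
      (∀ t : ℕ, ¬ r ∣ t → ∃ a : ℕ, a % r = t % r ∧ ∀ g, χ' (g ^ a) = χ' g) →
      ∀ x : G, (∃ i, x ^ r ^ i = 1) → ∃ c : ℂ, σ x = c • LinearMap.id := by
    intro r hr hnr hst x hx
    have key : ∀ i : ℕ, ∀ x : G, x ^ r ^ i = 1 → σ' x = 1 := by
      intro i
      induction i with
      | zero => intro x hx; rw [pow_zero, pow_one] at hx; rw [hx, map_one]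
      | succ i ih =>
        intro x hx
        have hy : (σ' x) ^ r = 1 := by
          rw [← map_pow]; exact ih _ (by rw [← pow_mul, ← pow_succ']; exact hx)
        refine eq_one_of_trace_pow hr hnr (σ' x) hy (Char.char_isIntegral σ' x) fun t ht => ?_
        obtain ⟨a, ha, hfx⟩ := hst t ht
        have e : (σ' x) ^ t = (σ' x) ^ a := by
          rw [pow_eq_pow_mod t hy, pow_eq_pow_mod a hy, ha]
        rw [e, ← map_pow]
        exact hfx x
    obtain ⟨i, hi⟩ := hx
    have h := key i x hi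
    rw [hσ'] at h
    refine ⟨(μ x : ℂ)⁻¹, ?_⟩
    rw [show (LinearMap.id : W →ₗ[ℂ] W) = 1 from rfl, ← h, inv_smul_smul₀ (Units.ne_zero _)]
  by_cases hA : ∀ t : ℕ, ¬ p ∣ t → ∃ a : ℕ, a % p = t % p ∧ ∀ g, χ' (g ^ a) = χ' g
  · exact Or.inl (hfinal p hp hnp hA)
  · refine Or.inr (hfinal q hq hnq fun t ht => ?_)
    push Not at hA
    obtain ⟨s, hs, hsa⟩ := hA
    obtain ⟨a, hac, ham, hau⟩ := exists_exponent (G := G) hp s hs
    obtain ⟨b, hbc, hbm, hbu⟩ := exists_exponent (G := G) hq t ht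
    obtain ⟨g, hg⟩ := hsa a ham
    rcases hfix a b hac hbc hau hbu with h | h
    · exact absurd (congr_fun h g) hg
    · exact ⟨b, hbm, fun g => congr_fun h g⟩

/-- Without commuting noncentral elements, all `p`- and `q`-elements commute. -/
theorem commute_of_no_bad {n : ℕ} {V : Type v} [AddCommGroup V] [Module ℂ V] [FiniteDimensional ℂ V]
    (ρ : Representation ℂ G V) (hρ : Function.Injective ρ) (hn : finrank ℂ V = n) {p q : ℕ}
    (hp : p.Prime) (hq : q.Prime) (hnp : n + 1 < p) (hnq : n + 1 < q)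
    (hbad : ∀ u v : G, (∃ i, u ^ p ^ i = 1) → (∃ j, v ^ q ^ j = 1) → Commute u v →
      u ∈ Subgroup.center G ∨ v ∈ Subgroup.center G)
    {x y : G} (hx : ∃ i, x ^ p ^ i = 1) (hy : ∃ i, y ^ q ^ i = 1) : Commute x y := by
  refine hρ ?_
  rw [← sub_eq_zero]
  refine Char.eq_zero_of_forall_irreducible ρ _ fun r hr w hw => ?_
  have hle : finrank ℂ r.toSubmodule ≤ n := hn ▸ r.toSubmodule.finrank_le
  rw [LinearMap.sub_apply, map_mul, map_mul, Module.End.mul_apply, Module.End.mul_apply]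
  rcases scalar_or_scalar r.toRepresentation hp hq (by omega) (by omega) hbad with h | h
  · obtain ⟨c, hc⟩ := h x hx
    have e : ∀ z ∈ r.toSubmodule, ρ x z = c • z := fun z hz =>
      congr_arg Subtype.val (LinearMap.congr_fun hc ⟨z, hz⟩)
    rw [e w hw, map_smul, e (ρ y w) (r.apply_mem_toSubmodule y hw), sub_self]
  · obtain ⟨c, hc⟩ := h y hy
    have e : ∀ z ∈ r.toSubmodule, ρ y z = c • z := fun z hz =>
      congr_arg Subtype.val (LinearMap.congr_fun hc ⟨z, hz⟩)
    rw [e w hw, map_smul, e (ρ x w) (r.apply_mem_toSubmodule x hw), sub_self]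

end Irreducible

section Hall

variable {G : Type u} [Group G] [Finite G]

/-- `P` is a Sylow `p`-subgroup of `S`, as a subgroup of `G`. -/
def Full (p : ℕ) (S P : Subgroup G) : Prop :=
  P ≤ S ∧ Nat.card P = p ^ (Nat.card S).factorization p

theorem Full.isPGroup {p : ℕ} {S P : Subgroup G} [Fact p.Prime] (h : Full p S P) : IsPGroup p P :=
  IsPGroup.iff_card.mpr ⟨_, h.2⟩

theorem full_of_sylow {p : ℕ} [Fact p.Prime] {S : Subgroup G} (P : Sylow p S) :
    Full p S ((P : Subgroup S).map S.subtype) :=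
  ⟨Subgroup.map_subtype_le _, by
    rw [← Nat.card_congr (Subgroup.equivMapOfInjective _ _ S.subtype_injective).toEquiv]
    exact P.card_eq_multiplicity⟩

/-- A full subgroup of a smaller group which is as large as one of a bigger group. -/
theorem Full.mono {p : ℕ} (hp : p.Prime) {S T P Q : Subgroup G} (hTS : T ≤ S) (hP : Full p S P)
    (hPT : P ≤ T) (hQ : Full p T Q) : Full p S Q := by
  refine ⟨hQ.1.trans hTS, hQ.2.trans ?_⟩
  congr 1
  refine le_antisymm ?_ ?_
  · exact (Nat.factorization_le_iff_dvd Nat.card_pos.ne' Nat.card_pos.ne').mpr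
      (Subgroup.card_dvd_of_le hTS) p
  · refine (hp.pow_dvd_iff_le_factorization Nat.card_pos.ne').mp ?_
    rw [← hP.2]
    exact Subgroup.card_dvd_of_le hPT

/-- A `p`-subgroup of `S` is conjugate in `S` into any full one. -/
theorem exists_conj_le {p : ℕ} [Fact p.Prime] {S P R : Subgroup G} (hP : Full p S P)
    (hR : IsPGroup p R) (hRS : R ≤ S) : ∃ g ∈ S, ∀ r ∈ R, g⁻¹ * r * g ∈ P := by
  have hcard : Nat.card (P.subgroupOf S) = p ^ (Nat.card S).factorization p := by
    rw [Nat.card_congr (Subgroup.subgroupOfEquivOfLe hP.1).toEquiv, hP.2]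
  let P' : Sylow p S := Sylow.ofCard (P.subgroupOf S) hcard
  obtain ⟨Q, hQ⟩ := (hR.of_equiv (Subgroup.subgroupOfEquivOfLe hRS).symm).exists_le_sylow
  obtain ⟨g, hg⟩ := MulAction.exists_smul_eq S P' Q
  refine ⟨(g : G), g.2, fun r hr => ?_⟩
  have h1 : (⟨r, hRS hr⟩ : S) ∈ ((g • P' : Sylow p S) : Subgroup S) := by
    rw [hg]; exact hQ (Subgroup.mem_subgroupOf.mpr hr)
  rw [Sylow.coe_subgroup_smul, Subgroup.mem_pointwise_smul_iff_inv_smul_mem,
    ← map_inv, MulAut.smul_def, MulAut.conj_apply] at h1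
  simp only [P', Sylow.coe_ofCard, Subgroup.mem_subgroupOf] at h1
  simpa using h1

theorem exists_full_with {p : ℕ} [Fact p.Prime] {S : Subgroup G} {x : G} (hxS : x ∈ S)
    (hx : ∃ i, x ^ p ^ i = 1) : ∃ P, Full p S P ∧ x ∈ P := by
  obtain ⟨i, hi⟩ := hx
  obtain ⟨Q, hQ⟩ := IsPGroup.exists_le_sylow (p := p) (P := Subgroup.zpowers (⟨x, hxS⟩ : S)) (by
    intro z
    obtain ⟨j, hj⟩ := z.2
    refine ⟨i, Subtype.ext ?_⟩
    rw [Subgroup.coe_pow, OneMemClass.coe_one, ← hj, ← zpow_natCast, ← zpow_mul, mul_comm, zpow_mul,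
      zpow_natCast, show (⟨x, hxS⟩ : S) ^ p ^ i = 1 from Subtype.ext (by simpa using hi), one_zpow])
  exact ⟨_, full_of_sylow Q, ⟨⟨x, hxS⟩, hQ (Subgroup.mem_zpowers _), rfl⟩⟩

variable {n : ℕ} {V : Type v} [AddCommGroup V] [Module ℂ V] [FiniteDimensional ℂ V]
  (ρ : Representation ℂ G V) (hρ : Function.Injective ρ) (hn : finrank ℂ V = n)

include hρ hn

theorem comm_of_pgroup {p : ℕ} [hp : Fact p.Prime] (hnp : n + 1 < p) {P : Subgroup G}
    (hP : IsPGroup p P) {x y : G} (hx : x ∈ P) (hy : y ∈ P) : Commute x y := by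
  obtain ⟨k, hk⟩ := IsPGroup.iff_card.mp hP
  have h := Char.comm_of_degree_lt_primes (ρ.comp P.subtype : Representation ℂ P V)
    (hρ.comp P.subtype_injective) (fun r hr hrd => by
      rw [(Nat.prime_dvd_prime_iff_eq hr hp.out).mp (hr.dvd_of_dvd_pow (hk ▸ hrd)), hn]
      omega) ⟨x, hx⟩ ⟨y, hy⟩
  exact congr_arg Subtype.val h

theorem exists_commuting_pair {p q : ℕ} (hp : p.Prime) (hq : q.Prime) (hnp : n + 1 < p)
    (hnq : n + 1 < q) (S : Subgroup G) :
    ∃ P Q : Subgroup G, Full p S P ∧ Full q S Q ∧ ∀ x ∈ P, ∀ y ∈ Q, Commute x y := by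
  haveI := Fact.mk hp
  haveI := Fact.mk hq
  induction S using WellFoundedLT.induction with
  | ind S ih =>
    by_cases hb : ∃ x ∈ S, ∃ y ∈ S, (∃ i, x ^ p ^ i = 1) ∧ (∃ j, y ^ q ^ j = 1) ∧ Commute x y ∧
        ¬ S ≤ Subgroup.centralizer ({x} : Set G) ∧ ¬ S ≤ Subgroup.centralizer ({y} : Set G)
    · obtain ⟨x, hxS, y, hyS, hx, hy, hxy, hnx, hny⟩ := hb
      set T := S ⊓ Subgroup.centralizer ({x} : Set G) with hT
      obtain ⟨P₀, hP₀, hxP₀⟩ := exists_full_with hxS hx
      have hP₀T : P₀ ≤ T := fun z hz => ⟨hP₀.1 hz, Subgroup.mem_centralizer_singleton_iff.mpr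
        (comm_of_pgroup ρ hρ hn hnp hP₀.isPGroup hz hxP₀).eq⟩
      obtain ⟨P, Q, hP, hQ, hPQ⟩ :=
        ih T (lt_of_le_of_ne inf_le_left fun e => hnx (e ▸ inf_le_right))
      have hP' : Full p S P := Full.mono hp inf_le_left hP₀ hP₀T hP
      have hyT : y ∈ T := ⟨hyS, Subgroup.mem_centralizer_singleton_iff.mpr hxy.symm.eq⟩
      obtain ⟨R, hR, hyR⟩ := exists_full_with hyT hy
      obtain ⟨g, hgT, hg⟩ := exists_conj_le hQ hR.isPGroup hR.1
      set y' := g⁻¹ * y * g with hy'def
      have hy'Q : y' ∈ Q := hg y hyR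
      have hgS : g ∈ S := hgT.1
      have hy'S : y' ∈ S := mul_mem (mul_mem (inv_mem hgS) hyS) hgS
      have hy' : ∃ j, y' ^ q ^ j = 1 := by
        obtain ⟨j, hj⟩ := hy
        refine ⟨j, ?_⟩
        have := conj_pow (i := q ^ j) (a := g⁻¹) (b := y)
        rw [inv_inv, hj, mul_one, inv_mul_cancel] at this
        exact this
      set U := S ⊓ Subgroup.centralizer ({y'} : Set G) with hU
      obtain ⟨Q₀, hQ₀, hyQ₀⟩ := exists_full_with hy'S hy'
      have hQ₀U : Q₀ ≤ U := fun z hz => ⟨hQ₀.1 hz, Subgroup.mem_centralizer_singleton_iff.mpr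
        (comm_of_pgroup ρ hρ hn hnq hQ₀.isPGroup hz hyQ₀).eq⟩
      have hUlt : U < S := by
        refine lt_of_le_of_ne inf_le_left fun e => hny fun s hs => ?_
        have h1 : g⁻¹ * s * g ∈ U := e.symm ▸ mul_mem (mul_mem (inv_mem hgS) hs) hgS
        have h2 := Subgroup.mem_centralizer_singleton_iff.mp h1.2
        rw [Subgroup.mem_centralizer_singleton_iff]
        calc s * y = g * (g⁻¹ * s * g * y') * g⁻¹ := by rw [hy'def]; group
          _ = y * s := by rw [h2, hy'def]; group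
      obtain ⟨P', Q', hP'', hQ'', hPQ'⟩ := ih U hUlt
      refine ⟨P', Q', Full.mono hp inf_le_left hP' (fun z hz => ⟨(hP'.1 hz),
        Subgroup.mem_centralizer_singleton_iff.mpr (hPQ z hz y' hy'Q).eq⟩) hP'',
        Full.mono hq inf_le_left hQ₀ hQ₀U hQ'', hPQ'⟩
    · push Not at hb
      obtain ⟨P⟩ : Nonempty (Sylow p S) := inferInstance
      obtain ⟨Q⟩ : Nonempty (Sylow q S) := inferInstance
      refine ⟨_, _, full_of_sylow P, full_of_sylow Q, ?_⟩
      rintro x ⟨x', hx', rfl⟩ y ⟨y', hy', rfl⟩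
      refine Commute.map ?_ S.subtype
      refine commute_of_no_bad (ρ.comp S.subtype : Representation ℂ S V)
        (hρ.comp S.subtype_injective) hn hp hq hnp hnq ?_ ?_ ?_
      · rintro u v ⟨i, hi⟩ ⟨j, hj⟩ huv
        by_cases hu : S ≤ Subgroup.centralizer ({(u : G)} : Set G)
        · exact Or.inl (Subgroup.mem_center_iff.mpr fun s =>
            Subtype.ext (Subgroup.mem_centralizer_singleton_iff.mp (hu s.2)))
        · refine Or.inr (Subgroup.mem_center_iff.mpr fun s =>
            Subtype.ext (Subgroup.mem_centralizer_singleton_iff.mp ?_))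
          exact hb u u.2 v v.2 ⟨i, by simpa using congr_arg Subtype.val hi⟩
            ⟨j, by simpa using congr_arg Subtype.val hj⟩ (huv.map S.subtype) hu s.2
      · obtain ⟨i, hi⟩ := P.2 ⟨x', hx'⟩; exact ⟨i, congr_arg Subtype.val hi⟩
      · obtain ⟨i, hi⟩ := Q.2 ⟨y', hy'⟩; exact ⟨i, congr_arg Subtype.val hi⟩

theorem exists_abelian_hall (S : Subgroup G) :
    ∃ A ≤ S, (∀ x ∈ A, ∀ y ∈ A, x * y = y * x) ∧
      (∀ q : ℕ, q.Prime → q ∣ Nat.card A → n + 1 < q) ∧
      ∀ q : ℕ, q.Prime → n + 1 < q → q ^ (Nat.card S).factorization q ∣ Nat.card A := by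
  induction S using WellFoundedLT.induction with
  | ind S ih =>
    by_cases hb : ∃ p : ℕ, p.Prime ∧ n + 1 < p ∧ ∃ P : Subgroup G, Full p S P ∧
        ¬ S ≤ Subgroup.centralizer (P : Set G)
    · obtain ⟨p, hp, hnp, P, hP, hnc⟩ := hb
      haveI := Fact.mk hp
      set T := S ⊓ Subgroup.centralizer (P : Set G) with hT
      obtain ⟨A, hA, hAc, hAp, hAf⟩ :=
        ih T (lt_of_le_of_ne inf_le_left fun e => hnc (e ▸ inf_le_right))
      refine ⟨A, hA.trans inf_le_left, hAc, hAp, fun q hq hnq => ?_⟩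
      haveI := Fact.mk hq
      refine (pow_dvd_pow q ?_).trans (hAf q hq hnq)
      obtain ⟨P', Q', hP', hQ', hPQ⟩ := exists_commuting_pair ρ hρ hn hp hq hnp hnq S
      obtain ⟨g, hg, hgP⟩ := exists_conj_le hP' hP.isPGroup hP.1
      refine (hq.pow_dvd_iff_le_factorization Nat.card_pos.ne').mp ?_
      rw [← hQ'.2, Nat.card_congr (Subgroup.equivMapOfInjective Q' (MulAut.conj g).toMonoidHom
        (MulAut.conj g).injective).toEquiv]
      refine Subgroup.card_dvd_of_le ?_
      rintro _ ⟨z, hz, rfl⟩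
      refine ⟨?_, ?_⟩
      · show g * z * g⁻¹ ∈ S
        exact mul_mem (mul_mem hg (hQ'.1 hz)) (inv_mem hg)
      · intro w hw
        have h : (g⁻¹ * w * g) * z = z * (g⁻¹ * w * g) := hPQ _ (hgP w hw) z hz
        show w * (g * z * g⁻¹) = g * z * g⁻¹ * w
        calc w * (g * z * g⁻¹) = g * ((g⁻¹ * w * g) * z) * g⁻¹ := by group
          _ = g * z * g⁻¹ * w := by rw [h]; group
    · push Not at hb
      let A : Subgroup G :=
        { carrier := {z | z ∈ S ∧ S ≤ Subgroup.centralizer ({z} : Set G) ∧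
            ∀ q : ℕ, q.Prime → q ∣ orderOf z → n + 1 < q}
          one_mem' := ⟨one_mem _, fun s _ => Subgroup.mem_centralizer_singleton_iff.mpr (by simp),
            fun q hq h => absurd (orderOf_one (G := G) ▸ h) hq.not_dvd_one⟩
          mul_mem' := fun {a b} ha hb' => by
            have hab : Commute a b :=
              (Subgroup.mem_centralizer_singleton_iff.mp (hb'.2.1 ha.1))
            refine ⟨mul_mem ha.1 hb'.1, fun s hs => Subgroup.mem_centralizer_singleton_iff.mpr ?_,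
              fun q hq hd => ?_⟩
            · have h1 := Subgroup.mem_centralizer_singleton_iff.mp (ha.2.1 hs)
              have h2 := Subgroup.mem_centralizer_singleton_iff.mp (hb'.2.1 hs)
              rw [← mul_assoc, h1, mul_assoc, h2, mul_assoc]
            · rcases (Nat.Prime.dvd_mul hq).mp
                (hd.trans (hab.orderOf_mul_dvd_mul_orderOf)) with h | h
              exacts [ha.2.2 q hq h, hb'.2.2 q hq h]
          inv_mem' := fun {a} ha => ⟨inv_mem ha.1, fun s hs =>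
            Subgroup.mem_centralizer_singleton_iff.mpr
              ((show Commute s a from Subgroup.mem_centralizer_singleton_iff.mp (ha.2.1 hs)).inv_right).eq,
            fun q hq hd => ha.2.2 q hq (orderOf_inv a ▸ hd)⟩ }
      refine ⟨A, fun z hz => hz.1, fun x hx y hy => Subgroup.mem_centralizer_singleton_iff.mp
        (hy.2.1 hx.1), fun q hq hd => ?_, fun q hq hnq => ?_⟩
      · haveI := Fact.mk hq
        obtain ⟨z, hz⟩ := exists_prime_orderOf_dvd_card' (G := A) q hd
        exact z.2.2.2 q hq (by rw [Subgroup.orderOf_coe, hz])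
      · haveI := Fact.mk hq
        obtain ⟨Q⟩ : Nonempty (Sylow q S) := inferInstance
        have hQ := full_of_sylow Q
        rw [← hQ.2]
        refine Subgroup.card_dvd_of_le fun z hz => ⟨hQ.1 hz, fun s hs => ?_, fun r hr hd => ?_⟩
        · exact Subgroup.mem_centralizer_singleton_iff.mpr (hb q hq hnq _ hQ hs z hz).symm
        · obtain ⟨k, hk⟩ := IsPGroup.iff_card.mp hQ.isPGroup
          rw [show r = q from (Nat.prime_dvd_prime_iff_eq hr hq).mp (hr.dvd_of_dvd_pow
            (hk ▸ hd.trans (Subgroup.orderOf_dvd_natCard _ hz)))]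
          exact hnq

end Hall

/-- Blichfeldt: the abelian Hall subgroup for the primes above `n + 1`. -/
theorem exists_hall {G : Type u} [Group G] [Finite G] (χ : G → ℂ) (hχ : Cfsg.IsCharacter G χ)
    (hfaith : ∀ g : G, χ g = χ 1 → g = 1) (n : ℕ) (hn : χ 1 = n) :
    ∃ A : Subgroup G, (∀ x ∈ A, ∀ y ∈ A, x * y = y * x) ∧
      (∀ q : ℕ, q.Prime → q ∣ Nat.card A → n + 1 < q) ∧
      ∀ q : ℕ, q.Prime → q ∣ A.index → q ≤ n + 1 := by
  obtain ⟨m, ρ, rfl⟩ := hχ
  have hm : finrank ℂ (Fin m → ℂ) = n := by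
    rw [Representation.char_one] at hn; exact_mod_cast hn
  have hinj : Function.Injective ρ := by
    refine (MonoidHom.ker_eq_bot_iff ρ).mp ((Subgroup.eq_bot_iff_forall _).mpr fun g hg => ?_)
    exact hfaith g ((Char.mem_ker_iff_char ρ g).mp hg)
  obtain ⟨A, -, hAc, hAp, hAf⟩ := exists_abelian_hall ρ hinj hm ⊤
  refine ⟨A, hAc, hAp, fun q hq hd => ?_⟩
  by_contra hlt
  push Not at hlt
  have h1 := Nat.mul_dvd_mul (hAf q hq hlt) hd
  rw [← pow_succ, A.card_mul_index, Subgroup.card_top] at h1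
  have := (hq.pow_dvd_iff_le_factorization Nat.card_pos.ne').mp h1
  omega

end CfsgLib.Clifford.BlichfeldtHall
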