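import Cfsg.Agent.Lib.Clifford.CyclicGlauberman
import Mathlib.Algebra.CharP.Lemmas
import Mathlib.GroupTheory.SpecificGroups.Cyclic

/-!
# Signs of rational characters bounded by one on a cyclic group

Congruences between power sums of roots of unity force a rational character of a cyclic group
with values `±1` off the identity to be a sign times a character of order at most two.
-/

set_option autoImplicit false

namespace CfsgLib.Clifford.CyclicSigns

open CfsgLib

universe u

theorem sum_pow_prime {R : Type*} [CommRing R] {ι : Type*} (μ : ι → R) {p : ℕ} (hp : p.Prime)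
    (s : Finset ι) : ∃ r : R, (∑ i ∈ s, μ i) ^ p = (∑ i ∈ s, μ i ^ p) + (p : R) * r := by
  classical
  induction s using Finset.induction with
  | empty => exact ⟨0, by simp [zero_pow hp.ne_zero]⟩
  | insert a s ha ih =>
    obtain ⟨r, hr⟩ := ih
    obtain ⟨r', hr'⟩ := (Commute.all (μ a) (∑ i ∈ s, μ i)).exists_add_pow_prime_eq hp
    refine ⟨r + μ a * (∑ i ∈ s, μ i) * r', ?_⟩
    rw [Finset.sum_insert ha, Finset.sum_insert ha, hr', hr]
    ring

/-- The congruence between the second and the fourth power sum modulo four. -/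
theorem sum_pow_four {R : Type*} [CommRing R] {ι : Type*} (μ : ι → R) (s : Finset ι) :
    ∃ A B Q : R, (∑ i ∈ s, μ i) ^ 2 = (∑ i ∈ s, μ i ^ 2) + 2 * A ∧
      (∑ i ∈ s, μ i ^ 2) ^ 2 = (∑ i ∈ s, μ i ^ 4) + 2 * B ∧ A ^ 2 = B + 2 * Q := by
  classical
  induction s using Finset.induction with
  | empty => exact ⟨0, 0, 0, by simp, by simp, by simp⟩
  | insert a s ha ih =>
    obtain ⟨A, B, Q, h1, h2, h3⟩ := ih
    refine ⟨A + μ a * ∑ i ∈ s, μ i, B + μ a ^ 2 * ∑ i ∈ s, μ i ^ 2,
      Q + A * μ a * (∑ i ∈ s, μ i) + μ a ^ 2 * A, ?_, ?_, ?_⟩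
    · rw [Finset.sum_insert ha, Finset.sum_insert ha]; linear_combination h1
    · rw [Finset.sum_insert ha, Finset.sum_insert ha]; linear_combination h2
    · linear_combination h3 + μ a ^ 2 * h1

/-- An algebraic integer that is rational is an integer. -/
theorem exists_int {z : integralClosure ℤ ℂ} {q : ℚ} (h : (z : ℂ) = (q : ℂ)) :
    ∃ k : ℤ, (z : ℂ) = (k : ℂ) := by
  obtain ⟨k, hk⟩ := Char.exists_int_of_isIntegral_rat (q := q) (h ▸ z.2)
  exact ⟨k, by rw [h, hk, Rat.cast_intCast]⟩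

variable {S : Type u} [Group S] [Finite S] {ψ : S → ℂ}

/-- Eigenvalues of an element as algebraic integers. -/
theorem exists_eigen (hψ : Cfsg.IsCharacter S ψ) (x : S) :
    ∃ (ι : Type) (_ : Fintype ι) (μ : ι → integralClosure ℤ ℂ),
      ∀ j : ℕ, ((∑ i, μ i ^ j : integralClosure ℤ ℂ) : ℂ) = ψ (x ^ j) := by
  obtain ⟨n, ρ, rfl⟩ := hψ
  obtain ⟨ι, hι, b, μ, -, hμ, hval, -⟩ := Char.exists_char_eigen ρ x
  refine ⟨Fin (Fintype.card ι), inferInstance, fun i => ⟨μ ((Fintype.equivFin ι).symm i),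
    ⟨Polynomial.X ^ orderOf x - Polynomial.C 1, Polynomial.monic_X_pow_sub_C 1 (orderOf_pos x).ne',
      by simp [hμ]⟩⟩, fun j => ?_⟩
  rw [hval, AddSubmonoidClass.coe_finsetSum]
  exact Fintype.sum_equiv (Fintype.equivFin ι).symm _ _ fun i => by simp

theorem congr_prime (hψ : Cfsg.IsCharacter S ψ) {v : S → ℤ} (hv : ∀ x, ψ x = (v x : ℂ)) {p : ℕ}
    (hp : p.Prime) (x : S) : (p : ℤ) ∣ v x ^ p - v (x ^ p) := by
  obtain ⟨ι, hι, μ, hμ⟩ := exists_eigen hψ x
  obtain ⟨r, hr⟩ := sum_pow_prime μ hp Finset.univ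
  have h := congrArg (fun z : integralClosure ℤ ℂ => (z : ℂ)) hr
  have h1 := hμ 1
  simp only [pow_one] at h1
  push_cast at h
  simp only [AddSubmonoidClass.coe_finsetSum] at h1 hμ
  have hp0 : (p : ℂ) ≠ 0 := Nat.cast_ne_zero.mpr hp.ne_zero
  rw [h1, show (∑ i, ((μ i : integralClosure ℤ ℂ) : ℂ) ^ p) = ψ (x ^ p) from (by
    rw [← hμ p]; simp), hv, hv] at h
  obtain ⟨k, hk⟩ := exists_int (z := r) (q := ((v x : ℚ) ^ p - v (x ^ p)) / p) (by
    push_cast
    rw [eq_div_iff hp0]
    linear_combination -h)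
  refine ⟨k, ?_⟩
  rw [← Int.cast_inj (α := ℂ)]
  push_cast
  rw [← hk]
  linear_combination h

theorem congr_four (hψ : Cfsg.IsCharacter S ψ) {v : S → ℤ} (hv : ∀ x, ψ x = (v x : ℂ)) (x : S) :
    (4 : ℤ) ∣ v (x ^ 4) - v (x ^ 2) := by
  obtain ⟨ι, hι, μ, hμ⟩ := exists_eigen hψ x
  obtain ⟨A, B, Q, h1, h2, h3⟩ := sum_pow_four μ Finset.univ
  have e := fun j => (hμ j).trans (hv (x ^ j))
  have e1 := e 1
  simp only [pow_one] at e1
  have e2 := e 2
  have e4 := e 4
  have h1' := congrArg (fun z : integralClosure ℤ ℂ => (z : ℂ)) h1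
  have h2' := congrArg (fun z : integralClosure ℤ ℂ => (z : ℂ)) h2
  have h3' := congrArg (fun z : integralClosure ℤ ℂ => (z : ℂ)) h3
  simp only [Subalgebra.coe_add, Subalgebra.coe_mul, Subalgebra.coe_pow] at h1' h2' h3'
  rw [e1, e2] at h1'
  rw [e2, e4] at h2'
  have htwo : ((2 : integralClosure ℤ ℂ) : ℂ) = 2 := rfl
  rw [htwo] at h1' h2' h3'
  obtain ⟨a, ha⟩ := exists_int (z := A) (q := ((v x : ℚ) ^ 2 - v (x ^ 2)) / 2) (by
    push_cast; linear_combination -h1' / 2)
  obtain ⟨b, hb⟩ := exists_int (z := B) (q := ((v (x ^ 2) : ℚ) ^ 2 - v (x ^ 4)) / 2) (by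
    push_cast; linear_combination -h2' / 2)
  obtain ⟨q, hq⟩ := exists_int (z := Q) (q := ((a : ℚ) ^ 2 - b) / 2) (by
    push_cast; rw [← ha, ← hb]; linear_combination -h3' / 2)
  rw [ha] at h1' h3'
  rw [hb] at h2' h3'
  rw [hq] at h3'
  have i1 : v x ^ 2 = v (x ^ 2) + 2 * a := by exact_mod_cast h1'
  have i2 : v (x ^ 2) ^ 2 = v (x ^ 4) + 2 * b := by exact_mod_cast h2'
  have i3 : a ^ 2 = b + 2 * q := by exact_mod_cast h3'
  rw [show (4 : ℤ) = ((4 : ℕ) : ℤ) from rfl,
    ← ZMod.intCast_zmod_eq_zero_iff_dvd (v (x ^ 4) - v (x ^ 2)) 4]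
  have key : ∀ c a' : ZMod 4, (c ^ 2 - 2 * a') ^ 2 - 2 * a' ^ 2 - (c ^ 2 - 2 * a') = 0 := by decide
  have hk := key (v x : ZMod 4) (a : ZMod 4)
  have j : v (x ^ 4) - v (x ^ 2) =
      (v x ^ 2 - 2 * a) ^ 2 - 2 * a ^ 2 - (v x ^ 2 - 2 * a) + 4 * q := by
    linear_combination -i2 + 2 * i3 + (v x ^ 2 - 2 * a + v (x ^ 2) - 1) * (-i1)
  rw [j]
  push_cast
  rw [hk, show (4 : ZMod 4) = 0 from rfl]
  simp

/-- A character with values of absolute value at most one off the identity vanishes there as soon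
as it vanishes at a generator. -/
theorem eq_zero_of_generator (hψ : Cfsg.IsCharacter S ψ) {v : S → ℤ} (hv : ∀ x, ψ x = (v x : ℂ))
    (hb : ∀ x, x ≠ 1 → v x ^ 2 ≤ 1) {g : S} (h0 : v g = 0) :
    ∀ j : ℕ, g ^ j ≠ 1 → v (g ^ j) = 0 := by
  intro j
  induction j using Nat.strong_induction_on with
  | _ j ih =>
    intro hne
    by_cases hj : j ≤ 1
    · rcases Nat.le_one_iff_eq_zero_or_eq_one.mp hj with rfl | rfl
      · exact absurd (pow_zero g) hne
      · rwa [pow_one]
    obtain ⟨p, hp, q, rfl⟩ := Nat.exists_prime_and_dvd (show j ≠ 1 by omega)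
    have hq : q < p * q := by
      have : 0 < q := Nat.pos_of_ne_zero fun h => by subst h; omega
      nlinarith [hp.two_le]
    rw [mul_comm, pow_mul] at hne ⊢
    have h1 := ih q hq fun h => hne (by rw [h, one_pow])
    have h2 := congr_prime hψ hv hp (g ^ q)
    rw [h1, zero_pow hp.ne_zero, zero_sub, dvd_neg] at h2
    have hp2 : (2 : ℤ) ≤ p := by exact_mod_cast hp.two_le
    obtain ⟨t, ht⟩ := h2
    by_contra hnz
    have h3 := hb _ hne
    rw [ht] at h3 hnz
    have ht0 : t ≠ 0 := fun h => hnz (by rw [h, mul_zero])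
    have : 1 ≤ t ^ 2 := by
      rcases Int.lt_or_lt_of_ne ht0 with h | h <;> nlinarith
    nlinarith [mul_le_mul_of_nonneg_right (show (4 : ℤ) ≤ (p : ℤ) ^ 2 by nlinarith)
      (show (0 : ℤ) ≤ t ^ 2 by positivity)]

/-- A rational character with values `±1` off the identity is `± μ` there, `μ` of order at most two. -/
theorem exists_sign (hψ : Cfsg.IsCharacter S ψ) {v : S → ℤ} (hv : ∀ x, ψ x = (v x : ℂ))
    (hpm : ∀ x, x ≠ 1 → v x = 1 ∨ v x = -1) {g : S} (hgen : ∀ x, x ∈ Subgroup.zpowers g)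
    (hgal : ∀ k : ℕ, k.Coprime (Nat.card S) → v (g ^ k) = v g)
    {ε₀ : ℤ} (hε₀ : ε₀ = 1 ∨ ε₀ = -1) (hg : v g = ε₀) :
    ∃ ε : ℤ, (ε = 1 ∨ ε = -1) ∧ ∃ μ : S →* ℂˣ, (∀ x, μ x * μ x = 1) ∧
      ∀ x, x ≠ 1 → ψ x = (ε : ℂ) * (μ x : ℂ) := by
  classical
  set ε : ℤ := if g ^ 2 = 1 then ε₀ else v (g ^ 2) with hε
  have hεpm : ε = 1 ∨ ε = -1 := by
    rw [hε]; split_ifs with h
    · exact hε₀
    · exact hpm _ h
  set δ : ℤ := ε * ε₀ with hδ
  have hδpm : δ = 1 ∨ δ = -1 := by
    rcases hεpm with h | h <;> rcases hε₀ with h' | h' <;> simp [hδ, h, h']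
  have hδ2 : δ * δ = 1 := by rcases hδpm with h | h <;> simp [h]
  have hε2 : ε * ε = 1 := by rcases hεpm with h | h <;> simp [h]
  have hcard : orderOf g = Nat.card S := orderOf_eq_card_of_forall_mem_zpowers hgen
  -- the values on powers of the generator
  have key : ∀ j : ℕ, g ^ j ≠ 1 → v (g ^ j) = ε * δ ^ j := by
    intro j
    induction j using Nat.strong_induction_on with
    | _ j ih =>
      intro hne
      rcases Nat.lt_or_ge j 3 with h3 | h3
      · interval_cases j
        · exact absurd (pow_zero g) hne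
        · rw [pow_one, hg, hδ, pow_one, ← mul_assoc, hε2, one_mul]
        · rw [pow_two δ, hδ2, mul_one, hε, if_neg hne]
      rcases Nat.eq_two_pow_or_exists_odd_prime_and_dvd j with ⟨k, rfl⟩ | ⟨p, hp, ⟨q, rfl⟩, hodd⟩
      · obtain ⟨k, rfl⟩ : ∃ l, k = l + 2 := by
          rcases k with _ | _ | k
          · simp at h3
          · simp at h3
          · exact ⟨k, rfl⟩
        have e : 2 ^ (k + 2) = 4 * 2 ^ k := by ring
        have h2k : 2 ^ k * 2 < 2 ^ (k + 2) := by
          have := Nat.two_pow_pos k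
          rw [e]; omega
        rw [e, mul_comm, pow_mul] at hne ⊢
        have h2 : g ^ (2 ^ k * 2) ≠ 1 := fun h => hne (by
          rw [← pow_mul, show 2 ^ k * 4 = 2 ^ k * 2 * 2 by ring, pow_mul, h, one_pow])
        have hIH := ih (2 ^ k * 2) h2k h2
        have h4 := congr_four hψ hv (g ^ 2 ^ k)
        rw [pow_mul] at hIH
        rw [hIH] at h4
        have ed : δ ^ (2 ^ k * 2) = 1 ∧ δ ^ (2 ^ k * 4) = 1 := by
          constructor <;>
            rcases hδpm with h | h <;> simp [h, pow_mul, ← pow_mul, Even.neg_one_pow,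
              (show Even (2 ^ k * 2) from ⟨2 ^ k, by ring⟩),
              (show Even (2 ^ k * 4) from ⟨2 ^ k * 2, by ring⟩)]
        rw [ed.1, mul_one] at h4
        rw [ed.2, mul_one]
        obtain ⟨t, ht⟩ := h4
        rcases hεpm with h | h <;> rcases hpm _ hne with h' | h' <;> omega
      · have hq0 : 0 < q := Nat.pos_of_ne_zero fun h => by subst h; omega
        have hqlt : q < p * q := by nlinarith [hp.two_le]
        have hq1 : g ^ q ≠ 1 := fun h => hne (by rw [mul_comm, pow_mul, h, one_pow])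
        have hIH := ih q hqlt hq1
        have hc := congr_prime hψ hv hp (g ^ q)
        rw [← pow_mul, mul_comm q p, hIH] at hc
        have ep : δ ^ (p * q) = δ ^ q := by
          rw [mul_comm, pow_mul]
          rcases hδpm with h | h
          · simp [h]
          · rcases Nat.even_or_odd q with he | he
            · simp [h, he.neg_one_pow]
            · simp [h, he.neg_one_pow, hodd.neg_one_pow]
        rw [ep]
        have hz : (ε * δ ^ q) ^ p = ε * δ ^ q := by
          have hpm' : ε * δ ^ q = 1 ∨ ε * δ ^ q = -1 := hIH ▸ hpm _ hq1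
          rcases hpm' with h | h <;> rw [h] <;> simp [hodd.neg_one_pow]
        rw [hz] at hc
        have hp3 : (3 : ℤ) ≤ p := by
          have := hp.two_le
          have : p ≠ 2 := fun h => by subst h; exact (by decide : ¬ Odd 2) hodd
          omega
        obtain ⟨t, ht⟩ := hc
        rcases hpm _ hne with h' | h' <;> rcases (hIH ▸ hpm _ hq1) with h'' | h'' <;>
          rw [h', h''] at ht <;> rw [h', h''] <;>
          first
            | rfl
            | (exfalso
               rcases lt_trichotomy t 0 with h | h | h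
               · nlinarith
               · simp [h] at ht
               · nlinarith)
  have hδord : orderOf (((-1 : ℂˣ)) ^ (if δ = 1 then 0 else 1)) ∣ orderOf g := by
    rw [hcard]
    refine orderOf_dvd_of_pow_eq_one ?_
    split_ifs with h
    · simp
    · rw [pow_one]
      refine Even.neg_one_pow ?_
      by_contra hne
      rw [Nat.not_even_iff_odd] at hne
      apply h
      by_cases h2 : g ^ 2 = 1
      · rw [hδ, hε, if_pos h2]
        rcases hε₀ with h' | h' <;> simp [h']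
      · have hk : Nat.Coprime 2 (Nat.card S) :=
          (Nat.prime_two.coprime_iff_not_dvd).mpr fun hd =>
            Nat.not_even_iff_odd.mpr hne (even_iff_two_dvd.mpr hd)
        rw [hδ, hε, if_neg h2, hgal 2 hk, hg]
        rcases hε₀ with h' | h' <;> simp [h']
  let μ : S →* ℂˣ := monoidHomOfForallMemZpowers hgen hδord
  have hμg : ∀ j : ℕ, (μ (g ^ j) : ℂ) = ((δ ^ j : ℤ) : ℂ) := by
    intro j
    rw [map_pow, monoidHomOfForallMemZpowers_apply_gen hgen hδord]
    rcases hδpm with h | h <;> simp [h]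
  have hpow : ∀ x : S, ∃ j : ℕ, g ^ j = x := fun x =>
    Submonoid.mem_powers_iff _ _ |>.mp (mem_powers_iff_mem_zpowers.mpr (hgen x))
  refine ⟨ε, hεpm, μ, fun x => ?_, fun x hx => ?_⟩
  · obtain ⟨j, rfl⟩ := hpow x
    refine Units.ext ?_
    rw [Units.val_mul, hμg, ← Int.cast_mul, ← mul_pow, hδ2, one_pow, Int.cast_one, Units.val_one]
  · obtain ⟨j, rfl⟩ := hpow x
    rw [hv, key j hx, hμg, Int.cast_mul]

end CfsgLib.Clifford.CyclicSigns
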