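import Cfsg.Agent.Lib.Clifford.Degrees
import Cfsg.Agent.Lib.Char.Induce
import Mathlib.GroupTheory.Sylow

/-!
If every irreducible degree is less than `p`, the permutation character on the Sylow
`p`-subgroups is trivial: its nontrivial constituents have too small a total degree.
-/

set_option autoImplicit false

namespace CfsgLib.Clifford.DegreeLt

open CfsgLib.Clifford.Degrees

open Module
open scoped ComplexConjugate

universe u

variable {G : Type u} [Group G] [Finite G] {p : ℕ} [hp : Fact p.Prime]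

/-- The stabiliser of two distinct Sylow subgroups is small. -/
theorem pair_stabilizer_le {Q R : Sylow p G} (hne : Q ≠ R) :
    p * Nat.card ↥(MulAction.stabilizer G Q ⊓ MulAction.stabilizer G R) ≤
      Nat.card ↥(MulAction.stabilizer G Q) := by
  set S := MulAction.stabilizer G Q
  set H := S ⊓ MulAction.stabilizer G R with hH
  have hQS : (Q : Subgroup G) ≤ S := by
    show (Q : Subgroup G) ≤ MulAction.stabilizer G Q
    rw [Sylow.stabilizer_eq_normalizer]
    exact Subgroup.le_normalizer
  have hnle : ¬ (Q : Subgroup G) ≤ H := fun hle => hne (by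
    have h1 : (Q : Subgroup G) ≤ Subgroup.normalizer ((R : Subgroup G) : Set G) := by
      exact hle.trans (inf_le_right.trans (Sylow.stabilizer_eq_normalizer R).le)
    have h2 : (Q : Subgroup G) ≤ R := by
      have := R.3 (IsPGroup.to_sup_of_normal_right' Q.2 R.2 h1) le_sup_right
      exact le_sup_left.trans this.le
    exact Sylow.ext (Q.3 R.2 h2).symm)
  have h1 : p ≤ H.relIndex (Q : Subgroup G) := by
    obtain ⟨k, hk⟩ := IsPGroup.iff_card.mp Q.2
    have hd := Subgroup.relIndex_dvd_card H (Q : Subgroup G)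
    rw [hk] at hd
    obtain ⟨i, -, hi⟩ := (Nat.dvd_prime_pow hp.out).mp hd
    rw [hi]
    refine Nat.le_self_pow (fun h0 => hnle (Subgroup.relIndex_eq_one.mp ?_)) p
    rw [hi, h0, pow_zero]
  have h2 : H.relIndex (Q : Subgroup G) ≤ H.relIndex S :=
    Subgroup.relIndex_le_of_le_right hQS (H.subgroupOf S).index_ne_zero_of_finite
  have h3 := Subgroup.relIndex_mul_relIndex ⊥ H S bot_le inf_le_left
  rw [Subgroup.relIndex_bot_left, Subgroup.relIndex_bot_left] at h3
  rw [← h3, mul_comm]
  exact Nat.mul_le_mul_left _ (h1.trans h2)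

/-- If all irreducible degrees are less than `p` there is just one Sylow `p`-subgroup. -/
theorem sylow_subsingleton (hb : ∀ χ : Cfsg.IrrCharacter G, Cfsg.charDegree (χ : G → ℂ) < p) :
    Nat.card (Sylow p G) = 1 := by
  classical
  have := Fintype.ofFinite G
  have := Fintype.ofFinite (Sylow p G)
  have := Fintype.ofFinite (Cfsg.IrrCharacter G)
  obtain ⟨P⟩ : Nonempty (Sylow p G) := inferInstance
  set X := Sylow p G
  set n := Nat.card X
  let π : G → ℂ := fun g => (Nat.card (MulAction.fixedBy X g) : ℂ)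
  have hπ : π = Cfsg.indFun (MulAction.stabilizer G P) (fun _ => (1 : ℂ)) :=
    funext (Char.natCard_fixedBy_eq_indFun X P)
  have hchar : Cfsg.IsCharacter G π := hπ ▸ Char.isCharacter_indFun _ Char.isCharacter_one
  let one : Cfsg.IrrCharacter G := ⟨fun _ => 1, Char.isIrrCharacter_one⟩
  have hone : Cfsg.classInner π (one : G → ℂ) = 1 := by
    have := Fintype.ofFinite (MulAction.stabilizer G P)
    rw [hπ, Char.frobenius_reciprocity _ _ _ (Char.irr_isClassFunction one.2)]
    exact Char.irr_classInner_self Char.isIrrCharacter_one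
  have hnat : ∀ χ : Cfsg.IrrCharacter G, ∃ a : ℕ, Cfsg.classInner π (χ : G → ℂ) = a := fun χ =>
    Char.classInner_isCharacter_nat hchar (Char.irr_isCharacter χ.2)
  choose a ha using hnat
  have hexp : π = ∑ χ : Cfsg.IrrCharacter G, (a χ : ℂ) • (χ : G → ℂ) := by
    simp only [← ha]
    exact Char.classFunction_eq_sum (Char.isCharacter_isClassFunction hchar)
  have h1 : n = ∑ χ, a χ * Cfsg.charDegree (χ : G → ℂ) := by
    have := congr_fun hexp 1
    simp only [Finset.sum_apply, Pi.smul_apply, smul_eq_mul] at this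
    rw [← Nat.cast_inj (R := ℂ), Nat.cast_sum]
    simp only [Nat.cast_mul, BlockB.charDegree_cast (Char.irr_isCharacter (Subtype.prop _))]
    rw [← this]
    show (n : ℂ) = (Nat.card (MulAction.fixedBy X (1 : G)) : ℂ)
    simp [n, Nat.card_eq_fintype_card]
  have hnorm : Cfsg.classInner π π = ((∑ χ, a χ ^ 2 : ℕ) : ℂ) := by
    conv_lhs => arg 1; rw [hexp]
    rw [Char.classInner_sum_left, Nat.cast_sum]
    refine Finset.sum_congr rfl fun χ _ => ?_
    rw [Char.classInner_smul_left, ← Char.classInner_conj_symm, ha]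
    simp [pow_two]
  -- count the pairs of points fixed by each element
  let st : X → X → ℕ := fun Q R =>
    Nat.card ↥(MulAction.stabilizer G Q ⊓ MulAction.stabilizer G R)
  have hsq : Cfsg.classInner π π = (Nat.card G : ℂ)⁻¹ * ((∑ Q, ∑ R, st Q R : ℕ) : ℂ) := by
    rw [Char.classInner_def]
    congr 1
    simp only [π, Complex.conj_natCast, ← Nat.cast_mul, ← Nat.cast_sum]
    norm_cast
    have e : ∀ Q R : X, st Q R = ∑ g : G, if g • Q = Q ∧ g • R = R then 1 else 0 := by
      intro Q R
      rw [Finset.sum_boole, Nat.cast_id, ← Fintype.card_subtype, ← Nat.card_eq_fintype_card]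
      rfl
    simp only [e]
    rw [Finset.sum_comm]
    symm
    calc ∑ R : X, ∑ Q : X, ∑ g : G, (if g • Q = Q ∧ g • R = R then 1 else 0)
        = ∑ g : G, ∑ R : X, ∑ Q : X, (if g • Q = Q ∧ g • R = R then 1 else 0) := by
          exact (Finset.sum_congr rfl fun R _ => Finset.sum_comm).trans Finset.sum_comm
      _ = _ := Finset.sum_congr rfl fun g _ => by
        rw [Nat.card_eq_fintype_card, Fintype.card_subtype, Finset.card_filter, Finset.sum_mul_sum]
        exact Finset.sum_congr rfl fun R _ => Finset.sum_congr rfl fun Q _ => by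
          simp only [MulAction.mem_fixedBy]
          split_ifs <;> simp_all
  have hstab : ∀ Q : X, n * Nat.card ↥(MulAction.stabilizer G Q) = Nat.card G := fun Q => by
    rw [show n = (MulAction.stabilizer G Q).index by
      rw [MulAction.index_stabilizer, MulAction.orbit_eq_univ, Set.ncard_univ],
      Subgroup.index_mul_card]
  have hpos : 0 < n := Nat.card_pos
  have hbound : p * ((∑ Q, ∑ R, st Q R) * n) ≤ n * Nat.card G * (p + (n - 1)) := by
    have hrow : ∀ Q, p * ((∑ R, st Q R) * n) ≤ Nat.card G * (p + (n - 1)) := by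
      intro Q
      rw [← Finset.add_sum_erase _ _ (Finset.mem_univ Q)]
      have hd : st Q Q = Nat.card ↥(MulAction.stabilizer G Q) := by simp [st]
      have ho : p * ∑ R ∈ Finset.univ.erase Q, st Q R ≤
          (n - 1) * Nat.card ↥(MulAction.stabilizer G Q) := by
        rw [Finset.mul_sum]
        refine (Finset.sum_le_card_nsmul _ _ _ fun R hR =>
          pair_stabilizer_le (Ne.symm (Finset.ne_of_mem_erase hR))).trans_eq ?_
        rw [Finset.card_erase_of_mem (Finset.mem_univ Q), Finset.card_univ, smul_eq_mul]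
        simp [n, Nat.card_eq_fintype_card]
      rw [← hstab Q, hd]
      nlinarith [Nat.mul_le_mul_right n ho]
    rw [Finset.sum_mul, Finset.mul_sum]
    refine (Finset.sum_le_card_nsmul _ _ _ fun Q _ => hrow Q).trans_eq ?_
    rw [Finset.card_univ, smul_eq_mul, ← Nat.card_eq_fintype_card, mul_assoc]
  have hsum : (∑ χ, a χ ^ 2) * Nat.card G = ∑ Q, ∑ R, st Q R := by
    have := hnorm.symm.trans hsq
    have hG : (Nat.card G : ℂ) ≠ 0 := Nat.cast_ne_zero.mpr Nat.card_pos.ne'
    rw [eq_comm, inv_mul_eq_iff_eq_mul₀ hG] at this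
    rw [mul_comm]
    exact_mod_cast this.symm
  have hnorm2 : p * (∑ χ, a χ ^ 2) ≤ p + (n - 1) := by
    rw [← hsum] at hbound
    refine Nat.le_of_mul_le_mul_left ?_ (Nat.mul_pos hpos (Nat.card_pos (α := G)))
    calc n * Nat.card G * (p * ∑ χ, a χ ^ 2)
        = p * ((∑ χ, a χ ^ 2) * Nat.card G * n) := by ring
      _ ≤ _ := hbound
  have ha1 : a one = 1 := by exact_mod_cast (ha one).symm.trans hone
  have hdeg1 : Cfsg.charDegree (one : G → ℂ) = 1 := by
    exact_mod_cast (BlockB.charDegree_cast (Char.irr_isCharacter one.2)).trans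
      (show (one : G → ℂ) 1 = ((1 : ℕ) : ℂ) by simp [one])
  set T := ∑ χ ∈ Finset.univ.erase one, a χ ^ 2
  have hT : n - 1 ≤ (p - 1) * T := by
    rw [h1, ← Finset.add_sum_erase _ _ (Finset.mem_univ one), ha1, hdeg1, mul_one,
      Nat.add_sub_cancel_left, Finset.mul_sum]
    refine Finset.sum_le_sum fun χ _ => ?_
    calc a χ * Cfsg.charDegree (χ : G → ℂ) ≤ a χ ^ 2 * (p - 1) :=
          Nat.mul_le_mul (Nat.le_self_pow two_ne_zero _) (Nat.le_sub_one_of_lt (hb χ))
      _ = _ := mul_comm _ _
  have hsplit : ∑ χ, a χ ^ 2 = 1 + T := by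
    rw [← Finset.add_sum_erase _ _ (Finset.mem_univ one), ha1, one_pow]
  rw [hsplit, mul_add, mul_one] at hnorm2
  have hp1 : 1 ≤ p := hp.out.one_le
  obtain ⟨q, rfl⟩ : ∃ q, p = q + 1 := ⟨p - 1, by omega⟩
  simp only [Nat.add_sub_cancel] at hT
  have : T = 0 := by nlinarith
  rw [this, mul_zero] at hT
  omega

/-- If all irreducible degrees are less than `p`, the Sylow `p`-subgroup is normal and abelian. -/
theorem normal_abelian_sylow (hb : ∀ χ : Cfsg.IrrCharacter G, Cfsg.charDegree (χ : G → ℂ) < p)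
    (P : Sylow p G) :
    (P : Subgroup G).Normal ∧
      ∀ x ∈ (P : Subgroup G), ∀ y ∈ (P : Subgroup G), x * y = y * x := by
  classical
  have := Fintype.ofFinite G
  have hs : Subsingleton (Sylow p G) := (Nat.card_eq_one_iff_unique.mp (sylow_subsingleton hb)).1
  have hN : (P : Subgroup G).Normal := P.normal_of_subsingleton
  refine ⟨hN, fun x hx y hy => ?_⟩
  have := Fintype.ofFinite (P : Subgroup G)
  refine congr_arg Subtype.val ((Char.comm_iff_forall_degree_one (G := (P : Subgroup G))).mpr
    (fun θ => ?_) ⟨x, hx⟩ ⟨y, hy⟩)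
  obtain ⟨χ, hχ, hne⟩ := exists_over (P : Subgroup G) θ.2
  have hdvd := dvd_trans (Dvd.intro_left _ rfl) (index_inertia_mul_dvd _ θ.2 hχ hne)
  obtain ⟨k, hk⟩ := IsPGroup.iff_card.mp P.2
  have hd := charDegree_dvd_card θ.2
  rw [hk] at hd
  obtain ⟨i, -, hi⟩ := (Nat.dvd_prime_pow hp.out).mp hd
  have hχ0 : 0 < Cfsg.charDegree χ := by
    rw [Nat.pos_iff_ne_zero, ← Nat.cast_ne_zero (R := ℂ),
      BlockB.charDegree_cast (Char.irr_isCharacter hχ)]
    exact Char.irr_apply_one_ne_zero hχ
  have hlt := (Nat.le_of_dvd hχ0 hdvd).trans_lt (hb ⟨χ, hχ⟩)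
  rw [← BlockB.charDegree_cast (Char.irr_isCharacter θ.2), hi]
  rcases i with - | i
  · simp
  · rw [hi] at hlt
    exact absurd hlt (not_lt.mpr (Nat.le_self_pow i.succ_ne_zero p))

end CfsgLib.Clifford.DegreeLt
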