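import Cfsg.Agent.Lib.Clifford.InvariantOver
import Cfsg.Agent.Lib.Char.Linear
import Mathlib.GroupTheory.Abelianization.Defs

/-!
# Invariant characters over invariant characters, solvable quotient

If `G ⧸ N` is abelian the linear characters permute the constituents over `θ` transitively, so
averaging the cocycle of the coprime operators gives an invariant one.
-/

set_option autoImplicit false

namespace CfsgLib.Clifford.InvariantSolvable

open CfsgLib CfsgLib.BlockA
open scoped ComplexConjugate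

universe u v

/-- The inner product of two characters containing a common constituent is not zero. -/
theorem classInner_ne_zero_of_common {G : Type u} [Group G] [Fintype G] {F F' θ : G → ℂ}
    (hF : Cfsg.IsCharacter G F) (hF' : Cfsg.IsCharacter G F') (hθ : Cfsg.IsIrrCharacter G θ)
    (h : Cfsg.classInner F θ ≠ 0) (h' : Cfsg.classInner θ F' ≠ 0) : Cfsg.classInner F F' ≠ 0 := by
  classical
  have := Fintype.ofFinite (Cfsg.IrrCharacter G)
  have hnat : ∀ η : Cfsg.IrrCharacter G, ∃ a b : ℕ, Cfsg.classInner F (η : G → ℂ) = a ∧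
      Cfsg.classInner (η : G → ℂ) F' = b := fun η => by
    obtain ⟨a, ha⟩ := Char.classInner_isCharacter_nat hF (Char.irr_isCharacter η.2)
    obtain ⟨b, hb⟩ := Char.classInner_isCharacter_nat (Char.irr_isCharacter η.2) hF'
    exact ⟨a, b, ha, hb⟩
  choose a b ha hb using hnat
  have e : Cfsg.classInner F F' = ((∑ η, a η * b η : ℕ) : ℂ) := by
    conv_lhs => rw [Char.classFunction_eq_sum (Char.isCharacter_isClassFunction hF)]
    rw [Char.classInner_sum_left, Nat.cast_sum]
    exact Finset.sum_congr rfl fun η _ => by rw [Char.classInner_smul_left, ha, hb, Nat.cast_mul]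
  rw [e, Nat.cast_ne_zero]
  intro h0
  have := (Finset.sum_eq_zero_iff.mp h0) ⟨θ, hθ⟩ (Finset.mem_univ _)
  rcases mul_eq_zero.mp this with h1 | h1
  · exact h (by rw [show θ = ((⟨θ, hθ⟩ : Cfsg.IrrCharacter G) : G → ℂ) from rfl, ha, h1,
      Nat.cast_zero])
  · exact h' (by rw [show θ = ((⟨θ, hθ⟩ : Cfsg.IrrCharacter G) : G → ℂ) from rfl, hb, h1,
      Nat.cast_zero])

/-- Constituents over one character differ by a linear character when the quotient is abelian. -/
theorem exists_eq_linear_mul {G : Type u} [Group G] [Fintype G] (M : Subgroup G) [Fintype M]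
    [M.Normal] (hM : commutator G ≤ M) {φ : M → ℂ} (hφ : Cfsg.IsIrrCharacter M φ) {X Y : G → ℂ}
    (hX : Cfsg.IsIrrCharacter G X) (hY : Cfsg.IsIrrCharacter G Y)
    (hXφ : Cfsg.classInner (fun m : M => X m) φ ≠ 0)
    (hYφ : Cfsg.classInner (fun m : M => Y m) φ ≠ 0) :
    ∃ l : G ⧸ M →* ℂˣ, Y = fun g : G => (l (g : G ⧸ M) : ℂ) * X g := by
  classical
  have := Fintype.ofFinite (G ⧸ M)
  have := Fintype.ofFinite (G ⧸ M →* ℂˣ)
  have hab : ∀ a b : G ⧸ M, a * b = b * a := by
    intro a b
    obtain ⟨x, rfl⟩ := QuotientGroup.mk_surjective a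
    obtain ⟨y, rfl⟩ := QuotientGroup.mk_surjective b
    rw [← QuotientGroup.mk_mul, ← QuotientGroup.mk_mul, QuotientGroup.eq]
    have hc : y⁻¹ * x⁻¹ * y⁻¹⁻¹ * x⁻¹⁻¹ ∈ M := hM (Subgroup.commutator_mem_commutator
      (Subgroup.mem_top _) (Subgroup.mem_top _))
    simpa [mul_assoc] using hc
  have hne : Cfsg.classInner (fun m : M => X m) (fun m : M => Y m) ≠ 0 :=
    classInner_ne_zero_of_common (Char.isCharacter_restrict (Char.irr_isCharacter hX) M)
      (Char.isCharacter_restrict (Char.irr_isCharacter hY) M) hφ hXφ (fun h => hYφ (by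
        rw [← Char.classInner_conj_symm, h, map_zero]))
  have hsum : ∀ g : G, ∑ l : G ⧸ M →* ℂˣ, (l (g : G ⧸ M) : ℂ) =
      if g ∈ M then (Fintype.card (G ⧸ M →* ℂˣ) : ℂ) else 0 := by
    intro g
    split_ifs with hg
    · simp [(QuotientGroup.eq_one_iff g).mpr hg]
    · obtain ⟨l₀, hl₀⟩ := Char.exists_linear_ne_one hab
        (fun h => hg ((QuotientGroup.eq_one_iff g).mp h))
      refine eq_zero_of_mul_eq_self_left (b := (l₀ (g : G ⧸ M) : ℂ))
        (fun h' => hl₀ (Units.ext h')) ?_
      rw [Finset.mul_sum]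
      exact Fintype.sum_equiv (Equiv.mulLeft l₀) _ _ fun l => by
        rw [← Units.val_mul]; rfl
  have hG : (Nat.card G : ℂ) ≠ 0 := Char.natCard_ne_zero
  by_contra hno
  push Not at hno
  have hz : ∀ l : G ⧸ M →* ℂˣ, Cfsg.classInner (fun g : G => (l (g : G ⧸ M) : ℂ) * X g) Y = 0 :=
    fun l => Char.irr_classInner_ne
      (Char.isIrrCharacter_mul_linear hX (l.comp (QuotientGroup.mk' M))) hY fun h => hno l h.symm
  have htot : ∑ l : G ⧸ M →* ℂˣ, ∑ g : G, (l (g : G ⧸ M) : ℂ) * X g * conj (Y g) = 0 := by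
    refine Finset.sum_eq_zero fun l _ => ?_
    have := hz l
    rw [Char.classInner_def, mul_eq_zero, or_iff_right (inv_ne_zero hG)] at this
    exact this
  rw [Finset.sum_comm] at htot
  simp only [← Finset.sum_mul, hsum, ite_mul, zero_mul] at htot
  rw [← Finset.sum_filter] at htot
  apply hne
  rw [Char.classInner_def]
  have h2 : ∑ m : M, X m * conj (Y m) = 0 := by
    have h3 : (Fintype.card (G ⧸ M →* ℂˣ) : ℂ) * ∑ m : M, X m * conj (Y m) = 0 := by
      rw [Finset.mul_sum, ← htot, ← Finset.sum_subtype (Finset.univ.filter fun g => g ∈ M)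
        (fun g => by simp) (fun g => (Fintype.card (G ⧸ M →* ℂˣ) : ℂ) * (X g * conj (Y g)))]
      exact Finset.sum_congr rfl fun g _ => (mul_assoc _ _ _).symm
    exact (mul_eq_zero.mp h3).resolve_left (Nat.cast_ne_zero.mpr Fintype.card_ne_zero)
  rw [h2, mul_zero]

/-- The abelian step. -/
theorem exists_invariant_step {G : Type u} {S : Type v} [Group G] [Group S] [Fintype G] [Finite S]
    [MulDistribMulAction S G] (M : Subgroup G) [Fintype M] [M.Normal] (hM : commutator G ≤ M)
    (hMS : ∀ (s : S), ∀ g ∈ M, s • g ∈ M) (hcop : M.index.Coprime (Nat.card S))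
    {φ : M → ℂ} (hφ : Cfsg.IsIrrCharacter M φ)
    (hinv : ∀ (s : S) (g g' : M), (g' : G) = s • (g : G) → φ g' = φ g) :
    ∃ χ : Cfsg.IrrCharacter G, IsInv S (χ : G → ℂ) ∧
      Cfsg.classInner (fun m : M => (χ : G → ℂ) m) φ ≠ 0 := by
  classical
  have := Fintype.ofFinite S
  obtain ⟨X, hX, hXφ⟩ := Degrees.exists_over M hφ
  -- the operators on `G ⧸ M`
  let τ : S → (G ⧸ M →* G ⧸ M) := fun s =>
    QuotientGroup.map M M (MulDistribMulAction.toMonoidHom G s) fun g hg => hMS s g hg
  have hτ : ∀ (s : S) (g : G), τ s (g : G ⧸ M) = ((s • g : G) : G ⧸ M) := fun s g => rfl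
  let act : S → (G ⧸ M →* ℂˣ) →* (G ⧸ M →* ℂˣ) := fun s => MonoidHom.compHom' (τ s)
  have hact : ∀ (s : S) (l : G ⧸ M →* ℂˣ) (g : G),
      act s l (g : G ⧸ M) = l ((s • g : G) : G ⧸ M) := fun s l g => rfl
  have htw : ∀ s : S, ∃ l : G ⧸ M →* ℂˣ, ∀ g, X (s • g) = (l (g : G ⧸ M) : ℂ) * X g := by
    intro s
    have hXs : Cfsg.IsIrrCharacter G fun g => X (s • g) :=
      Char.isIrrCharacter_comp_surjective hX (MulDistribMulAction.toMonoidHom G s)
        (MulAction.surjective s)
    obtain ⟨l, hl⟩ := exists_eq_linear_mul M hM hφ hX hXs hXφ (by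
      intro h0
      apply hXφ
      rw [← h0, Char.classInner_def, Char.classInner_def]
      congr 1
      refine (Fintype.sum_bijective (fun m : M => (⟨s • (m : G), hMS s m m.2⟩ : M))
        ((Finite.injective_iff_bijective).mp fun a b h =>
          Subtype.ext (MulAction.injective s (congrArg Subtype.val h :))) _ _ fun m => ?_).symm
      rw [hinv s m ⟨s • (m : G), hMS s m m.2⟩ rfl])
    exact ⟨l, congr_fun hl⟩
  choose lam hlam using htw
  let B : Subgroup (G ⧸ M →* ℂˣ) :=
    { carrier := {l | ∀ g : G, (l (g : G ⧸ M) : ℂ) * X g = X g}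
      one_mem' := fun g => by simp
      mul_mem' := fun {a b} ha hb g => by
        rw [MonoidHom.mul_apply, Units.val_mul, mul_assoc, hb g, ha g]
      inv_mem' := fun {a} ha g => by
        rw [MonoidHom.inv_apply]
        conv_lhs => rw [← ha g]
        rw [← mul_assoc, Units.inv_mul, one_mul] }
  haveI : B.Normal := ⟨fun l hl g => by
    rwa [show g * l * g⁻¹ = l from MonoidHom.ext fun x => by simp]⟩
  let mkB := QuotientGroup.mk' B
  have hmk : ∀ a b : G ⧸ M →* ℂˣ,
      (∀ g : G, (a (g : G ⧸ M) : ℂ) * X g = (b (g : G ⧸ M) : ℂ) * X g) → mkB a = mkB b := by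
    intro a b h
    refine (QuotientGroup.mk'_eq_mk' B).mpr ⟨a⁻¹ * b, fun g => ?_, mul_inv_cancel_left a b⟩
    rw [MonoidHom.mul_apply, MonoidHom.inv_apply, Units.val_mul, mul_assoc, ← h g, ← mul_assoc,
      Units.inv_mul, one_mul]
  have hcoc : ∀ s t : S, mkB (lam (s * t)) = mkB (act t (lam s) * lam t) := by
    refine fun s t => hmk _ _ fun g => ?_
    rw [← hlam, mul_smul, hlam, hlam, MonoidHom.mul_apply, Units.val_mul, hact, mul_assoc]
  set D := ∏ s : S, lam s with hD
  set n := Fintype.card S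
  have hprod : ∀ t : S, mkB D = mkB (act t D) * mkB (lam t) ^ n := by
    intro t
    rw [hD, map_prod (act t), map_prod mkB, map_prod mkB]
    conv_lhs => rw [← Equiv.prod_comp (Equiv.mulRight t)]
    simp only [Equiv.coe_mulRight, hcoc, map_mul]
    rw [Finset.prod_mul_distrib, Finset.prod_const, Finset.card_univ]
  set k := M.index with hk
  have hpow : ∀ l : G ⧸ M →* ℂˣ, l ^ k = 1 := by
    intro l
    refine MonoidHom.ext fun x => ?_
    rw [MonoidHom.pow_apply, ← map_pow, hk, Subgroup.index_eq_card, pow_card_eq_one', map_one]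
    rfl
  set a := Nat.gcdA n k with ha
  have hroot : ∀ t : S, (mkB (lam t) ^ n) ^ a = mkB (lam t) := by
    intro t
    have hg : (1 : ℤ) = n * a + k * Nat.gcdB n k := by
      rw [← Nat.gcd_eq_gcd_ab]
      have : Nat.Coprime n k := by
        rw [show n = Nat.card S from Nat.card_eq_fintype_card.symm]
        exact hcop.symm
      rw [this.gcd_eq_one, Nat.cast_one]
    conv_rhs => rw [← zpow_one (mkB (lam t)), hg, zpow_add, zpow_mul, zpow_mul, zpow_natCast,
      zpow_natCast, ← map_pow mkB, ← map_pow mkB, hpow, map_one, one_zpow, mul_one, map_pow]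
  set E := D ^ a with hE
  have hkey : ∀ t : S, mkB E = mkB (act t E * lam t) := by
    intro t
    rw [map_mul, hE, map_zpow (act t), map_zpow mkB, map_zpow mkB, hprod t, mul_zpow, hroot]
  refine ⟨⟨fun g => (E (g : G ⧸ M) : ℂ) * X g,
    Char.isIrrCharacter_mul_linear hX (E.comp (QuotientGroup.mk' M))⟩, fun t g => ?_, ?_⟩
  · show (E ((t • g : G) : G ⧸ M) : ℂ) * X (t • g) = (E (g : G ⧸ M) : ℂ) * X g
    rw [hlam, ← mul_assoc, ← Units.val_mul, ← hact, ← MonoidHom.mul_apply]
    obtain ⟨z, hb, he⟩ := (QuotientGroup.mk'_eq_mk' B).mp (hkey t)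
    rw [← he, MonoidHom.mul_apply, Units.val_mul, mul_assoc, hb g]
  · intro h0
    apply hXφ
    rw [← h0, Char.classInner_def, Char.classInner_def]
    congr 1
    refine Finset.sum_congr rfl fun m _ => ?_
    simp [(QuotientGroup.eq_one_iff (m : G)).mpr m.2]

/-- Solvable quotient and coprime operators. -/
theorem exists_invariant : ∀ (n : ℕ) (G : Type u) (S : Type v) [Group G] [Group S] [Fintype G]
    [Finite S] [MulDistribMulAction S G], Nat.card G = n →
    ∀ (N : Subgroup G) [Fintype N] [N.Normal], Group.IsSolvable (G ⧸ N) →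
    N.index.Coprime (Nat.card S) → (∀ (s : S), ∀ g ∈ N, s • g ∈ N) →
    ∀ θ : Cfsg.IrrCharacter N,
      (∀ (s : S) (g g' : N), (g' : G) = s • (g : G) → (θ : N → ℂ) g' = (θ : N → ℂ) g) →
    ∃ χ : Cfsg.IrrCharacter G, IsInv S (χ : G → ℂ) ∧
      Cfsg.classInner (fun g : N => (χ : G → ℂ) g) (θ : N → ℂ) ≠ 0 := by
  intro n
  induction n using Nat.strong_induction_on with
  | _ n ih =>
    intro G S _ _ _ _ _ hn N _ _ hsolv hcop hNS θ hθ
    classical
    by_cases hN : N = ⊤
    · subst hN
      refine ⟨⟨fun g => (θ : (⊤ : Subgroup G) → ℂ) ⟨g, Subgroup.mem_top g⟩,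
        Char.isIrrCharacter_comp_surjective θ.2 (Subgroup.topEquiv (G := G)).symm.toMonoidHom
          (Subgroup.topEquiv (G := G)).symm.surjective⟩, fun s g => hθ s ⟨g, trivial⟩ ⟨s • g, trivial⟩ rfl, ?_⟩
      have e := Char.irr_classInner_self θ.2
      intro h0
      exact one_ne_zero (e.symm.trans h0)
    set M := commutator G ⊔ N with hM
    have hMS : ∀ (s : S), ∀ g ∈ M, s • g ∈ M := by
      intro s
      have : M ≤ M.comap (MulDistribMulAction.toMonoidHom G s) := by
        refine sup_le ?_ fun g hg => Subgroup.mem_sup_right (hNS s g hg)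
        rw [← Subgroup.map_le_iff_le_comap, _root_.commutator_def, Subgroup.map_commutator]
        exact (Subgroup.commutator_mono le_top le_top).trans le_sup_left
      exact this
    have hMtop : M ≠ ⊤ := by
      intro htop
      have : Nontrivial (G ⧸ N) := QuotientGroup.nontrivial_iff.mpr hN
      apply (Group.IsSolvable.commutator_lt_top_of_nontrivial (G ⧸ N)).ne
      have h1 : M.map (QuotientGroup.mk' N) = ⊤ := by
        rw [htop, Subgroup.map_top_of_surjective _ (QuotientGroup.mk'_surjective N)]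
      rw [hM, Subgroup.map_sup, QuotientGroup.map_mk'_self, sup_bot_eq, _root_.commutator_def,
        Subgroup.map_commutator, Subgroup.map_top_of_surjective _ (QuotientGroup.mk'_surjective N)]
        at h1
      rw [_root_.commutator_def, h1]
    have hlt : Nat.card M < n := hn ▸ lt_of_le_of_ne M.card_le_card_group
      fun h => hMtop (Subgroup.eq_top_of_card_eq M h)
    letI : MulDistribMulAction S M :=
      { smul := fun s g => ⟨s • (g : G), hMS s g g.2⟩
        one_smul := fun g => Subtype.ext (one_smul S (g : G))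
        mul_smul := fun a b g => Subtype.ext (mul_smul a b (g : G))
        smul_mul := fun s a b => Subtype.ext (smul_mul' s (a : G) (b : G))
        smul_one := fun s => Subtype.ext (smul_one s) }
    have hNM : N ≤ M := le_sup_right
    let N' := N.subgroupOf M
    let e : N' ≃* N := Subgroup.subgroupOfEquivOfLe hNM
    have := Fintype.ofFinite N'
    have := Fintype.ofFinite M
    let θ₀ : Cfsg.IrrCharacter N' :=
      ⟨fun x => (θ : N → ℂ) (e x),
        Char.isIrrCharacter_comp_surjective θ.2 e.toMonoidHom e.surjective⟩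
    have hsolv' : Group.IsSolvable (M ⧸ N') := by
      haveI := hsolv
      refine Group.isSolvable_of_isSolvable_injective (f := QuotientGroup.map N' N M.subtype le_rfl) ?_
      rw [← MonoidHom.ker_eq_bot_iff, eq_bot_iff]
      rintro ⟨x⟩ hx
      exact (QuotientGroup.eq_one_iff x).mpr (Subgroup.mem_subgroupOf.mpr
        ((QuotientGroup.eq_one_iff (x : G)).mp hx))
    obtain ⟨φ, hφinv, hφθ⟩ := ih _ hlt M S rfl N' hsolv'
      (hcop.coprime_dvd_left (Subgroup.relIndex_dvd_index_of_le hNM)) (fun s g hg =>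
        Subgroup.mem_subgroupOf.mpr (hNS s g (Subgroup.mem_subgroupOf.mp hg)))
      θ₀ (fun s g g' h => hθ s (e g) (e g') (congrArg Subtype.val h :))
    obtain ⟨χ, hχ, hχφ⟩ := exists_invariant_step M le_sup_left hMS
      (hcop.coprime_dvd_left (Subgroup.index_dvd_of_le hNM)) φ.2 (fun s g g' h => by
        rw [show g' = s • g from Subtype.ext h]; exact hφinv s g)
    refine ⟨χ, hχ, fun h0 => ?_⟩
    -- `θ` is a constituent of `φ`, and `φ` of `χ`
    have hres := Char.isCharacter_restrict (Char.irr_isCharacter χ.2) M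
    obtain ⟨R, hR, hsum⟩ := exists_add_of_constituent hres φ.2 hχφ
    have hc : (fun g : N => (χ : G → ℂ) g) =
        (fun g : N => (φ : M → ℂ) ⟨g, hNM g.2⟩) + fun g : N => R ⟨g, hNM g.2⟩ := by
      funext g
      exact congr_fun hsum ⟨g, hNM g.2⟩
    rw [hc, Char.classInner_add_left] at h0
    obtain ⟨i, hi⟩ := Char.classInner_isCharacter_nat
      (Char.isCharacter_comp (Char.irr_isCharacter φ.2) (Subgroup.inclusion hNM))
      (Char.irr_isCharacter θ.2)
    obtain ⟨j, hj⟩ := Char.classInner_isCharacter_nat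
      (Char.isCharacter_comp hR (Subgroup.inclusion hNM)) (Char.irr_isCharacter θ.2)
    change Cfsg.classInner (fun g : N => (φ : M → ℂ) ⟨g, hNM g.2⟩) (θ : N → ℂ) = i at hi
    change Cfsg.classInner (fun g : N => R ⟨g, hNM g.2⟩) (θ : N → ℂ) = j at hj
    rw [hi, hj] at h0
    apply hφθ
    have : i = 0 := by
      have h1 : i + j = 0 := by exact_mod_cast h0
      omega
    rw [← Nat.cast_zero, ← this, ← hi, Char.classInner_def, Char.classInner_def,
      Nat.card_congr e.toEquiv]
    congr 1
    exact Fintype.sum_equiv e.toEquiv _ _ fun x => rfl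

end CfsgLib.Clifford.InvariantSolvable
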