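import Cfsg.Agent.Lib.Clifford.InvariantOver
import Cfsg.Agent.Lib.Clifford.InvariantSolvable
import Cfsg.Agent.Lib.Char.Monomial
import Mathlib.GroupTheory.SchurZassenhaus
import Mathlib.GroupTheory.Transfer
import Mathlib.RingTheory.RootsOfUnity.Complex

/-!
# Invariant characters over a central character with coprime indices

The part of the central character whose order is prime to `[P : Z]` extends by the transfer; the
rest reduces to coprime action of a complement.
-/

set_option autoImplicit false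

namespace CfsgLib.Clifford.InvariantCentral

open CfsgLib CfsgLib.BlockA
open scoped ComplexConjugate

universe u

/-- A central element acts on an irreducible character as on the constituent below it. -/
theorem apply_mul_of_central {G : Type u} [Group G] [Fintype G] (Z : Subgroup G) [Fintype Z]
    (hZ : Z ≤ Subgroup.center G) (lam : Z →* ℂˣ) {χ : G → ℂ} (hχ : Cfsg.IsIrrCharacter G χ)
    (h : Cfsg.classInner (fun z : Z => χ z) (fun z : Z => (lam z : ℂ)) ≠ 0) (g : G) (z : Z) :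
    χ (g * z) = (lam z : ℂ) * χ g := by
  obtain ⟨n, ρ, hρ, rfl⟩ := hχ
  obtain ⟨c, hc⟩ := CfsgLib.Char.exists_scalar_of_commute ρ (ρ z) fun x => by
    rw [← Module.End.mul_eq_comp, ← Module.End.mul_eq_comp, ← map_mul, ← map_mul,
      Subgroup.mem_center_iff.mp (hZ z.2) x]
  have hv : ∀ x : G, ρ.character (x * z) = c * ρ.character x := fun x => by
    rw [Representation.character, Representation.character, map_mul, hc]
    simp [Module.End.mul_eq_comp, LinearMap.comp_smul]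
  have hcz : c = (lam z : ℂ) := by
    set S := Cfsg.classInner (fun z : Z => ρ.character z) (fun z : Z => (lam z : ℂ)) with hS
    have e : S = c * conj (lam z : ℂ) * S := by
      conv_lhs => rw [hS, Char.classInner_def, ← Equiv.sum_comp (Equiv.mulRight z)]
      rw [hS, Char.classInner_def]
      rw [mul_left_comm (c * conj (lam z : ℂ)), Finset.mul_sum (a := c * conj (lam z : ℂ))]
      congr 1
      refine Finset.sum_congr rfl fun y _ => ?_
      simp only [Equiv.coe_mulRight, Subgroup.coe_mul, hv, map_mul, Units.val_mul]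
      ring
    have h1 : c * conj (lam z : ℂ) = 1 := by
      have := mul_right_cancel₀ h ((one_mul S).trans e)
      exact this.symm
    have hnorm : ‖(lam z : ℂ)‖ = 1 := CfsgLib.Char.norm_eigen_eq_one (orderOf_pos z) (by
      rw [← Units.val_pow_eq_pow_val, ← map_pow, pow_orderOf_eq_one, map_one, Units.val_one])
    have h2 : conj (lam z : ℂ) * (lam z : ℂ) = 1 := by
      rw [mul_comm, Complex.mul_conj', hnorm]; norm_num
    calc c = c * (conj (lam z : ℂ) * (lam z : ℂ)) := by rw [h2, mul_one]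
      _ = (lam z : ℂ) := by rw [← mul_assoc, h1, one_mul]
  rw [hv, hcz]

theorem exists_invariant_central {E : Type u} [Group E] [Finite E] (P Z : Subgroup E) [P.Normal]
    (hZP : Z ≤ P) (hZc : Z ≤ Subgroup.center E) (hcop : P.index.Coprime (Z.relIndex P))
    (hsolv : Group.IsSolvable (E ⧸ P) ∨ Group.IsSolvable P) (μ : Z →* ℂˣ) :
    ∃ β : Cfsg.IrrCharacter P,
      (∀ (x : E) (p p' : P), (p' : E) = x * p * x⁻¹ → (β : P → ℂ) p' = (β : P → ℂ) p) ∧
      ∀ (p : P) (z : Z), (β : P → ℂ) (p * ⟨(z : E), hZP z.2⟩) = (μ z : ℂ) * (β : P → ℂ) p := by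
  classical
  set i := P.index
  set m := Z.relIndex P with hm
  set c := Nat.card Z
  have hc0 : c ≠ 0 := Nat.card_pos.ne'
  -- the largest divisor of `|Z|` prime to the index
  obtain ⟨a, ⟨hac, hai⟩, hamax⟩ := Set.Finite.exists_maximal (s := {a : ℕ | a ∣ c ∧ a.Coprime i})
    (((Set.finite_Iic c)).subset fun a ha => Nat.le_of_dvd (Nat.pos_of_ne_zero hc0) ha.1)
    ⟨1, one_dvd c, Nat.coprime_one_left i⟩
  obtain ⟨b, hb⟩ := hac
  have hbm : m.Coprime b := by
    refine Nat.coprime_of_dvd fun q hq hqm hqb => ?_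
    have hqi : q.Coprime i := (hcop.symm).coprime_dvd_left hqm
    have ha0 : 0 < a := Nat.pos_of_ne_zero fun h => hc0 (by rw [hb, h, zero_mul])
    have := hamax (y := a * q) ⟨by rw [hb]; exact mul_dvd_mul_left a hqb,
      Nat.Coprime.mul_left hai hqi⟩ (Nat.le_mul_of_pos_right a hq.pos)
    nlinarith [hq.two_le]
  set t := Nat.gcdA m b
  have ht : (1 : ℤ) = m * t + b * Nat.gcdB m b := by
    rw [← Nat.gcd_eq_gcd_ab, hbm.gcd_eq_one, Nat.cast_one]
  -- the transfer part
  let Z' := Z.subgroupOf P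
  let μ' : Z' →* ℂˣ := μ.comp (Subgroup.subgroupOfEquivOfLe hZP).toMonoidHom
  have key : ∀ (p : P) (k : ℕ) (g₀ : P), g₀⁻¹ * p ^ k * g₀ ∈ Z' →
      g₀⁻¹ * p ^ k * g₀ = p ^ k := by
    intro p k g₀ hk
    have hcen := Subgroup.mem_center_iff.mp (hZc (Subgroup.mem_subgroupOf.mp hk)) (g₀ : E)
    refine Subtype.ext ?_
    simp only [Subgroup.coe_mul, InvMemClass.coe_inv] at hcen ⊢
    calc (g₀ : E)⁻¹ * (p ^ k : P) * g₀
        = ((g₀ : E)⁻¹ * (p ^ k : P) * g₀ * g₀) * (g₀ : E)⁻¹ := by group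
      _ = (g₀ * ((g₀ : E)⁻¹ * (p ^ k : P) * g₀)) * (g₀ : E)⁻¹ := by rw [hcen]
      _ = _ := by group
  let L : P →* ℂˣ := (zpowGroupHom t).comp (MonoidHom.transfer μ')
  have hmem : ∀ p : P, ((p : E) ^ m) ∈ Z := fun p => by
    have := MonoidHom.transfer_eq_pow_aux p (key p)
    simpa [Z', Subgroup.mem_subgroupOf, hm, Subgroup.relIndex] using this
  have hL : ∀ p : P, L p = μ ⟨(p : E) ^ m, hmem p⟩ ^ t := fun p => by
    show MonoidHom.transfer μ' p ^ t = _
    rw [MonoidHom.transfer_eq_pow μ' p (key p)]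
    rfl
  have hLinv : ∀ (x : E) (p p' : P), (p' : E) = x * p * x⁻¹ → L p' = L p := by
    intro x p p' h
    rw [hL, hL]
    congr 2
    refine Subtype.ext ?_
    show (p' : E) ^ m = (p : E) ^ m
    rw [h, conj_pow]
    rw [Subgroup.mem_center_iff.mp (hZc (hmem p)) x, mul_inv_cancel_right]
  -- the remaining part
  let μ₁ : Z →* ℂˣ := μ * (L.comp (Subgroup.inclusion hZP))⁻¹
  have hμ₁ : ∀ z, μ z = L ⟨(z : E), hZP z.2⟩ * μ₁ z := fun z => by
    show μ z = L ⟨(z : E), hZP z.2⟩ * (μ z * (L ⟨(z : E), hZP z.2⟩)⁻¹)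
    rw [mul_comm (μ z), mul_inv_cancel_left]
  have hμ₁a : ∀ z, μ₁ z ^ a = 1 := by
    intro z
    have h1 : μ₁ z = μ z ^ (1 - (m : ℤ) * t) := by
      rw [zpow_sub, zpow_one, zpow_mul, zpow_natCast, ← map_pow]
      show μ z * (L ⟨(z : E), hZP z.2⟩)⁻¹ = _
      rw [hL]
      rfl
    rw [h1, show (1 : ℤ) - m * t = b * Nat.gcdB m b by rw [ht]; ring, ← zpow_natCast, ← zpow_mul,
      show (b : ℤ) * Nat.gcdB m b * a = ((a * b : ℕ) : ℤ) * Nat.gcdB m b by push_cast; ring,
      ← hb, zpow_mul, zpow_natCast, ← map_pow, pow_card_eq_one', map_one, one_zpow]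
  let K : Subgroup E := μ₁.ker.map Z.subtype
  have hKZ : K ≤ Z := Subgroup.map_subtype_le _
  haveI : K.Normal := ⟨fun k hk g => by
    rw [Subgroup.mem_center_iff.mp (hZc (hKZ hk)) g, mul_inv_cancel_right]; exact hk⟩
  let mk := QuotientGroup.mk' K
  let P₁ := P.map mk
  haveI : P₁.Normal := Subgroup.Normal.map inferInstance _ (QuotientGroup.mk'_surjective K)
  have hidx : P₁.index = i := Subgroup.index_map_eq _ (QuotientGroup.mk'_surjective K)
    (by rw [QuotientGroup.ker_mk']; exact hKZ.trans hZP)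
  have hcard : (Nat.card P₁).Coprime i := by
    have e1 : Nat.card P₁ = K.relIndex P := by
      have := Subgroup.relIndex_comap (f := mk) ⊥ P
      rw [MonoidHom.comap_bot, QuotientGroup.ker_mk', Subgroup.relIndex_bot_left] at this
      exact this.symm
    rw [e1, ← Subgroup.relIndex_mul_relIndex K Z P hKZ hZP]
    refine Nat.Coprime.mul_left ?_ hcop.symm
    refine Nat.Coprime.coprime_dvd_left ?_ hai
    have e2 : K.relIndex Z = μ₁.ker.index := by
      rw [Subgroup.relIndex, Subgroup.subgroupOf, Subgroup.comap_map_eq_self_of_injective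
        Z.subtype_injective]
    have ha0 : NeZero a := ⟨fun h => hc0 (by rw [hb, h, zero_mul])⟩
    rw [e2, Subgroup.index_ker, ← Complex.card_rootsOfUnity a]
    exact Subgroup.card_dvd_of_le (by
      rintro _ ⟨z, rfl⟩
      exact (mem_rootsOfUnity a _).mpr (hμ₁a z))
  obtain ⟨S, hS⟩ := Subgroup.exists_right_complement'_of_coprime (N := P₁) (hidx ▸ hcard)
  have hScard : Nat.card S = i := by rw [← hS.symm.index_eq_card]; exact hidx
  let f : Z →* P₁ := (mk.comp Z.subtype).codRestrict P₁ fun z => ⟨z, hZP z.2, rfl⟩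
  have hfker : ∀ z, f z = 1 → μ₁ z = 1 := by
    intro z h
    have h1 : (z : E) ∈ K := (QuotientGroup.eq_one_iff _).mp (congrArg Subtype.val h :)
    obtain ⟨y, hy, he⟩ := h1
    rwa [← Subtype.ext (a1 := y) (a2 := z) he]
  let θ₁ : f.range →* ℂˣ := MonoidHom.liftOfSurjective f.rangeRestrict f.rangeRestrict_surjective
    ⟨μ₁, fun z hz => hfker z (congrArg Subtype.val hz :)⟩
  have hθ₁ : ∀ z, θ₁ (f.rangeRestrict z) = μ₁ z := fun z =>
    MonoidHom.liftOfRightInverse_comp_apply _ _ _ _ z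
  have hfc : f.range ≤ Subgroup.center P₁ := by
    rintro _ ⟨z, rfl⟩
    refine Subgroup.mem_center_iff.mpr fun ⟨p, e, he, hp⟩ => Subtype.ext ?_
    subst hp
    show mk e * mk z = mk z * mk e
    rw [← map_mul, ← map_mul, Subgroup.mem_center_iff.mp (hZc z.2) e]
  haveI : f.range.Normal := ⟨fun k hk g => by
    rw [Subgroup.mem_center_iff.mp (hfc hk) g, mul_inv_cancel_right]; exact hk⟩
  letI : MulDistribMulAction S P₁ :=
    { smul := fun s g => ⟨(s : E ⧸ K) * g * (s : E ⧸ K)⁻¹, ‹P₁.Normal›.conj_mem g g.2 s⟩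
      one_smul := fun g => Subtype.ext (show ((1 : S) : E ⧸ K) * g * ((1 : S) : E ⧸ K)⁻¹ = g by simp)
      mul_smul := fun a b g => Subtype.ext (show ((a * b : S) : E ⧸ K) * g *
        ((a * b : S) : E ⧸ K)⁻¹ = (a : E ⧸ K) * ((b : E ⧸ K) * g * (b : E ⧸ K)⁻¹) *
          (a : E ⧸ K)⁻¹ by simp [mul_assoc])
      smul_one := fun a => Subtype.ext (show (a : E ⧸ K) * ((1 : P₁) : E ⧸ K) * (a : E ⧸ K)⁻¹ = 1 by
        simp)
      smul_mul := fun a g h => Subtype.ext (show (a : E ⧸ K) * ((g * h : P₁) : E ⧸ K) *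
        (a : E ⧸ K)⁻¹ = ((a : E ⧸ K) * g * (a : E ⧸ K)⁻¹) * ((a : E ⧸ K) * h * (a : E ⧸ K)⁻¹) by
          simp [mul_assoc]) }
  have hfix : ∀ (s : S), ∀ g ∈ f.range, s • g = g := by
    rintro s _ ⟨z, rfl⟩
    refine Subtype.ext ?_
    show (s : E ⧸ K) * mk z * (s : E ⧸ K)⁻¹ = mk z
    obtain ⟨e, he⟩ := QuotientGroup.mk'_surjective K (s : E ⧸ K)
    rw [← he, ← map_inv, ← map_mul, ← map_mul, Subgroup.mem_center_iff.mp (hZc z.2) e,
      mul_inv_cancel_right]
  have := Fintype.ofFinite P₁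
  have := Fintype.ofFinite f.range
  let θI : Cfsg.IrrCharacter f.range := ⟨_, Char.isIrrCharacter_linear θ₁⟩
  have hcop' : (Nat.card P₁).Coprime (Nat.card S) := hScard ▸ hcard
  obtain ⟨χ, hχ, hne⟩ : ∃ χ : Cfsg.IrrCharacter P₁, IsInv S (χ : P₁ → ℂ) ∧
      Cfsg.classInner (fun g : f.range => (χ : P₁ → ℂ) g) (θI : f.range → ℂ) ≠ 0 := by
    have hθinv : ∀ (s : S) (g g' : f.range), (g' : P₁) = s • (g : P₁) →
        (θI : f.range → ℂ) g' = (θI : f.range → ℂ) g := fun s g g' h => by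
      rw [hfix s _ g.2] at h
      rw [Subtype.ext h]
    rcases hsolv with hs | hs
    · haveI := hs
      have hS' : Group.IsSolvable S := by
        let g : E ⧸ K →* E ⧸ P := QuotientGroup.map K P (MonoidHom.id E) (hKZ.trans hZP)
        refine Group.isSolvable_of_isSolvable_injective (f := g.comp S.subtype) ?_
        rw [← MonoidHom.ker_eq_bot_iff, eq_bot_iff]
        intro s hs
        obtain ⟨e, he⟩ := QuotientGroup.mk'_surjective K (s : E ⧸ K)
        have h1 : g (s : E ⧸ K) = 1 := hs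
        rw [← he] at h1
        have h2 : (s : E ⧸ K) ∈ P₁ ⊓ S := ⟨⟨e, (QuotientGroup.eq_one_iff e).mp h1, he⟩, s.2⟩
        rw [hS.disjoint.eq_bot] at h2
        exact Subtype.ext h2
      exact InvariantOver.exists_invariant _ P₁ S rfl hS' hcop' f.range
        (fun s g hg => by rw [hfix s g hg]; exact hg) θI hθinv
    · haveI := hs
      haveI : Group.IsSolvable P₁ :=
        Group.isSolvable_of_surjective (f := mk.subgroupMap P) (mk.subgroupMap_surjective P)
      exact InvariantSolvable.exists_invariant _ P₁ S rfl f.range inferInstance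
        (hcop'.coprime_dvd_left f.range.index_dvd_card)
        (fun s g hg => by rw [hfix s g hg]; exact hg) θI hθinv
  have := Fintype.ofFinite P
  let π₁ : P →* P₁ := mk.subgroupMap P
  refine ⟨⟨fun p => (L p : ℂ) * (χ : P₁ → ℂ) (π₁ p), Char.isIrrCharacter_mul_linear
    (Char.isIrrCharacter_comp_surjective χ.2 π₁ (mk.subgroupMap_surjective P)) L⟩,
    fun x p p' h => ?_, fun p z => ?_⟩
  · show (L p' : ℂ) * (χ : P₁ → ℂ) (π₁ p') = (L p : ℂ) * (χ : P₁ → ℂ) (π₁ p)
    rw [hLinv x p p' h]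
    congr 1
    obtain ⟨⟨q, hq⟩, ⟨s, hs⟩, hqs⟩ : ∃ q : P₁, ∃ s : S, (q : E ⧸ K) * s = mk x := by
      have := hS.sup_eq_top
      have hx : mk x ∈ P₁ ⊔ S := this ▸ Subgroup.mem_top _
      obtain ⟨q, hq, s, hs, e⟩ := Subgroup.mem_sup_of_normal_left.mp hx
      exact ⟨⟨q, hq⟩, ⟨s, hs⟩, e⟩
    have e : π₁ p' = ⟨q, hq⟩ * ((⟨s, hs⟩ : S) • π₁ p) * (⟨q, hq⟩ : P₁)⁻¹ := by
      refine Subtype.ext ?_
      show mk (p' : E) = q * (s * mk (p : E) * s⁻¹) * q⁻¹
      rw [h, map_mul, map_mul, map_inv, ← hqs]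
      group
    rw [e, Char.irr_isClassFunction χ.2, hχ]
  · show (L (p * _) : ℂ) * (χ : P₁ → ℂ) (π₁ (p * _)) = _ * ((L p : ℂ) * (χ : P₁ → ℂ) (π₁ p))
    rw [map_mul, map_mul, Units.val_mul, show π₁ ⟨(z : E), hZP z.2⟩ =
      ((f.rangeRestrict z : f.range) : P₁) from Subtype.ext rfl,
      apply_mul_of_central f.range hfc θ₁ χ.2 hne, hθ₁, hμ₁ z, Units.val_mul]
    ring

end CfsgLib.Clifford.InvariantCentral
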