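import Cfsg.Agent.Lib.Clifford.Degrees
import Cfsg.Agent.Lib.BlockA.GlaubermanSolvable

/-!
# Invariant characters over invariant characters

A solvable group acting coprimely fixes a constituent over every fixed irreducible character of an
invariant normal subgroup: descend along the Glauberman correspondence of a normal `p`-subgroup.
-/

set_option autoImplicit false

namespace CfsgLib.Clifford.InvariantOver

open CfsgLib CfsgLib.BlockA
open scoped ComplexConjugate

universe u v

/-- The multiplicity of a constituent of a restriction divides the degree. -/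
theorem multiplicity_dvd_degree {G : Type u} [Group G] [Fintype G] (N : Subgroup G) [Fintype N]
    [N.Normal] {θ χ : _} (hθ : Cfsg.IsIrrCharacter N θ) (hχ : Cfsg.IsIrrCharacter G χ) {e : ℕ}
    (he : Cfsg.classInner (fun n : N => χ n) θ = (e : ℂ)) (h0 : e ≠ 0) :
    e ∣ Cfsg.charDegree χ := by
  classical
  have h : Cfsg.classInner (fun n : N => χ n) θ ≠ 0 := by rw [he]; exact_mod_cast h0
  have hT : ∀ g, g ∈ inertia θ ↔ conjFn g θ = θ := fun g => mem_inertia_iff_conjFn
  have hNT : N ≤ inertia θ := le_inertia (Char.irr_isClassFunction hθ)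
  obtain ⟨ψ, hψ, rfl, hm⟩ := exists_indFun_inertia (inertia θ) hNT hθ hT hχ h
  have h1 := restrict_eq_smul_inertia (inertia θ) hNT hθ hT hψ (by rw [hm]; exact h)
  rw [hm, he] at h1
  have h2 : ψ 1 = (e : ℂ) * θ 1 := congr_fun h1 1
  refine ⟨(inertia θ).index * Cfsg.charDegree θ, ?_⟩
  have hc : (Cfsg.charDegree (Cfsg.indFun (inertia θ) ψ) : ℂ) =
      ((e * ((inertia θ).index * Cfsg.charDegree θ) : ℕ) : ℂ) := by
    rw [BlockB.charDegree_cast (Char.irr_isCharacter hχ), Char.indFun_apply_one, h2, Nat.cast_mul,
      Nat.cast_mul, BlockB.charDegree_cast (Char.irr_isCharacter hθ)]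
    ring
  exact_mod_cast hc

theorem exists_invariant : ∀ (n : ℕ) (G : Type u) (S : Type v) [Group G] [Group S] [Fintype G]
    [Finite S] [MulDistribMulAction S G], Nat.card S = n → Group.IsSolvable S →
    (Nat.card G).Coprime (Nat.card S) →
    ∀ (N : Subgroup G) [Fintype N] [N.Normal], (∀ (s : S), ∀ g ∈ N, s • g ∈ N) →
    ∀ θ : Cfsg.IrrCharacter N,
      (∀ (s : S) (g g' : N), (g' : G) = s • (g : G) → (θ : N → ℂ) g' = (θ : N → ℂ) g) →
    ∃ χ : Cfsg.IrrCharacter G, IsInv S (χ : G → ℂ) ∧
      Cfsg.classInner (fun g : N => (χ : G → ℂ) g) (θ : N → ℂ) ≠ 0 := by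
  intro n
  induction n using Nat.strong_induction_on with
  | _ n ih =>
    intro G S _ _ _ _ _ hn hsolv hcop N _ _ hNS θ hθinv
    classical
    rcases subsingleton_or_nontrivial S with hs | hs
    · obtain ⟨χ, hχ, hne⟩ := Degrees.exists_over N θ.2
      exact ⟨⟨χ, hχ⟩, fun s g => by rw [Subsingleton.elim s 1, one_smul], hne⟩
    · have := hsolv
      obtain ⟨T, hTn, hT1, p, hp, hTp⟩ : ∃ T : Subgroup S, T.Normal ∧ T ≠ ⊥ ∧ ∃ p : ℕ,
          p.Prime ∧ IsPGroup p T := by
        obtain ⟨T, ⟨hTn, hT1⟩, hmin⟩ :=
          (Set.toFinite {T : Subgroup S | T.Normal ∧ T ≠ ⊥}).exists_minimal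
            ⟨⊤, inferInstance, top_ne_bot⟩
        have hmin' : ∀ M : Subgroup S, M.Normal → M ≤ T → M = ⊥ ∨ M = T := fun M hM hle => by
          by_cases h : M = ⊥
          · exact Or.inl h
          · exact Or.inr (le_antisymm hle (hmin ⟨hM, h⟩ hle))
        haveI := hTn
        haveI : Group.IsSolvable T := inferInstance
        obtain ⟨p, hp, hpT⟩ := CfsgLib.Solvable.exists_isPGroup_of_minimal_normal (N := T) hT1 hmin'
        exact ⟨T, hTn, hT1, p, hp, hpT.1⟩
      have := Fact.mk hp
      have := hTn
      have hTdvd : p ∣ Nat.card T := by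
        have : Nontrivial T := (Subgroup.nontrivial_iff_ne_bot T).2 hT1
        obtain ⟨k, hk, hc⟩ := hTp.nontrivial_iff_card.1 inferInstance
        exact hc ▸ dvd_pow_self p hk.ne'
      have hpG : ¬ p ∣ Nat.card G := fun hd => hp.one_lt.ne' (Nat.dvd_one.1
        (hcop.gcd_eq_one ▸ Nat.dvd_gcd hd (hTdvd.trans (Subgroup.card_subgroup_dvd_card T))))
      have hpN : ¬ p ∣ Nat.card N := fun hd => hpG (hd.trans N.card_subgroup_dvd_card)
      let C : Subgroup G :=
        { carrier := {g | ∀ t : T, t • g = g}
          one_mem' := fun t => smul_one t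
          mul_mem' := fun {a b} ha hb t => by rw [smul_mul', ha, hb]
          inv_mem' := fun {a} ha t => by rw [smul_inv', ha] }
      have hsC : ∀ (s : S), ∀ g ∈ C, s • g ∈ C := by
        intro s g hg t
        have h1 : s⁻¹ * (t : S) * s ∈ T := by
          have := hTn.conj_mem t t.2 s⁻¹
          simpa using this
        have h3 : (s⁻¹ * (t : S) * s) • g = g := hg ⟨_, h1⟩
        show (t : S) • s • g = s • g
        rw [mul_smul, mul_smul, inv_smul_eq_iff] at h3
        exact h3
      let φ : S →* MulAut C :=
        { toFun := fun s =>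
            { toFun := fun c => ⟨s • (c : G), hsC s c c.2⟩
              invFun := fun c => ⟨s⁻¹ • (c : G), hsC s⁻¹ c c.2⟩
              left_inv := fun c => Subtype.ext (inv_smul_smul s _)
              right_inv := fun c => Subtype.ext (smul_inv_smul s _)
              map_mul' := fun a b => Subtype.ext (smul_mul' s _ _) }
          map_one' := by ext c; exact one_smul S (c : G)
          map_mul' := fun a b => by ext c; exact mul_smul a b (c : G) }
      have hTker : T ≤ φ.ker := fun t ht => by
        rw [MonoidHom.mem_ker]; ext c; exact c.2 ⟨t, ht⟩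
      letI : MulDistribMulAction (S ⧸ T) C :=
        MulDistribMulAction.compHom C (QuotientGroup.lift T φ hTker)
      have hsmulC : ∀ (s : S) (c : C),
          (((QuotientGroup.mk s : S ⧸ T) • c : C) : G) = s • (c : G) := fun s c => rfl
      letI : MulDistribMulAction S N :=
        { smul := fun s g => ⟨s • (g : G), hNS s g g.2⟩
          one_smul := fun g => Subtype.ext (one_smul S (g : G))
          mul_smul := fun a b g => Subtype.ext (mul_smul a b (g : G))
          smul_mul := fun s a b => Subtype.ext (smul_mul' s (a : G) (b : G))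
          smul_one := fun s => Subtype.ext (smul_one s) }
      have hsmulN : ∀ (s : S) (g : N), ((s • g : N) : G) = s • (g : G) := fun s g => rfl
      have hθ' : IsInv S (θ : N → ℂ) := fun s g => hθinv s g _ rfl
      set CN := N.subgroupOf C with hCN
      let ιN : CN →* N :=
        { toFun := fun c => ⟨((c : C) : G), Subgroup.mem_subgroupOf.mp c.2⟩
          map_one' := rfl
          map_mul' := fun _ _ => rfl }
      have := Fintype.ofFinite C
      have := Fintype.ofFinite CN
      have := Fintype.ofFinite (Cfsg.IrrCharacter N)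
      have := Fintype.ofFinite (Cfsg.IrrCharacter C)
      have hιC := C.subtype_injective
      have hrangeC : ∀ g : G, g ∈ C.subtype.range ↔ ∀ t : T, t • g = g := fun g => by
        rw [Subgroup.range_subtype]; exact Iff.rfl
      have hιN : Function.Injective ιN := fun a b h =>
        Subtype.ext (Subtype.ext (congrArg Subtype.val h :))
      have hrangeN : ∀ g : N, g ∈ ιN.range ↔ ∀ t : T, t • g = g := by
        refine fun g => ⟨?_, fun h => ?_⟩
        · rintro ⟨c, rfl⟩ t
          exact Subtype.ext ((c : C).2 t)
        · exact ⟨⟨⟨(g : G), fun t => congrArg Subtype.val (h t)⟩,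
            Subgroup.mem_subgroupOf.mpr g.2⟩, rfl⟩
      obtain ⟨gN1, -, gN3, -⟩ := glauberman_pGroup ιN hιN hrangeN hTp hpN
      obtain ⟨gC1, -, gC3, gC4⟩ := glauberman_pGroup C.subtype hιC hrangeC hTp hpG
      have hθT : IsInv T (θ : N → ℂ) := fun t g => hθ' t g
      obtain ⟨θ', ⟨mθ, hmθ, hmθp⟩, hθuniq⟩ := gN1 θ hθT
      -- the correspondent is invariant
      have hsCN : ∀ (q : S ⧸ T), ∀ c ∈ CN, q • c ∈ CN := by
        intro q c hc
        induction q using QuotientGroup.induction_on with | _ s => ?_
        rw [hCN, Subgroup.mem_subgroupOf, hsmulC]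
        exact hNS s _ (Subgroup.mem_subgroupOf.mp hc)
      have hθ'inv : ∀ (q : S ⧸ T) (c c' : CN), (c' : C) = q • (c : C) →
          (θ' : CN → ℂ) c' = (θ' : CN → ℂ) c := by
        intro q
        induction q using QuotientGroup.induction_on with | _ s => ?_
        let σ : CN →* CN :=
          { toFun := fun c => ⟨(QuotientGroup.mk s : S ⧸ T) • (c : C), hsCN _ _ c.2⟩
            map_one' := Subtype.ext (smul_one _)
            map_mul' := fun a b => Subtype.ext (smul_mul' _ (a : C) (b : C)) }
        have hσ : Function.Bijective σ := by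
          refine (Finite.injective_iff_bijective).mp fun a b h => Subtype.ext ?_
          exact MulAction.injective _ (congrArg Subtype.val h :)
        let θs : Cfsg.IrrCharacter CN :=
          ⟨fun c => (θ' : CN → ℂ) (σ c), Char.isIrrCharacter_comp_surjective θ'.2 σ hσ.2⟩
        have hθs : θs = θ' := by
          refine hθuniq θs ⟨mθ, ?_, hmθp⟩
          rw [← hmθ, Char.classInner_def, Char.classInner_def]
          congr 1
          refine Fintype.sum_equiv (Equiv.ofBijective σ hσ) _ _ fun c => ?_
          rw [Equiv.ofBijective_apply]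
          congr 1
          exact (hθinv s (ιN c) (ιN (σ c)) rfl).symm
        intro c c' h
        have := congrArg (fun β : Cfsg.IrrCharacter CN => (β : CN → ℂ) c) hθs
        simpa [θs, show σ c = c' from Subtype.ext h.symm] using this
      have hlt : Nat.card (S ⧸ T) < n := by
        rw [← hn, Subgroup.card_eq_card_quotient_mul_card_subgroup T]
        have h2 : 2 ≤ Nat.card T := hp.two_le.trans (Nat.le_of_dvd Nat.card_pos hTdvd)
        have := (Nat.card_pos : 0 < Nat.card (S ⧸ T))
        nlinarith
      obtain ⟨ψ, hψinv, hψne⟩ := ih _ hlt C (S ⧸ T) rfl inferInstance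
        ((hcop.coprime_dvd_left C.card_subgroup_dvd_card).coprime_dvd_right
          (Subgroup.card_quotient_dvd_card T)) CN hsCN θ' hθ'inv
      -- the multiplicity of `θ'` in `ψ` is prime to `p`
      obtain ⟨e, he⟩ := Char.classInner_isCharacter_nat
        (Char.isCharacter_restrict (Char.irr_isCharacter ψ.2) CN) (Char.irr_isCharacter θ'.2)
      have he0 : e ≠ 0 := fun h => hψne (by rw [he, h, Nat.cast_zero])
      have hep : ¬ p ∣ e := fun h => hpG (h.trans ((multiplicity_dvd_degree CN θ'.2 ψ.2 he he0).trans
        ((Degrees.charDegree_dvd_card ψ.2).trans C.card_subgroup_dvd_card)))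
      obtain ⟨χ, hχT, m, hm, hmp⟩ := gC4 ψ
      have hχinv : IsInv S (χ : G → ℂ) := by
        rw [isInv_iff_fixed]
        intro s
        refine gC3 _ _ ?_ hχT ψ m m ?_ hmp hm hmp
        · intro t g
          show (χ : G → ℂ) (s⁻¹ • (t : S) • g) = (χ : G → ℂ) (s⁻¹ • g)
          have h1 : s⁻¹ * (t : S) * s ∈ T := by
            have := hTn.conj_mem t t.2 s⁻¹; simpa using this
          rw [← hχT ⟨_, h1⟩ (s⁻¹ • g)]
          refine congrArg _ ?_
          show s⁻¹ • (t : S) • g = (s⁻¹ * (t : S) * s) • s⁻¹ • g
          rw [smul_smul, smul_smul, mul_inv_cancel_right]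
        · rw [← hm, Char.classInner_def, Char.classInner_def]
          congr 1
          refine Fintype.sum_equiv (MulAction.toPerm (QuotientGroup.mk s : S ⧸ T)⁻¹) _ _ fun c => ?_
          congr 2
          show (ψ : C → ℂ) c = (ψ : C → ℂ) ((QuotientGroup.mk s : S ⧸ T)⁻¹ • c)
          exact (hψinv _ c).symm
      refine ⟨χ, hχinv, fun hzero => ?_⟩
      -- count the constituents of `χ` on the fixed points of `N`
      have hres := Char.isCharacter_restrict (Char.irr_isCharacter χ.2) N
      have hnat : ∀ η : Cfsg.IrrCharacter N, ∃ a w : ℕ,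
          Cfsg.classInner (fun g : N => (χ : G → ℂ) g) (η : N → ℂ) = a ∧
          Cfsg.classInner (fun c : CN => (η : N → ℂ) (ιN c)) (θ' : CN → ℂ) = w := fun η => by
        obtain ⟨a, ha⟩ := Char.classInner_isCharacter_nat hres (Char.irr_isCharacter η.2)
        obtain ⟨w, hw⟩ := Char.classInner_isCharacter_nat
          (Char.isCharacter_comp (Char.irr_isCharacter η.2) ιN) (Char.irr_isCharacter θ'.2)
        exact ⟨a, w, ha, hw⟩
      choose a w ha hw using hnat
      set X := Cfsg.classInner (fun c : CN => (χ : G → ℂ) ((c : C) : G)) (θ' : CN → ℂ) with hX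
      have hX1 : X = ∑ η : Cfsg.IrrCharacter N, (a η : ℂ) * (w η : ℂ) := by
        have h1 := Char.classFunction_eq_sum (Char.isCharacter_isClassFunction hres)
        have h2 : (fun c : CN => (χ : G → ℂ) ((c : C) : G)) = ∑ η : Cfsg.IrrCharacter N,
            (a η : ℂ) • fun c : CN => (η : N → ℂ) (ιN c) := by
          funext c
          have h3 := congr_fun h1 (ιN c)
          simp only [Finset.sum_apply, Pi.smul_apply] at h3 ⊢
          simp only [← ha]
          exact h3
        rw [hX, h2, Char.classInner_sum_left]
        exact Finset.sum_congr rfl fun η _ => by rw [Char.classInner_smul_left, hw]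
      have hXp : PDiv p X := by
        have hfix := pDiv_sum_sub_sum_fixed hTp (fun η : Cfsg.IrrCharacter N => (a η : ℂ) * (w η : ℂ))
          (fun η => (isIntegral_natCast' _).mul (isIntegral_natCast' _)) fun t η => by
            show (a (t • η) : ℂ) * (w (t • η) : ℂ) = (a η : ℂ) * (w η : ℂ)
            congr 1
            · rw [← ha, ← ha, Char.classInner_def, Char.classInner_def]
              congr 1
              refine Fintype.sum_equiv (MulAction.toPerm t⁻¹) _ _ fun g => ?_
              rw [MulAction.toPerm_apply]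
              show (χ : G → ℂ) g * conj ((η : N → ℂ) (t⁻¹ • g)) = _
              congr 1
              exact (hχT t⁻¹ (g : G)).symm
            · rw [← hw, ← hw]
              congr 1
              funext c
              show (η : N → ℂ) (t⁻¹ • ιN c) = _
              rw [(hrangeN (ιN c)).mp ⟨c, rfl⟩]
        have h2 : PDiv p (∑ η : Cfsg.IrrCharacter N with ∀ t : T, t • η = η,
            (a η : ℂ) * (w η : ℂ)) := by
          refine pDiv_sum _ _ fun η hη => ?_
          rw [← Nat.cast_mul, pDiv_natCast_iff]
          by_cases hηθ : η = θ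
          · subst hηθ
            have : a η = 0 := by exact_mod_cast (ha η).symm.trans hzero
            rw [this, zero_mul]
            exact dvd_zero p
          · refine Dvd.dvd.mul_left ?_ _
            by_contra hnd
            exact hηθ (gN3 η θ ((isInv_iff_fixed η).2 (Finset.mem_filter.1 hη).2) hθT θ' _ _
              (hw η) hnd hmθ hmθp)
        have h3 := pDiv_add hfix h2
        rw [sub_add_cancel] at h3
        rwa [hX1]
      -- and on the fixed points of `G`
      have hres2 := Char.isCharacter_comp (Char.irr_isCharacter χ.2) C.subtype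
      have hnat2 : ∀ β : Cfsg.IrrCharacter C, ∃ v u : ℕ,
          Cfsg.classInner (fun c => (χ : G → ℂ) (C.subtype c)) (β : C → ℂ) = v ∧
          Cfsg.classInner (fun c : CN => (β : C → ℂ) c) (θ' : CN → ℂ) = u := fun β => by
        obtain ⟨v, hv⟩ := Char.classInner_isCharacter_nat hres2 (Char.irr_isCharacter β.2)
        obtain ⟨u, hu⟩ := Char.classInner_isCharacter_nat
          (Char.isCharacter_restrict (Char.irr_isCharacter β.2) CN) (Char.irr_isCharacter θ'.2)
        exact ⟨v, u, hv, hu⟩
      choose v w' hv hw' using hnat2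
      have hX2 : X = ∑ β : Cfsg.IrrCharacter C, (v β : ℂ) * (w' β : ℂ) := by
        have h1 := Char.classFunction_eq_sum (Char.isCharacter_isClassFunction hres2)
        have h2 : (fun c : CN => (χ : G → ℂ) ((c : C) : G)) = ∑ β : Cfsg.IrrCharacter C,
            (v β : ℂ) • fun c : CN => (β : C → ℂ) c := by
          funext c
          have h3 := congr_fun h1 (c : C)
          simp only [Finset.sum_apply, Pi.smul_apply] at h3 ⊢
          simp only [← hv]
          exact h3
        rw [hX, h2, Char.classInner_sum_left]
        exact Finset.sum_congr rfl fun β _ => by rw [Char.classInner_smul_left, hw']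
      have hrest : PDiv p (∑ β ∈ Finset.univ.erase ψ, (v β : ℂ) * (w' β : ℂ)) := by
        refine pDiv_sum _ _ fun β hβ => ?_
        rw [← Nat.cast_mul, pDiv_natCast_iff]
        refine Dvd.dvd.mul_right ?_ _
        by_contra hnd
        exact Finset.ne_of_mem_erase hβ
          ((gC1 χ hχT).unique ⟨_, hv β, hnd⟩ ⟨m, hm, hmp⟩)
      rw [hX2, ← Finset.add_sum_erase _ _ (Finset.mem_univ ψ)] at hXp
      have h4 := pDiv_sub hXp hrest
      rw [add_sub_cancel_right, ← Nat.cast_mul, pDiv_natCast_iff] at h4
      have hvm : v ψ = m := by exact_mod_cast (hv ψ).symm.trans hm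
      have hwe : w' ψ = e := by exact_mod_cast (hw' ψ).symm.trans he
      rw [hvm, hwe] at h4
      exact (hp.dvd_mul.mp h4).elim hmp hep

end CfsgLib.Clifford.InvariantOver
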