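import Cfsg.Agent.Lib.Clifford.NonnormalSylow
import Cfsg.Agent.Lib.Coprime.Sylow

/-!
# A solvable subgroup witnessing a nonnormal Sylow subgroup in a `p`-solvable group
-/

set_option autoImplicit false

namespace CfsgLib.Clifford.NonnormalSylow

open CfsgLib
open scoped Pointwise

universe u

variable {G : Type u} [Group G] [Finite G]

theorem isSolvable_of_two_steps {p r : ℕ} [Fact p.Prime] [Fact r.Prime] (Q M : Subgroup G)
    [Q.Normal] [M.Normal] (hQ : IsPGroup p Q) (hM : IsPGroup r (M.map (QuotientGroup.mk' Q)))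
    (hG : IsPGroup p (G ⧸ M)) : Group.IsSolvable G := by
  have hQs : Group.IsSolvable Q := by
    have := hQ.isNilpotent
    infer_instance
  have hMs : Group.IsSolvable M := by
    let f : M →* M.map (QuotientGroup.mk' Q) := (QuotientGroup.mk' Q).subgroupMap M
    have : Group.IsSolvable (M.map (QuotientGroup.mk' Q)) := by
      have := hM.isNilpotent
      infer_instance
    let g : (Q.subgroupOf M : Subgroup M) →* M := (Q.subgroupOf M).subtype
    have : Group.IsSolvable (Q.subgroupOf M : Subgroup M) := by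
      let e : (Q.subgroupOf M : Subgroup M) →* Q :=
        { toFun := fun x => ⟨(x : M), x.2⟩, map_one' := rfl, map_mul' := fun _ _ => rfl }
      exact Group.isSolvable_of_isSolvable_injective (f := e) fun a b h =>
        Subtype.ext (Subtype.ext (congr_arg Subtype.val h :))
    refine Group.isSolvable_of_ker_le_range g f fun x hx => ⟨⟨x, ?_⟩, rfl⟩
    rw [MonoidHom.mem_ker] at hx
    have h : ((x : G) : G ⧸ Q) = 1 := congr_arg Subtype.val hx
    exact (QuotientGroup.eq_one_iff (x : G)).mp h
  have : Group.IsSolvable (G ⧸ M) := by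
    have := hG.isNilpotent
    infer_instance
  exact Group.isSolvable_of_ker_le_range M.subtype (QuotientGroup.mk' M) fun x hx =>
    ⟨⟨x, by simpa using hx⟩, rfl⟩

/-- A minimal non-`p`-closed group with a normal subgroup of `p`-power index is solvable. -/
theorem isSolvable_of_minimal {p : ℕ} [hp : Fact p.Prime] (hne : ¬ PClosed p G)
    (hmin : ∀ H : Subgroup G, H ≠ ⊤ → PClosed p H) (M : Subgroup G) [M.Normal] (hM : M ≠ ⊤)
    (hidx : ∃ k, M.index = p ^ k) : Group.IsSolvable G := by
  classical
  obtain ⟨P⟩ : Nonempty (Sylow p G) := inferInstance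
  have hMc := hmin M hM
  have hpelt : ∀ x ∈ (P : Subgroup G), ∃ k, x ^ p ^ k = 1 := fun x hx => by
    obtain ⟨k, hk⟩ := P.isPGroup' ⟨x, hx⟩
    exact ⟨k, by simpa using congr_arg Subtype.val hk⟩
  let S : Subgroup G :=
    { carrier := {z | z ∈ M ∧ ∃ k, z ^ p ^ k = 1}
      one_mem' := ⟨M.one_mem, 0, one_pow _⟩
      mul_mem' := by
        rintro a b ⟨ha, i, hi⟩ ⟨hb, j, hj⟩
        obtain ⟨k, hk⟩ := hMc ⟨a, ha⟩ ⟨b, hb⟩ ⟨i, Subtype.ext (by simpa using hi)⟩
          ⟨j, Subtype.ext (by simpa using hj)⟩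
        exact ⟨M.mul_mem ha hb, k, by simpa using congr_arg Subtype.val hk⟩
      inv_mem' := by
        rintro a ⟨ha, i, hi⟩
        exact ⟨M.inv_mem ha, i, by rw [inv_pow, hi, inv_one]⟩ }
  have hS : IsPGroup p S := fun z => z.2.2.imp fun k hk => Subtype.ext (by simpa using hk)
  have hSn : S.Normal := ⟨fun z hz g => ⟨(inferInstance : M.Normal).conj_mem z hz.1 g,
    hz.2.imp fun k hk => by rw [conj_pow, hk, mul_one, mul_inv_cancel]⟩⟩
  have hSP : S ≤ (P : Subgroup G) := le_sup_right.trans
    (P.is_maximal' (P.isPGroup'.to_sup_of_normal_right hS) le_sup_left).le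
  have hPM : (P : Subgroup G) ⊔ M = ⊤ := by
    obtain ⟨k, hk⟩ := hidx
    obtain ⟨i, -, hi⟩ := (Nat.dvd_prime_pow hp.out).mp
      (hk ▸ Subgroup.index_dvd_of_le (le_sup_right : M ≤ (P : Subgroup G) ⊔ M))
    rcases i with - | i
    · exact Subgroup.index_eq_one.mp hi
    · exact absurd ((hi ▸ dvd_pow_self p i.succ_ne_zero : p ∣ _).trans
        (Subgroup.index_dvd_of_le le_sup_left)) P.not_dvd_index
  set π := QuotientGroup.mk' S with hπ
  set A := (P : Subgroup G).map π with hA
  set B := M.map π with hB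
  have hBn : B.Normal := Subgroup.Normal.map inferInstance π (QuotientGroup.mk'_surjective S)
  have hAp : IsPGroup p A := P.isPGroup'.map π
  have hAB : ∀ x : G ⧸ S, x ∈ A → x ∈ B → x = 1 := by
    rintro _ ⟨x, hx, rfl⟩ ⟨y, hy, hxy⟩
    have h : y⁻¹ * x ∈ S := (QuotientGroup.eq).mp hxy
    have hxM : x ∈ M := by simpa using M.mul_mem hy (show y⁻¹ * x ∈ M from h.1)
    exact (QuotientGroup.eq_one_iff x).mpr ⟨hxM, hpelt x hx⟩
  have hBp : ¬ p ∣ Nat.card B := by
    intro h
    obtain ⟨z, hz⟩ := exists_prime_orderOf_dvd_card' p h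
    obtain ⟨y, hy, hyz⟩ := z.2
    have h1 : ((y : G) : G ⧸ S) ^ p = 1 := by
      have h2 := pow_orderOf_eq_one z
      rw [hz] at h2
      have h3 := congr_arg Subtype.val h2
      simp only [SubmonoidClass.coe_pow, OneMemClass.coe_one] at h3
      rw [← hyz] at h3
      exact h3
    rw [← QuotientGroup.mk_pow, QuotientGroup.eq_one_iff] at h1
    obtain ⟨-, k, hk⟩ := h1
    have hyS : y ∈ S := ⟨hy, k + 1, by rw [pow_succ', pow_mul]; exact hk⟩
    have hz1 : z = 1 := Subtype.ext (by
      rw [← hyz]; exact (QuotientGroup.eq_one_iff y).mpr hyS)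
    rw [hz1, orderOf_one] at hz
    exact hp.out.ne_one hz.symm
  have hcop : (Nat.card A).Coprime (Nat.card B) := by
    obtain ⟨k, hk⟩ := IsPGroup.iff_card.mp hAp
    rw [hk]
    exact Nat.Coprime.pow_left k ((hp.out.coprime_iff_not_dvd).mpr hBp)
  have hAs : Group.IsSolvable A := by
    have := hAp.isNilpotent
    infer_instance
  by_cases hall : ∀ r : ℕ, r.Prime → ∀ R : Sylow r B,
      A ≤ Subgroup.normalizer (((R : Subgroup B).map B.subtype : Subgroup (G ⧸ S)) : Set (G ⧸ S)) →
      A ⊔ (R : Subgroup B).map B.subtype ≠ ⊤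
  · -- all invariant Sylow subgroups are centralized: `P` is normal
    exfalso
    set C : Subgroup (G ⧸ S) := Subgroup.centralizer (A : Set (G ⧸ S)) ⊓ B with hC
    have hBC : B ≤ C := by
      have hdvd : Nat.card B ∣ Nat.card C := by
        rw [Nat.dvd_iff_prime_pow_dvd_dvd]
        intro r k hr hrk
        haveI := Fact.mk hr
        obtain ⟨R, hR⟩ := Coprime.exists_invariant_sylow (A := A) (G := B)
          (fun a _ => by rw [Subgroup.normalizer_eq_top_iff.mpr hBn]; trivial) hcop (Or.inl hAs) r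
        set R' := (R : Subgroup B).map B.subtype with hR'
        have hT := hmin ((A ⊔ R').comap π) fun h => hall r hr R hR (by
          rw [← Subgroup.map_comap_eq_self_of_surjective (QuotientGroup.mk'_surjective S) (A ⊔ R'),
            h, Subgroup.map_top_of_surjective _ (QuotientGroup.mk'_surjective S)])
        have hPT : (P : Subgroup G) ≤ (A ⊔ R').comap π := fun x hx =>
          Subgroup.mem_comap.mpr (le_sup_left (b := R') ⟨x, hx, rfl⟩)
        have hle : R' ≤ C := by
          rintro _ ⟨b, hb, rfl⟩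
          refine ⟨Subgroup.mem_centralizer_iff.mpr ?_, b.2⟩
          rintro _ ⟨x, hx, rfl⟩
          obtain ⟨g, hg, hgb⟩ := b.2
          have hgT : g ∈ (A ⊔ R').comap π := Subgroup.mem_comap.mpr
            (le_sup_right (a := A) ⟨b, hb, hgb.symm⟩)
          obtain ⟨k, hk⟩ := hpelt x hx
          have hmem : g * x * g⁻¹ ∈ (P : Subgroup G) := mem_sylow_of_pclosed hT P hPT
            (mul_mem (mul_mem hgT (hPT hx)) (inv_mem hgT))
            ⟨k, by rw [conj_pow, hk, mul_one, mul_inv_cancel]⟩
          have h1 := hAB _ (Subgroup.mem_map_of_mem π (mul_mem (inv_mem hx) hmem)) (by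
            have e : π (x⁻¹ * (g * x * g⁻¹)) = (π x)⁻¹ * π g * π x * (π g)⁻¹ := by
              simp [map_mul, mul_assoc]
            rw [e]
            refine B.mul_mem ?_ (B.inv_mem ⟨g, hg, rfl⟩)
            have h5 := hBn.conj_mem _ (⟨g, hg, rfl⟩ : π g ∈ B) (π x)⁻¹
            simpa using h5)
          rw [map_mul, map_inv, inv_mul_eq_one, map_mul, map_mul, map_inv,
            eq_mul_inv_iff_mul_eq] at h1
          rw [show ((B.subtype b : G ⧸ S)) = π g from hgb.symm]
          exact h1
        refine dvd_trans ?_ (Subgroup.card_dvd_of_le hle)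
        rw [hR', Subgroup.card_map_of_injective B.subtype_injective, Sylow.card_eq_multiplicity]
        exact pow_dvd_pow r ((hr.pow_dvd_iff_le_factorization Nat.card_pos.ne').mp hrk)
      exact (Subgroup.eq_of_le_of_card_ge inf_le_right (Nat.le_of_dvd Nat.card_pos hdvd)).ge
    apply hne
    rw [← sylow_normal_iff P]
    have hAn : A.Normal := by
      rw [← Subgroup.normalizer_eq_top_iff, eq_top_iff,
        ← Subgroup.map_top_of_surjective π (QuotientGroup.mk'_surjective S), ← hPM, Subgroup.map_sup]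
      exact sup_le Subgroup.le_normalizer ((hBC.trans inf_le_left).trans (fun c hc => by
        rw [Subgroup.mem_normalizer_iff]
        intro a
        have key : ∀ a ∈ A, c * a * c⁻¹ = a := fun a ha => by
          rw [← Subgroup.mem_centralizer_iff.mp hc a ha, mul_inv_cancel_right]
        refine ⟨fun ha => (key a ha).symm ▸ ha, fun ha => ?_⟩
        have h := key _ ha
        rw [mul_left_inj, mul_right_inj] at h
        exact h ▸ ha))
    have hPe : (P : Subgroup G) = A.comap π := by
      rw [hA, Subgroup.comap_map_eq, hπ, QuotientGroup.ker_mk', sup_eq_left.mpr hSP]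
    rw [hPe]
    exact hAn.comap π
  · push Not at hall
    obtain ⟨r, hr, R, hnormR, hR⟩ := hall
    haveI := Fact.mk hr
    set R' := (R : Subgroup B).map B.subtype with hR'
    have hBR : B ≤ R' := by
      intro b hb
      have hbT : b ∈ A ⊔ R' := by rw [hR]; trivial
      have hR'B : R' ≤ B := Subgroup.map_subtype_le _
      have hsup : ((A ⊔ R' : Subgroup (G ⧸ S)) : Set (G ⧸ S)) = A * R' :=
        (Subgroup.coe_mul_of_left_le_normalizer_right A R'
          hnormR)
      obtain ⟨a, ha, c, hc, rfl⟩ : b ∈ (A : Set (G ⧸ S)) * (R' : Set (G ⧸ S)) := hsup ▸ hbT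
      have ha1 : a = 1 := hAB a ha (by simpa using B.mul_mem hb (B.inv_mem (hR'B hc)))
      simpa [ha1] using hc
    have hBr : IsPGroup r B := by
      have : IsPGroup r R' := R.isPGroup'.map B.subtype
      exact this.to_le hBR
    refine isSolvable_of_two_steps S M hS hBr ?_
    obtain ⟨k, hk⟩ := hidx
    exact IsPGroup.of_card (n := k) (by rw [← Subgroup.index_eq_card, hk])

end CfsgLib.Clifford.NonnormalSylow
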