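import Cfsg.Agent.Lib.Clifford.Degree
import Cfsg.Agent.Lib.Clifford.Degrees
import Cfsg.Agent.Lib.Clifford.Cover
import Cfsg.Agent.Lib.BlockB.Codegree
import Cfsg.Agent.S0857

/-!
# Degrees of faithful characters of solvable groups with nonnormal Sylow subgroup
-/

set_option autoImplicit false

namespace CfsgLib.Clifford.NonnormalSylow

open CfsgLib

universe u

variable {G : Type u} [Group G]

/-- The product of two `p`-elements is a `p`-element. -/
def PClosed (p : ℕ) (G : Type*) [Group G] : Prop :=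
  ∀ x y : G, (∃ k, x ^ p ^ k = 1) → (∃ k, y ^ p ^ k = 1) → ∃ k, (x * y) ^ p ^ k = 1

theorem PClosed.of_subgroup {p : ℕ} {M : Subgroup G} (h : PClosed p M)
    (hM : ∀ x : G, (∃ k, x ^ p ^ k = 1) → x ∈ M) : PClosed p G := by
  intro x y hx hy
  obtain ⟨a, ha⟩ := hx
  obtain ⟨b, hb⟩ := hy
  obtain ⟨k, hk⟩ := h ⟨x, hM x ⟨a, ha⟩⟩ ⟨y, hM y ⟨b, hb⟩⟩
    ⟨a, Subtype.ext (by simpa using ha)⟩ ⟨b, Subtype.ext (by simpa using hb)⟩
  exact ⟨k, by simpa using congr_arg Subtype.val hk⟩

theorem mem_sylow_of_pclosed [Finite G] {p : ℕ} [Fact p.Prime] {H : Subgroup G} (h : PClosed p H)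
    (P : Sylow p G) (hPH : (P : Subgroup G) ≤ H) {x : G} (hx : x ∈ H) (hxp : ∃ k, x ^ p ^ k = 1) :
    x ∈ (P : Subgroup G) := by
  let S : Subgroup G :=
    { carrier := {z | z ∈ H ∧ ∃ k, z ^ p ^ k = 1}
      one_mem' := ⟨H.one_mem, 0, one_pow _⟩
      mul_mem' := by
        rintro a b ⟨ha, i, hi⟩ ⟨hb, j, hj⟩
        obtain ⟨k, hk⟩ := h ⟨a, ha⟩ ⟨b, hb⟩ ⟨i, Subtype.ext (by simpa using hi)⟩
          ⟨j, Subtype.ext (by simpa using hj)⟩
        exact ⟨H.mul_mem ha hb, k, by simpa using congr_arg Subtype.val hk⟩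
      inv_mem' := by
        rintro a ⟨ha, i, hi⟩
        exact ⟨H.inv_mem ha, i, by rw [inv_pow, hi, inv_one]⟩ }
  have hS : IsPGroup p S := fun z => z.2.2.imp fun k hk => Subtype.ext (by simpa using hk)
  have hle : (P : Subgroup G) ≤ S := fun z hz => ⟨hPH hz, by
    obtain ⟨k, hk⟩ := P.isPGroup' ⟨z, hz⟩
    exact ⟨k, by simpa using congr_arg Subtype.val hk⟩⟩
  rw [← P.is_maximal' hS hle]
  exact ⟨hx, hxp⟩

/-- In a group with normal Sylow subgroup `p`-elements multiply to `p`-elements. -/
theorem sylow_normal_iff [Finite G] {p : ℕ} [Fact p.Prime] (P : Sylow p G) :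
    (P : Subgroup G).Normal ↔ PClosed p G := by
  constructor
  · intro hn x y hx hy
    obtain ⟨a, ha⟩ := hx
    obtain ⟨b, hb⟩ := hy
    have hm := fun z k (hz : z ^ p ^ k = 1) =>
      Degrees.mem_of_pow_eq_one (Fact.out : p.Prime) (P : Subgroup G) P.not_dvd_index hz
    obtain ⟨k, hk⟩ := P.isPGroup' ⟨x * y, mul_mem (hm x a ha) (hm y b hb)⟩
    exact ⟨k, by simpa using congr_arg Subtype.val hk⟩
  · intro h
    refine ⟨fun n hn g => ?_⟩
    have hT : PClosed p (⊤ : Subgroup G) := by
      intro a b ha hb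
      obtain ⟨i, hi⟩ := ha
      obtain ⟨j, hj⟩ := hb
      obtain ⟨k, hk⟩ := h a b ⟨i, by simpa using congr_arg Subtype.val hi⟩
        ⟨j, by simpa using congr_arg Subtype.val hj⟩
      exact ⟨k, Subtype.ext (by simpa using hk)⟩
    refine mem_sylow_of_pclosed hT P le_top (Subgroup.mem_top _) ?_
    obtain ⟨k, hk⟩ := P.isPGroup' ⟨n, hn⟩
    have hk' : n ^ p ^ k = 1 := by simpa using congr_arg Subtype.val hk
    exact ⟨k, by rw [conj_pow, hk', mul_one, mul_inv_cancel]⟩

/-- Some constituent of a faithful character inherits a failure of `p`-closedness. -/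
theorem exists_bad_constituent [Finite G] {p : ℕ} (hp : p.Prime) {F : G → ℂ}
    (hF : Cfsg.IsCharacter G F) (hfaith : ∀ g, F g = F 1 → g = 1) (hne : ¬ PClosed p G) :
    ∃ θ : Cfsg.IrrCharacter G, (∃ R, Cfsg.IsCharacter G R ∧ F = (θ : G → ℂ) + R) ∧
      ¬ PClosed p (G ⧸ BlockB.charKer θ) := by
  by_contra hcon
  push Not at hcon
  apply hne
  intro x y hx hy
  obtain ⟨l, hl, hsum⟩ := Char.isCharacter_exists_multiset hF
  refine ⟨Nat.card G, hfaith _ ?_⟩
  set g := (x * y) ^ p ^ Nat.card G with hg
  have hall : ∀ φ ∈ l, φ g = φ 1 := by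
    intro φ hφ
    obtain ⟨l', rfl⟩ := Multiset.exists_cons_of_mem hφ
    have hq := hcon ⟨φ, hl φ hφ⟩ ⟨l'.sum, Char.isCharacter_multiset_sum fun ψ hψ =>
      Char.irr_isCharacter (hl ψ (Multiset.mem_cons_of_mem hψ)),
      hsum.trans (Multiset.sum_cons φ l')⟩
    set N := BlockB.charKer ⟨φ, hl φ hφ⟩ with hN
    obtain ⟨a, ha⟩ := hx
    obtain ⟨b, hb⟩ := hy
    obtain ⟨k, hk⟩ := hq (x : G ⧸ N) (y : G ⧸ N)
      ⟨a, by rw [← QuotientGroup.mk_pow, ha, QuotientGroup.mk_one]⟩
      ⟨b, by rw [← QuotientGroup.mk_pow, hb, QuotientGroup.mk_one]⟩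
    refine BlockB.mem_charKer (χ := ⟨φ, hl φ hφ⟩).mp ?_
    rw [← hN, ← QuotientGroup.eq_one_iff, hg, QuotientGroup.mk_pow, QuotientGroup.mk_mul]
    obtain ⟨j, -, hj⟩ := (Nat.dvd_prime_pow hp).mp (orderOf_dvd_of_pow_eq_one hk)
    rw [← orderOf_dvd_iff_pow_eq_one, hj]
    refine pow_dvd_pow p ?_
    have h1 : p ^ j ≤ Nat.card G := hj ▸ ((Nat.le_of_dvd Nat.card_pos
      (_root_.orderOf_dvd_natCard ((x : G ⧸ N) * (y : G ⧸ N)))).trans
        (Nat.le_of_dvd Nat.card_pos (by
          rw [← Subgroup.index_eq_card]; exact N.index_dvd_card)))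
    exact (Nat.lt_pow_self hp.one_lt).le.trans h1
  have hev : ∀ z, l.sum z = (l.map fun φ => φ z).sum := fun z =>
    map_multiset_sum (Pi.evalAddMonoidHom (fun _ : G => ℂ) z) l
  rw [hsum, hev, hev]
  exact congr_arg Multiset.sum (Multiset.map_congr rfl hall)

/-- An irreducible restriction makes a character irreducible. -/
theorem isIrr_of_restrict [Finite G] {F : G → ℂ} (hF : Cfsg.IsCharacter G F) (K : Subgroup G)
    (hK : Cfsg.IsIrrCharacter K (fun x : K => F x)) : Cfsg.IsIrrCharacter G F := by
  have := Fintype.ofFinite G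
  have := Fintype.ofFinite K
  obtain ⟨X, hX, hne⟩ := exists_irr_constituent hF fun h0 =>
    Char.irr_apply_one_ne_zero hK (by simp [h0])
  obtain ⟨R, hR, rfl⟩ := exists_add_of_constituent hF hX hne
  rcases eq_zero_of_add_irr (Char.isCharacter_restrict (Char.irr_isCharacter hX) K)
    (Char.isCharacter_restrict hR K) hK with h | h
  · exact absurd (by simpa using congr_fun h 1) (Char.irr_apply_one_ne_zero hX)
  · rw [eq_zero_of_apply_one_eq_zero hR (by simpa using congr_fun h 1), add_zero]
    exact hX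

/-- A `p`-subgroup normal in `G` is abelian when a faithful irreducible degree is prime to `p`. -/
theorem comm_of_not_dvd [Finite G] {p : ℕ} (hp : p.Prime) {χ : G → ℂ}
    (hχ : Cfsg.IsIrrCharacter G χ) (hfaith : ∀ g, χ g = χ 1 → g = 1)
    (hd : ¬ p ∣ Cfsg.charDegree χ) (P : Subgroup G) [P.Normal] (hP : IsPGroup p P) :
    ∀ x ∈ P, ∀ y ∈ P, x * y = y * x := by
  intro x hx y hy
  have := Fintype.ofFinite G
  have := Fintype.ofFinite P
  have := Fact.mk hp
  have hF := Char.isCharacter_restrict (Char.irr_isCharacter hχ) P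
  obtain ⟨l, hl, hsum⟩ := Char.isCharacter_exists_multiset hF
  set z : P := ⟨x, hx⟩ * ⟨y, hy⟩ * ⟨x, hx⟩⁻¹ * ⟨y, hy⟩⁻¹ with hz
  have hall : ∀ φ ∈ l, φ z = φ 1 := by
    intro φ hφ
    obtain ⟨l', rfl⟩ := Multiset.exists_cons_of_mem hφ
    have hirr := hl φ hφ
    obtain ⟨r, hr⟩ := Char.classInner_isCharacter_nat (G := P)
      (Char.isCharacter_multiset_sum fun ψ hψ =>
        Char.irr_isCharacter (hl ψ (Multiset.mem_cons_of_mem hψ)))
      (Char.irr_isCharacter hirr)
    have hne : Cfsg.classInner (fun n : P => χ n) φ ≠ 0 := by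
      rw [show (fun n : P => χ n) = φ + l'.sum from hsum.trans (Multiset.sum_cons φ l'),
        Char.classInner_add_left, Char.irr_classInner_self hirr, hr]
      exact_mod_cast (Nat.succ_ne_zero r) ∘ fun h => by omega
    have hdvd := dvd_of_mul_left_dvd (Degrees.index_inertia_mul_dvd P hirr hχ hne)
    have h1 : Cfsg.charDegree φ = 1 := by
      obtain ⟨i, hi⟩ := IsPGroup.iff_card.mp hP
      obtain ⟨j, -, hj⟩ := (Nat.dvd_prime_pow hp).mp (hi ▸ Degrees.charDegree_dvd_card hirr)
      rcases j with - | j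
      · exact hj
      · exact absurd ((hj ▸ dvd_pow_self p j.succ_ne_zero : p ∣ _).trans hdvd) hd
    obtain ⟨lam, rfl⟩ := Char.exists_hom_of_degree_one (Char.irr_isCharacter hirr) (by
      rw [← BlockB.charDegree_cast (Char.irr_isCharacter hirr), h1, Nat.cast_one])
    simp only [hz, map_mul, map_inv, map_one]
    rw [mul_comm (lam ⟨x, hx⟩) (lam ⟨y, hy⟩)]
    simp
  have h2 : χ (z : G) = χ 1 := by
    have e : ∀ w : P, χ (w : G) = (l.map fun φ => φ w).sum := fun w =>
      (congr_fun hsum w).trans (map_multiset_sum (Pi.evalAddMonoidHom (fun _ : P => ℂ) w) l)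
    have h3 := e 1
    rw [OneMemClass.coe_one] at h3
    rw [e, h3]
    exact congr_arg Multiset.sum (Multiset.map_congr rfl hall)
  have h4 := hfaith _ h2
  simp only [hz, Subgroup.coe_mul, InvMemClass.coe_inv, mul_inv_eq_one] at h4
  exact mul_inv_eq_iff_eq_mul.mp h4

/-- The arithmetic conclusion. -/
def Concl (p n : ℕ) : Prop :=
  ∃ q : ℕ, IsPrimePow q ∧ q ∣ n ∧
    ((q : ℤ) ≡ -1 [ZMOD p] ∨ (q : ℤ) ≡ 0 [ZMOD p] ∨ (q : ℤ) ≡ 1 [ZMOD p])

theorem concl_of_dvd {p n : ℕ} (hp : p.Prime) (h : p ∣ n) : Concl p n :=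
  ⟨p, hp.isPrimePow, h, Or.inr (Or.inl (Int.modEq_zero_iff_dvd.mpr dvd_rfl))⟩

theorem concl_of_index {p r a n : ℕ} (hp : p.Prime) (hr : r.Prime) (ha : 1 < r ^ a)
    (hmod : r ^ a ≡ 1 [MOD p]) (h : r ^ a ∣ n ∨ ∃ e, e ^ 2 = r ^ a ∧ e ∣ n) : Concl p n := by
  have ha0 : a ≠ 0 := fun h0 => by simp [h0] at ha
  rcases h with h | ⟨e, he, hen⟩
  · exact ⟨r ^ a, hr.isPrimePow.pow ha0, h, Or.inr (Or.inr (by
      simpa using Int.natCast_modEq_iff.mpr hmod))⟩
  · obtain ⟨i, -, hi⟩ := (Nat.dvd_prime_pow hr).mp ((dvd_pow_self e two_ne_zero).trans he.dvd)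
    have hi0 : i ≠ 0 := fun h0 => by simp [hi, h0] at he; omega
    refine ⟨e, hi ▸ hr.isPrimePow.pow hi0, hen, ?_⟩
    have h1 : ((e : ℤ) ^ 2) ≡ 1 [ZMOD p] := by
      have h2 := Int.natCast_modEq_iff.mpr (he ▸ hmod)
      push_cast at h2
      exact h2
    have h2 : (p : ℤ) ∣ ((e : ℤ) - 1) * ((e : ℤ) + 1) := by
      have := Int.ModEq.dvd h1.symm
      convert this using 1
      ring
    rcases (Nat.prime_iff_prime_int.mp hp).dvd_mul.mp h2 with h3 | h3
    · exact Or.inr (Or.inr (Int.modEq_iff_dvd.mpr h3).symm)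
    · refine Or.inl (Int.modEq_iff_dvd.mpr ?_).symm
      simpa using h3

set_option maxHeartbeats 1000000 in
theorem main {p : ℕ} (hp : p.Prime) : ∀ (n : ℕ) (G : Type u) [Group G] [Finite G],
    Nat.card G ≤ n → Group.IsSolvable G → ∀ χ : Cfsg.IrrCharacter G,
      (∀ g, (χ : G → ℂ) g = (χ : G → ℂ) 1 → g = 1) → ¬ PClosed p G →
      Concl p (Cfsg.charDegree (χ : G → ℂ)) := by
  haveI := Fact.mk hp
  intro n
  induction n with
  | zero => intro G _ _ hle; exact absurd (Nat.le_zero.mp hle) Nat.card_pos.ne'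
  | succ n ih =>
    intro G _ _ hle hs χ hfaith hbad
    by_contra hC
    have := Fintype.ofFinite G
    have hd : ¬ p ∣ Cfsg.charDegree (χ : G → ℂ) := fun h => hC (concl_of_dvd hp h)
    have hlt : ∀ H : Subgroup G, H ≠ ⊤ → Nat.card H ≤ n := fun H hH => by
      have := Subgroup.card_le_card_group H
      rcases lt_or_eq_of_le this with h | h
      · omega
      · exact absurd (Subgroup.eq_top_of_card_eq H h) hH
    -- proper normal subgroups are `p`-closed
    have hnormal : ∀ M : Subgroup G, M.Normal → M ≠ ⊤ → PClosed p M := by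
      intro M hMn hM
      by_contra hMb
      have := Fintype.ofFinite M
      obtain ⟨θ, ⟨R, hR, hres⟩, hθ⟩ := exists_bad_constituent hp
        (Char.isCharacter_restrict (Char.irr_isCharacter χ.2) M)
        (fun g hg => Subtype.ext (hfaith g (by simpa using hg))) hMb
      obtain ⟨ψ, -, hdeg, hψf⟩ := BlockB.exists_faithful_lift θ
      obtain ⟨q, hq1, hq2, hq3⟩ := ih (M ⧸ BlockB.charKer θ)
        ((Nat.le_of_dvd Nat.card_pos (by
          rw [← Subgroup.index_eq_card]; exact Subgroup.index_dvd_card _)).trans (hlt M hM))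
        (Group.isSolvable_of_surjective (QuotientGroup.mk'_surjective _)) ψ hψf hθ
      obtain ⟨r, hr⟩ := Char.classInner_isCharacter_nat hR (Char.irr_isCharacter θ.2)
      have hne : Cfsg.classInner (fun m : M => (χ : G → ℂ) m) (θ : M → ℂ) ≠ 0 := by
        rw [hres, Char.classInner_add_left, Char.irr_classInner_self θ.2, hr]
        exact_mod_cast (by omega : 1 + r ≠ 0)
      exact hC ⟨q, hq1, (hdeg ▸ hq2).trans
        (dvd_of_mul_left_dvd (Degrees.index_inertia_mul_dvd M θ.2 χ.2 hne)), hq3⟩
    have htop : ∀ M : Subgroup G, M.Normal → (∀ x : G, (∃ k, x ^ p ^ k = 1) → x ∈ M) → M = ⊤ :=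
      fun M hMn hM => by
        by_contra h
        exact hbad ((hnormal M hMn h).of_subgroup hM)
    obtain ⟨P⟩ : Nonempty (Sylow p G) := inferInstance
    have hpelt : ∀ x ∈ (P : Subgroup G), ∃ k, x ^ p ^ k = 1 := fun x hx => by
      obtain ⟨k, hk⟩ := P.isPGroup' ⟨x, hx⟩
      exact ⟨k, by simpa using congr_arg Subtype.val hk⟩
    have hcont : ∀ M : Subgroup G, M.Normal → (P : Subgroup G) ≤ M → M = ⊤ := fun M hMn hPM =>
      htop M hMn fun x ⟨k, hk⟩ =>
        Degrees.mem_of_pow_eq_one hp M
          (fun h => P.not_dvd_index (h.trans (Subgroup.index_dvd_of_le hPM))) hk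
    -- a normal subgroup of index `p`
    obtain ⟨M, hMn, hMi⟩ : ∃ M : Subgroup G, M.Normal ∧ M.index = p := by
      have hnt : Nontrivial G := by
        by_contra hcon
        rw [not_nontrivial_iff_subsingleton] at hcon
        exact hbad fun x y _ _ => ⟨0, Subsingleton.elim _ _⟩
      have hne : commutator G ≠ ⊤ := (Group.IsSolvable.commutator_lt_top_of_nontrivial (G := G)).ne
      obtain ⟨M, hcom, hmax⟩ : ∃ M : Subgroup G, commutator G ≤ M ∧ IsCoatom M :=
        ((eq_top_or_exists_le_coatom (commutator G)).resolve_left hne).imp fun M h => ⟨h.2, h.1⟩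
      have hMn : M.Normal := ⟨fun x hx g => by
        have := M.mul_mem (hcom (Subgroup.commutator_mem_commutator (Subgroup.mem_top g)
          (Subgroup.mem_top x))) hx
        simpa [commutatorElement_def] using this⟩
      have hr : M.index.Prime := by
        have h1 : M.index ≠ 1 := fun h => hmax.1 (Subgroup.index_eq_one.mp h)
        obtain ⟨r, hr, hrM⟩ := Nat.exists_prime_and_dvd h1
        haveI := Fact.mk hr
        rw [Subgroup.index_eq_card] at hrM ⊢
        obtain ⟨z, hz⟩ := exists_prime_orderOf_dvd_card' (G := G ⧸ M) r hrM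
        have hlt' : M < (Subgroup.zpowers z).comap (QuotientGroup.mk' M) := by
          refine lt_of_le_of_ne (QuotientGroup.le_comap_mk' _ _) fun h => ?_
          obtain ⟨g, rfl⟩ := QuotientGroup.mk_surjective z
          have hg : g ∈ (Subgroup.zpowers (g : G ⧸ M)).comap (QuotientGroup.mk' M) :=
            Subgroup.mem_zpowers _
          rw [← h] at hg
          rw [(QuotientGroup.eq_one_iff g).mpr hg, orderOf_one] at hz
          exact hr.ne_one hz.symm
        have hzt := congr_arg (Subgroup.map (QuotientGroup.mk' M)) (hmax.2 _ hlt')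
        rw [Subgroup.map_comap_eq_self_of_surjective (QuotientGroup.mk'_surjective M),
          Subgroup.map_top_of_surjective _ (QuotientGroup.mk'_surjective M)] at hzt
        have hcard := Nat.card_zpowers z
        rw [hzt, Subgroup.card_top, hz] at hcard
        rwa [hcard]
      refine ⟨M, hMn, ?_⟩
      by_contra hne'
      exact hmax.1 (htop M hMn fun x ⟨k, hk⟩ => Degrees.mem_of_pow_eq_one hp M
        (fun h => hne' ((Nat.prime_dvd_prime_iff_eq hp hr).mp h).symm) hk)
    have hMne : M ≠ ⊤ := fun h => hp.ne_one (by rw [← hMi, h, Subgroup.index_top])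
    have hMc := hnormal M hMn hMne
    -- `χ` restricted to `M` is irreducible
    have := Fintype.ofFinite M
    obtain ⟨θ, hθ, hne⟩ := exists_irr_constituent_restrict (N := M) χ.2
    obtain ⟨e, he, hedvd⟩ := degree_quot_dvd_index χ.2 hθ hne
    have he1 : e = 1 := by
      rcases (Nat.dvd_prime hp).mp (hMi ▸ hedvd) with h | h
      · exact h
      · refine absurd ⟨Cfsg.charDegree θ, ?_⟩ hd
        have : (Cfsg.charDegree (χ : G → ℂ) : ℂ) = ((p * Cfsg.charDegree θ : ℕ) : ℂ) := by
          rw [Nat.cast_mul, BlockB.charDegree_cast (Char.irr_isCharacter χ.2),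
            BlockB.charDegree_cast (Char.irr_isCharacter hθ), he, h]
        exact_mod_cast this
    obtain ⟨R, hR, hχM⟩ := exists_add_of_constituent
      (Char.isCharacter_restrict (Char.irr_isCharacter χ.2) M) hθ hne
    have hR0 : R = 0 := eq_zero_of_apply_one_eq_zero hR (by
      have := congr_fun hχM 1
      simp only [OneMemClass.coe_one, Pi.add_apply, he, he1, Nat.cast_one, one_mul] at this
      simpa using this)
    rw [hR0, add_zero] at hχM
    -- the normal Sylow subgroup of `M`
    set Q : Subgroup G := M ⊓ P with hQdef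
    have hQmem : ∀ x ∈ M, (∃ k, x ^ p ^ k = 1) → x ∈ Q := by
      intro x hx hxp
      let S : Subgroup G :=
        { carrier := {z | z ∈ M ∧ ∃ k, z ^ p ^ k = 1}
          one_mem' := ⟨M.one_mem, 0, one_pow _⟩
          mul_mem' := by
            rintro a b ⟨ha, i, hi⟩ ⟨hb, j, hj⟩
            obtain ⟨k, hk⟩ := hMc ⟨a, ha⟩ ⟨b, hb⟩ ⟨i, Subtype.ext (by simpa using hi)⟩
              ⟨j, Subtype.ext (by simpa using hj)⟩
            exact ⟨M.mul_mem ha hb, k, by simpa using congr_arg Subtype.val hk⟩
          inv_mem' := by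
            rintro a ⟨ha, i, hi⟩
            exact ⟨M.inv_mem ha, i, by rw [inv_pow, hi, inv_one]⟩ }
      have hS : IsPGroup p S := fun z => z.2.2.imp fun k hk => Subtype.ext (by simpa using hk)
      have hSn : S.Normal := ⟨fun z hz g => ⟨hMn.conj_mem z hz.1 g, hz.2.imp fun k hk => by
        rw [conj_pow, hk, mul_one, mul_inv_cancel]⟩⟩
      have hle' : S ≤ (P : Subgroup G) := le_sup_right.trans
        (P.is_maximal' (P.isPGroup'.to_sup_of_normal_right hS) le_sup_left).le
      exact ⟨hx, hle' ⟨hx, hxp⟩⟩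
    have hQn : Q.Normal := ⟨fun x hx g => hQmem _ (hMn.conj_mem x hx.1 g) (by
      obtain ⟨k, hk⟩ := hpelt x hx.2
      exact ⟨k, by rw [conj_pow, hk, mul_one, mul_inv_cancel]⟩)⟩
    have hPM : (P : Subgroup G) ⊔ M = ⊤ := by
      have h1 := Subgroup.relIndex_mul_index (le_sup_right : M ≤ (P : Subgroup G) ⊔ M)
      rcases (Nat.dvd_prime hp).mp (hMi ▸ Subgroup.index_dvd_of_le
        (le_sup_right : M ≤ (P : Subgroup G) ⊔ M)) with h | h
      · exact Subgroup.index_eq_one.mp h
      · exfalso
        rw [h, hMi] at h1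
        exact hMne (hcont M hMn (le_sup_left.trans (Subgroup.relIndex_eq_one.mp
          (Nat.eq_of_mul_eq_mul_right hp.pos (h1.trans (one_mul p).symm)))))
    have hrelP : M.relIndex (P : Subgroup G) = p := by
      rw [← Subgroup.relIndex_sup_right, hPM, Subgroup.relIndex_top_right, hMi]
    have hQP : Q.relIndex (P : Subgroup G) = p := by
      rw [hQdef, Subgroup.inf_relIndex_right, hrelP]
    have hQM : Q.relIndex M = (P : Subgroup G).index := by
      have h1 := Subgroup.relIndex_mul_index (inf_le_left : Q ≤ M)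
      have h2 := Subgroup.relIndex_mul_index (inf_le_right : Q ≤ (P : Subgroup G))
      rw [hMi] at h1
      rw [hQP, mul_comm] at h2
      exact Nat.eq_of_mul_eq_mul_right hp.pos (h1.trans h2.symm)
    have hQlt : Q ≠ M := fun h => by
      have : (P : Subgroup G).index = 1 := by rw [← hQM, h, Subgroup.relIndex_self]
      exact hbad ((sylow_normal_iff P).mp (by rw [Subgroup.index_eq_one.mp this]; infer_instance))
    -- a chief factor `M / K` above `Q`
    obtain ⟨K, -, ⟨hKn, hQK, hKM, hKne⟩, hKmax⟩ := Finite.exists_le_maximal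
      (p := fun K : Subgroup G => K.Normal ∧ Q ≤ K ∧ K ≤ M ∧ K ≠ M)
      (a := Q) ⟨hQn, le_rfl, inf_le_left, hQlt⟩
    have hchief : ∀ L : Subgroup G, L.Normal → K ≤ L → L ≤ M → L = K ∨ L = M := by
      intro L hLn hKL hLM
      by_cases hLe : L = M
      · exact Or.inr hLe
      · exact Or.inl (le_antisymm (hKmax ⟨hLn, hQK.trans hKL, hLM, hLe⟩ hKL) hKL)
    have hab : ⁅M, M⁆ ≤ K := by
      rcases hchief (⁅M, M⁆ ⊔ K) inferInstance le_sup_right
        (sup_le (Subgroup.commutator_le_left M M) hKM) with h | h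
      · exact le_sup_left.trans h.le
      · exfalso
        have hsq : Group.IsSolvable (G ⧸ K) :=
          Group.isSolvable_of_surjective (QuotientGroup.mk'_surjective K)
        have h1 : ⁅M.map (QuotientGroup.mk' K), M.map (QuotientGroup.mk' K)⁆ =
            M.map (QuotientGroup.mk' K) := by
          conv_rhs => rw [← h]
          rw [Subgroup.map_sup, QuotientGroup.map_mk'_self, sup_bot_eq, Subgroup.map_commutator]
        refine (Group.IsSolvable.commutator_lt_of_ne_bot ?_).ne h1
        rw [Ne, Subgroup.map_eq_bot_iff, QuotientGroup.ker_mk']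
        exact fun hle' => hKne (le_antisymm hKM hle')
    set m := K.relIndex M with hm
    have hm1 : 1 < m := by
      have h0 : m ≠ 0 := fun h => (Subgroup.index_ne_zero_of_finite (H := K.subgroupOf M)) h
      have h1 : m ≠ 1 := fun h => hKne (le_antisymm hKM (Subgroup.relIndex_eq_one.mp h))
      omega
    have hcopm : ¬ p ∣ m := fun h => P.not_dvd_index (hQM ▸ h.trans
      (Subgroup.relIndex_dvd_of_le_left M hQK))
    -- `m` is a prime power
    obtain ⟨r, a, hr, hra⟩ : ∃ r a : ℕ, r.Prime ∧ m = r ^ a := by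
      obtain ⟨r, hr, hrm⟩ := Nat.exists_prime_and_dvd hm1.ne'
      haveI := Fact.mk hr
      have hcm : ∀ a ∈ M, ∀ b ∈ M, Commute (a : G ⧸ K) (b : G ⧸ K) := fun a ha b hb => by
        have h := hab (Subgroup.commutator_mem_commutator ha hb)
        rw [← QuotientGroup.eq_one_iff, commutatorElement_def] at h
        simp only [QuotientGroup.mk_mul, QuotientGroup.mk_inv] at h
        exact (mul_inv_eq_iff_eq_mul.mp (mul_inv_eq_one.mp h))
      let W : Subgroup G :=
        { carrier := {z | z ∈ M ∧ z ^ r ∈ K}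
          one_mem' := ⟨M.one_mem, by simp⟩
          mul_mem' := by
            rintro a b ⟨ha, ha'⟩ ⟨hb, hb'⟩
            refine ⟨M.mul_mem ha hb, ?_⟩
            rw [← QuotientGroup.eq_one_iff, QuotientGroup.mk_pow, QuotientGroup.mk_mul,
              (hcm a ha b hb).mul_pow, ← QuotientGroup.mk_pow, ← QuotientGroup.mk_pow,
              (QuotientGroup.eq_one_iff _).mpr ha', (QuotientGroup.eq_one_iff _).mpr hb', mul_one]
          inv_mem' := by
            rintro a ⟨ha, ha'⟩
            exact ⟨M.inv_mem ha, by rw [inv_pow]; exact K.inv_mem ha'⟩ }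
      have hWn : W.Normal := ⟨fun z hz g => ⟨hMn.conj_mem z hz.1 g, by
        rw [conj_pow]; exact hKn.conj_mem _ hz.2 g⟩⟩
      obtain ⟨z, hz⟩ := exists_prime_orderOf_dvd_card' (G := M ⧸ K.subgroupOf M) r hrm
      obtain ⟨z, rfl⟩ := QuotientGroup.mk_surjective z
      have hzW : (z : G) ∈ W := ⟨z.2, by
        have h := pow_orderOf_eq_one (z : M ⧸ K.subgroupOf M)
        rw [hz, ← QuotientGroup.mk_pow, QuotientGroup.eq_one_iff] at h
        simpa [Subgroup.mem_subgroupOf] using h⟩
      rcases hchief W hWn (fun k hk => ⟨hKM hk, K.pow_mem hk r⟩) (fun z hz => hz.1) with h | h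
      · exfalso
        rw [h] at hzW
        have : (z : M ⧸ K.subgroupOf M) = 1 := (QuotientGroup.eq_one_iff z).mpr hzW
        rw [this, orderOf_one] at hz
        exact hr.ne_one hz.symm
      · have hP' : IsPGroup r (M ⧸ K.subgroupOf M) := fun x => by
          obtain ⟨x, rfl⟩ := QuotientGroup.mk_surjective x
          refine ⟨1, ?_⟩
          rw [pow_one, ← QuotientGroup.mk_pow, QuotientGroup.eq_one_iff, Subgroup.mem_subgroupOf]
          have hx : (x : G) ∈ W := h.ge x.2
          simpa using hx.2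
        obtain ⟨a, ha⟩ := IsPGroup.iff_card.mp hP'
        exact ⟨r, a, hr, ha⟩
    let H : Subgroup G := K ⊔ (P : Subgroup G)
    have hH : H = K ⊔ (P : Subgroup G) := rfl
    have hHM : H ⊓ M = K := by
      refine le_antisymm ?_ (le_inf le_sup_left hKM)
      rintro x ⟨hx, hxM⟩
      obtain ⟨k, hk, y, hy, rfl⟩ := Subgroup.mem_sup_of_normal_left.mp (hH ▸ hx)
      have hyM : y ∈ M := by simpa using M.mul_mem (M.inv_mem (hKM hk)) hxM
      exact K.mul_mem hk (hQK ⟨hyM, hy⟩)
    have hHM' : H ⊔ M = ⊤ := top_le_iff.mp (hPM ▸ sup_le_sup_right le_sup_right M)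
    have hKH : K.relIndex H = p := by
      rw [← hHM, Subgroup.inf_relIndex_left, ← Subgroup.relIndex_sup_right, hHM',
        Subgroup.relIndex_top_right, hMi]
    have hHi : H.index = m := by
      have h1 := Subgroup.relIndex_mul_index hKM
      have h2 := Subgroup.relIndex_mul_index (le_sup_left : K ≤ H)
      rw [← hm, hMi, mul_comm, ← h2] at h1
      rw [hKH] at h1
      exact (Nat.eq_of_mul_eq_mul_left hp.pos h1).symm
    have hHne : H ≠ ⊤ := fun h => by rw [h, Subgroup.index_top] at hHi; omega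
    have hN : Subgroup.normalizer (H : Set G) ⊓ M = K := by
      have hn : (Subgroup.normalizer (H : Set G) ⊓ M).Normal := by
        rw [← Subgroup.normalizer_eq_top_iff, eq_top_iff, ← hPM]
        refine sup_le (fun x hx => ?_) (fun x hx => ?_)
        · rw [Subgroup.mem_normalizer_iff]
          intro y
          have hxN : x ∈ Subgroup.normalizer (H : Set G) :=
            Subgroup.le_normalizer (le_sup_right (a := K) hx)
          constructor
          · intro hy
            exact ⟨(Subgroup.normalizer (H : Set G)).mul_mem ((Subgroup.normalizer (H : Set G)).mul_mem hxN hy.1)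
              ((Subgroup.normalizer (H : Set G)).inv_mem hxN), hMn.conj_mem y hy.2 x⟩
          · intro hy
            have h1 := hy.1
            have h2 := hMn.conj_mem _ hy.2 x⁻¹
            simp only [inv_inv] at h2
            exact ⟨by simpa [mul_assoc] using mul_mem (mul_mem (inv_mem hxN) h1) hxN,
              by simpa [mul_assoc] using h2⟩
        · rw [Subgroup.mem_normalizer_iff]
          have key : ∀ x ∈ M, ∀ y ∈ Subgroup.normalizer (H : Set G) ⊓ M,
              x * y * x⁻¹ ∈ Subgroup.normalizer (H : Set G) ⊓ M := fun x hx y hy => by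
            have h1 : x * y * x⁻¹ * y⁻¹ ∈ K :=
              hab (Subgroup.commutator_mem_commutator hx hy.2)
            have h2 : x * y * x⁻¹ * y⁻¹ ∈ Subgroup.normalizer (H : Set G) ⊓ M :=
              ⟨Subgroup.le_normalizer (le_sup_left (b := (P : Subgroup G)) h1), hKM h1⟩
            simpa using mul_mem h2 hy
          intro y
          refine ⟨fun hy => key x hx y hy, fun hy => ?_⟩
          simpa [mul_assoc] using key x⁻¹ (M.inv_mem hx) _ hy
      rcases hchief _ hn (le_inf ((le_sup_left).trans Subgroup.le_normalizer) hKM) inf_le_right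
        with h | h
      · exact h
      · exfalso
        have hM_le : M ≤ Subgroup.normalizer (H : Set G) := h.ge.trans inf_le_left
        have hHn : H.Normal := by
          rw [← Subgroup.normalizer_eq_top_iff, eq_top_iff, ← hHM']
          exact sup_le Subgroup.le_normalizer hM_le
        exact hHne (hcont H hHn le_sup_right)
    -- `m ≡ 1 (mod p)`
    have hmod : m ≡ 1 [MOD p] := by
      have h := P.isPGroup'.card_modEq_card_fixedPoints (G ⧸ H)
      rw [← Subgroup.index_eq_card, hHi] at h
      refine h.trans ?_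
      suffices MulAction.fixedPoints (P : Subgroup G) (G ⧸ H) = {((1 : G) : G ⧸ H)} by
        rw [this, Nat.card_eq_fintype_card]
        simp
        rfl
      ext z
      simp only [MulAction.mem_fixedPoints, Set.mem_singleton_iff]
      constructor
      · intro hz
        obtain ⟨g, rfl⟩ := QuotientGroup.mk_surjective z
        have hgH : g ∈ M ⊔ H := by rw [sup_comm, hHM']; trivial
        obtain ⟨y, hy, h', hh', rfl⟩ := Subgroup.mem_sup_of_normal_left.mp hgH
        rw [QuotientGroup.mk_mul_of_mem y hh'] at hz ⊢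
        rw [QuotientGroup.eq, mul_one]
        refine H.inv_mem (le_sup_left (b := (P : Subgroup G)) ?_)
        rw [← hN]
        refine ⟨?_, hy⟩
        have hle' : H.map (MulAut.conj y⁻¹).toMonoidHom ≤ H := by
          rw [hH, Subgroup.map_sup]
          refine sup_le (le_trans ?_ le_sup_left) ?_
          · rintro _ ⟨k, hk, rfl⟩
            simpa using hKn.conj_mem k hk y⁻¹
          · rintro _ ⟨x, hx, rfl⟩
            have h1 := hz ⟨x, hx⟩
            change ((x * y : G) : G ⧸ H) = (y : G ⧸ H) at h1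
            rw [QuotientGroup.eq] at h1
            have h2 : ((x * y)⁻¹ * y) ∈ H := h1
            simpa [mul_assoc] using H.inv_mem h2
        have heq := Subgroup.eq_of_le_of_card_ge hle' (by
          rw [Subgroup.card_map_of_injective (MulAut.conj y⁻¹).injective])
        change y ∈ Subgroup.normalizer (H : Set G)
        rw [← inv_mem_iff, Subgroup.mem_normalizer_iff]
        intro w
        constructor
        · intro hw
          have : (MulAut.conj y⁻¹).toMonoidHom w ∈ H := hle' ⟨w, hw, rfl⟩
          simpa using this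
        · intro hw
          rw [← heq] at hw
          obtain ⟨v, hv, hvw⟩ := hw
          have : v = w := (MulAut.conj y⁻¹).injective (by simpa using hvw)
          exact this ▸ hv
      · rintro rfl x
        change ((x * 1 : G) : G ⧸ H) = _
        rw [QuotientGroup.eq, mul_one, mul_one]
        exact H.inv_mem (le_sup_right (a := K) x.2)
    -- the trichotomy for `θ`
    have := Fintype.ofFinite K
    have hθM : ∀ x : M, θ x = (χ : G → ℂ) x := fun x => (congr_fun hχM x).symm
    have htri := Cfsg.Agent.S0857.result M K (lt_of_le_of_ne hKM hKne) hchief hab θ hθ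
      (fun g z => by
        rw [hθM, hθM]
        exact Char.irr_isClassFunction χ.2 (z : G) g)
    have hKrel : K.relIndex M = m := rfl
    have hcast := BlockB.charDegree_cast (Char.irr_isCharacter χ.2)
    rcases htri with hirr | ⟨φ, e', hφ, hr', hee⟩ | ⟨F, hF, hFc, hFs⟩
    rotate_left
    · refine hC (concl_of_index hp hr (hra ▸ hm1) (hra ▸ hmod)
        (Or.inr ⟨e', hee.trans (hKrel.trans hra), Cfsg.charDegree φ, ?_⟩))
      have h := congr_fun hr' 1
      simp only [Pi.smul_apply, smul_eq_mul, ← BlockB.charDegree_cast (Char.irr_isCharacter hφ)] at h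
      rw [hθM] at h
      simp only [OneMemClass.coe_one] at h
      rw [← hcast] at h
      exact_mod_cast h
    · refine hC (concl_of_index hp hr (hra ▸ hm1) (hra ▸ hmod) (Or.inl ?_))
      have hF0 : F.Nonempty := Finset.card_pos.mp (by rw [hFc]; omega)
      obtain ⟨φ, hφ⟩ := hF0
      have hinner : Cfsg.classInner (fun x : K => (χ : G → ℂ) x) φ ≠ 0 := by
        have : (fun x : K => (χ : G → ℂ) x) = ∑ ψ ∈ F, ψ := by
          rw [← hFs]; funext x; rw [hθM]
        rw [this, Char.classInner_sum_left, Finset.sum_eq_single φ (fun ψ hψ hne' =>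
          Char.irr_classInner_ne (hF ψ hψ) (hF φ hφ) hne') (fun h => absurd hφ h),
          Char.irr_classInner_self (hF φ hφ)]
        exact one_ne_zero
      have hdeg : ∀ ψ ∈ F, ψ 1 = φ 1 := by
        intro ψ hψ
        have hinner' : Cfsg.classInner (fun x : K => (χ : G → ℂ) x) ψ ≠ 0 := by
          have : (fun x : K => (χ : G → ℂ) x) = ∑ ξ ∈ F, ξ := by
            rw [← hFs]; funext x; rw [hθM]
          rw [this, Char.classInner_sum_left, Finset.sum_eq_single ψ (fun ξ hξ hne' =>
            Char.irr_classInner_ne (hF ξ hξ) (hF ψ hψ) hne') (fun h => absurd hψ h),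
            Char.irr_classInner_self (hF ψ hψ)]
          exact one_ne_zero
        obtain ⟨g, rfl⟩ := exists_conj_of_constituents χ.2 (hF φ hφ) (hF ψ hψ) hinner hinner'
        rw [conjFn_apply]
        exact congr_arg φ (Subtype.ext (by simp))
      refine ⟨Cfsg.charDegree φ, ?_⟩
      have h := congr_fun hFs 1
      rw [hθM, Finset.sum_apply, Finset.sum_congr rfl hdeg, Finset.sum_const, nsmul_eq_mul, hFc,
        hKrel, ← BlockB.charDegree_cast (Char.irr_isCharacter (hF φ hφ))] at h
      simp only [OneMemClass.coe_one] at h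
      rw [← hcast, hra] at h
      exact_mod_cast h
    -- the irreducible case
    have hχK : Cfsg.IsIrrCharacter K (fun x : K => (χ : G → ℂ) x) := by
      convert hirr using 2 with x
      rw [hθM]
    have := Fintype.ofFinite H
    let f : K →* H := Subgroup.inclusion le_sup_left
    have hχH : Cfsg.IsIrrCharacter H (fun x : H => (χ : G → ℂ) x) := by
      refine isIrr_of_restrict (Char.isCharacter_restrict (Char.irr_isCharacter χ.2) H)
        (K.subgroupOf H) ?_
      exact Char.isIrrCharacter_comp_surjective hχK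
        (Subgroup.subgroupOfEquivOfLe (le_sup_left : K ≤ H)).toMonoidHom
        (Subgroup.subgroupOfEquivOfLe (le_sup_left : K ≤ H)).surjective
    have hdegH : Cfsg.charDegree (fun x : H => (χ : G → ℂ) x) =
        Cfsg.charDegree (χ : G → ℂ) := by
      have : (Cfsg.charDegree (fun x : H => (χ : G → ℂ) x) : ℂ) = Cfsg.charDegree (χ : G → ℂ) := by
        rw [hcast, BlockB.charDegree_cast (Char.irr_isCharacter hχH)]
        rfl
      exact_mod_cast this
    have hHc : PClosed p H := by
      by_contra hHb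
      exact hC (hdegH ▸ ih H (hlt H hHne) inferInstance ⟨_, hχH⟩
        (fun g hg => Subtype.ext (hfaith g (by simpa using hg))) hHb)
    have hPH : (P : Subgroup G) ≤ H := le_sup_right
    have hPn : ∀ h' ∈ H, ∀ x ∈ (P : Subgroup G), h' * x * h'⁻¹ ∈ (P : Subgroup G) := by
      intro h' hh' x hx
      refine mem_sylow_of_pclosed hHc P hPH (H.mul_mem (H.mul_mem hh' (hPH hx)) (H.inv_mem hh')) ?_
      obtain ⟨k, hk⟩ := hpelt x hx
      exact ⟨k, by rw [conj_pow, hk, mul_one, mul_inv_cancel]⟩
    have hPab : ∀ x ∈ (P : Subgroup G), ∀ y ∈ (P : Subgroup G), x * y = y * x := by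
      have : ((P : Subgroup G).subgroupOf H).Normal := ⟨fun x hx g => hPn g g.2 x hx⟩
      intro x hx y hy
      exact congr_arg Subtype.val (comm_of_not_dvd hp hχH
        (fun g hg => Subtype.ext (hfaith g (by simpa using hg))) (hdegH ▸ hd)
        ((P : Subgroup G).subgroupOf H)
        (P.isPGroup'.of_equiv (Subgroup.subgroupOfEquivOfLe hPH).symm) ⟨x, hPH hx⟩ hx ⟨y, hPH hy⟩ hy)
    have hQc : ∀ q ∈ Q, ∀ g : G, g * q = q * g := by
      have h := hcont (Subgroup.centralizer (Q : Set G)) inferInstance fun x hx =>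
        Subgroup.mem_centralizer_iff.mpr fun q hq => hPab q hq.2 x hx
      intro q hq g
      exact (Subgroup.mem_centralizer_iff.mp (h ▸ Subgroup.mem_top g) q hq).symm
    have hKc : ∀ k ∈ K, ∀ g : G, g * k = k * g := by
      have h := hcont (Subgroup.centralizer (K : Set G)) inferInstance fun x hx =>
        Subgroup.mem_centralizer_iff.mpr fun k hk => by
          set c : G → G := fun k => x * k * x⁻¹ * k⁻¹ with hcdef
          have hcQ : ∀ k ∈ K, c k ∈ Q := fun k hk =>
            ⟨hKM (K.mul_mem (hKn.conj_mem k hk x) (K.inv_mem hk)), by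
              have h1 := hPn k (le_sup_left (b := (P : Subgroup G)) hk) x⁻¹ (inv_mem hx)
              have e : c k = x * (k * x⁻¹ * k⁻¹) := by simp [hcdef, mul_assoc]
              rw [e]
              exact (P : Subgroup G).mul_mem hx h1⟩
          have hcpow : ∀ j : ℕ, c (k ^ j) = c k ^ j := by
            intro j
            induction j with
            | zero => simp [hcdef]
            | succ j ihj =>
              have hz := hcQ k hk
              calc c (k ^ (j + 1)) = x * k ^ j * x⁻¹ * (c k) * (k ^ j)⁻¹ := by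
                    simp only [hcdef, pow_succ, mul_inv_rev]; group
                _ = c (k ^ j) * c k := by
                    rw [mul_assoc _ (c k), ← hQc _ hz ((k ^ j)⁻¹)]
                    simp only [hcdef]; group
                _ = c k ^ (j + 1) := by rw [ihj, pow_succ]
          set j := Q.relIndex K with hj
          have hkj : k ^ j ∈ Q := by
            have := (Q.subgroupOf K).pow_index_mem ⟨k, hk⟩
            simpa [Subgroup.mem_subgroupOf, hj, Subgroup.relIndex] using this
          have h1 : c k ^ j = 1 := by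
            rw [← hcpow j, hcdef]
            simp only
            rw [hQc _ hkj x]
            group
          obtain ⟨i, hi⟩ := hpelt _ (hcQ k hk).2
          have hjp : ¬ p ∣ j := fun h => P.not_dvd_index (hQM ▸ h.trans
            (Dvd.intro _ (Subgroup.relIndex_mul_relIndex Q K M hQK hKM)))
          have h2 : c k = 1 := orderOf_eq_one_iff.mp (Nat.eq_one_of_dvd_coprimes
            (Nat.Coprime.pow_left i ((hp.coprime_iff_not_dvd).mpr hjp))
            (orderOf_dvd_of_pow_eq_one hi) (orderOf_dvd_of_pow_eq_one h1))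
          change x * k * x⁻¹ * k⁻¹ = 1 at h2
          rw [mul_inv_eq_one, mul_inv_eq_iff_eq_mul] at h2
          exact h2.symm
      intro k hk g
      exact (Subgroup.mem_centralizer_iff.mp (h ▸ Subgroup.mem_top g) k hk).symm
    have h1 := Char.irr_degree_one_of_comm
      (fun a b : K => Subtype.ext (hKc b b.2 a)) hχK
    simp only [OneMemClass.coe_one] at h1
    obtain ⟨lam, hlam⟩ := Char.exists_hom_of_degree_one (Char.irr_isCharacter χ.2) h1
    have hcomm : ∀ a b : G, a * b = b * a := by
      intro a b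
      have h2 := hfaith (a * b * a⁻¹ * b⁻¹) (by
        rw [hlam]
        simp only [map_mul, map_inv, map_one]
        rw [mul_comm (lam a) (lam b)]
        simp)
      rwa [mul_inv_eq_one, mul_inv_eq_iff_eq_mul] at h2
    refine hbad fun x y ⟨i, hi⟩ ⟨j, hj⟩ => ⟨i + j, ?_⟩
    rw [Commute.mul_pow (hcomm x y), pow_add, pow_mul, hi, one_pow, one_mul, mul_comm, pow_mul, hj,
      one_pow]

end CfsgLib.Clifford.NonnormalSylow
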