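import Cfsg.Agent.Lib.BlockA.FongReynolds
import Cfsg.Agent.Lib.BlockA.CoverDefectGroup
import Cfsg.Agent.Lib.BlockA.CoreBlock
import Cfsg.Agent.Lib.Clifford.ExtendCoprime
import Cfsg.Agent.Lib.Clifford.AbelianQuot
import Cfsg.Agent.Lib.Clifford.Degree
import Cfsg.Agent.Lib.PLength.Constrained
import Cfsg.Agent.Lib.PLength.Series
import Cfsg.Agent.Lib.BlockA.PrincipalType
import Cfsg.Agent.Lib.Solvable.Basic
import Cfsg.Agent.Lib.Solvable.PCore

/-!
# Heights in blocks of `p`-solvable groups

The height of a character is at most the `p`-part of the index of the centre of a defect group.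
-/

set_option autoImplicit false
set_option linter.unusedSectionVars false

namespace CfsgLib.Clifford.PSolvableHeight

open Cfsg CfsgLib CfsgLib.Block CfsgLib.BlockA
open scoped ComplexConjugate

universe u

variable {p : ℕ} [hp : Fact p.Prime] {M : Ideal AlgInt} [M.IsPrime]

/-- The bound when the character of the `p'`-core is invariant. -/
theorem height_le_invariant {G : Type u} [Group G] [Fintype G] (hM : IsPModular p M)
    (hsolv : IsPSolvable p G) {B : Set (IrrCharacter G)} (hB : IsPBlock M B) {P : Subgroup G}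
    (hP : IsDefectGroup p M B P) {χ : IrrCharacter G} (hχ : χ ∈ B)
    {K : Subgroup G} [hKn : K.Normal] [Fintype K] (hK : K = pPrimeCore p G) {θ : IrrCharacter K}
    (hcov : classInner (fun n : K => (χ : G → ℂ) n) (θ : K → ℂ) ≠ 0)
    (hinv : ∀ g : G, conjIrr K θ g = θ) :
    blockHeight p B (χ : G → ℂ) ≤ (Subgroup.center P).index.factorization p := by
  classical
  have hKp : (Nat.card K).Coprime p := hK ▸ Solvable.pPrimeCore_coprime p
  let π := QuotientGroup.mk' K
  have hsolvq : IsPSolvable p (G ⧸ K) :=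
    BlockA.isPSolvable_of_surjective π (QuotientGroup.mk'_surjective K) hsolv
  have hcen := PLength.centralizer_pCore_le_of_isPSolvable hsolvq
    (by subst hK; exact Solvable.pPrimeCore_quotient_eq_bot p)
  set Qb := pCore p (G ⧸ K)
  have hQn := Solvable.pCore_normal p (G ⧸ K)
  set N := Qb.comap π with hNdef
  have hNn : N.Normal := inferInstance
  have := Fintype.ofFinite N
  have hKN : K ≤ N := QuotientGroup.le_comap_mk' _ _
  obtain ⟨n, hn⟩ := (Solvable.pCore_isPGroup (G := G ⧸ K) p).exists_card_eq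
  have hNcard : Nat.card N = p ^ n * Nat.card K := by
    rw [hNdef, Solvable.card_comap_mk', hn]
  have hKfac : (Nat.card K).factorization p = 0 :=
    Nat.factorization_eq_zero_of_not_dvd fun h =>
      hp.out.not_dvd_one ((Nat.dvd_gcd h dvd_rfl).trans (hKp ▸ dvd_rfl))
  -- the block of `N` below `χ`
  obtain ⟨η, hη⟩ := exists_constituent_res (N := N) χ
  have hbN : IsPBlock M (blockOf M (η : N → ℂ)) := isPBlock_blockOf η
  obtain ⟨D, hD⟩ := exists_isDefectGroup hM hbN
  -- every constituent on `K` of a constituent on `N` is `θ`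
  have hθ' : conjFn (N := K) (1 : G) (θ : K → ℂ) = θ := conjFn_one _
  have hinvF : ∀ g : G, conjFn g (θ : K → ℂ) = (θ : K → ℂ) := fun g =>
    funext fun k => by
      have := congrArg (fun φ : IrrCharacter K => (φ : K → ℂ) k) (hinv g)
      simp only [conjIrr_apply] at this
      exact this
  let θN : K.subgroupOf N → ℂ := (θ : K → ℂ) ∘ Subgroup.subgroupOfEquivOfLe hKN
  have hθN : IsIrrCharacter (K.subgroupOf N) θN :=
    Char.isIrrCharacter_comp_surjective θ.2 (Subgroup.subgroupOfEquivOfLe hKN).toMonoidHom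
      (Subgroup.subgroupOfEquivOfLe hKN).surjective
  have := Fintype.ofFinite (K.subgroupOf N)
  have hinvN : ∀ (x : N) (m : K.subgroupOf N), θN (conjN x m) = θN m := fun x m =>
    congr_fun (hinvF (x : G)) (Subgroup.subgroupOfEquivOfLe hKN m)
  have hidxN : (K.subgroupOf N).index = p ^ n := by
    have h1 := (K.subgroupOf N).index_mul_card
    rw [Nat.card_congr (Subgroup.subgroupOfEquivOfLe hKN).toEquiv, hNcard] at h1
    exact Nat.eq_of_mul_eq_mul_right Nat.card_pos h1
  have hcopN : (Nat.card (K.subgroupOf N)).Coprime (K.subgroupOf N).index := by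
    rw [Nat.card_congr (Subgroup.subgroupOfEquivOfLe hKN).toEquiv, hidxN]
    exact hKp.pow_right n
  obtain ⟨Θ, hΘ, hΘres⟩ := ExtendCoprime.exists_extension (K.subgroupOf N) hcopN hθN hinvN
  have hΘθ : classInner (fun k : K.subgroupOf N => Θ k) θN ≠ 0 := by
    rw [show (fun k : K.subgroupOf N => Θ k) = θN from funext hΘres, Char.irr_classInner_self hθN]
    exact one_ne_zero
  -- the constituent `η` lies over `θ`
  have hηθ : classInner (fun k : K.subgroupOf N => (η : N → ℂ) k) θN ≠ 0 := by
    obtain ⟨R, hR, hRe⟩ := exists_add_of_constituent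
      (Char.isCharacter_restrict (Char.irr_isCharacter χ.2) N) η.2 hη
    obtain ⟨ν, hν, hν0⟩ := exists_irr_constituent (G := K.subgroupOf N)
      (Char.isCharacter_restrict (Char.irr_isCharacter η.2) _) fun h0 =>
        Char.irr_apply_one_ne_zero η.2 (by simpa using congr_fun h0 1)
    intro h0
    have hres := restrict_eq_smul_of_invariant χ.2 θ.2 hinvF hcov
    obtain ⟨a, ha⟩ := Char.classInner_isCharacter_nat
      (Char.isCharacter_restrict (Char.irr_isCharacter η.2) (K.subgroupOf N))
      (Char.irr_isCharacter hν)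
    obtain ⟨b, hb⟩ := Char.classInner_isCharacter_nat
      (Char.isCharacter_restrict hR (K.subgroupOf N)) (Char.irr_isCharacter hν)
    have hne : θN ≠ ν := fun h => hν0 (h ▸ h0)
    have h1 : classInner (fun k : K => (χ : G → ℂ) k) (θ : K → ℂ) • θN =
        (fun k : K.subgroupOf N => (η : N → ℂ) k) + fun k : K.subgroupOf N => R k := funext fun k => by
      have h2 := congr_fun hres (Subgroup.subgroupOfEquivOfLe hKN k)
      exact h2.symm.trans (congr_fun hRe k)
    have h3 := congrArg (fun f => classInner f ν) h1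
    beta_reduce at h3
    rw [Char.classInner_smul_left, Char.irr_classInner_ne hθN hν hne, mul_zero,
      Char.classInner_add_left, ha, hb] at h3
    have : a + b = 0 := by exact_mod_cast h3.symm
    exact hν0 (by rw [ha, show a = 0 by omega, Nat.cast_zero])
  have hΘmem : (⟨Θ, hΘ⟩ : IrrCharacter N) ∈ blockOf M (η : N → ℂ) :=
    sameBlock_of_constituent_of_index (G := N) (N := K.subgroupOf N) (θ := ⟨θN, hθN⟩)
      (θ' := ⟨θN, hθN⟩) hM ⟨n, hidxN⟩ (sameBlock_refl _) hηθ hΘθ
  have hdef : blockDefect p (blockOf M (η : N → ℂ)) = n := by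
    have hmin : sInf ((fun ξ : IrrCharacter N => (charDegree (ξ : N → ℂ)).factorization p) ''
        blockOf M (η : N → ℂ)) = 0 := by
      refine Nat.eq_zero_of_le_zero (le_trans (Nat.sInf_le ⟨_, hΘmem, rfl⟩) ?_)
      obtain ⟨d, hd, hd1⟩ := Char.irr_apply_one_pos hΘ
      have hdd := Char.irr_apply_one_pos hθN
      obtain ⟨d', -, hd'⟩ := hdd
      have heq : charDegree Θ = d' := by
        rw [← Nat.cast_inj (R := ℂ), charDegree_cast (Char.irr_isCharacter hΘ), ← hd', ← hΘres 1]
        rfl
      obtain ⟨m, ρ, hρ, hρc⟩ := hθN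
      have hdiv := Char.degree_dvd_card ρ
      rw [Module.finrank_fin_fun] at hdiv
      have hm : d' = m := by
        rw [← Nat.cast_inj (R := ℂ), ← hd', ← hρc, Representation.char_one, Module.finrank_fin_fun]
      show (charDegree Θ).factorization p ≤ 0
      rw [heq, hm]
      rw [Nat.card_congr (Subgroup.subgroupOfEquivOfLe hKN).toEquiv] at hdiv
      exact (Nat.factorization_eq_zero_of_not_dvd fun h =>
        hp.out.not_dvd_one ((Nat.dvd_gcd (h.trans hdiv) dvd_rfl).trans (hKp ▸ dvd_rfl))).le
    rw [blockDefect, hmin, Nat.sub_zero, hNcard, Nat.factorization_mul (pow_ne_zero _ hp.out.ne_zero)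
      Nat.card_pos.ne', Finsupp.add_apply, Nat.Prime.factorization_pow hp.out,
      Finsupp.single_eq_same, hKfac, add_zero]
  -- the defect group meets `N` in a Sylow subgroup
  set Q := D.map N.subtype with hQdef
  have hQN : Q ≤ N := Subgroup.map_subtype_le D
  have hQsub : Q.subgroupOf N = D := Subgroup.comap_map_eq_self_of_injective N.subtype_injective D
  obtain ⟨P', hP', hP'N⟩ := exists_defect_inf_eq hM hbN hB hχ (mem_blockOf_self η) hη hQN
    (by rw [hQsub]; exact hD)
  obtain ⟨x, hx⟩ := defectGroup_exists_conj hM hB hP' hP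
  have hPNcard : Nat.card (P ⊓ N : Subgroup G) = p ^ n := by
    have e : P ⊓ N = (P' ⊓ N).map (MulAut.conj x).toMonoidHom := by
      rw [hx, Subgroup.map_inf _ _ _ (MulEquiv.injective _)]
      congr 1
      refine ((Subgroup.eq_of_le_of_card_ge ?_ (natCard_map_conj _ _).ge)).symm
      rintro _ ⟨y, hy, rfl⟩
      exact hNn.conj_mem y hy x
    rw [e, natCard_map_conj, hP'N, hQdef, Subgroup.card_map_of_injective N.subtype_injective,
      natCard_defectGroup hM hbN hD, hdef]
  have hPp : IsPGroup p P := isPGroup_defectGroup hM hB hP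
  have hdis : ∀ y ∈ P, y ∈ K → y = 1 := by
    intro y hy hyK
    obtain ⟨k, hk⟩ := hPp ⟨y, hy⟩
    have hk' : y ^ p ^ k = 1 := congrArg Subtype.val hk
    rw [← orderOf_eq_one_iff]
    exact Nat.eq_one_of_dvd_coprimes (hKp.pow_right k)
      (Subgroup.orderOf_dvd_natCard _ hyK) (orderOf_dvd_of_pow_eq_one hk')
  have hPQ : (P ⊓ N).map π = Qb := by
    refine Subgroup.eq_of_le_of_card_ge (Subgroup.map_le_iff_le_comap.mpr inf_le_right) ?_
    have hbot : π.ker ⊓ (P ⊓ N) = ⊥ := (Subgroup.eq_bot_iff_forall _).mpr fun y hy =>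
      hdis y hy.2.1 ((QuotientGroup.eq_one_iff _).mp hy.1)
    rw [hn, ← hPNcard, ← Subgroup.relIndex_ker, ← Subgroup.inf_relIndex_right, hbot,
      Subgroup.relIndex_bot_left]
  -- the centre of the defect group maps into the centre of the `p`-core of the quotient
  set Zb : Subgroup (G ⧸ K) := (Subgroup.center Qb).map Qb.subtype with hZb
  haveI : Zb.Normal := ConjAct.normal_of_characteristic_of_normal
  have hZmem : ∀ z : P, z ∈ Subgroup.center P → π (z : G) ∈ Zb := by
    intro z hz
    have hcomm : ∀ q ∈ Qb, q * π (z : G) = π (z : G) * q := by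
      intro q hq
      rw [← hPQ] at hq
      obtain ⟨y, hy, rfl⟩ := hq
      rw [← map_mul, ← map_mul]
      exact congrArg π (congrArg Subtype.val (Subgroup.mem_center_iff.mp hz ⟨y, hy.1⟩))
    have hzQ : π (z : G) ∈ Qb := hcen (Subgroup.mem_centralizer_iff.mpr fun q hq => hcomm q hq)
    exact ⟨⟨_, hzQ⟩, Subgroup.mem_center_iff.mpr fun q => Subtype.ext (hcomm q q.2), rfl⟩
  have hZdvd : Nat.card (Subgroup.center P) ∣ Nat.card Zb := by
    let j : Subgroup.center P →* Zb :=
      { toFun := fun z => ⟨π ((z : P) : G), hZmem z z.2⟩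
        map_one' := Subtype.ext (map_one π)
        map_mul' := fun _ _ => Subtype.ext (map_mul π _ _) }
    refine Subgroup.card_dvd_of_injective j ((injective_iff_map_eq_one j).mpr fun z hz => ?_)
    exact Subtype.ext (Subtype.ext (hdis _ (z : P).2
      ((QuotientGroup.eq_one_iff _).mp (congrArg Subtype.val hz))))
  set L := Zb.comap π with hL
  haveI : L.Normal := inferInstance
  have := Fintype.ofFinite L
  have hKL : K ≤ L := QuotientGroup.le_comap_mk' _ _
  have hLcard : Nat.card L = Nat.card Zb * Nat.card K := Solvable.card_comap_mk' K Zb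
  -- a constituent on `L` has the degree of `θ`
  let θL : K.subgroupOf L → ℂ := (θ : K → ℂ) ∘ Subgroup.subgroupOfEquivOfLe hKL
  have hθL : IsIrrCharacter (K.subgroupOf L) θL :=
    Char.isIrrCharacter_comp_surjective θ.2 (Subgroup.subgroupOfEquivOfLe hKL).toMonoidHom
      (Subgroup.subgroupOfEquivOfLe hKL).surjective
  have := Fintype.ofFinite (K.subgroupOf L)
  have hinvL : ∀ x : L, conjFn x θL = θL := fun x => funext fun m =>
    congr_fun (hinvF (x : G)) (Subgroup.subgroupOfEquivOfLe hKL m)
  have hZbp : IsPGroup p Zb :=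
    ((Solvable.pCore_isPGroup (G := G ⧸ K) p).to_subgroup _).map Qb.subtype
  obtain ⟨l, hl⟩ := hZbp.exists_card_eq
  have hcopL : (Nat.card (K.subgroupOf L)).Coprime (K.subgroupOf L).index := by
    rw [Nat.card_congr (Subgroup.subgroupOfEquivOfLe hKL).toEquiv]
    have h1 := (K.subgroupOf L).index_mul_card
    rw [Nat.card_congr (Subgroup.subgroupOfEquivOfLe hKL).toEquiv, hLcard, hl] at h1
    rw [Nat.eq_of_mul_eq_mul_right Nat.card_pos h1]
    exact hKp.pow_right l
  obtain ⟨Φ, hΦ, hΦres⟩ := ExtendCoprime.exists_extension (K.subgroupOf L) hcopL hθL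
    fun x m => congr_fun (hinvL x) m
  have hab : ∀ a c : L, a * c * a⁻¹ * c⁻¹ ∈ K.subgroupOf L := fun a c => by
    obtain ⟨qa, hqa, ea⟩ := a.2
    obtain ⟨qc, hqc, ec⟩ := c.2
    rw [Subgroup.mem_subgroupOf, ← QuotientGroup.eq_one_iff]
    show π ((a : G) * (c : G) * (a : G)⁻¹ * (c : G)⁻¹) = 1
    rw [map_mul, map_mul, map_mul, map_inv, map_inv, ← ea, ← ec, ← map_inv, ← map_inv, ← map_mul,
      ← map_mul, ← map_mul, Subgroup.mem_center_iff.mp hqc qa]
    simp
  have hres := restrict_eq_smul_of_invariant χ.2 θ.2 hinvF hcov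
  obtain ⟨φ, hφ, hφχ, hφθ⟩ := exists_constituent_over (H := K.subgroupOf L)
    (F := fun y : L => (χ : G → ℂ) y) (θ := θL)
    (Char.isCharacter_restrict (Char.irr_isCharacter χ.2) L) (by
      rw [show (fun y : K.subgroupOf L => (χ : G → ℂ) (y : L)) =
        classInner (fun n : K => (χ : G → ℂ) n) (θ : K → ℂ) • θL from
          funext fun y => congr_fun hres (Subgroup.subgroupOfEquivOfLe hKL y),
        Char.classInner_smul_left, Char.irr_classInner_self hθL, mul_one]
      exact hcov)
  obtain ⟨lam, hlam, hΦφ⟩ := exists_twist_of_abelian_quot hab hθL hinvL hΦ hφ (by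
    rw [show (fun n : K.subgroupOf L => Φ n) = θL from funext hΦres, Char.irr_classInner_self hθL]
    exact one_ne_zero) hφθ
  obtain ⟨e, he, hedvd⟩ := degree_quot_dvd_index (N := L) χ.2 hφ hφχ
  obtain ⟨d', -, hd'⟩ := Char.irr_apply_one_pos θ.2
  have hdeg : charDegree (χ : G → ℂ) = e * d' := by
    rw [← Nat.cast_inj (R := ℂ), charDegree_cast (Char.irr_isCharacter χ.2), he, hΦφ, Nat.cast_mul,
      ← hd']
    have := hΦres 1
    simp only [map_one, Units.val_one, one_mul, OneMemClass.coe_one] at this ⊢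
    rw [this]
    simp [θL]
  have hd0 : d'.factorization p = 0 := by
    obtain ⟨m, ρ, hρ, hρc⟩ := θ.2
    have hdiv := Char.degree_dvd_card ρ
    rw [Module.finrank_fin_fun] at hdiv
    have hm : d' = m := by
      rw [← Nat.cast_inj (R := ℂ), ← hd', ← hρc, Representation.char_one, Module.finrank_fin_fun]
    rw [hm]
    exact Nat.factorization_eq_zero_of_not_dvd fun h =>
      hp.out.not_dvd_one ((Nat.dvd_gcd (h.trans hdiv) dvd_rfl).trans (hKp ▸ dvd_rfl))
  have hdne := charDegree_ne_zero χ.2
  rw [hdeg] at hdne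
  have hv : (charDegree (χ : G → ℂ)).factorization p ≤ L.index.factorization p := by
    rw [hdeg, Nat.factorization_mul (left_ne_zero_of_mul hdne) (right_ne_zero_of_mul hdne),
      Finsupp.add_apply, hd0, add_zero]
    exact (Nat.factorization_le_iff_dvd (left_ne_zero_of_mul hdne)
      Subgroup.index_ne_zero_of_finite).mpr hedvd p
  have hGL : (Nat.card G).factorization p = L.index.factorization p + (Nat.card Zb).factorization p := by
    rw [← L.index_mul_card, hLcard, Nat.factorization_mul Subgroup.index_ne_zero_of_finite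
      (mul_ne_zero Nat.card_pos.ne' Nat.card_pos.ne'), Nat.factorization_mul Nat.card_pos.ne'
      Nat.card_pos.ne', Finsupp.add_apply, Finsupp.add_apply, hKfac, add_zero]
  have hzle : (Nat.card (Subgroup.center P)).factorization p ≤ (Nat.card Zb).factorization p :=
    (Nat.factorization_le_iff_dvd Nat.card_pos.ne' Nat.card_pos.ne').mpr hZdvd p
  have hPd : (Nat.card P).factorization p = blockDefect p B := by
    rw [natCard_defectGroup hM hB hP, Nat.Prime.factorization_pow hp.out, Finsupp.single_eq_same]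
  rw [← (Subgroup.center P).index_mul_card, Nat.factorization_mul Subgroup.index_ne_zero_of_finite
    Nat.card_pos.ne', Finsupp.add_apply, blockDefect] at hPd
  have hmle : sInf ((fun ξ : IrrCharacter G => (charDegree (ξ : G → ℂ)).factorization p) '' B) ≤
      (charDegree (χ : G → ℂ)).factorization p := Nat.sInf_le ⟨χ, hχ, rfl⟩
  rw [blockHeight]
  omega

/-- The bound in general. -/
theorem height_le (hM : IsPModular p M) (k : ℕ) : ∀ {G : Type u} [Group G] [Fintype G],
    IsPSolvable p G → Nat.card G ≤ k → ∀ {B : Set (IrrCharacter G)}, IsPBlock M B →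
      ∀ {P : Subgroup G}, IsDefectGroup p M B P → ∀ {χ : IrrCharacter G}, χ ∈ B →
        blockHeight p B (χ : G → ℂ) ≤ (Subgroup.center P).index.factorization p := by
  induction k with
  | zero =>
    intro G _ _ _ h0
    have := Nat.card_pos (α := G)
    omega
  | succ k ih =>
    intro G _ _ hsolv hcard B hB P hP χ hχ
    classical
    have hKn := Solvable.pPrimeCore_normal p G
    have := Fintype.ofFinite (pPrimeCore p G)
    obtain ⟨θ, hθ⟩ := exists_constituent_res (N := pPrimeCore p G) χ
    by_cases hinv : ∀ g : G, conjIrr (pPrimeCore p G) θ g = θ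
    · exact height_le_invariant hM hsolv hB hP hχ rfl hθ hinv
    have hKp : ¬ p ∣ Nat.card (pPrimeCore p G) := fun h => hp.out.not_dvd_one
      ((Nat.dvd_gcd h dvd_rfl).trans ((Solvable.pPrimeCore_coprime (G := G) p) ▸ dvd_rfl))
    set b : Set (IrrCharacter (pPrimeCore p G)) := {θ}
    have hb : IsPBlock M b := isPBlock_singleton hM hKp θ
    let T : Subgroup G :=
      { carrier := {g | conjIrr (pPrimeCore p G) θ g = θ}
        one_mem' := conjIrr_one θ
        mul_mem' := fun {a c} ha hc => by
          show conjIrr _ θ (a * c) = θ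
          rw [← conjIrr_conjIrr, ha, hc]
        inv_mem' := fun {a} ha => by
          show conjIrr _ θ a⁻¹ = θ
          have h : conjIrr _ (conjIrr (pPrimeCore p G) θ a) a⁻¹ = conjIrr _ θ (a * a⁻¹) :=
            conjIrr_conjIrr θ a a⁻¹
          rwa [ha, mul_inv_cancel, conjIrr_one] at h }
    have hT : ∀ g : G, g ∈ T ↔ ∀ φ ∈ b, conjIrr (pPrimeCore p G) φ g ∈ b := fun g => by
      simp [b, T]
    have hNT : pPrimeCore p G ≤ T := fun m hm => Subtype.ext (funext fun y => by
      rw [conjIrr_apply]
      exact Char.irr_isClassFunction θ.2 y ⟨m, hm⟩)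
    have hlt : Nat.card T ≤ k := by
      have hne : T ≠ ⊤ := fun e => hinv fun g => (e ▸ Subgroup.mem_top g : g ∈ T)
      have h1 : Nat.card T ≠ Nat.card G := fun e => hne ((Subgroup.card_eq_iff_eq_top T).mp e)
      have := T.card_le_card_group
      omega
    have := Fintype.ofFinite T
    obtain ⟨ψ, hov, hψ⟩ := exists_indFun_stab hNT hb hT (Set.mem_singleton θ) hθ
    have hB' : IsPBlock M (blockOf M (ψ : T → ℂ)) := isPBlock_blockOf ψ
    obtain ⟨A, hA, -, -, -, hAmem⟩ :=
      exists_induced_stab hNT hM hb hT hB' (mem_blockOf_self ψ) hov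
    have hχA : χ ∈ A := (hAmem χ).2 ⟨ψ, mem_blockOf_self ψ, hψ.symm⟩
    have hind : IsInducedBlock M T (blockOf M (ψ : T → ℂ)) B :=
      isPBlock_eq_of_mem hA.2.1 hB hχA hχ ▸ hA
    obtain ⟨χ', -, hχ', hh⟩ :=
      height_stab hNT hM hb hT hB' hind (mem_blockOf_self ψ) hov (mem_blockOf_self ψ)
    rw [show (χ : G → ℂ) = χ' from hψ.symm.trans hχ'.symm, hh]
    obtain ⟨D, hD⟩ := exists_isDefectGroup hM hB'
    refine (ih (PLength.isPSolvable_subgroup hsolv T) hlt hB' hD (mem_blockOf_self ψ)).trans (le_of_eq ?_)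
    obtain ⟨x, hx⟩ := defectGroup_exists_conj hM hB
      (defect_stab hNT hM hb hT hB' hind (mem_blockOf_self ψ) hov hD) hP
    let e : D ≃* P := ((D.equivMapOfInjective T.subtype T.subtype_injective).trans
      ((D.map T.subtype).equivMapOfInjective (MulAut.conj x).toMonoidHom
        (MulEquiv.injective _))).trans (MulEquiv.subgroupCongr hx.symm)
    rw [← Subgroup.index_map_equiv (Subgroup.center D) e,
      show (Subgroup.center D).map (e : D →* P) = Subgroup.center P from ?_]
    ext y
    rw [show y ∈ (Subgroup.center D).map (e : D →* P) ↔ e.symm y ∈ Subgroup.center D from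
      Subgroup.mem_map_equiv, Subgroup.mem_center_iff, Subgroup.mem_center_iff]
    exact ⟨fun h g => e.symm.injective (by rw [map_mul, map_mul]; exact h (e.symm g)),
      fun h g => e.injective (by rw [map_mul, map_mul, e.apply_symm_apply]; exact h (e g))⟩

end CfsgLib.Clifford.PSolvableHeight
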