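import Cfsg.Agent.Lib.BlockB.TwoPrimeDegrees
import Cfsg.Agent.Lib.Block.PrimeSylowPrincipal
import Cfsg.Agent.Lib.BlockB.PModular
import Cfsg.Agent.Lib.BlockB.ClassMul
import Cfsg.Agent.Lib.Transfer.Frobenius
import Cfsg.Agent.Lib.Clifford.Degrees

/-!
# Groups whose nonlinear degrees are primes are solvable
-/

set_option autoImplicit false
set_option linter.unusedSectionVars false

namespace CfsgLib.Clifford.PrimeDegrees

open CfsgLib Module
open scoped commutatorElement ComplexConjugate

universe u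

variable {G : Type u} [Group G] [Finite G]

/-- The principal block with a Sylow subgroup of prime order has a nonprincipal member of degree
`±1` modulo `p` unless the centralizer of the Sylow subgroup is its normalizer. -/
theorem exists_degree_pm_one {p : ℕ} [Fact p.Prime] (M : Ideal Cfsg.AlgInt)
    (hM : Cfsg.IsPModular p M) (P : Sylow p G) (hP : Nat.card P = p)
    (hne : ¬ Subgroup.normalizer ((P : Subgroup G) : Set G) ≤
      Subgroup.centralizer ((P : Subgroup G) : Set G)) :
    ∃ χ : Cfsg.IrrCharacter G, (χ : G → ℂ) ≠ (fun _ => 1) ∧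
      ((Cfsg.charDegree (χ : G → ℂ) : ℤ) ≡ 1 [ZMOD p] ∨
        (Cfsg.charDegree (χ : G → ℂ) : ℤ) ≡ -1 [ZMOD p]) := by
  classical
  have hp : p.Prime := Fact.out
  have := hM.2.1.isPrime
  have := Fintype.ofFinite (Cfsg.IrrCharacter G)
  obtain ⟨E, a, hE, hcount, hshape, hdeg, -, horth, -⟩ := Block.PrimeRows.exists_rows p M hM P hP _ rfl
  set e := (Subgroup.centralizer ((P : Subgroup G) : Set G)).relIndex
    (Subgroup.normalizer ((P : Subgroup G) : Set G)) with hedef
  set B := Cfsg.principalBlock M G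
  let one' : Cfsg.IrrCharacter G := ⟨fun _ => 1, Char.isIrrCharacter_one⟩
  have hT : Fintype.card (ZMod p)ˣ = p - 1 := ZMod.card_units p
  have hp1 : (((p - 1 : ℕ) : ℤ)) ≡ -1 [ZMOD p] := by
    rw [Nat.cast_sub hp.one_le, Nat.cast_one]
    exact (Int.modEq_iff_dvd.2 ⟨-1, by ring⟩)
  by_contra hno
  push Not at hno
  have hnc : ∀ χ ∈ B, χ ≠ one' → ∀ c : ℤ, (c = 1 ∨ c = -1) → ¬ ∀ v, a χ v = c := by
    intro χ hχ hne' c hc hall
    have h := hdeg χ hχ
    rw [Finset.sum_congr rfl (fun v _ => hall v), Finset.sum_const, Finset.card_univ, hT,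
      nsmul_eq_mul] at h
    have h' := h.trans (hp1.mul_right c)
    obtain ⟨h1, h2⟩ := hno χ (fun e' => hne' (Subtype.ext e'))
    rcases hc with rfl | rfl
    · exact h2 (by simpa using h')
    · exact h1 (by simpa using h')
  have hmemone : one' ∈ B := Block.one_mem_principalBlock
  have hdeg1 : Cfsg.charDegree (one' : G → ℂ) = 1 := by simp [Cfsg.charDegree, one']
  -- the index of the inertial quotient
  have he1 : e ≠ 1 := fun h => hne (Subgroup.relIndex_eq_one.1 h)
  have he0 : e ≠ 0 := hE ▸ Nat.card_pos.ne'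
  have heT : e ∣ p - 1 := by
    rw [← hE, ← hT, ← Nat.card_eq_fintype_card]; exact Subgroup.card_subgroup_dvd_card E
  -- if `E` is everything a nonprincipal row is constant
  have hEtop : E ≠ ⊤ := by
    intro hEt
    obtain ⟨χ, hχ, hne'⟩ : ∃ χ ∈ B, χ ≠ one' := by
      by_contra h
      push Not at h
      have hB : Nat.card B = 1 := Nat.card_eq_one_iff_exists.2
        ⟨⟨one', hmemone⟩, fun x => Subtype.ext (h x.1 x.2)⟩
      rw [hEt, Subgroup.card_top, Nat.card_eq_fintype_card, hT] at hE
      rw [hB, ← hE, one_mul] at hcount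
      have : (p - 1) * (p - 1) = 0 := by omega
      rw [Nat.mul_eq_zero] at this
      have := hp.two_le
      omega
    obtain ⟨c, hc, hs | ⟨w, hs⟩⟩ := hshape χ hχ
    · exact hnc χ hχ hne' c hc hs
    · exact hnc χ hχ hne' c hc fun v => (hs v).1 (hEt ▸ Subgroup.mem_top _)
  -- the principal row is constant and all others are cosets: count
  have hone : ∀ v, a one' v ^ 2 = 1 := by
    obtain ⟨c, hc, hs | ⟨w, hs⟩⟩ := hshape one' hmemone
    · exact fun v => by rw [hs]; rcases hc with rfl | rfl <;> norm_num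
    · exfalso
      have h := hdeg one' hmemone
      rw [hdeg1, Nat.cast_one] at h
      have hsum : ∑ v, a one' v = c * e := by
        rw [← Finset.sum_filter_add_sum_filter_not Finset.univ (fun v => w⁻¹ * v ∈ E),
          Finset.sum_congr rfl (fun v hv => (hs v).1 (Finset.mem_filter.1 hv).2), Finset.sum_const,
          Finset.sum_eq_zero (fun v hv => (hs v).2 (Finset.mem_filter.1 hv).2), add_zero,
          nsmul_eq_mul, mul_comm]
        congr 1
        rw [← hE, Nat.card_eq_fintype_card]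
        norm_cast
        rw [← Fintype.card_subtype]
        exact Fintype.card_congr (Equiv.subtypeEquiv (Equiv.mulLeft w⁻¹) fun v => Iff.rfl)
      rw [hsum] at h
      have hlt : e < p - 1 := lt_of_le_of_ne (Nat.le_of_dvd (by have := hp.two_le; omega) heT) fun h0 =>
        hEtop (Subgroup.eq_top_of_card_eq E (by rw [hE, Nat.card_eq_fintype_card, hT, h0]))
      have hd := Int.modEq_iff_dvd.1 h
      have hp2 := hp.two_le
      rcases hc with rfl | rfl
      · have := Int.eq_zero_of_dvd_of_nonneg_of_lt (m := (1 : ℤ) * e - 1) (by omega) (by omega) hd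
        omega
      · have hd' : (p : ℤ) ∣ (e : ℤ) + 1 := by
          have := hd.neg_right
          simpa [add_comm] using this
        have := Int.eq_zero_of_dvd_of_nonneg_of_lt (m := (e : ℤ) + 1) (by omega) (by omega) hd'
        omega
  -- each column
  have hcol : ∀ r, ∑ χ ∈ B.toFinite.toFinset, a χ r ^ 2 = 1 + (e : ℤ) := by
    intro r
    have h := horth r r
    rw [finsum_mem_eq_finite_toFinset_sum _ B.toFinite, inv_mul_cancel, if_pos (one_mem E)] at h
    simpa [sq] using h
  have hsum := Finset.sum_congr rfl (fun r (_ : r ∈ (Finset.univ : Finset (ZMod p)ˣ)) => hcol r)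
  rw [Finset.sum_comm, Finset.sum_const, Finset.card_univ, hT, nsmul_eq_mul,
    ← Finset.add_sum_erase _ _ (B.toFinite.mem_toFinset.2 hmemone),
    Finset.sum_congr rfl (fun v _ => hone v), Finset.sum_const, Finset.card_univ, hT] at hsum
  have hrest : ∀ χ ∈ B.toFinite.toFinset.erase one', ∑ v, a χ v ^ 2 = (e : ℤ) := by
    intro χ hχ
    obtain ⟨hne', hχB⟩ := Finset.mem_erase.1 hχ
    rw [Set.Finite.mem_toFinset] at hχB
    obtain ⟨c, hc, hs | ⟨w, hs⟩⟩ := hshape χ hχB
    · exact absurd hs (hnc χ hχB hne' c hc)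
    rw [← Finset.sum_filter_add_sum_filter_not Finset.univ (fun v => w⁻¹ * v ∈ E),
      Finset.sum_congr rfl (g := fun _ => (1 : ℤ)) (fun v hv => by
        rw [(hs v).1 (Finset.mem_filter.1 hv).2]; rcases hc with rfl | rfl <;> norm_num),
      Finset.sum_const,
      Finset.sum_eq_zero (fun v hv => by rw [(hs v).2 (Finset.mem_filter.1 hv).2]; norm_num),
      add_zero, nsmul_eq_mul, mul_one, ← hE, Nat.card_eq_fintype_card]
    norm_cast
    rw [← Fintype.card_subtype]
    exact Fintype.card_congr (Equiv.subtypeEquiv (Equiv.mulLeft w⁻¹) fun v => Iff.rfl)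
  rw [Finset.sum_congr rfl hrest, Finset.sum_const,
    Finset.card_erase_of_mem (B.toFinite.mem_toFinset.2 hmemone), ← Nat.card_eq_card_finite_toFinset,
    nsmul_eq_mul, nsmul_eq_mul] at hsum
  have hp2 := hp.two_le
  have hB1 : 1 ≤ Nat.card B := Nat.one_le_iff_ne_zero.2 fun h => by
    rw [h, zero_mul] at hcount; omega
  push_cast [hB1, hp.one_le] at hsum
  have hc' : (Nat.card B : ℤ) * e = e * e + ((p : ℤ) - 1) := by
    have := congrArg (fun n : ℕ => (n : ℤ)) hcount
    push_cast [hp.one_le] at this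
    exact this
  have hlt : e < p - 1 := lt_of_le_of_ne (Nat.le_of_dvd (by omega) heT) fun h0 =>
    hEtop (Subgroup.eq_top_of_card_eq E (by rw [hE, Nat.card_eq_fintype_card, hT, h0]))
  have h2e : 2 ≤ e := by omega
  have hlt' : (e : ℤ) < (p : ℤ) - 1 := by omega
  have h2e' : (2 : ℤ) ≤ e := by omega
  nlinarith [mul_pos (show (0 : ℤ) < e - 1 by omega) (show (0 : ℤ) < (p : ℤ) - 1 - e by omega)]

/-- A nonabelian simple group has a nonlinear degree that is not prime. -/
theorem comm_of_simple [IsSimpleGroup G]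
    (h : ∀ χ : Cfsg.IrrCharacter G, Cfsg.charDegree (χ : G → ℂ) ≠ 1 →
      (Cfsg.charDegree (χ : G → ℂ)).Prime) (a b : G) : a * b = b * a := by
  classical
  by_contra hab'
  have hab : ¬ ∀ a b : G, a * b = b * a := fun h => hab' (h a b)
  have := Fintype.ofFinite G
  have := Fintype.ofFinite (Cfsg.IrrCharacter G)
  obtain ⟨χ₁, hχ₁⟩ : ∃ χ : Cfsg.IrrCharacter G, Cfsg.charDegree (χ : G → ℂ) ≠ 1 := by
    by_contra hc
    push Not at hc
    exact hab (Char.comm_iff_forall_degree_one.mpr fun χ => by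
      rw [← BlockB.charDegree_cast (Char.irr_isCharacter χ.2), hc χ, Nat.cast_one])
  obtain ⟨χm, -, hmax⟩ := Finset.exists_max_image (Finset.univ : Finset (Cfsg.IrrCharacter G))
    (fun χ => Cfsg.charDegree (χ : G → ℂ)) ⟨χ₁, Finset.mem_univ _⟩
  set p := Cfsg.charDegree (χm : G → ℂ) with hpdef
  have hp1 : p ≠ 1 := fun he => hχ₁ (le_antisymm (he ▸ hmax χ₁ (Finset.mem_univ _))
    ((h χ₁ hχ₁).one_le))
  have hp : p.Prime := h χm hp1
  have := Fact.mk hp
  -- otherwise two primes suffice
  have hsol : ∀ q : ℕ, q.Prime → (∀ χ : Cfsg.IrrCharacter G, Cfsg.charDegree (χ : G → ℂ) ≠ 1 →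
      Cfsg.charDegree (χ : G → ℂ) = p ∨ Cfsg.charDegree (χ : G → ℂ) = q) → False := by
    intro q hq hall
    refine hab (BlockB.TwoPrimeDegrees.comm_of_simple p q hp hq ?_)
    rintro r ⟨hr, d, ⟨χ, rfl⟩, hd⟩
    by_cases h1 : Cfsg.charDegree (χ : G → ℂ) = 1
    · rw [h1] at hd; exact absurd (Nat.dvd_one.1 hd) hr.ne_one
    rcases hall χ h1 with e | e <;> rw [e] at hd
    · exact Or.inl ((Nat.prime_dvd_prime_iff_eq hr hp).1 hd)
    · exact Or.inr ((Nat.prime_dvd_prime_iff_eq hr hq).1 hd)
  obtain ⟨χ₂, hχ₂, hχ₂p⟩ : ∃ χ : Cfsg.IrrCharacter G, Cfsg.charDegree (χ : G → ℂ) ≠ 1 ∧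
      Cfsg.charDegree (χ : G → ℂ) ≠ p := by
    by_contra hc
    push Not at hc
    exact hsol p hp fun χ hχ => Or.inl (hc χ hχ)
  obtain ⟨P⟩ : Nonempty (Sylow p G) := inferInstance
  -- the Sylow subgroup is abelian
  have hPc : ∀ x ∈ (P : Subgroup G), ∀ y ∈ (P : Subgroup G), x * y = y * x := by
    intro x hx y hy
    have hq : Cfsg.charDegree (χ₂ : G → ℂ) < p :=
      lt_of_le_of_ne (hmax χ₂ (Finset.mem_univ _)) hχ₂p
    set φ : ↥(P : Subgroup G) → ℂ := fun u => (χ₂ : G → ℂ) u
    have := Fintype.ofFinite (P : Subgroup G)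
    have := Fintype.ofFinite (Cfsg.IrrCharacter (P : Subgroup G))
    have hφ : Cfsg.IsCharacter (P : Subgroup G) φ :=
      Char.isCharacter_restrict (Char.irr_isCharacter χ₂.2) _
    have hnat : ∀ η : Cfsg.IrrCharacter (P : Subgroup G), ∃ c : ℕ,
        Cfsg.classInner φ (η : ↥(P : Subgroup G) → ℂ) = c := fun η =>
      Char.classInner_isCharacter_nat hφ (Char.irr_isCharacter η.2)
    choose c hc using hnat
    have hexp : ∀ g, φ g = ∑ η : Cfsg.IrrCharacter (P : Subgroup G),
        (c η : ℂ) * (η : ↥(P : Subgroup G) → ℂ) g := fun g => by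
      simp only [← hc]
      conv_lhs => rw [Char.classFunction_eq_sum (Char.isCharacter_isClassFunction hφ)]
      simp
    have hdeg : ∑ η : Cfsg.IrrCharacter (P : Subgroup G),
        c η * Cfsg.charDegree (η : ↥(P : Subgroup G) → ℂ) = Cfsg.charDegree (χ₂ : G → ℂ) := by
      have e1 := hexp 1
      simp only [φ, Subgroup.coe_one, ← BlockB.charDegree_cast (Char.irr_isCharacter χ₂.2),
        ← BlockB.charDegree_cast (Char.irr_isCharacter (Subtype.prop _))] at e1
      exact_mod_cast e1.symm
    set g₀ : (P : Subgroup G) := ⁅(⟨x, hx⟩ : ↥(P : Subgroup G)), (⟨y, hy⟩ : ↥(P : Subgroup G))⁆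
    have hval : φ g₀ = φ 1 := by
      rw [hexp, hexp]
      refine Finset.sum_congr rfl fun η _ => ?_
      by_cases hc0 : c η = 0
      · simp [hc0]
      congr 1
      have hlin : (η : ↥(P : Subgroup G) → ℂ) 1 = 1 := by
        rw [← BlockB.charDegree_cast (Char.irr_isCharacter η.2)]
        have h1 : Cfsg.charDegree (η : ↥(P : Subgroup G) → ℂ) < p := by
          refine lt_of_le_of_lt ?_ hq
          rw [← hdeg]
          exact le_trans (Nat.le_mul_of_pos_left _ (Nat.pos_of_ne_zero hc0))
            (Finset.single_le_sum (f := fun η => c η * Cfsg.charDegree (η : ↥(P : Subgroup G) → ℂ))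
              (fun _ _ => Nat.zero_le _) (Finset.mem_univ η))
        obtain ⟨k, hk⟩ := IsPGroup.iff_card.1 P.isPGroup'
        obtain ⟨i, -, hi⟩ := (Nat.dvd_prime_pow hp).1
          (hk ▸ Degrees.charDegree_dvd_card η.2)
        rw [hi] at h1 ⊢
        have : i = 0 := by
          by_contra h0
          exact absurd h1 (not_lt.2 (Nat.le_self_pow h0 p))
        simp [this]
      obtain ⟨l, hl⟩ := Char.exists_hom_of_degree_one (Char.irr_isCharacter η.2) hlin
      rw [hl]
      have hl1 : l g₀ = 1 := by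
        show l ⁅(⟨x, hx⟩ : ↥(P : Subgroup G)), ⟨y, hy⟩⁆ = 1
        rw [map_commutatorElement, commutatorElement_eq_one_iff_mul_comm]
        exact mul_comm _ _
      show (l g₀ : ℂ) = (l 1 : ℂ)
      rw [hl1, map_one]
    obtain ⟨n, ρ, hρ, hρc⟩ := χ₂.2
    have hker : (MonoidHom.ker ρ : Subgroup G) = ⊥ := by
      refine ((MonoidHom.normal_ker ρ).eq_bot_or_eq_top).resolve_right fun ht => hχ₂ ?_
      have h1 : ρ.character = fun _ => 1 := Char.char_eq_one_of_trivial ρ fun g =>
        MonoidHom.mem_ker.mp (ht ▸ Subgroup.mem_top g)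
      rw [← Nat.cast_inj (R := ℂ), BlockB.charDegree_cast (Char.irr_isCharacter χ₂.2), ← hρc, h1,
        Nat.cast_one]
    have h1 : (g₀ : G) = 1 := by
      refine (MonoidHom.ker_eq_bot_iff ρ).1 hker ?_
      rw [map_one]
      refine (Char.char_eq_finrank_iff ρ _).1 ?_
      have e1 : φ g₀ = ρ.character (g₀ : G) := (congrFun hρc _).symm
      rw [← e1, hval, ← Representation.char_one ρ]
      exact (congrFun hρc 1).symm
    exact congrArg Subtype.val (commutatorElement_eq_one_iff_mul_comm.1 (Subtype.ext h1 : g₀ = 1))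
  -- the Sylow subgroup has order `p`
  obtain ⟨n, ρ, hρ, hρc⟩ := χm.2
  have hn : n = p := by
    have e : (p : ℂ) = (n : ℂ) := by
      rw [hpdef, BlockB.charDegree_cast (Char.irr_isCharacter χm.2), ← hρc,
        Representation.char_one]; simp
    exact_mod_cast e.symm
  have hpd : p ∣ Nat.card G := Degrees.charDegree_dvd_card χm.2
  have hcard : Nat.card (P : Subgroup G) = p := by
    obtain ⟨k, hk⟩ := BlockB.sum_conj_subgroup_eq (P : Subgroup G) χm
    rw [Finset.sum_eq_single (1 : (P : Subgroup G))] at hk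
    · rw [Subgroup.coe_one, ← hρc, Representation.char_one, Complex.conj_natCast] at hk
      have hfr : finrank ℂ (Fin n → ℂ) = p := by simp [hn]
      rw [hfr] at hk
      have hk' : p = Nat.card (P : Subgroup G) * k := by exact_mod_cast hk
      exact ((Nat.dvd_prime hp).1 ⟨k, hk'⟩).resolve_left
        fun h1 => hp.not_dvd_one (h1 ▸ P.dvd_card_of_dvd_card hpd)
    · intro u _ hu
      have hu' : (u : G) ≠ 1 := fun e => hu (Subtype.ext e)
      have h0 : ρ.character (u : G) = 0 := by
        refine BlockB.TwoPrimeDegrees.apply_eq_zero_of_coprime hab hu' ρ ?_ fun he => hp1 ?_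
        · have hfr : finrank ℂ (Fin n → ℂ) = p := by simp [hn]
          rw [hfr, hp.coprime_iff_not_dvd]
          exact fun hd => P.not_dvd_index (hd.trans (Subgroup.index_dvd_of_le fun w hw =>
            Subgroup.mem_centralizer_singleton_iff.2 (hPc w hw u u.2)))
        · rw [hpdef, ← Nat.cast_inj (R := ℂ), BlockB.charDegree_cast (Char.irr_isCharacter χm.2),
            ← hρc, he, Nat.cast_one]
      rw [← hρc, h0, map_zero]
    · exact fun hh => absurd (Finset.mem_univ _) hh
  obtain ⟨M, hM⟩ := BlockB.exists_isPModular hp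
  have hne : ¬ Subgroup.normalizer ((P : Subgroup G) : Set G) ≤
      Subgroup.centralizer ((P : Subgroup G) : Set G) := by
    intro hle
    obtain ⟨Q, N, hN, hcompl⟩ : Cfsg.HasNormalPComplement p G :=
      Transfer.hasNormalPComplement_of_normalizer_le_centralizer P hle
    rcases hN.eq_bot_or_eq_top with rfl | rfl
    · have hQ : (Q : Subgroup G) = ⊤ := Subgroup.isComplement'_bot_left.1 hcompl
      have hPG : (P : Subgroup G) = ⊤ := by
        rw [← Subgroup.card_eq_iff_eq_top, P.card_eq_multiplicity, ← Q.card_eq_multiplicity, hQ,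
          Subgroup.card_top]
      exact hab fun x y => hPc x (hPG ▸ Subgroup.mem_top x) y (hPG ▸ Subgroup.mem_top y)
    · have hQ : (Q : Subgroup G) = ⊥ := Subgroup.isComplement'_top_left.1 hcompl
      have h1 := Q.dvd_card_of_dvd_card hpd
      rw [hQ, Subgroup.card_bot] at h1
      exact hp.not_dvd_one h1
  obtain ⟨ψ, hψ1, hψ⟩ := exists_degree_pm_one M hM P hcard hne
  have hd1 : Cfsg.charDegree (ψ : G → ℂ) ≠ 1 := by
    intro h1
    obtain ⟨m, σ, hσ, hσc⟩ := ψ.2
    obtain ⟨l, hl⟩ := Char.exists_hom_of_degree_one (Char.irr_isCharacter ψ.2)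
      (by rw [← BlockB.charDegree_cast (Char.irr_isCharacter ψ.2), h1, Nat.cast_one])
    refine hψ1 ?_
    rw [hl]
    funext g
    have htop : l.ker = ⊤ := ((MonoidHom.normal_ker l).eq_bot_or_eq_top).resolve_left fun hb =>
      hab fun x y => (MonoidHom.ker_eq_bot_iff l).1 hb (by rw [map_mul, map_mul, mul_comm])
    rw [MonoidHom.mem_ker.1 (htop ▸ Subgroup.mem_top g : g ∈ l.ker), Units.val_one]
  have hq := h ψ hd1
  set q := Cfsg.charDegree (ψ : G → ℂ)
  have hqp : q ≤ p := hmax ψ (Finset.mem_univ _)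
  have h2 := hq.two_le
  rcases hψ with hψ | hψ
  · have hd := Int.modEq_iff_dvd.1 hψ.symm
    have := Int.eq_zero_of_dvd_of_nonneg_of_lt (m := (q : ℤ) - 1) (by omega) (by omega) hd
    omega
  · have hd := Int.modEq_iff_dvd.1 hψ.symm
    have hd' : (p : ℤ) ∣ (q : ℤ) + 1 := by simpa using hd
    have hq1 : q + 1 = p := by
      have h3 : (p : ℕ) ∣ q + 1 := by exact_mod_cast hd'
      obtain ⟨c, hc⟩ := h3
      rcases c with _ | _ | c
      · omega
      · omega
      · have : q = p := by nlinarith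
        have h4 : p * (c + 1 + 1) = p + 1 := by omega
        have := hp.two_le
        nlinarith
    rcases hq.eq_two_or_odd with e | e
    · -- the degrees are at most three
      refine hsol 2 Nat.prime_two fun χ hχ => ?_
      have h5 := hmax χ (Finset.mem_univ _)
      have h6 := (h χ hχ).two_le
      omega
    · have hpe : p % 2 = 0 := by omega
      have := hp.eq_two_or_odd
      omega

/-- **All nonlinear degrees prime**: solvable. -/
theorem isSolvable_of_prime_degrees : ∀ (n : ℕ) (G : Type u) [Group G] [Finite G],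
    Nat.card G ≤ n → (∀ χ : Cfsg.IrrCharacter G, Cfsg.charDegree (χ : G → ℂ) ≠ 1 →
      (Cfsg.charDegree (χ : G → ℂ)).Prime) → Group.IsSolvable G := by
  intro n
  induction n with
  | zero => intro G _ _ hn; exact absurd hn (not_le.2 Nat.card_pos)
  | succ n ih =>
    intro G _ _ hn h
    by_cases hN : ∃ N : Subgroup G, N.Normal ∧ N ≠ ⊥ ∧ N ≠ ⊤
    · obtain ⟨N, hNn, hN1, hN2⟩ := hN
      have h1 : 1 < Nat.card N := (Subgroup.one_lt_card_iff_ne_bot N).mpr hN1
      have h2 : 1 < N.index := N.one_lt_index_of_ne_top hN2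
      have h3 := N.index_mul_card
      have s1 := ih N (by nlinarith) fun θ hθ => by
        have := Fintype.ofFinite G
        have := Fintype.ofFinite N
        obtain ⟨χ, hχ, hne⟩ := Degrees.exists_over N θ.2
        have hd := (Dvd.intro_left _ rfl).trans (Degrees.index_inertia_mul_dvd N θ.2 hχ hne)
        have hχ1 : Cfsg.charDegree χ ≠ 1 := fun e => hθ (Nat.dvd_one.1 (e ▸ hd))
        rcases (Nat.dvd_prime (h ⟨χ, hχ⟩ hχ1)).1 hd with e | e
        · exact absurd e hθ
        · rw [e]; exact h ⟨χ, hχ⟩ hχ1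
      have s2 := ih (G ⧸ N) (by rw [← N.index_eq_card]; nlinarith) fun ψ hψ =>
        h ⟨fun g => (ψ : G ⧸ N → ℂ) (g : G ⧸ N), Char.isIrrCharacter_comp_surjective ψ.2
          (QuotientGroup.mk' N) (QuotientGroup.mk'_surjective N)⟩ hψ
      exact Group.isSolvable_of_ker_le_range N.subtype (QuotientGroup.mk' N) (by simp)
    rcases subsingleton_or_nontrivial G with hs | hs
    · exact Group.isSolvable_of_comm fun x y => Subsingleton.elim _ _
    have : IsSimpleGroup G := ⟨fun H hH => by
      by_contra hc; push Not at hc; exact hN ⟨H, hH, hc⟩⟩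
    exact Group.isSolvable_of_comm (comm_of_simple h)

end CfsgLib.Clifford.PrimeDegrees
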