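import Cfsg.Agent.Lib.Clifford.Berger
import Cfsg.Agent.Lib.Clifford.Cover
import Cfsg.Agent.Lib.Clifford.Constituents

/-!
# Berger's theorem: quasi-primitive characters of solvable groups are primitive
-/

namespace CfsgLib.Clifford

universe u

variable {G : Type u} [Group G] [Fintype G] [Group.IsSolvable G]

/-- Homogeneity of all restrictions to normal subgroups. -/
def QuasiPrimitive (χ : G → ℂ) : Prop :=
  ∀ (N : Subgroup G), N.Normal → ∃ (ϑ : N → ℂ) (e : ℕ),
    Cfsg.IsIrrCharacter N ϑ ∧ (fun n : N => χ n) = (e : ℂ) • ϑ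

/-- The inducing subgroup can be replaced by one with a larger core. -/
theorem exists_induced_larger_core (χ : G → ℂ) (hχ : Cfsg.IsIrrCharacter G χ)
    (hqp : QuasiPrimitive χ) (H : Subgroup G) (hmax : IsCoatom H) (ϑ : H → ℂ)
    (hϑc : Cfsg.IsCharacter H ϑ) (hϑind : Cfsg.indFun H ϑ = χ) :
    ∃ (J : Subgroup G) (ξ : J → ℂ), J ≠ ⊤ ∧ Cfsg.IsCharacter J ξ ∧ Cfsg.indFun J ξ = χ ∧
      H.normalCore < J.normalCore := by
  classical
  obtain ⟨M, hMn, hCM, hsup, hMH⟩ := exists_normal_supplement H hmax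
  have : Fintype H := Fintype.ofFinite H
  have hϑ : Cfsg.IsIrrCharacter H ϑ := isIrrCharacter_of_indFun hϑc (hϑind ▸ hχ)
  let C := H.normalCore
  have hCH : C ≤ H := H.normalCore_le
  have : Fintype C := Fintype.ofFinite C
  obtain ⟨φ, c, hφ, hc⟩ := hqp C inferInstance
  have hc0 : (c : ℂ) ≠ 0 := fun h => Char.irr_apply_one_ne_zero hχ (by
    have := congr_fun hc 1; simpa [h] using this)
  have hφinv : ∀ g : G, conjFn g φ = φ := by
    intro g
    funext x
    have h1 : (c : ℂ) * φ (conjN g x) = (c : ℂ) * φ x := by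
      show ((c : ℂ) • φ) (conjN g x) = ((c : ℂ) • φ) x
      rw [← hc]
      exact congr_fun (isCharacter_restrict_conj (N := C) (Char.irr_isClassFunction hχ) g) x
    exact mul_left_cancel₀ hc0 h1
  have hne : Cfsg.classInner (fun x : C => ϑ (Subgroup.inclusion hCH x)) φ ≠ 0 := by
    intro h0
    have hne' : Cfsg.classInner (fun x : H => χ x) ϑ ≠ 0 := by
      rw [← Char.classInner_conj_symm ϑ,
        ← Char.frobenius_reciprocity H ϑ χ (Char.irr_isClassFunction hχ), hϑind,
        Char.irr_classInner_self hχ, map_one]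
      exact one_ne_zero
    obtain ⟨R, hR, hRe⟩ := exists_add_of_constituent
      (Char.isCharacter_restrict (Char.irr_isCharacter hχ) H) hϑ hne'
    let ϑC : C → ℂ := fun x => ϑ (Subgroup.inclusion hCH x)
    let RC : C → ℂ := fun x => R (Subgroup.inclusion hCH x)
    have hϑC : Cfsg.IsCharacter C ϑC :=
      Char.isCharacter_comp (Char.irr_isCharacter hϑ) (Subgroup.inclusion hCH)
    have hres : (c : ℂ) • φ = ϑC + RC := by
      rw [← hc]; exact funext fun x => congr_fun hRe (Subgroup.inclusion hCH x)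
    obtain ⟨i, hi⟩ := Char.classInner_isCharacter_nat hϑC hϑC
    obtain ⟨j, hj⟩ := Char.classInner_isCharacter_nat
      (show Cfsg.IsCharacter C RC from Char.isCharacter_comp hR (Subgroup.inclusion hCH)) hϑC
    have h1 := congr_arg (fun f => Cfsg.classInner f ϑC) hres
    simp only [Char.classInner_add_left, Char.classInner_smul_left, hi, hj] at h1
    rw [← Char.classInner_conj_symm ϑC φ, show Cfsg.classInner ϑC φ = 0 from h0, map_zero,
      mul_zero] at h1
    have h2 : i + j = 0 := by exact_mod_cast h1.symm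
    have h3 := congr_fun (Char.classInner_self_eq_zero (φ := ϑC)
      (by rw [hi, show i = 0 by omega, Nat.cast_zero])) 1
    exact Char.irr_apply_one_ne_zero hϑ h3
  -- the cover of `H`
  let Ci := C.subgroupOf H
  have : Ci.Normal := (inferInstance : C.Normal).subgroupOf H
  let eC := Subgroup.subgroupOfEquivOfLe hCH
  have : Fintype Ci := Fintype.ofFinite Ci
  let θ : Ci → ℂ := φ ∘ eC
  have hθ : Cfsg.IsIrrCharacter Ci θ :=
    Char.isIrrCharacter_comp_surjective hφ eC.toMonoidHom eC.surjective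
  have hθinv : ∀ h : H, conjFn h θ = θ := fun h =>
    funext fun x => (congr_fun (hφinv (h : G)) (eC x) :)
  obtain ⟨E, hEg, hEf, π, emb, σ, hπ, hcen, hembn, hπemb, hσ, hσemb, hσk⟩ :=
    exists_central_cover Ci hθ hθinv
  let Nf := emb.range
  have : Fintype Nf := Fintype.ofFinite Nf
  have hembi : Function.Injective emb := fun a b h =>
    Subtype.ext (by rw [← hπemb a, h, hπemb])
  let eN : Ci ≃* Nf := MonoidHom.ofInjective hembi
  have hσres : Cfsg.IsIrrCharacter Nf (fun m : Nf => σ m) := by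
    have h1 := Char.isIrrCharacter_comp_surjective hθ eN.symm.toMonoidHom eN.symm.surjective
    convert h1 using 1
    funext m
    obtain ⟨m, rfl⟩ := eN.surjective m
    simp only [Function.comp_apply, MulEquiv.toMonoidHom_eq_coe, MonoidHom.coe_coe,
      MulEquiv.symm_apply_apply]
    exact hσemb m
  have hne' : Cfsg.classInner (fun m : Nf => (ϑ ∘ π) m) (fun m : Nf => σ m) ≠ 0 := by
    have e : Cfsg.classInner (fun m : Nf => (ϑ ∘ π) m) (fun m : Nf => σ m) =
        Cfsg.classInner (fun x : C => ϑ (Subgroup.inclusion hCH x)) φ := by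
      rw [Char.classInner_def, Char.classInner_def, ← Nat.card_congr eN.toEquiv,
        Nat.card_congr eC.toEquiv]
      congr 1
      refine (Fintype.sum_equiv (eC.symm.trans eN).toEquiv _ _ fun x => ?_).symm
      simp only [Function.comp_apply]
      rw [show ((((eC.symm.trans eN).toEquiv x : Nf)) : E) = emb (eC.symm x) from rfl,
        hπemb, hσemb]
      simp only [θ, Function.comp_apply, MulEquiv.apply_symm_apply]
      rfl
    rw [e]; exact hne
  obtain ⟨hβ, hfac⟩ := gallagher_factor Nf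
    (Char.isIrrCharacter_comp_surjective hϑ π hπ) hσ hσres hne'
  obtain ⟨β, hβc, hβeq⟩ := Char.isCharacter_quotient_lift Nf (Char.irr_isCharacter hβ)
    (fun m hm => cosetAvg_mem Nf _ ⟨m, hm⟩)
  let q := QuotientGroup.mk' Nf
  let jM : E ⧸ Nf →* G ⧸ M := QuotientGroup.lift Nf
    ((QuotientGroup.mk' M).comp (H.subtype.comp π)) (by
      rintro _ ⟨m, rfl⟩
      simp only [MonoidHom.mem_ker, MonoidHom.comp_apply, hπemb, QuotientGroup.mk'_apply,
        Subgroup.coe_subtype, QuotientGroup.eq_one_iff]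
      exact hCM m.2)
  have hjq : ∀ e : E, jM (q e) = ((π e : G) : G ⧸ M) := fun e => rfl
  have hjker : ∀ y, jM y = 1 → ∃ k, π k = 1 ∧ q k = y := by
    intro y hy
    obtain ⟨e, rfl⟩ := QuotientGroup.mk'_surjective Nf y
    rw [hjq, QuotientGroup.eq_one_iff] at hy
    have hC' : (π e : G) ∈ C := hMH.le ⟨hy, (π e).2⟩
    refine ⟨e * (emb ⟨π e, hC'⟩)⁻¹, by rw [map_mul, map_inv, hπemb]; exact mul_inv_cancel _, ?_⟩
    rw [map_mul, map_inv, show q (emb _) = 1 from (QuotientGroup.eq_one_iff _).mpr ⟨_, rfl⟩,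
      inv_one, mul_one]
  let S : Subgroup (G × (E ⧸ Nf)) :=
    MonoidHom.eqLocus ((QuotientGroup.mk' M).comp (MonoidHom.fst _ _))
      (jM.comp (MonoidHom.snd _ _))
  let pr : S →* G := (MonoidHom.fst _ _).comp S.subtype
  let sn : S →* E ⧸ Nf := (MonoidHom.snd _ _).comp S.subtype
  have hpr : Function.Surjective pr := by
    intro g
    obtain ⟨m, hm, h, hh, rfl⟩ :=
      Subgroup.mem_sup_of_normal_left.mp (hsup.symm ▸ Subgroup.mem_top g)
    obtain ⟨e, he⟩ := hπ ⟨h, hh⟩
    refine ⟨⟨(m * h, q e), ?_⟩, rfl⟩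
    show ((m * h : G) : G ⧸ M) = jM (q e)
    rw [hjq, he, QuotientGroup.mk_mul, (QuotientGroup.eq_one_iff m).mpr hm, one_mul]
  have hkerc : ∀ z : S, pr z = 1 → z ∈ Subgroup.center S := by
    intro z hz
    have h1 : jM (sn z) = 1 :=
      (show ((pr z : G) : G ⧸ M) = jM (sn z) from z.2).symm.trans (by rw [hz]; rfl)
    obtain ⟨k, hk, hkq⟩ := hjker _ h1
    refine Subgroup.mem_center_iff.mpr fun x => Subtype.ext (Prod.ext ?_ ?_)
    · show pr x * pr z = pr z * pr x
      rw [hz, mul_one, one_mul]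
    · show sn x * sn z = sn z * sn x
      obtain ⟨e, he⟩ := QuotientGroup.mk'_surjective Nf (sn x)
      rw [← he, ← hkq, ← map_mul, ← map_mul, Subgroup.mem_center_iff.mp (hcen k hk) e]
  let ι : E →* S := (((H.subtype.comp π).prod q)).codRestrict S fun e => (hjq e).symm
  let Hs := H.comap pr
  have hιmem : ∀ e, ι e ∈ Hs := fun e => (π e).2
  have hιbij : Function.Bijective (ι.codRestrict Hs hιmem) := by
    refine ⟨(injective_iff_map_eq_one _).mpr fun e he => ?_, fun x => ?_⟩
    · have h1 : π e = 1 := Subtype.ext (congr_arg (fun y : Hs => pr (y : S)) he)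
      have h2 : q e = 1 := congr_arg (fun y : Hs => sn (y : S)) he
      obtain ⟨m, rfl⟩ := (QuotientGroup.eq_one_iff e).mp h2
      have hm : m = 1 := Subtype.ext (by rw [← hπemb m, h1]; rfl)
      rw [hm, map_one]
    · obtain ⟨e, he⟩ := QuotientGroup.mk'_surjective Nf (sn x)
      have h1 : ((pr x : G) : G ⧸ M) = ((π e : G) : G ⧸ M) := by
        rw [← hjq, he]; exact x.1.2
      rw [QuotientGroup.eq] at h1
      have h2 : (pr x)⁻¹ * (π e : G) ∈ C :=
        hMH.le ⟨h1, H.mul_mem (H.inv_mem x.2) (π e).2⟩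
      have h3 : ((⟨pr x, x.2⟩ : H)⁻¹ * π e) ∈ Ci := h2
      refine ⟨e * (emb ⟨_, h3⟩)⁻¹, Subtype.ext (Subtype.ext (Prod.ext ?_ ?_))⟩
      · show ((π (e * (emb ⟨_, h3⟩)⁻¹) : H) : G) = pr x
        rw [map_mul, map_inv, hπemb]
        simp
      · show q (e * (emb ⟨_, h3⟩)⁻¹) = sn x
        rw [map_mul, map_inv, show q (emb _) = 1 from (QuotientGroup.eq_one_iff _).mpr ⟨_, rfl⟩,
          inv_one, mul_one, he]
  let eH : E ≃* Hs := MulEquiv.ofBijective _ hιbij
  have : Fintype S := Fintype.ofFinite S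
  have : Fintype Hs := Fintype.ofFinite Hs
  let φh : Hs → ℂ := σ ∘ eH.symm
  have hφh : Cfsg.IsCharacter Hs φh := Char.isCharacter_comp hσ eH.symm.toMonoidHom
  have hφhι : ∀ e, φh ⟨ι e, hιmem e⟩ = σ e := fun e => by
    show σ (eH.symm (eH e)) = σ e
    rw [eH.symm_apply_apply]
  let u : S → ℂ := β ∘ sn
  have hu : Cfsg.IsCharacter S u := Char.isCharacter_comp hβc sn
  let χ₁ := Cfsg.indFun Hs φh
  have hprod : χ₁ * u = χ ∘ pr := by
    have h1 : (φh * fun x : Hs => u x) = fun x : Hs => ϑ ⟨pr (x : S), x.2⟩ := by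
      funext x
      obtain ⟨e, rfl⟩ := eH.surjective x
      show φh ⟨ι e, hιmem e⟩ * β (q e) = ϑ (π e)
      rw [hφhι]
      have h := congr_fun hfac e
      simp only [Function.comp_apply, Pi.mul_apply, hβeq] at h
      exact h.symm
    rw [Char.indFun_mul Hs φh (Char.isCharacter_isClassFunction hu), h1]
    funext x
    rw [indFun_comap pr hpr H ϑ x, hϑind]
    rfl
  have hχ₁c : Cfsg.IsCharacter S χ₁ := Char.isCharacter_indFun Hs hφh
  have hχ₁ : Cfsg.IsIrrCharacter S χ₁ := isIrrCharacter_left_of_mul hχ₁c hu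
    (hprod ▸ Char.isIrrCharacter_comp_surjective hχ pr hpr)
  let C₁ : Subgroup S := C.comap pr ⊓ sn.ker
  have : C₁.Normal := by
    have := (inferInstance : C.Normal).comap pr
    infer_instance
  have hC₁H : C₁ ≤ Hs := fun x hx => hCH hx.1
  have hC₁emb : ∀ x : C₁, (⟨(x : S), hC₁H x.2⟩ : Hs) =
      eH (emb ⟨⟨pr x, hCH x.2.1⟩, x.2.1⟩) := fun x =>
    Subtype.ext (Subtype.ext (Prod.ext
      (show pr x = ((π (emb ⟨⟨pr x, hCH x.2.1⟩, x.2.1⟩) : H) : G) by rw [hπemb])
      (show sn x = q (emb _) from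
        (MonoidHom.mem_ker.mp x.2.2).trans ((QuotientGroup.eq_one_iff (N := Nf) _).mpr ⟨_, rfl⟩).symm)))
  let fC : C₁ →* C :=
    { toFun := fun x => ⟨pr x, x.2.1⟩, map_one' := Subtype.ext (map_one pr)
      map_mul' := fun a b => Subtype.ext (map_mul pr (a : S) b) }
  have hfC : Function.Surjective fC := fun x =>
    ⟨⟨⟨((x : G), 1), show ((x : G) : G ⧸ M) = jM 1 by
      rw [map_one, QuotientGroup.eq_one_iff]; exact hCM x.2⟩, x.2, rfl⟩, rfl⟩
  have hφC₁ : Cfsg.IsIrrCharacter C₁ (fun x : C₁ => φh ⟨(x : S), hC₁H x.2⟩) := by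
    have : (fun x : C₁ => φh ⟨(x : S), hC₁H x.2⟩) = φ ∘ fC := by
      funext x
      rw [hC₁emb x]
      show σ (eH.symm (eH _)) = _
      rw [eH.symm_apply_apply, hσemb]
      rfl
    rw [this]
    exact Char.isIrrCharacter_comp_surjective hφ fC hfC
  have hφhirr : ∀ X : Subgroup S, C₁ ≤ X → ∀ hX : X ≤ Hs,
      Cfsg.IsIrrCharacter X (fun x : X => φh (Subgroup.inclusion hX x)) := by
    intro X hCX hX
    refine isIrrCharacter_of_restrict (H := C₁.subgroupOf X)
      (Char.isCharacter_comp hφh (Subgroup.inclusion hX)) ?_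
    exact Char.isIrrCharacter_comp_surjective hφC₁ (Subgroup.subgroupOfEquivOfLe hCX).toMonoidHom
      (MulEquiv.surjective _)
  have hHsmax : IsCoatom Hs := by
    refine ⟨fun h => hmax.1 (top_le_iff.mp fun g _ => ?_), fun K hK => ?_⟩
    · obtain ⟨x, rfl⟩ := hpr g
      exact (h ▸ Subgroup.mem_top x : x ∈ Hs)
    · have hker : pr.ker ≤ K := le_trans (fun x hx => by
        show pr x ∈ H; rw [MonoidHom.mem_ker.mp hx]; exact H.one_mem) hK.le
      have h1 : K.map pr = ⊤ := hmax.2 _ (lt_of_le_of_ne (fun h hh => by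
        obtain ⟨x, rfl⟩ := hpr h; exact ⟨x, hK.le hh, rfl⟩) fun h => hK.ne (by
          show H.comap pr = K
          rw [h, Subgroup.comap_map_eq_self hker]))
      rw [← Subgroup.comap_map_eq_self hker, h1, Subgroup.comap_top]
  have hsolvE : Group.IsSolvable E := by
    have : Group.IsSolvable π.ker := Group.isSolvable_of_comm fun a b =>
      Subtype.ext (Subgroup.mem_center_iff.mp (hcen _ b.2) a)
    exact Group.isSolvable_of_ker_le_range π.ker.subtype π (by rw [Subgroup.range_subtype])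
  have : Group.IsSolvable (G × (E ⧸ Nf)) := inferInstance
  have hsolv : Group.IsSolvable (S ⧸ C₁) := inferInstance
  obtain ⟨X, hXn, hC₁X, hXnot⟩ :=
    exists_not_homogeneous C₁ Hs hC₁H hHsmax hsolv φh
      (isIrrCharacter_of_indFun hφh hχ₁) hφC₁ hχ₁
  have : X.Normal := hXn
  have : Fintype X := Fintype.ofFinite X
  have hXC : ¬ X ≤ C.comap pr := by
    intro hle
    have hXH : X ≤ Hs := fun x hx => hCH (hle hx)
    refine hXnot ⟨fun x : X => φh (Subgroup.inclusion hXH x), Hs.index, hφhirr X hC₁X hXH,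
      funext fun x => ?_⟩
    show χ₁ x = (Hs.index : ℂ) * φh ⟨(x : S), hXH x.2⟩
    obtain ⟨e, he⟩ := eH.surjective ⟨(x : S), hXH x.2⟩
    have hpe : (π e : G) ∈ C := by
      have : pr (ι e) = pr (x : S) := congr_arg (fun y : Hs => pr (y : S)) he
      rw [show (π e : G) = pr (ι e) from rfl, this]
      exact hle x.2
    have hk : π (e * (emb ⟨π e, hpe⟩)⁻¹) = 1 := by
      rw [map_mul, map_inv, hπemb]; exact mul_inv_cancel _
    set k := e * (emb ⟨π e, hpe⟩)⁻¹ with hkdef
    obtain ⟨s, hs⟩ := hσk k hk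
    have he' : e = emb ⟨π e, hpe⟩ * k := by
      rw [Subgroup.mem_center_iff.mp (hcen k hk), hkdef, inv_mul_cancel_right]
    have hconj : ∀ y : S, Cfsg.extendByZero Hs φh (y⁻¹ * x * y) = φh ⟨(x : S), hXH x.2⟩ := by
      intro y
      have hmem : (pr y)⁻¹ * (π e : G) * pr y ∈ C :=
        (inferInstance : C.Normal).conj_mem' _ hpe _
      let c' : Ci := ⟨⟨_, hCH hmem⟩, hmem⟩
      have hx : (x : S) = ι e := (congr_arg Subtype.val he).symm
      have hkz : ∀ z : E ⧸ Nf, z * q k = q k * z := fun z => by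
        obtain ⟨w, rfl⟩ := QuotientGroup.mk'_surjective Nf z
        rw [← map_mul, ← map_mul, Subgroup.mem_center_iff.mp (hcen k hk) w]
      have hqe : q e = q k := by
        rw [he', map_mul, show q (emb _) = 1 from (QuotientGroup.eq_one_iff _).mpr ⟨_, rfl⟩,
          one_mul]
      have heq : y⁻¹ * x * y = ι (emb c' * k) := by
        refine Subtype.ext (Prod.ext ?_ ?_)
        · show (pr y)⁻¹ * pr (x : S) * pr y = ((π (emb c' * k) : H) : G)
          rw [hx, map_mul π, hπemb, hk, mul_one]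
          rfl
        · show (sn y)⁻¹ * sn (x : S) * sn y = q (emb c' * k)
          rw [hx, show sn (ι e) = q e from rfl, hqe, mul_assoc, ← hkz (sn y), inv_mul_cancel_left,
            map_mul q (emb c') k,
            show q (emb c') = 1 from (QuotientGroup.eq_one_iff _).mpr ⟨_, rfl⟩, one_mul]
      have hv : ∀ c : Ci, σ (emb c * k) = s * φ (eC c) := fun c => by rw [hs, hσemb]; rfl
      rw [heq, Char.extendByZero_of_mem φh (hιmem _), hφhι, hv, ← he]
      show _ = σ (eH.symm (eH e))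
      rw [eH.symm_apply_apply]
      conv_rhs => rw [he', hv]
      congr 1
      have h := congr_fun (hφinv (pr y)⁻¹) ⟨(π e : G), hpe⟩
      rw [conjFn_apply] at h
      convert h using 2
      · exact Subtype.ext (by simp [c', eC])
      · rfl
    show Cfsg.indFun Hs φh x = _
    rw [Char.indFun_def, Finset.sum_congr rfl fun y _ => hconj y, Finset.sum_const,
      Finset.card_univ, ← Nat.card_eq_fintype_card, ← Hs.index_mul_card, nsmul_eq_mul,
      Nat.cast_mul, ← mul_assoc, mul_comm (Hs.index : ℂ), ← mul_assoc,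
      inv_mul_cancel₀ (Nat.cast_ne_zero.mpr Nat.card_pos.ne'), one_mul]
  obtain ⟨θX, hθX, hθXne⟩ := exists_irr_constituent_restrict (N := X) hχ₁
  let J := inertia θX
  have hXJ : X ≤ J := le_inertia (Char.irr_isClassFunction hθX)
  have hJtop : J ≠ ⊤ := by
    intro h
    obtain ⟨n, hn⟩ := Char.classInner_isCharacter_nat
      (Char.isCharacter_restrict hχ₁c X) (Char.irr_isCharacter hθX)
    refine hXnot ⟨θX, n, hθX, ?_⟩
    rw [← hn]
    exact restrict_eq_smul_of_invariant hχ₁ hθX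
      (fun g => mem_inertia_iff_conjFn.mp ((show J = ⊤ from h).ge (Subgroup.mem_top g))) hθXne
  have hkJ : pr.ker ≤ J := fun z hz m => by
    congr 1
    exact Subtype.ext (by
      rw [coe_conjN, ← Subgroup.mem_center_iff.mp (hkerc z hz), mul_inv_cancel_right])
  obtain ⟨ξ, hξ, hξind, -⟩ :=
    exists_indFun_inertia J hXJ hθX (fun g => mem_inertia_iff_conjFn) hχ₁ hθXne
  have : Fintype J := Fintype.ofFinite J
  let ξu : J → ℂ := ξ * fun x : J => u x
  have hξu : Cfsg.IsCharacter J ξu :=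
    Char.isCharacter_mul (Char.irr_isCharacter hξ) (Char.isCharacter_restrict hu J)
  have hind : Cfsg.indFun J ξu = χ ∘ pr := by
    rw [← Char.indFun_mul J ξ (Char.isCharacter_isClassFunction hu), hξind, hprod]
  let J' := J.map pr
  have hJ' : J = J'.comap pr := (Subgroup.comap_map_eq_self hkJ).symm
  let f : J →* J' := (pr.comp J.subtype).codRestrict J' fun x => ⟨x, x.2, rfl⟩
  have hf : Function.Surjective f := by
    rintro ⟨_, x, hx, rfl⟩; exact ⟨⟨x, hx⟩, rfl⟩
  have hker : ∀ z ∈ f.ker, ξu z = ξu 1 := by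
    intro z hz
    have hz1 : pr (z : S) = 1 := congr_arg Subtype.val (MonoidHom.mem_ker.mp hz)
    have h1 := congr_fun hind (z : S)
    have h2 := congr_fun hind 1
    rw [Function.comp_apply, hz1, ← map_one pr, ← Function.comp_apply (f := χ), ← h2,
      Char.indFun_def, Char.indFun_apply_one, Finset.sum_congr rfl fun y _ => show
        Cfsg.extendByZero J ξu (y⁻¹ * z * y) = ξu z by
          rw [mul_assoc, ← Subgroup.mem_center_iff.mp (hkerc _ hz1), inv_mul_cancel_left,
            Char.extendByZero_coe], Finset.sum_const, Finset.card_univ,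
      ← Nat.card_eq_fintype_card, ← J.index_mul_card, nsmul_eq_mul, Nat.cast_mul, ← mul_assoc,
      mul_comm (J.index : ℂ), ← mul_assoc, inv_mul_cancel₀ (Nat.cast_ne_zero.mpr Nat.card_pos.ne'),
      one_mul] at h1
    exact mul_left_cancel₀ (Nat.cast_ne_zero.mpr J.index_ne_zero_of_finite) h1
  obtain ⟨ψ, hψ, hψeq⟩ := Char.isCharacter_quotient_lift f.ker hξu hker
  let e' := QuotientGroup.quotientKerEquivOfSurjective f hf
  refine ⟨J', ψ ∘ e'.symm, fun h => hJtop (by rw [hJ', h, Subgroup.comap_top]),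
    Char.isCharacter_comp hψ e'.symm.toMonoidHom, ?_, ?_⟩
  · funext g
    obtain ⟨y, rfl⟩ := hpr g
    rw [← indFun_comap pr hpr J' (ψ ∘ e'.symm) y, ← Function.comp_apply (f := χ), ← hind]
    refine congr_fun (indFun_congr hJ'.symm fun x => ?_) y
    have hxJ : (x : S) ∈ J := hJ'.symm ▸ x.2
    show ψ (e'.symm ⟨pr (x : S), x.2⟩) = ξu ⟨(x : S), hxJ⟩
    have h1 : e'.symm ⟨pr (x : S), x.2⟩ = QuotientGroup.mk' f.ker ⟨(x : S), hxJ⟩ :=
      e'.injective (by rw [e'.apply_symm_apply]; rfl)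
    rw [h1, hψeq]
    rfl
  · have : (X.map pr).Normal := hXn.map _ hpr
    have hle : X.map pr ≤ J'.normalCore := Subgroup.normal_le_normalCore.mpr (Subgroup.map_mono hXJ)
    refine lt_of_le_of_ne (fun x hx => hle ?_) fun h => hXC fun x hx => ?_
    · obtain ⟨y, hy⟩ := hfC ⟨x, hx⟩
      exact ⟨y, hC₁X y.2, congr_arg Subtype.val hy⟩
    · show pr x ∈ H.normalCore
      rw [h]
      exact hle ⟨x, hx, rfl⟩

/-- Berger's theorem. -/
theorem indFun_ne_of_quasiPrimitive (χ : G → ℂ) (hχ : Cfsg.IsIrrCharacter G χ)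
    (hqp : QuasiPrimitive χ) (K : Subgroup G) (hK : K ≠ ⊤) (ψ : K → ℂ)
    (hψ : Cfsg.IsCharacter K ψ) : Cfsg.indFun K ψ ≠ χ := by
  classical
  intro hind
  let P : Subgroup G → Prop := fun H =>
    IsCoatom H ∧ ∃ ϑ : H → ℂ, Cfsg.IsCharacter H ϑ ∧ Cfsg.indFun H ϑ = χ
  have hup : ∀ (J : Subgroup G) (ξ : J → ℂ), J ≠ ⊤ → Cfsg.IsCharacter J ξ →
      Cfsg.indFun J ξ = χ → ∃ H, P H ∧ J ≤ H := by
    intro J ξ hJ hξ hJind
    obtain ⟨H, hH, hJH⟩ := (eq_top_or_exists_le_coatom J).resolve_left hJ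
    have : Fintype H := Fintype.ofFinite H
    refine ⟨H, ⟨hH, _, Char.isCharacter_indFun (J.subgroupOf H)
      (Char.isCharacter_comp hξ (Subgroup.subgroupOfEquivOfLe hJH).toMonoidHom), ?_⟩, hJH⟩
    exact (Char.indFun_trans J H hJH ξ).trans hJind
  obtain ⟨H₀, hH₀, -⟩ := hup K ψ hK hψ hind
  have : Fintype (Subgroup G) := Fintype.ofFinite _
  obtain ⟨H, hH, hHmax⟩ := Finset.exists_max_image (Finset.univ.filter P)
    (fun H => Nat.card H.normalCore) ⟨H₀, by simp [hH₀]⟩
  obtain ⟨hHc, ϑ, hϑ, hϑind⟩ := (Finset.mem_filter.mp hH).2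
  obtain ⟨J, ξ, hJ, hξ, hJind, hlt⟩ := exists_induced_larger_core χ hχ hqp H hHc ϑ hϑ hϑind
  obtain ⟨H', hH', hJH'⟩ := hup J ξ hJ hξ hJind
  have hlt' : H.normalCore < H'.normalCore := lt_of_lt_of_le hlt (Subgroup.normalCore_mono hJH')
  have h1 : Nat.card H.normalCore < Nat.card H'.normalCore := by
    refine lt_of_le_of_ne (Subgroup.card_le_of_le hlt'.le) fun h => hlt'.ne ?_
    exact Subgroup.eq_of_le_of_card_ge hlt'.le h.ge
  exact absurd (hHmax H' (by simp [hH'])) (not_le.mpr h1)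

end CfsgLib.Clifford
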