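import Cfsg.Agent.Lib.Char.Diag
import Cfsg.Agent.Lib.Clifford.Correspondence
import Cfsg.Agent.Lib.BlockB.ClassMul
import Cfsg.Agent.Lib.Block.Omega
import Cfsg.Agent.Lib.Char.Linear
import Mathlib.GroupTheory.GroupAction.Quotient

/-!
# Primitive linear groups of degree two
-/

set_option autoImplicit false
set_option linter.unusedSectionVars false

namespace CfsgLib.Clifford.PrimitiveTwo

open CfsgLib Module
open scoped ComplexConjugate

universe u

/-- The arithmetic of three orbit lengths, the first two stabilisers being 2 and 3. -/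
theorem arith_two_three {N s₁ s₂ s₃ e₃ : ℕ} (h1 : s₁ * 2 = N) (h2 : s₂ * 3 = N) (h3 : s₃ * e₃ = N)
    (he3 : 3 ≤ e₃) (hsum : s₁ + s₂ + s₃ = N + 2) : N = 12 ∨ N = 24 ∨ N = 60 := by
  have h6 : e₃ < 6 := by
    by_contra h
    have : s₃ * 6 ≤ s₃ * e₃ := Nat.mul_le_mul_left _ (by omega)
    omega
  interval_cases e₃ <;> omega

/-- The arithmetic of three orbit lengths, the first stabiliser being 2. -/
theorem arith_two {N s₁ s₂ s₃ e₂ e₃ : ℕ} (h1 : s₁ * 2 = N) (h2 : s₂ * e₂ = N) (h3 : s₃ * e₃ = N)
    (he2 : 2 ≤ e₂) (he3 : 2 ≤ e₃) (hs2 : 3 ≤ s₂) (hs3 : 3 ≤ s₃)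
    (hsum : s₁ + s₂ + s₃ = N + 2) : N = 12 ∨ N = 24 ∨ N = 60 := by
  by_cases e22 : e₂ = 2
  · subst e22; omega
  by_cases e32 : e₃ = 2
  · subst e32; omega
  by_cases e23 : e₂ = 3
  · subst e23; exact arith_two_three h1 h2 h3 (by omega) hsum
  by_cases e33 : e₃ = 3
  · subst e33; exact arith_two_three h1 h3 h2 (by omega) (by omega)
  have a2 : s₂ * 4 ≤ s₂ * e₂ := Nat.mul_le_mul_left _ (by omega)
  have a3 : s₃ * 4 ≤ s₃ * e₃ := Nat.mul_le_mul_left _ (by omega)
  omega

/-- The orbit lengths of the poles of a finite rotation group without short orbits. -/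
theorem arith_poles {O : Type*} (T : Finset O) (s e : O → ℕ) {N : ℕ} (hN : 2 ≤ N)
    (hse : ∀ o ∈ T, s o * e o = N) (he : ∀ o ∈ T, 2 ≤ e o) (hs : ∀ o ∈ T, 3 ≤ s o)
    (hsum : ∑ o ∈ T, (N - s o) = 2 * N - 2) : N = 12 ∨ N = 24 ∨ N = 60 := by
  classical
  have hle : ∀ o ∈ T, s o * 2 ≤ N := fun o ho => by
    rw [← hse o ho]; exact Nat.mul_le_mul_left _ (he o ho)
  have hk : T.card ≤ 3 := by
    by_contra h
    have h1 : T.card * N ≤ ∑ o ∈ T, 2 * (N - s o) := by
      rw [← smul_eq_mul, ← Finset.sum_const]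
      exact Finset.sum_le_sum fun o ho => by have := hle o ho; omega
    rw [← Finset.mul_sum, hsum] at h1
    have := Nat.mul_le_mul_right N (show 4 ≤ T.card by omega)
    omega
  interval_cases hc : T.card
  · rw [Finset.card_eq_zero.1 hc, Finset.sum_empty] at hsum; omega
  · obtain ⟨a, rfl⟩ := Finset.card_eq_one.1 hc
    rw [Finset.sum_singleton] at hsum
    have := hs a (by simp)
    omega
  · obtain ⟨a, b, hab, rfl⟩ := Finset.card_eq_two.1 hc
    rw [Finset.sum_pair hab] at hsum
    have := hs a (by simp); have := hs b (by simp)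
    have := hle a (by simp); have := hle b (by simp)
    omega
  · obtain ⟨a, b, c, hab, hac, hbc, rfl⟩ := Finset.card_eq_three.1 hc
    rw [Finset.sum_insert (by simp [hab, hac]), Finset.sum_pair hbc] at hsum
    have ha := hse a (by simp); have hb := hse b (by simp); have hc' := hse c (by simp)
    have hea := he a (by simp); have heb := he b (by simp); have hec := he c (by simp)
    have hsa := hs a (by simp); have hsb := hs b (by simp); have hsc := hs c (by simp)
    have := hle a (by simp); have := hle b (by simp); have := hle c (by simp)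
    have hsum' : s a + s b + s c = N + 2 := by omega
    by_cases a2 : e a = 2
    · exact arith_two (a2 ▸ ha) hb hc' heb hec hsb hsc hsum'
    by_cases b2 : e b = 2
    · exact arith_two (b2 ▸ hb) ha hc' hea hec hsa hsc (by omega)
    by_cases c2 : e c = 2
    · exact arith_two (c2 ▸ hc') ha hb hea heb hsa hsb (by omega)
    have := Nat.mul_le_mul_left (s a) (show 3 ≤ e a by omega)
    have := Nat.mul_le_mul_left (s b) (show 3 ≤ e b by omega)
    have := Nat.mul_le_mul_left (s c) (show 3 ≤ e c by omega)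
    omega

variable {G : Type u} [Group G] [Finite G]

/-- A line of the plane. -/
def Line (_ρ : Representation ℂ G (Fin 2 → ℂ)) : Type :=
  {L : Submodule ℂ (Fin 2 → ℂ) // finrank ℂ L = 1}

variable (ρ : Representation ℂ G (Fin 2 → ℂ))

theorem rep_injective (g : G) : Function.Injective (ρ g) :=
  Function.LeftInverse.injective (g := ρ g⁻¹) fun v => by
    rw [← Module.End.mul_apply, ← map_mul, inv_mul_cancel, map_one, Module.End.one_apply]

instance : MulAction G (Line ρ) where
  smul g L := ⟨L.1.map (ρ g), by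
    rw [(Submodule.equivMapOfInjective _ (rep_injective ρ g) L.1).finrank_eq.symm, L.2]⟩
  one_smul L := Subtype.ext (by
    show L.1.map (ρ 1) = L.1
    rw [map_one]; exact Submodule.map_id L.1)
  mul_smul g h L := Subtype.ext (by
    show L.1.map (ρ (g * h)) = (L.1.map (ρ h)).map (ρ g)
    rw [map_mul, ← Submodule.map_comp]; rfl)

theorem mem_of_smul_eq {g : G} {L : Line ρ} (h : g • L = L) {v : Fin 2 → ℂ} (hv : v ∈ L.1) :
    ρ g v ∈ L.1 := by
  have h1 : ρ g v ∈ (g • L).1 := Submodule.mem_map_of_mem hv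
  rwa [h] at h1

theorem exists_eigen_of_smul_eq {g : G} {L : Line ρ} (h : g • L = L) :
    ∃ v ∈ L.1, v ≠ 0 ∧ ∃ a : ℂ, ρ g v = a • v := by
  obtain ⟨⟨v, hv⟩, hv0, hsp⟩ := finrank_eq_one_iff'.1 L.2
  obtain ⟨a, ha⟩ := hsp ⟨ρ g v, mem_of_smul_eq ρ h hv⟩
  exact ⟨v, hv, fun e => hv0 (Subtype.ext e), a, (congrArg Subtype.val ha).symm⟩

theorem eq_span {L : Line ρ} {v : Fin 2 → ℂ} (hv : v ∈ L.1) (hv0 : v ≠ 0) :
    L.1 = Submodule.span ℂ {v} :=
  (Submodule.eq_of_le_of_finrank_eq ((Submodule.span_singleton_le_iff_mem _ _).2 hv)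
    (by rw [finrank_span_singleton hv0, L.2])).symm

/-- A central element acts as a scalar. -/
theorem exists_scalar_of_center [ρ.IsIrreducible] {z : G} (hz : z ∈ Subgroup.center G) :
    ∃ w : ℂ, ρ z = w • LinearMap.id := by
  have := Fintype.ofFinite G
  let χ : Cfsg.IrrCharacter G := ⟨ρ.character, Char.isIrrCharacter_of_rep ρ⟩
  refine (Char.norm_char_eq_iff ρ z).1 ?_
  have h := BlockB.sum_irr_mul_conj χ z z⁻¹
  have e : ∀ t : G, z * (t * z⁻¹ * t⁻¹) = 1 := fun t => by
    rw [show t * z⁻¹ * t⁻¹ = z⁻¹ by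
      rw [Subgroup.mem_center_iff.1 (inv_mem hz) t, mul_inv_cancel_right], mul_inv_cancel]
  simp only [e, Finset.sum_const, Finset.card_univ, nsmul_eq_mul, ← Nat.card_eq_fintype_card] at h
  change (Nat.card G : ℂ) * ρ.character 1 =
    (Nat.card G : ℂ) * ρ.character z * ρ.character z⁻¹ / ρ.character 1 at h
  rw [Representation.char_one, Char.char_inv_eq_conj, mul_assoc, mul_div_assoc, Complex.mul_conj']
    at h
  have h2 := mul_left_cancel₀ Char.natCard_ne_zero h
  have hfr : finrank ℂ (Fin 2 → ℂ) = 2 := by simp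
  rw [hfr] at h2 ⊢
  rw [eq_div_iff (by norm_num)] at h2
  have h3 : ‖ρ.character z‖ ^ 2 = (2 : ℝ) * 2 := by exact_mod_cast h2.symm
  have h4 := norm_nonneg (ρ.character z)
  push_cast
  nlinarith

variable {ρ}

/-- A noncentral element of a faithful group fixes exactly two lines. -/
theorem natCard_fixed (hf : Function.Injective ρ) {g : G} (hg : g ∉ Subgroup.center G) :
    ∃ a b : Line ρ, a ≠ b ∧ ∀ L : Line ρ, g • L = L ↔ L = a ∨ L = b := by
  classical
  obtain ⟨ι, hι, b, μ, hb, -, -, -⟩ := Char.exists_char_eigen ρ g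
  have hcard : Fintype.card ι = 2 := by rw [← finrank_eq_card_basis b]; simp
  obtain ⟨i, j, hij, huniv⟩ := Finset.card_eq_two.1 (Finset.card_univ.trans hcard)
  have hall : ∀ k, k = i ∨ k = j := fun k => by
    have := Finset.mem_univ k; rw [huniv] at this; simpa using this
  have hμ : μ i ≠ μ j := by
    intro e
    refine hg (Subgroup.mem_center_iff.2 fun h => hf ?_)
    have hs : ρ g = μ i • LinearMap.id := b.ext fun k => by
      rw [hb]; rcases hall k with rfl | rfl <;> simp [e]
    rw [map_mul, map_mul, hs]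
    ext v
    simp
  let line : ι → Line ρ := fun k => ⟨Submodule.span ℂ {b k}, finrank_span_singleton (b.ne_zero k)⟩
  refine ⟨line i, line j, ?_, fun L => ⟨fun hL => ?_, ?_⟩⟩
  · intro e
    have : b i ∈ (line j).1 := e ▸ Submodule.mem_span_singleton_self _
    obtain ⟨c, hc⟩ := Submodule.mem_span_singleton.1 this
    have h1 := congrArg (fun v => b.repr v i) hc
    simp [Ne.symm hij] at h1
  · obtain ⟨v, hv, hv0, a, ha⟩ := exists_eigen_of_smul_eq ρ hL
    have hv' : v = b.repr v i • b i + b.repr v j • b j := by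
      conv_lhs => rw [← b.sum_repr v]
      rw [huniv, Finset.sum_pair hij]
    have e := ha
    rw [hv', map_add, map_smul, map_smul, hb, hb, smul_add, smul_smul, smul_smul, smul_smul,
      smul_smul] at e
    have ei := congrArg (fun w => b.repr w i) e
    have ej := congrArg (fun w => b.repr w j) e
    simp [hij, Ne.symm hij] at ei ej
    by_cases hi0 : b.repr v i = 0
    · right
      rw [hi0, zero_smul, zero_add] at hv'
      have hj0 : b.repr v j ≠ 0 := fun h => hv0 (by rw [hv', h, zero_smul])
      refine Subtype.ext ?_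
      rw [eq_span ρ hv hv0, hv']
      exact Submodule.span_singleton_smul_eq (IsUnit.mk0 _ hj0) _
    · left
      have hj0 : b.repr v j = 0 := by
        by_contra hj0
        refine hμ ?_
        have a1 : μ i = a := mul_left_cancel₀ hi0 (by rw [ei]; ring)
        have a2 : μ j = a := mul_left_cancel₀ hj0 (by rw [ej]; ring)
        rw [a1, a2]
      rw [hj0, zero_smul, add_zero] at hv'
      refine Subtype.ext ?_
      rw [eq_span ρ hv hv0, hv']
      exact Submodule.span_singleton_smul_eq (IsUnit.mk0 _ hi0) _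
  · have hk : ∀ k, g • line k = line k := fun k => by
      have hμ0 : μ k ≠ 0 := fun h => b.ne_zero k (rep_injective ρ g (by rw [hb, h, zero_smul, map_zero]))
      refine Subtype.ext ?_
      show (Submodule.span ℂ {b k}).map (ρ g) = _
      rw [Submodule.map_span, Set.image_singleton, hb]
      exact Submodule.span_singleton_smul_eq (IsUnit.mk0 _ hμ0) _
    rintro (rfl | rfl) <;> exact hk _

/-- No line is fixed by the whole group. -/
theorem exists_moved [hρ : ρ.IsIrreducible] (L : Line ρ) : ∃ g : G, g • L ≠ L := by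
  by_contra h
  push Not at h
  let W : Subrepresentation ρ := ⟨L.1, fun g v hv => mem_of_smul_eq ρ (h g) hv⟩
  have : IsSimpleOrder (Subrepresentation ρ) := hρ
  rcases IsSimpleOrder.eq_bot_or_eq_top W with e | e
  · have e1 : L.1 = ⊥ := congrArg Subrepresentation.toSubmodule e
    have h2 := L.2
    rw [e1, finrank_bot] at h2
    exact zero_ne_one h2
  · have e1 : L.1 = ⊤ := congrArg Subrepresentation.toSubmodule e
    have h2 := L.2
    rw [e1, finrank_top] at h2
    simp at h2

/-- An orbit of two lines makes the character monomial. -/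
theorem exists_induced_of_short_orbit [ρ.IsIrreducible] [Fintype G] (L : Line ρ)
    (h2 : Nat.card (MulAction.orbit G L) = 2) :
    ∃ (H : Subgroup G), H ≠ ⊤ ∧ ∃ θ : H → ℂ, Cfsg.IsCharacter H θ ∧
      ρ.character = Cfsg.indFun H θ := by
  classical
  set H := MulAction.stabilizer G L with hH
  have hHi : H.index = 2 := by rw [hH, MulAction.index_stabilizer]; exact h2
  have hHtop : H ≠ ⊤ := fun e => by rw [e, Subgroup.index_top] at hHi; exact absurd hHi (by norm_num)
  refine ⟨H, hHtop, ?_⟩
  obtain ⟨g₀, hg₀⟩ := exists_moved L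
  set L' := g₀ • L
  have hor : ∀ x ∈ MulAction.orbit G L, x = L ∨ x = L' := by
    intro x hx
    by_contra hne
    push Not at hne
    have hfin : (MulAction.orbit G L).Finite := Set.finite_range _
    have h3 : ({x, L, L'} : Finset (Line ρ)).card ≤ 2 := by
      rw [← h2, Nat.card_coe_set_eq, Set.ncard_eq_toFinset_card _ hfin]
      refine Finset.card_le_card ?_
      intro y hy
      simp only [Finset.mem_insert, Finset.mem_singleton] at hy
      rw [Set.Finite.mem_toFinset]
      rcases hy with rfl | rfl | rfl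
      · exact hx
      · exact MulAction.mem_orbit_self _
      · exact MulAction.mem_orbit _ _
    rw [Finset.card_eq_three.2 ⟨x, L, L', hne.1, hne.2, Ne.symm hg₀, rfl⟩] at h3
    omega
  have hfix : ∀ h : H, (h : G) • L' = L' := by
    intro h
    rcases hor ((h : G) • L') (by rw [smul_smul]; exact MulAction.mem_orbit _ _) with e | e
    · exfalso
      have e' : (h : G) • L' = (h : G) • L := e.trans (h.2 : (h : G) • L = L).symm
      exact hg₀ (smul_left_cancel _ e')
    · exact e
  obtain ⟨⟨v, hv⟩, hv0, hsp⟩ := finrank_eq_one_iff'.1 L.2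
  obtain ⟨⟨w, hw⟩, hw0, hsp'⟩ := finrank_eq_one_iff'.1 L'.2
  have hv0' : v ≠ 0 := fun e => hv0 (Subtype.ext e)
  have hw0' : w ≠ 0 := fun e => hw0 (Subtype.ext e)
  choose a ha using fun h : H => hsp ⟨ρ h v, mem_of_smul_eq ρ (h.2 : (h : G) • L = L) hv⟩
  choose c hc using fun h : H => hsp' ⟨ρ h w, mem_of_smul_eq ρ (hfix h) hw⟩
  have ha' : ∀ h : H, ρ h v = a h • v := fun h => (congrArg Subtype.val (ha h)).symm
  have hc' : ∀ h : H, ρ h w = c h • w := fun h => (congrArg Subtype.val (hc h)).symm
  have hmulgen : ∀ (u : Fin 2 → ℂ) (f : H → ℂ), u ≠ 0 → (∀ h : H, ρ h u = f h • u) →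
      ∃ l : H →* ℂˣ, ∀ h, (l h : ℂ) = f h := by
    intro u f hu hfu
    let m : H →* ℂ :=
      { toFun := f
        map_one' := by
          have := hfu 1
          rw [Subgroup.coe_one, map_one, Module.End.one_apply] at this
          exact smul_left_injective ℂ hu (by simpa using this.symm)
        map_mul' := fun x y => by
          refine smul_left_injective ℂ hu ?_
          show f (x * y) • u = (f x * f y) • u
          rw [← hfu, Subgroup.coe_mul, map_mul, Module.End.mul_apply, hfu y, map_smul, hfu x,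
            smul_smul, mul_comm] }
    exact ⟨m.toHomUnits, fun h => rfl⟩
  obtain ⟨θ, hθ⟩ := hmulgen v a hv0' ha'
  obtain ⟨θ', hθ'⟩ := hmulgen w c hw0' hc'
  have hind : LinearIndependent ℂ ![v, w] := by
    refine (LinearIndependent.pair_iff' hv0').2 fun t ht => hg₀ ?_
    have hwL : w ∈ L.1 := ht ▸ L.1.smul_mem t hv
    exact Subtype.ext ((eq_span ρ hw hw0').trans (eq_span ρ hwL hw0').symm)
  let bas := basisOfLinearIndependentOfCardEqFinrank hind (by simp)
  have hbas : ⇑bas = ![v, w] := coe_basisOfLinearIndependentOfCardEqFinrank hind _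
  have htr : ∀ h : H, ρ.character (h : G) = θ h + θ' h := by
    intro h
    rw [hθ, hθ']
    show LinearMap.trace ℂ _ (ρ h) = _
    rw [Char.trace_eq_sum_eigen bas (ρ h) ![a h, c h] (fun k => by
      rw [hbas]; fin_cases k
      · simpa using ha' h
      · simpa using hc' h), Fin.sum_univ_two]
    rfl
  have := Fintype.ofFinite H
  refine ⟨fun h => (θ h : ℂ), Char.irr_isCharacter (Char.isIrrCharacter_linear θ), ?_⟩
  have hirr : Cfsg.IsIrrCharacter G ρ.character := Char.isIrrCharacter_of_rep ρ
  have hF : Cfsg.IsCharacter G (Cfsg.indFun H fun h => (θ h : ℂ)) :=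
    Char.isCharacter_indFun H (Char.irr_isCharacter (Char.isIrrCharacter_linear θ))
  have hne : Cfsg.classInner (Cfsg.indFun H fun h => (θ h : ℂ)) ρ.character ≠ 0 := by
    rw [Char.frobenius_reciprocity H _ _ (Char.irr_isClassFunction hirr),
      show (fun h : H => ρ.character (h : G)) =
        (fun h : H => (θ h : ℂ)) + fun h : H => (θ' h : ℂ) from funext htr,
      ← Char.classInner_conj_symm, Char.classInner_add_left,
      Char.irr_classInner_self (Char.isIrrCharacter_linear θ)]
    obtain ⟨k, hk⟩ := Char.classInner_isCharacter_nat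
      (Char.irr_isCharacter (Char.isIrrCharacter_linear θ'))
      (Char.irr_isCharacter (Char.isIrrCharacter_linear θ))
    rw [hk, map_add, map_one, Complex.conj_natCast]
    exact_mod_cast (show 1 + k ≠ 0 by omega)
  obtain ⟨R, hR, hRe⟩ := exists_add_of_constituent hF hirr hne
  have hR1 : R 1 = 0 := by
    have := congrFun hRe 1
    rw [Pi.add_apply, Char.indFun_apply_one, hHi, map_one, Units.val_one, mul_one,
      Representation.char_one] at this
    simpa using this
  have hR0 : ∀ g, R g = 0 := by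
    obtain ⟨n, σ, rfl⟩ := hR
    intro g
    rw [Representation.char_one] at hR1
    have hn : finrank ℂ (Fin n → ℂ) = 0 := by exact_mod_cast hR1
    have := Char.norm_char_le σ g
    rw [hn, Nat.cast_zero, norm_le_zero_iff] at this
    exact this
  funext g
  rw [hRe, Pi.add_apply, hR0 g, add_zero]

/-- **Primitive groups of degree two**: the centre has index 12, 24 or 60. -/
theorem center_index [ρ.IsIrreducible] [Fintype G] (hf : Function.Injective ρ)
    (hprim : ∀ H : Subgroup G, H ≠ ⊤ → ∀ θ : H → ℂ, Cfsg.IsCharacter H θ →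
      ρ.character ≠ Cfsg.indFun H θ) :
    (Subgroup.center G).index = 12 ∨ (Subgroup.center G).index = 24 ∨
      (Subgroup.center G).index = 60 := by
  classical
  set Z := Subgroup.center G with hZdef
  choose p₁ p₂ hp12 hfix using fun g : {g : G // g ∉ Z} => natCard_fixed hf g.2
  let X : Finset (Line ρ) := Finset.univ.image p₁ ∪ Finset.univ.image p₂
  have hX : ∀ x, x ∈ X ↔ ∃ g : G, g ∉ Z ∧ g • x = x := by
    intro x
    simp only [X, Finset.mem_union, Finset.mem_image, Finset.mem_univ, true_and]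
    constructor
    · rintro (⟨g, rfl⟩ | ⟨g, rfl⟩)
      · exact ⟨g, g.2, (hfix g _).2 (Or.inl rfl)⟩
      · exact ⟨g, g.2, (hfix g _).2 (Or.inr rfl)⟩
    · rintro ⟨g, hg, hgx⟩
      rcases (hfix ⟨g, hg⟩ x).1 hgx with e | e
      · exact Or.inl ⟨_, e.symm⟩
      · exact Or.inr ⟨_, e.symm⟩
  have hZfix : ∀ z ∈ Z, ∀ x : Line ρ, z • x = x := by
    intro z hz x
    obtain ⟨w, hw⟩ := exists_scalar_of_center ρ hz
    obtain ⟨⟨v, hv⟩, hv0, -⟩ := finrank_eq_one_iff'.1 x.2
    have hv0' : v ≠ 0 := fun e => hv0 (Subtype.ext e)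
    have hw0 : w ≠ 0 := fun h => hv0' (rep_injective ρ z (by rw [hw, h]; simp))
    refine Subtype.ext ?_
    show x.1.map (ρ z) = x.1
    rw [eq_span ρ hv hv0', Submodule.map_span, Set.image_singleton,
      show ρ z v = w • v by rw [hw]; simp]
    exact Submodule.span_singleton_smul_eq (IsUnit.mk0 _ hw0) _
  have hXinv : ∀ (g : G) (x : Line ρ), x ∈ X → g • x ∈ X := by
    intro g x hx
    obtain ⟨h, hh, hhx⟩ := (hX x).1 hx
    refine (hX _).2 ⟨g * h * g⁻¹, fun hm => hh ?_, ?_⟩
    · have := (inferInstance : Z.Normal).conj_mem _ hm g⁻¹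
      simpa [mul_assoc] using this
    · rw [mul_smul, mul_smul, inv_smul_smul, hhx]
  -- double counting
  have hdouble : ∑ x ∈ X, (Nat.card (MulAction.stabilizer G x) - Nat.card Z) =
      2 * (Nat.card G - Nat.card Z) := by
    have h1 : ∀ x ∈ X, Nat.card (MulAction.stabilizer G x) - Nat.card Z =
        (Finset.univ.filter fun g : G => g ∉ Z ∧ g • x = x).card := by
      intro x _
      rw [Nat.sub_eq_iff_eq_add' (Subgroup.card_le_of_le fun z hz => hZfix z hz x),
        Nat.card_eq_fintype_card, Nat.card_eq_fintype_card, Fintype.card_subtype, Fintype.card_subtype,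
        ← Finset.card_union_of_disjoint (by
          rw [Finset.disjoint_left]; intro g hg hg'
          exact (Finset.mem_filter.1 hg').2.1 (Finset.mem_filter.1 hg).2)]
      congr 1
      ext g
      simp only [Finset.mem_union, Finset.mem_filter, Finset.mem_univ, true_and,
        MulAction.mem_stabilizer_iff]
      exact ⟨fun h => (em (g ∈ Z)).imp id fun hg => ⟨hg, h⟩,
        fun h => h.elim (fun hz => hZfix g hz x) And.right⟩
    rw [Finset.sum_congr rfl h1]
    simp only [Finset.card_filter]
    rw [Finset.sum_comm]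
    have h2 : ∀ g : G, (∑ x ∈ X, if g ∉ Z ∧ g • x = x then 1 else 0) =
        if g ∉ Z then 2 else 0 := by
      intro g
      by_cases hg : g ∈ Z
      · simp [hg]
      rw [if_pos hg, ← Finset.card_filter, ← Finset.card_pair (hp12 ⟨g, hg⟩)]
      congr 1
      ext x
      simp only [Finset.mem_filter, Finset.mem_insert, Finset.mem_singleton]
      exact ⟨fun h => (hfix ⟨g, hg⟩ x).1 h.2.2, fun h => ⟨(hX x).2 ⟨g, hg, (hfix ⟨g, hg⟩ x).2 h⟩,
        hg, (hfix ⟨g, hg⟩ x).2 h⟩⟩
    rw [Finset.sum_congr rfl (fun g _ => h2 g), ← Finset.sum_filter, Finset.sum_const, smul_eq_mul,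
      mul_comm, Finset.filter_not, Finset.card_univ_diff, ← Fintype.card_subtype,
      ← Nat.card_eq_fintype_card, ← Nat.card_eq_fintype_card]
  -- by orbits
  let orb : Line ρ → Finset (Line ρ) := fun x => Finset.univ.image fun g : G => g • x
  have horb : ∀ x, (orb x).card = Nat.card (MulAction.orbit G x) := by
    intro x
    rw [Nat.card_coe_set_eq, ← Set.ncard_coe_finset]
    congr 1
    simp [orb, MulAction.orbit]
  have horbX : ∀ x ∈ X, ∀ y, orb y = orb x ↔ y ∈ orb x := by
    intro x _ y
    constructor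
    · intro e
      rw [← e]
      exact Finset.mem_image.2 ⟨1, Finset.mem_univ _, one_smul _ _⟩
    · intro hy
      obtain ⟨g, -, rfl⟩ := Finset.mem_image.1 hy
      ext z
      simp only [orb, Finset.mem_image, Finset.mem_univ, true_and, smul_smul]
      exact ⟨fun ⟨h, e⟩ => ⟨h * g, e⟩, fun ⟨h, e⟩ => ⟨h * g⁻¹, by simpa using e⟩⟩
  have hstab : ∀ x : Line ρ, (orb x).card * Nat.card (MulAction.stabilizer G x) = Nat.card G := by
    intro x
    rw [horb, Nat.card_coe_set_eq, ← MulAction.index_stabilizer, Subgroup.index_mul_card]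
  have hsum : ∑ o ∈ X.image orb, (Nat.card G - o.card * Nat.card Z) =
      2 * (Nat.card G - Nat.card Z) := by
    rw [← hdouble, ← Finset.sum_fiberwise_of_maps_to (t := X.image orb) (g := orb)
      (fun x hx => Finset.mem_image_of_mem _ hx)]
    refine Finset.sum_congr rfl fun o ho => ?_
    obtain ⟨x, hx, rfl⟩ := Finset.mem_image.1 ho
    have hfib : X.filter (fun y => orb y = orb x) = orb x := by
      ext y
      rw [Finset.mem_filter, horbX x hx y]
      refine ⟨fun h => h.2, fun h => ⟨?_, h⟩⟩
      obtain ⟨g, -, rfl⟩ := Finset.mem_image.1 h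
      exact hXinv g x hx
    rw [hfib, Finset.sum_congr rfl (g := fun _ => Nat.card (MulAction.stabilizer G x) - Nat.card Z)
      (fun y hy => by
        have h1 := hstab y
        rw [(horbX x hx y).2 hy, ← hstab x] at h1
        rw [Nat.eq_of_mul_eq_mul_left (Finset.card_pos.2 ⟨y, hy⟩) h1]),
      Finset.sum_const, smul_eq_mul, Nat.mul_sub, hstab]
  set N := Z.index with hN
  have hG : Nat.card G = N * Nat.card Z := (Subgroup.index_mul_card Z).symm
  have hN2 : 2 ≤ N := by
    by_contra h
    have h1 : Z = ⊤ := Subgroup.index_eq_one.1 (by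
      have := Z.index_ne_zero_of_finite; omega)
    -- an abelian irreducible group fixes a line
    obtain ⟨ι, hι, b, μ, hb, -, -, -⟩ := Char.exists_char_eigen ρ (1 : G)
    have hne : Nonempty ι := by
      by_contra hni
      rw [not_nonempty_iff] at hni
      have := finrank_eq_card_basis b
      simp at this
    obtain ⟨k⟩ := hne
    obtain ⟨g, hg⟩ := exists_moved (ρ := ρ)
      ⟨Submodule.span ℂ {b k}, finrank_span_singleton (b.ne_zero k)⟩
    exact hg (hZfix g (h1 ▸ Subgroup.mem_top g) _)
  refine arith_poles (X.image orb) Finset.card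
    (fun o => if h : o ∈ X.image orb then
      Nat.card (MulAction.stabilizer G (Finset.mem_image.1 h).choose) / Nat.card Z else 0) hN2
    ?_ ?_ ?_ ?_
  · intro o ho
    rw [dif_pos ho]
    have hspec := (Finset.mem_image.1 ho).choose_spec
    set x := (Finset.mem_image.1 ho).choose
    have hd : Nat.card Z ∣ Nat.card (MulAction.stabilizer G x) :=
      Subgroup.card_dvd_of_le fun z hz => hZfix z hz x
    conv_lhs => rw [← hspec.2]
    refine Nat.eq_of_mul_eq_mul_right (Nat.card_pos (α := Z)) ?_
    rw [mul_assoc, Nat.div_mul_cancel hd, hstab, hG]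
  · intro o ho
    rw [dif_pos ho]
    have hspec := (Finset.mem_image.1 ho).choose_spec
    set x := (Finset.mem_image.1 ho).choose
    have hd : Nat.card Z ∣ Nat.card (MulAction.stabilizer G x) :=
      Subgroup.card_dvd_of_le fun z hz => hZfix z hz x
    obtain ⟨g, hg, hgx⟩ := (hX x).1 hspec.1
    have hlt : Nat.card Z < Nat.card (MulAction.stabilizer G x) := by
      refine lt_of_le_of_ne (Subgroup.card_le_of_le fun z hz => hZfix z hz x) fun e => hg ?_
      rw [Subgroup.eq_of_le_of_card_ge (fun z hz => hZfix z hz x : Z ≤ MulAction.stabilizer G x) e.ge]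
      exact hgx
    obtain ⟨c, hc⟩ := hd
    rw [hc, Nat.mul_div_cancel_left _ Nat.card_pos]
    rw [hc] at hlt
    exact (Nat.lt_mul_iff_one_lt_right Nat.card_pos).1 hlt
  · intro o ho
    obtain ⟨x, hx, rfl⟩ := Finset.mem_image.1 ho
    rw [horb]
    obtain ⟨g, hg⟩ := exists_moved x
    have h2 : 2 ≤ Nat.card (MulAction.orbit G x) := by
      rw [← horb]
      have : ({x, g • x} : Finset (Line ρ)) ⊆ orb x := by
        intro y hy
        simp only [Finset.mem_insert, Finset.mem_singleton] at hy
        rcases hy with rfl | rfl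
        · exact Finset.mem_image.2 ⟨1, Finset.mem_univ _, one_smul _ _⟩
        · exact Finset.mem_image.2 ⟨g, Finset.mem_univ _, rfl⟩
      exact le_trans (le_of_eq (Finset.card_pair (Ne.symm hg)).symm) (Finset.card_le_card this)
    by_contra h3
    obtain ⟨H, hH, θ, hθ, hind⟩ := exists_induced_of_short_orbit x (by omega)
    exact hprim H hH θ hθ hind
  · have h := hsum
    rw [hG] at h
    simp only [← Nat.sub_mul] at h
    rw [← Finset.sum_mul, show N * Nat.card Z - Nat.card Z = (N - 1) * Nat.card Z by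
      rw [Nat.sub_mul, one_mul], ← mul_assoc] at h
    have := Nat.eq_of_mul_eq_mul_right Nat.card_pos h
    omega

end CfsgLib.Clifford.PrimitiveTwo
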