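import Cfsg.Agent.Lib.BlockB.Codegree
import Cfsg.Agent.Lib.Clifford.Constituents
import Cfsg.Agent.Lib.Char.Induce
import Cfsg.Agent.Lib.Transfer.Basic
import Mathlib.GroupTheory.Transfer

/-!
# Small degrees when the Sylow centralizers are trivial intersection sets

Integer bookkeeping for a family of irreducible characters of the centralizer `C` of a Sylow
subgroup, then the lower bound on the degree of a constituent meeting the principal character of
`C`.
-/

set_option autoImplicit false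

namespace CfsgLib.Clifford.SmallDegreeTI

open CfsgLib
open scoped ComplexConjugate

universe u

open scoped Classical in
/-- Inner products of coefficient vectors force one of two shapes on the multiplicities. -/
theorem degree_bound_of_gram {I L : Type*} [Fintype I] [Fintype L] (y : I → ℕ) (hy : ∀ i, 0 < y i)
    (f : I → L → ℤ) (g : I → ℤ) (R : L → L → Prop) (hrefl : ∀ a, R a a)
    (hsymm : ∀ a b, R a b → R b a)
    (hinv : ∀ i a b, R a b → f i a = f i b) (e q : ℕ)
    (hcls : ∀ a, (Finset.univ.filter (R a)).card ≤ e)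
    (hinner : ∀ a a' b b', ∑ i, (f i a - f i a') * (f i b - f i b') =
      (if R a b then 1 else 0) - (if R a b' then 1 else 0) -
        (if R a' b then 1 else 0) + if R a' b' then 1 else 0)
    (hdegf : ∀ a a', ∑ i, (y i : ℤ) * (f i a - f i a') = 0)
    (hg2 : ∑ i, g i ^ 2 = (e : ℤ) + 1) (hdg : ∑ i, (y i : ℤ) * g i = 0) (X : L → Prop)
    (hgf : ∀ a a', ¬ X a → ¬ X a' → ∑ i, g i * (f i a - f i a') = 0)
    {i₀ φ : I} (hne : φ ≠ i₀) (hi₀ : ∀ a, f i₀ a = 0) (hg₀ : g i₀ = 1)
    {d : ℤ} (hd : 1 ≤ d) (hgφ : g φ = d) (hpos : ∀ a, 0 ≤ f φ a) (hX : ∀ a, X a → f φ a = 0)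
    (hX1 : ∀ a b, X a → X b → R a b) {a₀ : L} (ha₀ : 0 < f φ a₀)
    (hsum : ∑ a, f φ a + d ≤ y φ) (hcard : Fintype.card L + 1 = q) (he : e ^ 2 + 1 < q)
    (hyq : y φ + 1 < q) : (q : ℤ) + d ≤ (y φ : ℤ) + 1 + e := by
  -- the multiplicities are zero or one
  obtain ⟨z, hz⟩ : ∃ z, f φ z = 0 := by
    by_contra h
    push Not at h
    have h1 : (Fintype.card L : ℤ) ≤ ∑ a, f φ a := by
      have := Finset.sum_le_sum (s := Finset.univ) (f := fun _ : L => (1 : ℤ))
        (g := fun a => f φ a) fun a _ => by have := hpos a; have := h a; omega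
      simpa using this
    omega
  have hone : ∀ a, 0 < f φ a → f φ a = 1 := by
    intro a ha
    have hR : ¬ R a z := fun h => by rw [hinv φ a z h, hz] at ha; omega
    have h := hinner a z a z
    rw [if_pos (hrefl a), if_neg hR, if_neg fun h => hR (hsymm _ _ h), if_pos (hrefl z)] at h
    have h1 := Finset.single_le_sum (f := fun i => (f i a - f i z) * (f i a - f i z))
      (fun i _ => mul_self_nonneg _) (Finset.mem_univ φ)
    simp only [h, hz, sub_zero] at h1
    nlinarith
  -- the partner of a pair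
  have hpartner : ∀ a b, 0 < f φ a → f φ b = 0 → ∃ ψ, ψ ≠ φ ∧ y ψ = y φ ∧
      ∀ i, f i a - f i b = (if i = φ then 1 else 0) - if i = ψ then 1 else 0 := by
    intro a b ha hb
    have hR : ¬ R a b := fun h => by rw [hinv φ a b h, hb] at ha; omega
    have h := hinner a b a b
    rw [if_pos (hrefl a), if_neg hR, if_neg fun h => hR (hsymm _ _ h), if_pos (hrefl b)] at h
    have hcφ : f φ a - f φ b = 1 := by rw [hone a ha, hb]; norm_num
    rw [← Finset.add_sum_erase _ _ (Finset.mem_univ φ), hcφ] at h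
    set c := fun i => f i a - f i b with hc
    have h' : ∑ i ∈ Finset.univ.erase φ, c i * c i = 1 := by simp only [hc]; linarith
    obtain ⟨ψ, hψ, hψ0⟩ : ∃ ψ ∈ Finset.univ.erase φ, c ψ ≠ 0 := by
      by_contra hc0
      push Not at hc0
      rw [Finset.sum_eq_zero fun i hi => by rw [hc0 i hi, zero_mul]] at h'
      exact zero_ne_one h'
    rw [← Finset.add_sum_erase _ _ hψ] at h'
    have hψ1 : 1 ≤ c ψ * c ψ := by rcases lt_or_gt_of_ne hψ0 with h | h <;> nlinarith
    have hrest : ∑ i ∈ (Finset.univ.erase φ).erase ψ, c i * c i = 0 :=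
      le_antisymm (by linarith) (Finset.sum_nonneg fun i _ => mul_self_nonneg _)
    rw [Finset.sum_eq_zero_iff_of_nonneg fun i _ => mul_self_nonneg (c i)] at hrest
    have hzero : ∀ i, i ≠ φ → i ≠ ψ → c i = 0 := fun i h1 h2 =>
      mul_self_eq_zero.mp (hrest i (by simp [h1, h2]))
    have hψne : ψ ≠ φ := Finset.ne_of_mem_erase hψ
    have hd0 := hdegf a b
    rw [Finset.sum_eq_add φ ψ hψne.symm
      (fun i _ hi => by rw [show f i a - f i b = 0 from hzero i hi.1 hi.2, mul_zero])
      (by simp) (by simp), hcφ, mul_one] at hd0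
    have hψ2 : c ψ = 1 ∨ c ψ = -1 := by
      have h2 : c ψ * c ψ = 1 := le_antisymm (by
        have := Finset.sum_nonneg (s := (Finset.univ.erase φ).erase ψ)
          (f := fun i => c i * c i) fun i _ => mul_self_nonneg _
        linarith) hψ1
      exact mul_self_eq_one_iff.mp h2
    have hyφ : (0 : ℤ) < y φ := by exact_mod_cast hy φ
    have hyψ : (0 : ℤ) ≤ y ψ := by positivity
    rcases hψ2 with h2 | h2
    · rw [show f ψ a - f ψ b = 1 from h2] at hd0; omega
    · rw [show f ψ a - f ψ b = -1 from h2] at hd0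
      refine ⟨ψ, hψne, by omega, fun i => ?_⟩
      by_cases h1 : i = φ
      · rw [h1, hcφ, if_pos rfl, if_neg hψne.symm, sub_zero]
      · by_cases h3 : i = ψ
        · rw [h3, if_neg hψne, if_pos rfl, zero_sub]; exact h2
        · rw [if_neg h1, if_neg h3, sub_zero]; exact hzero i h1 h3
  choose ψ hψne hψy hψc using hpartner
  -- at most one class carries ones, or at most one carries zeros
  have hclass : (∀ a a', 0 < f φ a → 0 < f φ a' → R a a') ∨
      ∀ b b', f φ b = 0 → f φ b' = 0 → R b b' := by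
    by_contra hc
    push Not at hc
    obtain ⟨⟨a, a', ha, ha', hR⟩, b, b', hb, hb', hR'⟩ := hc
    have hn : ∀ x y, 0 < f φ x → f φ y = 0 → ¬ R x y := fun x y hx hy' h => by
      rw [hinv φ x y h, hy'] at hx; omega
    have h := hinner a b a' b'
    rw [if_neg hR, if_neg (hn a b' ha hb'), if_neg (fun h => hn a' b ha' hb (hsymm _ _ h)),
      if_neg hR'] at h
    simp only [hψc a b ha hb, hψc a' b' ha' hb', sub_mul, mul_sub, Finset.sum_sub_distrib,
      ite_mul, one_mul, zero_mul, Finset.sum_ite_eq', Finset.mem_univ, if_true,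
      if_neg (hψne a b ha hb), if_neg (hψne a' b' ha' hb').symm] at h
    split_ifs at h <;> omega
  have hsplit : ∀ a, f φ a = 1 ∨ f φ a = 0 := fun a =>
    (lt_or_eq_of_le (hpos a)).imp (hone a) fun h => h.symm
  rcases hclass with hO | hZ
  swap
  · -- only one class of zeros
    have h1 : ∑ a, f φ a = ((Finset.univ.filter fun a => f φ a = 1).card : ℤ) := by
      rw [Finset.card_filter, Nat.cast_sum]
      refine Finset.sum_congr rfl fun a _ => ?_
      rcases hsplit a with h | h <;> simp [h]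
    have h2 : Fintype.card L ≤ (Finset.univ.filter fun a => f φ a = 1).card +
        (Finset.univ.filter (R z)).card := by
      refine le_trans ?_ (Finset.card_union_le _ _)
      rw [← Finset.card_univ]
      refine Finset.card_le_card fun a _ => ?_
      rcases hsplit a with h | h
      · simp [h]
      · simp [hZ z a hz h]
    have h3 := hcls z
    omega
  -- one class of ones: the norm of the vector `g` is too small
  exfalso
  set Z := Finset.univ.filter (fun b => f φ b = 0 ∧ ¬ X b) with hZ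
  have hRa : ∀ b ∈ Z, ¬ R a₀ b := fun b hb h => by
    rw [hinv φ a₀ b h, (Finset.mem_filter.mp hb).2.1] at ha₀; omega
  set T := Z.attach.image (fun b => ψ a₀ b.1 ha₀ (Finset.mem_filter.mp b.2).2.1) with hT
  have hTg : ∀ i ∈ T, g i = d ∧ i ≠ φ ∧ i ≠ i₀ ∧ y i = y φ := by
    intro i hi
    obtain ⟨⟨b, hb⟩, -, rfl⟩ := Finset.mem_image.mp hi
    obtain ⟨hb0, hbX⟩ := (Finset.mem_filter.mp hb).2
    have hn := hψne a₀ b ha₀ hb0
    have hc := hψc a₀ b ha₀ hb0
    refine ⟨?_, hn, fun h => ?_, hψy a₀ b ha₀ hb0⟩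
    · have h := hgf a₀ b (fun h => by rw [hX a₀ h] at ha₀; omega) hbX
      simp only [hc, mul_sub, mul_ite, mul_one, mul_zero, Finset.sum_sub_distrib,
        Finset.sum_ite_eq', Finset.mem_univ, if_true] at h
      linarith
    · have h1 := hc i₀
      rw [hi₀, hi₀, sub_self, if_neg hne.symm, if_pos h.symm] at h1
      omega
  have hfib : Z.card ≤ e * T.card := by
    rw [← Finset.card_attach (s := Z)]
    refine Finset.card_le_mul_card_image _ e fun i hi => ?_
    obtain ⟨⟨b, hb⟩, -, rfl⟩ := Finset.mem_image.mp hi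
    refine le_trans (Finset.card_le_card_of_injOn (fun x => x.1) (fun x hx => ?_)
      Subtype.val_injective.injOn) (hcls b)
    obtain ⟨x, hxZ⟩ := x
    have hψx := (Finset.mem_filter.mp hx).2
    refine Finset.mem_filter.mpr ⟨Finset.mem_univ _, ?_⟩
    show R b x
    have hb0 := (Finset.mem_filter.mp hb).2.1
    have hx0 := (Finset.mem_filter.mp hxZ).2.1
    have h := hinner a₀ b a₀ x
    rw [if_pos (hrefl a₀), if_neg (hRa x hxZ), if_neg fun h => hRa b hb (hsymm _ _ h)] at h
    have hn := hψne a₀ b ha₀ hb0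
    simp only [hψc a₀ b ha₀ hb0, hψc a₀ x ha₀ hx0] at h
    simp only [show ψ a₀ x ha₀ hx0 = ψ a₀ b ha₀ hb0 from hψx, sub_mul, mul_sub,
      Finset.sum_sub_distrib, ite_mul, one_mul, zero_mul, Finset.sum_ite_eq', Finset.mem_univ,
      if_true, if_neg hn, if_neg hn.symm] at h
    by_contra hR
    rw [if_neg hR] at h
    omega
  have hcov : Fintype.card L ≤
      Z.card + (Finset.univ.filter (R a₀)).card + (Finset.univ.filter X).card := by
    refine le_trans ?_ ((Finset.card_union_le _ _).trans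
      (Nat.add_le_add_right (Finset.card_union_le _ _) _))
    rw [← Finset.card_univ]
    refine Finset.card_le_card fun a _ => ?_
    simp only [Finset.mem_union, Finset.mem_filter, Finset.mem_univ, true_and, hZ]
    rcases hsplit a with h | h
    · exact .inl (.inr (hO a₀ a ha₀ (by omega)))
    · by_cases hXa : X a
      · exact .inr hXa
      · exact .inl (.inl ⟨h, hXa⟩)
  have hXc : (Finset.univ.filter X).card ≤ e := by
    by_cases h : ∃ x, X x
    · obtain ⟨x, hx⟩ := h
      refine le_trans (Finset.card_le_card fun a ha => ?_) (hcls x)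
      exact Finset.mem_filter.mpr ⟨Finset.mem_univ _, hX1 x a hx (Finset.mem_filter.mp ha).2⟩
    · push Not at h
      simp [h]
  have hae := hcls a₀
  have hT1 : e ≤ T.card + 1 := by nlinarith
  -- saturation
  have hS : ({i₀, φ} : Finset I) ∪ T ⊆ Finset.univ := Finset.subset_univ _
  have hdisj : Disjoint ({i₀, φ} : Finset I) T := by
    rw [Finset.disjoint_left]
    intro i hi hiT
    obtain ⟨-, h1, h2, -⟩ := hTg i hiT
    rcases Finset.mem_insert.mp hi with h | h
    · exact h2 h
    · exact h1 (Finset.mem_singleton.mp h)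
  have hd2 : 1 ≤ d ^ 2 := one_le_pow₀ hd
  have hle : (1 : ℤ) + (1 + T.card) * d ^ 2 ≤ e + 1 := by
    refine le_trans (le_of_eq ?_) ((Finset.sum_le_sum_of_subset_of_nonneg hS
      fun i _ _ => sq_nonneg (g i)).trans_eq hg2)
    rw [Finset.sum_union hdisj, Finset.sum_pair hne.symm, hg₀, hgφ,
      Finset.sum_congr rfl fun i hi => by rw [(hTg i hi).1], Finset.sum_const, nsmul_eq_mul]
    ring
  have hsat : ∑ i ∈ Finset.univ \ (({i₀, φ} : Finset I) ∪ T), g i ^ 2 = 0 := by
    refine le_antisymm ?_ (Finset.sum_nonneg fun i _ => sq_nonneg (g i))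
    have := Finset.sum_sdiff (f := fun i => g i ^ 2) hS
    rw [hg2, Finset.sum_union hdisj, Finset.sum_pair hne.symm, hg₀, hgφ,
      Finset.sum_congr (s₁ := T) rfl fun i hi => by rw [(hTg i hi).1], Finset.sum_const, nsmul_eq_mul] at this
    have h1 : (e : ℤ) ≤ T.card + 1 := by exact_mod_cast hT1
    nlinarith
  rw [Finset.sum_eq_zero_iff_of_nonneg fun i _ => sq_nonneg (g i)] at hsat
  rw [← Finset.sum_sdiff hS, Finset.sum_eq_zero fun i hi => by
    rw [sq_eq_zero_iff.mp (hsat i hi), mul_zero], zero_add, Finset.sum_union hdisj,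
    Finset.sum_pair hne.symm, hg₀, hgφ,
    Finset.sum_congr (s₁ := T) rfl fun i hi => by rw [(hTg i hi).1, (hTg i hi).2.2.2],
    Finset.sum_const, nsmul_eq_mul] at hdg
  have h1 : (0 : ℤ) < y i₀ := by exact_mod_cast hy i₀
  have h2 : (0 : ℤ) ≤ y φ := by positivity
  nlinarith [mul_nonneg h2 (by omega : (0 : ℤ) ≤ d)]

variable {G : Type u} [Group G] [Fintype G] {p : ℕ} [hp : Fact p.Prime] (P : Sylow p G)

/-- Every non-identity element of the Sylow subgroup has the centralizer of the whole subgroup. -/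
def Star : Prop :=
  ∀ x ∈ (P : Subgroup G), x ≠ 1 →
    Subgroup.centralizer ({x} : Set G) = Subgroup.centralizer ((P : Subgroup G) : Set G)

local notation "C" => Subgroup.centralizer ((P : Subgroup G) : Set G)
local notation "N" => Subgroup.normalizer ((P : Subgroup G) : Set G)

variable {P} (h : Star P)

include h

theorem le_cen : (P : Subgroup G) ≤ C := by
  intro u hu
  by_cases h1 : u = 1
  · rw [h1]; exact one_mem _
  · rw [← h u hu h1]; exact Subgroup.mem_centralizer_singleton_iff.mpr rfl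

/-- The Sylow subgroup inside its centralizer. -/
noncomputable def sylC : Sylow p C := P.subtype (le_cen h)

theorem mem_sylC {c : C} : c ∈ (sylC h : Subgroup C) ↔ (c : G) ∈ (P : Subgroup G) :=
  Subgroup.mem_subgroupOf

theorem sylC_comm (u c : C) (hu : u ∈ (sylC h : Subgroup C)) : u * c = c * u :=
  Subtype.ext (Subgroup.mem_centralizer_iff.mp c.2 _ ((mem_sylC h).mp hu))

theorem sylC_central : Subgroup.normalizer ((sylC h : Subgroup C) : Set C) ≤
    Subgroup.centralizer ((sylC h : Subgroup C) : Set C) := fun c _ =>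
  Subgroup.mem_centralizer_iff.mpr fun u hu => sylC_comm h u c hu

theorem sylC_normal : (sylC h : Subgroup C).Normal := ⟨fun u hu c => by
  rw [← sylC_comm h u c hu, mul_inv_cancel_right]; exact hu⟩

/-- The projection of the centralizer onto the Sylow subgroup by transfer. -/
noncomputable def proj : C →* (sylC h : Subgroup C) :=
  MonoidHom.transferSylow (sylC h) (sylC_central h)

theorem proj_apply (u : C) (hu : u ∈ (sylC h : Subgroup C)) :
    proj h u = ⟨u, hu⟩ ^ (sylC h : Subgroup C).index := by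
  rw [proj, MonoidHom.transferSylow_eq_pow _ _ u hu]
  exact Subtype.ext (SubmonoidClass.coe_pow (M := C) (⟨u, hu⟩ : (sylC h : Subgroup C)) _).symm

theorem coprime_index :
    (Nat.card (sylC h : Subgroup C)).Coprime (sylC h : Subgroup C).index :=
  (sylC h).card_coprime_index

theorem natCard_sylC : Nat.card (sylC h : Subgroup C) = Nat.card P :=
  Nat.card_congr (Subgroup.subgroupOfEquivOfLe (le_cen h)).toEquiv

theorem mem_P_of_pow_prime {c : C} {k : ℕ} (hk : c ^ p ^ k = 1) :
    c ∈ (sylC h : Subgroup C) := by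
  have hz : IsPGroup p (Subgroup.zpowers c) :=
    IsPGroup.of_card_dvd_pow (n := k) (by rw [Nat.card_zpowers]; exact orderOf_dvd_of_pow_eq_one hk)
  have := sylC_normal h
  have hsup : IsPGroup p ((sylC h : Subgroup C) ⊔ Subgroup.zpowers c : Subgroup C) :=
    (sylC h).isPGroup'.to_sup_of_normal_left hz
  rw [← (sylC h).is_maximal' hsup le_sup_left]
  exact Subgroup.mem_sup_right (Subgroup.mem_zpowers c)

/-- Trivial intersection: an element off the kernel of the projection determines the normalizer. -/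
theorem mem_normalizer_of_conj {c : C} (hc : proj h c ≠ 1) {x : G}
    (hx : x⁻¹ * (c : G) * x ∈ C) : x ∈ N := by
  set m := (sylC h : Subgroup C).index
  have := sylC_normal h
  have hwP : c ^ m ∈ (sylC h : Subgroup C) := Subgroup.pow_index_mem _ c
  have hw1 : c ^ m ≠ 1 := fun e => hc (by
    have h1 : proj h c ^ m = 1 := by rw [← map_pow, e, map_one]
    have h2 : proj h c ^ Nat.card (sylC h : Subgroup C) = 1 := pow_card_eq_one'
    have h3 := pow_gcd_eq_one.mpr ⟨h1, h2⟩
    rwa [Nat.gcd_comm, coprime_index h, pow_one] at h3)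
  obtain ⟨k, hk⟩ := (sylC h).isPGroup' ⟨_, hwP⟩
  have hk' : (c ^ m) ^ p ^ k = 1 := congrArg Subtype.val hk
  have hcw : x⁻¹ * ((c ^ m : C) : G) * x ∈ C := by
    have e : (x⁻¹ * (c : G) * x) ^ m = x⁻¹ * (c : G) ^ m * x := by
      nth_rewrite 2 [← inv_inv x]
      rw [conj_pow, inv_inv]
    rw [Subgroup.coe_pow, ← e]
    exact pow_mem hx m
  have hw' : (⟨_, hcw⟩ : C) ^ p ^ k = 1 := by
    apply Subtype.ext
    rw [Subgroup.coe_pow]
    show (x⁻¹ * ((c ^ m : C) : G) * x) ^ p ^ k = 1
    nth_rewrite 2 [← inv_inv x]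
    rw [conj_pow, ← Subgroup.coe_pow, hk']
    simp
  have hmem := (mem_sylC h).mp (mem_P_of_pow_prime h hw')
  have e1 := h _ ((mem_sylC h).mp hwP) fun e => hw1 (Subtype.ext e)
  have e2 := h _ hmem fun e => hw1 (Subtype.ext (by
    have e' : x⁻¹ * ((c ^ m : C) : G) * x = 1 := e
    calc ((c ^ m : C) : G) = x * (x⁻¹ * ((c ^ m : C) : G) * x) * x⁻¹ := by group
      _ = 1 := by rw [e']; group))
  have hC : ∀ t ∈ C, x⁻¹ * t * x ∈ C := by
    intro t ht
    rw [← e2]
    rw [← e1] at ht
    rw [Subgroup.mem_centralizer_singleton_iff] at ht ⊢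
    calc x⁻¹ * t * x * (x⁻¹ * ((c ^ m : C) : G) * x)
        = x⁻¹ * (t * ((c ^ m : C) : G)) * x := by group
      _ = x⁻¹ * (((c ^ m : C) : G) * t) * x := by rw [ht]
      _ = _ := by group
  have hmap : (P : Subgroup G).map (MulAut.conj x⁻¹).toMonoidHom = (P : Subgroup G) := by
    refine Subgroup.eq_of_le_of_card_ge ?_
      (Subgroup.card_map_of_injective (MulEquiv.injective _)).ge
    rintro _ ⟨u, hu, rfl⟩
    obtain ⟨j, hj⟩ := P.isPGroup' ⟨u, hu⟩
    have hu' : x⁻¹ * u * x ∈ C := hC u (le_cen h hu)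
    have hp' : (⟨_, hu'⟩ : C) ^ p ^ j = 1 := by
      apply Subtype.ext
      rw [Subgroup.coe_pow]
      show (x⁻¹ * u * x) ^ p ^ j = 1
      nth_rewrite 2 [← inv_inv x]
      rw [conj_pow, show u ^ p ^ j = 1 from congrArg Subtype.val hj]
      simp
    simpa using (mem_sylC h).mp (mem_P_of_pow_prime h hp')
  rw [← Subgroup.inv_mem_iff, Subgroup.mem_normalizer_iff]
  intro u
  conv_rhs => rw [← hmap]
  exact ⟨fun hu => ⟨u, hu, rfl⟩, fun ⟨v, hv, e⟩ => (MulEquiv.injective _ e) ▸ hv⟩

omit h in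
theorem conj_mem_P {x u : G} (hx : x ∈ N) (hu : u ∈ (P : Subgroup G)) :
    x * u * x⁻¹ ∈ (P : Subgroup G) :=
  (Subgroup.mem_normalizer_iff.mp hx u).mp hu

omit h in
theorem conj_mem_cen (x : N) (c : C) : (x : G)⁻¹ * (c : G) * x ∈ C := by
  rw [Subgroup.mem_centralizer_iff]
  intro u hu
  have h1 := Subgroup.mem_centralizer_iff.mp c.2 _ (conj_mem_P x.2 hu)
  calc u * ((x : G)⁻¹ * (c : G) * x) = (x : G)⁻¹ * ((x : G) * u * (x : G)⁻¹ * (c : G)) * x := by
        group
    _ = (x : G)⁻¹ * ((c : G) * ((x : G) * u * (x : G)⁻¹)) * x := by rw [h1]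
    _ = _ := by group

omit h in
/-- Conjugation of the centralizer by the normalizer. -/
def cj (x : N) : C →* C where
  toFun c := ⟨(x : G)⁻¹ * (c : G) * x, conj_mem_cen x c⟩
  map_one' := Subtype.ext (by simp)
  map_mul' a b := Subtype.ext (by simp [mul_assoc])

omit h in
theorem cj_comp (x y : N) (c : C) : cj x (cj y c) = cj (y * x) c :=
  Subtype.ext (by simp [cj, mul_assoc])

omit h in
theorem cj_one (c : C) : cj (1 : N) c = c := Subtype.ext (by simp [cj])

omit h in
theorem irr_cj (x : N) {θ : C → ℂ} (hθ : Cfsg.IsIrrCharacter C θ) :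
    Cfsg.IsIrrCharacter C (θ ∘ cj x) :=
  Char.isIrrCharacter_comp_surjective hθ (cj x) fun c => ⟨cj x⁻¹ c, by
    rw [cj_comp, inv_mul_cancel, cj_one]⟩

/-- The Sylow subgroup acts trivially in the character. -/
def PTriv (θ : C → ℂ) : Prop := ∀ u : C, u ∈ (sylC h : Subgroup C) → θ u = θ 1

theorem ptriv_cj (x : N) {θ : C → ℂ} (hθ : PTriv h θ) : PTriv h (θ ∘ cj x) := fun u hu => by
  rw [Function.comp_apply, Function.comp_apply, map_one]
  refine hθ _ ((mem_sylC h).mpr ?_)
  have := conj_mem_P (inv_mem x.2) ((mem_sylC h).mp hu)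
  rwa [inv_inv] at this

/-- The Sylow subgroup multiplies an irreducible character by scalars. -/
theorem central_mul {θ : C → ℂ} (hθ : Cfsg.IsIrrCharacter C θ) {u : C}
    (hu : u ∈ (sylC h : Subgroup C)) (c : C) : θ (c * u) * θ 1 = θ c * θ u := by
  obtain ⟨n, ρ, hρ, rfl⟩ := hθ
  obtain ⟨s, hs⟩ := Char.exists_scalar_of_commute ρ (ρ u) fun y => by
    rw [← Module.End.mul_eq_comp, ← Module.End.mul_eq_comp, ← map_mul, ← map_mul,
      sylC_comm h u y hu]
  have hv : ∀ x : C, ρ.character (x * u) = s * ρ.character x := fun x => by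
    rw [Representation.character, Representation.character, map_mul, hs]
    simp [Module.End.mul_eq_comp, LinearMap.comp_smul]
  have h1 := hv 1
  rw [one_mul] at h1
  rw [hv, h1]
  ring

theorem apply_ne_zero {θ : C → ℂ} (hθ : Cfsg.IsIrrCharacter C θ) {u : C}
    (hu : u ∈ (sylC h : Subgroup C)) : θ u ≠ 0 := fun h0 => by
  have := central_mul h hθ (inv_mem hu) u
  rw [mul_inv_cancel, h0, zero_mul] at this
  exact Char.irr_apply_one_ne_zero hθ (mul_self_eq_zero.mp this)

/-- A character nontrivial on the Sylow subgroup is fixed by the centralizer only. -/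
theorem mem_cen_of_fixed {θ : C → ℂ} (hθ : Cfsg.IsIrrCharacter C θ) (hnt : ¬ PTriv h θ) {x : N}
    (hx : θ ∘ cj x = θ) : (x : G) ∈ C := by
  by_contra hxC
  apply hnt
  intro u hu
  have hu' := (mem_sylC h).mp hu
  let φ : ↥(P : Subgroup G) → ↥(P : Subgroup G) := fun v =>
    ⟨(x : G)⁻¹ * v * x * (v : G)⁻¹, mul_mem (by simpa using conj_mem_P (inv_mem x.2) v.2)
      (inv_mem v.2)⟩
  have hcomm : ∀ v w : ↥(P : Subgroup G), (v : G) * w = w * v := fun v w =>
    Subgroup.mem_centralizer_iff.mp (le_cen h w.2) _ v.2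
  have hinj : Function.Injective φ := by
    intro v w e
    have e' : (x : G)⁻¹ * v * x * (v : G)⁻¹ = (x : G)⁻¹ * w * x * (w : G)⁻¹ :=
      congrArg Subtype.val e
    by_contra hne
    have hz : (v⁻¹ * w : ↥(P : Subgroup G)) ≠ 1 := fun h0 => hne (inv_mul_eq_one.mp h0)
    apply hxC
    rw [← h _ (v⁻¹ * w).2 fun h0 => hz (Subtype.ext h0), Subgroup.mem_centralizer_singleton_iff]
    have hvw : (v : G)⁻¹ * w = w * (v : G)⁻¹ := by
      have := hcomm v⁻¹ w
      simpa using this
    have key : (x : G)⁻¹ * ((v : G)⁻¹ * w) * x = (v : G)⁻¹ * w := by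
      calc (x : G)⁻¹ * ((v : G)⁻¹ * w) * x
          = ((x : G)⁻¹ * v * x)⁻¹ * ((x : G)⁻¹ * w * x * (w : G)⁻¹) * w := by group
        _ = ((x : G)⁻¹ * v * x)⁻¹ * ((x : G)⁻¹ * v * x * (v : G)⁻¹) * w := by rw [← e']
        _ = _ := by group
    rw [Subgroup.coe_mul, Subgroup.coe_inv]
    calc (x : G) * ((v : G)⁻¹ * w) = (x : G) * ((x : G)⁻¹ * ((v : G)⁻¹ * w) * x) := by rw [key]
      _ = _ := by group
  obtain ⟨v, hv⟩ := (Finite.injective_iff_surjective.mp hinj) ⟨(u : G), hu'⟩
  have hv' : (x : G)⁻¹ * v * x * (v : G)⁻¹ = u := congrArg Subtype.val hv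
  set v' : C := ⟨v, le_cen h v.2⟩
  have hvc : cj x v' = u * v' := Subtype.ext (by
    show (x : G)⁻¹ * v * x = (u : G) * v
    rw [← hv']; group)
  have h1 := congr_fun hx v'
  rw [Function.comp_apply, hvc, ← sylC_comm h v' u ((mem_sylC h).mpr v.2)] at h1
  have hv'1 := central_mul h hθ hu v'
  rw [h1] at hv'1
  have hne : θ v' ≠ 0 := apply_ne_zero h hθ ((mem_sylC h).mpr v.2)
  exact mul_left_cancel₀ hne hv'1.symm |>.trans rfl

omit h in
theorem cen_le_nrm : C ≤ N := Subgroup.centralizer_le_normalizer _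

omit h in
/-- Two irreducible characters of the centralizer are conjugate in the normalizer. -/
def Conjg (a b : C → ℂ) : Prop := ∃ x : N, b ∘ cj x = a

omit h in
theorem conjg_symm {a b : C → ℂ} : Conjg a b → Conjg b a := by
  rintro ⟨x, rfl⟩
  exact ⟨x⁻¹, funext fun c => by rw [Function.comp_apply, Function.comp_apply, cj_comp,
    inv_mul_cancel, cj_one]⟩

omit h in
theorem conjg_trans {a b c : C → ℂ} : Conjg a b → Conjg b c → Conjg a c := by
  rintro ⟨x, rfl⟩ ⟨y, rfl⟩
  exact ⟨x * y, funext fun t => by simp only [Function.comp_apply, cj_comp]⟩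

theorem ptriv_of_conjg {a b : C → ℂ} (hab : Conjg a b) (hb : PTriv h b) : PTriv h a := by
  obtain ⟨x, rfl⟩ := hab
  exact ptriv_cj h x hb

open scoped Classical in
/-- The sum over the normalizer of the inner products with the conjugates of a character. -/
theorem sum_cj [Fintype C] [Fintype N] {a b : C → ℂ} (ha : Cfsg.IsIrrCharacter C a)
    (hb : Cfsg.IsIrrCharacter C b) (hnt : ¬ PTriv h b) :
    ∑ x : N, Cfsg.classInner a (b ∘ cj x) = if Conjg a b then (Nat.card C : ℂ) else 0 := by
  have hterm : ∀ x : N, Cfsg.classInner a (b ∘ cj x) = if b ∘ cj x = a then 1 else 0 := fun x => by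
    split_ifs with e
    · rw [e, Char.irr_classInner_self ha]
    · exact Char.irr_classInner_ne ha (irr_cj x hb) fun e' => e e'.symm
  rw [Finset.sum_congr rfl fun x _ => hterm x, Finset.sum_boole]
  split_ifs with hab
  · obtain ⟨x₀, rfl⟩ := hab
    congr 1
    rw [Nat.card_eq_fintype_card, ← Finset.card_univ]
    refine Finset.card_bij' (fun x hx => (⟨(x₀ : G)⁻¹ * (x : G), ?_⟩ : C))
      (fun c _ => x₀ * (⟨(c : G), cen_le_nrm c.2⟩ : N)) (fun x hx => Finset.mem_univ _)
      (fun c _ => ?_) (fun x hx => Subtype.ext (by simp)) (fun c _ => Subtype.ext (by simp))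
    · have hfix : b ∘ cj (x₀⁻¹ * x) = b := funext fun t => by
        have h2 := congr_fun (Finset.mem_filter.mp hx).2 (cj x₀⁻¹ t)
        simp only [Function.comp_apply, cj_comp, inv_mul_cancel, cj_one] at h2
        exact h2
      exact mem_cen_of_fixed h hb hnt hfix
    · refine Finset.mem_filter.mpr ⟨Finset.mem_univ _, funext fun t => ?_⟩
      rw [Function.comp_apply, Function.comp_apply, ← cj_comp]
      have h2 := Char.irr_isClassFunction hb (cj x₀ t) c⁻¹
      rw [inv_inv] at h2
      exact h2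
  · rw [Finset.filter_false_of_mem fun x _ e => hab ⟨x, e⟩]; simp

open scoped Classical in
/-- Inner product of induced functions, one of them supported off the kernel of the projection. -/
theorem classInner_indFun [Fintype C] [Fintype N] {a b : C → ℂ}
    (hb : Cfsg.IsClassFunction C b) (ha : ∀ c, proj h c = 1 → a c = 0) :
    Cfsg.classInner (Cfsg.indFun C a) (Cfsg.indFun C b) =
      (Nat.card C : ℂ)⁻¹ * ∑ x : N, Cfsg.classInner a (b ∘ cj x) := by
  rw [Char.frobenius_reciprocity C a _ (Char.indFun_isClassFunction C b)]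
  simp only [Char.classInner_def, Finset.mul_sum]
  rw [Finset.sum_comm]
  refine Finset.sum_congr rfl fun c _ => ?_
  by_cases hc : proj h c = 1
  · simp [ha c hc]
  rw [Char.indFun_def, ← Finset.sum_filter_of_ne (p := fun x => x ∈ N) fun x _ hne => ?_]
  · have hbij : ∑ x ∈ Finset.univ.filter (fun x : G => x ∈ N),
        Cfsg.extendByZero C b (x⁻¹ * (c : G) * x) = ∑ x : N, b (cj x c) := by
      rw [Finset.sum_subtype _ (p := fun x : G => x ∈ N) (by simp)]
      refine Fintype.sum_congr _ _ fun x => ?_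
      exact Char.extendByZero_of_mem b (conj_mem_cen x c)
    rw [hbij]
    simp only [map_mul, map_inv₀, map_natCast, map_sum, Finset.mul_sum, Function.comp_apply]
    refine Finset.sum_congr rfl fun x _ => ?_
    ring
  · by_contra hx
    refine hne (Char.extendByZero_of_not_mem b fun hm => hx (mem_normalizer_of_conj h hc hm))

/-- The linear characters of the Sylow subgroup as characters of the centralizer. -/
noncomputable def lin (l : (sylC h : Subgroup C) →* ℂˣ) : C →* ℂˣ := l.comp (proj h)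

theorem lin_apply (l : (sylC h : Subgroup C) →* ℂˣ) (u : (sylC h : Subgroup C)) :
    lin h l (u : C) = l u ^ (sylC h : Subgroup C).index := by
  rw [lin, MonoidHom.comp_apply, proj_apply h (u : C) u.2, map_pow]

theorem lin_inj {l l' : (sylC h : Subgroup C) →* ℂˣ}
    (e : ∀ u : (sylC h : Subgroup C), lin h l (u : C) = lin h l' (u : C)) : l = l' := by
  refine MonoidHom.ext fun u => ?_
  obtain ⟨v, rfl⟩ := (powCoprime (coprime_index h)).surjective u
  have := e v
  rw [lin_apply, lin_apply] at this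
  rwa [powCoprime_apply, map_pow, map_pow]

/-- The twist of a character by a linear character of the Sylow subgroup. -/
noncomputable def tw (β : C → ℂ) (l : (sylC h : Subgroup C) →* ℂˣ) : C → ℂ :=
  fun c => β c * (lin h l c : ℂ)

theorem tw_irr {β : C → ℂ} (hβ : Cfsg.IsIrrCharacter C β) (l : (sylC h : Subgroup C) →* ℂˣ) :
    Cfsg.IsIrrCharacter C (tw h β l) :=
  (show (fun g => (lin h l g : ℂ) * β g) = tw h β l from funext fun g => mul_comm _ _) ▸
    Char.isIrrCharacter_mul_linear hβ (lin h l)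

theorem tw_one (β : C → ℂ) : tw h β 1 = β := funext fun c => by simp [tw, lin]

theorem tw_apply_one (β : C → ℂ) (l : (sylC h : Subgroup C) →* ℂˣ) : tw h β l 1 = β 1 := by
  simp [tw]

theorem tw_ptriv_iff {β : C → ℂ} (hβ : Cfsg.IsIrrCharacter C β) (hβt : PTriv h β)
    {l : (sylC h : Subgroup C) →* ℂˣ} : PTriv h (tw h β l) ↔ l = 1 := by
  refine ⟨fun ht => lin_inj h fun u => ?_, fun e => by rw [e, tw_one]; exact hβt⟩
  have h1 := ht u u.2
  rw [tw_apply_one, tw, hβt u u.2] at h1
  rw [show lin h (1 : (sylC h : Subgroup C) →* ℂˣ) (u : C) = 1 by simp [lin]]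
  exact Units.ext (mul_eq_left₀ (Char.irr_apply_one_ne_zero hβ) |>.mp h1)

theorem tw_inj {β : C → ℂ} (hβ : Cfsg.IsIrrCharacter C β) :
    Function.Injective (tw h β) := fun l l' e => lin_inj h fun u => by
  have h1 := congr_fun e (u : C)
  exact Units.ext (mul_left_cancel₀ (apply_ne_zero h hβ u.2) h1)

/-- An irreducible character is a twist of one trivial on the Sylow subgroup. -/
theorem exists_tw {θ : C → ℂ} (hθ : Cfsg.IsIrrCharacter C θ) :
    ∃ β, Cfsg.IsIrrCharacter C β ∧ PTriv h β ∧ ∃ l, θ = tw h β l := by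
  set lam : (sylC h : Subgroup C) →* ℂˣ := MonoidHom.toHomUnits
    { toFun := fun u => θ (u : C) / θ 1
      map_one' := by rw [OneMemClass.coe_one, div_self (Char.irr_apply_one_ne_zero hθ)]
      map_mul' := fun u v => by
        have := central_mul h hθ v.2 (u : C)
        have h1 := Char.irr_apply_one_ne_zero hθ
        rw [Subgroup.coe_mul]
        field_simp
        linear_combination this }
  obtain ⟨k, hk⟩ : ∃ k : ℕ, ∀ u : (sylC h : Subgroup C),
      u ^ (k * (sylC h : Subgroup C).index) = u := by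
    obtain ⟨k, -, hk⟩ := Nat.exists_mul_mod_eq_of_coprime 1 (coprime_index h).symm Nat.card_pos.ne'
    refine ⟨k, fun u => ?_⟩
    rw [mul_comm, ← pow_mod_natCard, hk, pow_mod_natCard, pow_one]
  set l := lam ^ k
  refine ⟨tw h θ l⁻¹, tw_irr h hθ _, fun u hu => ?_, l, funext fun c => ?_⟩
  · rw [tw_apply_one, tw, lin_apply h l⁻¹ ⟨u, hu⟩, MonoidHom.inv_apply, MonoidHom.pow_apply,
      inv_pow, ← map_pow, ← map_pow, ← pow_mul, mul_comm, hk]
    have h1 : (lam ⟨u, hu⟩ : ℂ) = θ u / θ 1 := rfl
    rw [Units.val_inv_eq_inv_val, h1, inv_div, div_mul_cancel₀ _ (apply_ne_zero h hθ hu)]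
  · simp only [tw, lin, MonoidHom.comp_apply, MonoidHom.inv_apply, mul_assoc, ← Units.val_mul,
      inv_mul_cancel, Units.val_one, mul_one]

theorem natCard_hom : Nat.card ((sylC h : Subgroup C) →* ℂˣ) = Nat.card P := by
  have hc : ∀ u v : (sylC h : Subgroup C), u * v = v * u := fun u v =>
    Subtype.ext (sylC_comm h u v u.2)
  rw [Char.natCard_linear, show commutator (sylC h : Subgroup C) = ⊥ by
    rw [eq_bot_iff, commutator_def, Subgroup.commutator_le]
    intro u _ v _
    rw [Subgroup.mem_bot, commutatorElement_def, hc u v]; group, Subgroup.index_bot, natCard_sylC]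

theorem ptriv_one : PTriv h (fun _ : C => (1 : ℂ)) := fun _ _ => rfl

omit h in
theorem conjg_one_iff {a : C → ℂ} : Conjg a (fun _ => 1) ↔ a = fun _ => 1 :=
  ⟨fun ⟨_, e⟩ => e.symm, fun e => ⟨1, e.symm⟩⟩

theorem tw_eq_of_proj {β : C → ℂ} (l : (sylC h : Subgroup C) →* ℂˣ) {c : C} (hc : proj h c = 1) :
    tw h β l c = β c := by simp [tw, lin, hc]

open scoped Classical in
/-- A character nontrivial on the Sylow subgroup has many conjugates. -/
theorem relIndex_le_card [Fintype N] [Fintype C] (S : Finset (Cfsg.IrrCharacter C))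
    (θ : Cfsg.IrrCharacter C) (hnt : ¬ PTriv h (θ : C → ℂ))
    (hS : ∀ x : N, (⟨_, irr_cj x θ.2⟩ : Cfsg.IrrCharacter C) ∈ S) :
    (C).relIndex N ≤ S.card := by
  have h2 := Finset.card_le_mul_card_image (s := (Finset.univ : Finset N))
    (f := fun x => (⟨_, irr_cj x θ.2⟩ : Cfsg.IrrCharacter C)) (Nat.card C) fun a ha => ?_
  swap
  · obtain ⟨x₀, -, rfl⟩ := Finset.mem_image.mp ha
    rw [Nat.card_eq_fintype_card, ← Finset.card_univ]
    refine Finset.card_le_card_of_injOn (fun x => if hx : ((x₀⁻¹ * x : N) : G) ∈ C then ⟨_, hx⟩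
      else 1) (fun _ _ => Finset.mem_univ _) fun x hx y hy e => ?_
    have hfix : ∀ z : N, z ∈ Finset.univ.filter (fun z : N =>
        (⟨_, irr_cj z θ.2⟩ : Cfsg.IrrCharacter C) = ⟨_, irr_cj x₀ θ.2⟩) →
        ((x₀⁻¹ * z : N) : G) ∈ C := fun z hz => mem_cen_of_fixed h θ.2 hnt (funext fun t => by
      have h2 := congr_fun (congrArg Subtype.val (Finset.mem_filter.mp hz).2) (cj x₀⁻¹ t)
      simp only [Function.comp_apply, cj_comp, inv_mul_cancel, cj_one] at h2
      exact h2)
    simp only [dif_pos (hfix x hx), dif_pos (hfix y hy), Subtype.mk.injEq] at e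
    exact mul_left_cancel (Subtype.ext e)
  have h3 : (Finset.univ.image fun x : N => (⟨_, irr_cj x θ.2⟩ : Cfsg.IrrCharacter C)).card ≤
      S.card := Finset.card_le_card (by intro a ha; obtain ⟨x, -, rfl⟩ := Finset.mem_image.mp ha
                                        exact hS x)
  have h4 : (C).relIndex N * Nat.card C = Fintype.card N := by
    rw [← Nat.card_eq_fintype_card, Subgroup.relIndex,
      ← Nat.card_congr (Subgroup.subgroupOfEquivOfLe (cen_le_nrm (P := P))).toEquiv,
      Subgroup.index_mul_card]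
  rw [Finset.card_univ, ← h4, mul_comm] at h2
  exact le_trans (Nat.le_of_mul_le_mul_left h2 Nat.card_pos) h3

open scoped Classical in
/-- A constituent meeting the principal character of the centralizer has large degree. -/
theorem degree_lower_bound [Fintype C] [Fintype N] (φ : Cfsg.IrrCharacter G)
    (hφ1 : (φ : G → ℂ) ≠ fun _ => 1)
    (hφP : ¬ PTriv h (fun c : C => (φ : G → ℂ) c)) {d : ℕ} (hd : 1 ≤ d)
    (hd' : Cfsg.classInner (fun c : C => (φ : G → ℂ) c) (fun _ => 1) = d)
    (hyq : Cfsg.charDegree (φ : G → ℂ) + 1 < Nat.card P)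
    (he : (C).relIndex N ^ 2 + 1 < Nat.card P) :
    Nat.card P + d ≤ Cfsg.charDegree (φ : G → ℂ) + 1 + (C).relIndex N := by
  have := Fintype.ofFinite (Cfsg.IrrCharacter C)
  have := Fintype.ofFinite (Cfsg.IrrCharacter G)
  have := Fintype.ofFinite ((sylC h : Subgroup C) →* ℂˣ)
  set e := (C).relIndex N
  have hN : (Nat.card N : ℂ) = (e : ℂ) * (Nat.card C : ℂ) := by
    rw [← Nat.cast_mul]
    congr 1
    rw [← Nat.card_congr (Subgroup.subgroupOfEquivOfLe (cen_le_nrm (P := P))).toEquiv]
    exact (Subgroup.index_mul_card _).symm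
  have hresC : ∀ i : Cfsg.IrrCharacter G, Cfsg.IsCharacter C (fun c : C => (i : G → ℂ) c) :=
    fun i => Char.isCharacter_restrict (Char.irr_isCharacter i.2) C
  have hnat : ∀ (i : Cfsg.IrrCharacter G) (θ : Cfsg.IrrCharacter C), ∃ k : ℕ,
      Cfsg.classInner (fun c : C => (i : G → ℂ) c) (θ : C → ℂ) = k := fun i θ =>
    Char.classInner_isCharacter_nat (hresC i) (Char.irr_isCharacter θ.2)
  choose F hF using hnat
  -- the coefficients of an induced difference
  have hcoef : ∀ (a a' : Cfsg.IrrCharacter C) (i : Cfsg.IrrCharacter G),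
      Cfsg.classInner (Cfsg.indFun C ((a : C → ℂ) - (a' : C → ℂ))) (i : G → ℂ) =
        (((F i a : ℤ) - F i a' : ℤ) : ℂ) := fun a a' i => by
    rw [Char.frobenius_reciprocity C _ _ (Char.irr_isClassFunction i.2), ← Char.classInner_conj_symm,
      Char.classInner_sub_right, hF, hF]
    simp
  have hgram : ∀ a a' b b' : Cfsg.IrrCharacter C,
      (∀ c, proj h c = 1 → (a : C → ℂ) c = (a' : C → ℂ) c) →
      ((∑ i : Cfsg.IrrCharacter G, ((F i a : ℤ) - F i a') * ((F i b : ℤ) - F i b') : ℤ) : ℂ) =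
        (Nat.card C : ℂ)⁻¹ *
          ∑ x : N, ((Cfsg.classInner (a : C → ℂ) ((b : C → ℂ) ∘ cj x) -
            Cfsg.classInner (a : C → ℂ) ((b' : C → ℂ) ∘ cj x)) -
            Cfsg.classInner (a' : C → ℂ) ((b : C → ℂ) ∘ cj x) +
            Cfsg.classInner (a' : C → ℂ) ((b' : C → ℂ) ∘ cj x)) := by
    intro a a' b b' hsame
    have hbc : Cfsg.IsClassFunction C ((b : C → ℂ) - (b' : C → ℂ)) := fun g k => by
      rw [Pi.sub_apply, Pi.sub_apply, Char.irr_isClassFunction b.2 g k,
        Char.irr_isClassFunction b'.2 g k]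
    have h1 := classInner_indFun h (a := (a : C → ℂ) - (a' : C → ℂ)) hbc
      fun c hc => by rw [Pi.sub_apply, hsame c hc, sub_self]
    rw [Char.classInner_eq_sum_mul (Char.indFun_isClassFunction C _)] at h1
    simp only [hcoef, map_intCast] at h1
    rw [Int.cast_sum]
    simp only [Int.cast_mul]
    rw [h1]
    refine congrArg _ (Finset.sum_congr rfl fun x _ => ?_)
    rw [show ((b : C → ℂ) - (b' : C → ℂ)) ∘ cj x = (b : C → ℂ) ∘ cj x - (b' : C → ℂ) ∘ cj x from rfl,
      Char.classInner_sub_left, Char.classInner_sub_right, Char.classInner_sub_right]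
    ring
  have hFinv : ∀ (i : Cfsg.IrrCharacter G) (a b : Cfsg.IrrCharacter C),
      Conjg (a : C → ℂ) (b : C → ℂ) → F i a = F i b := fun i a b hab => by
    obtain ⟨x, hx⟩ := hab
    have h1 : Cfsg.classInner (fun c : C => (i : G → ℂ) c) (a : C → ℂ) =
        Cfsg.classInner (fun c : C => (i : G → ℂ) c) (b : C → ℂ) := by
      rw [← hx, Char.classInner_def, Char.classInner_def]
      congr 1
      refine Fintype.sum_equiv ⟨cj x, cj x⁻¹, fun t => by rw [cj_comp, mul_inv_cancel, cj_one],
        fun t => by rw [cj_comp, inv_mul_cancel, cj_one]⟩ _ _ fun t => ?_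
      have e := Char.irr_isClassFunction i.2 (t : G) (x : G)⁻¹
      rw [inv_inv] at e
      show (i : G → ℂ) t * _ = (i : G → ℂ) ((x : G)⁻¹ * t * x) * conj ((b : C → ℂ) (cj x t))
      rw [e]; rfl
    rw [hF, hF] at h1
    exact_mod_cast h1
  let one : Cfsg.IrrCharacter C := ⟨fun _ => 1, Char.isIrrCharacter_one⟩
  -- bound by the degree
  have hbound : ∀ {β : C → ℂ} (hβ : Cfsg.IsIrrCharacter C β) (hβt : PTriv h β),
      ∑ l : {l : (sylC h : Subgroup C) →* ℂˣ // l ≠ 1}, (F φ ⟨_, tw_irr h hβ l⟩ : ℤ) + d ≤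
        Cfsg.charDegree (φ : G → ℂ) := by
    intro β hβ hβt
    have h1 := Char.classFunction_apply_eq_sum (Char.isCharacter_isClassFunction (hresC φ)) (1 : C)
    choose dg hdg hdg1 using fun θ : Cfsg.IrrCharacter C => Char.irr_apply_one_pos θ.2
    simp only [hF, hdg1, OneMemClass.coe_one,
      ← BlockB.charDegree_cast (Char.irr_isCharacter φ.2)] at h1
    have h2 : Cfsg.charDegree (φ : G → ℂ) = ∑ θ, F φ θ * dg θ := by exact_mod_cast h1
    set im := (Finset.univ : Finset {l : (sylC h : Subgroup C) →* ℂˣ // l ≠ 1}).image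
      (fun l : {l : (sylC h : Subgroup C) →* ℂˣ // l ≠ 1} =>
        (⟨_, tw_irr h hβ l⟩ : Cfsg.IrrCharacter C)) with him
    have hone : one ∉ im := by
      intro hm
      obtain ⟨l, -, hl⟩ := Finset.mem_image.mp hm
      have e : tw h β l = fun _ => 1 := congrArg Subtype.val hl
      exact l.2 ((tw_ptriv_iff h hβ hβt).mp (by rw [e]; exact ptriv_one h))
    have h3 : ∑ θ ∈ insert one im, F φ θ ≤ Cfsg.charDegree (φ : G → ℂ) := by
      rw [h2]
      exact (Finset.sum_le_sum fun θ _ => Nat.le_mul_of_pos_right _ (hdg θ)).trans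
        (Finset.sum_le_sum_of_subset (Finset.subset_univ _))
    rw [Finset.sum_insert hone, him, Finset.sum_image (fun l _ l' _ e =>
      Subtype.ext (tw_inj h hβ (congrArg Subtype.val e)))] at h3
    have h4 : F φ one = d := by
      have h5 := hF φ one
      rw [hd'] at h5
      exact_mod_cast h5.symm
    rw [h4] at h3
    rw [← Nat.cast_sum]
    omega
  have hcard : Fintype.card {l : (sylC h : Subgroup C) →* ℂˣ // l ≠ 1} + 1 = Nat.card P := by
    rw [← natCard_hom h, Nat.card_eq_fintype_card, Fintype.card_subtype_compl,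
      Fintype.card_subtype_eq]
    have := Fintype.card_pos (α := (sylC h : Subgroup C) →* ℂˣ)
    omega
  -- the base of a nontrivial constituent
  obtain ⟨θ₀, hθ₀, hθ₀nt⟩ : ∃ θ : Cfsg.IrrCharacter C, 0 < F φ θ ∧ ¬ PTriv h (θ : C → ℂ) := by
    by_contra hc
    push Not at hc
    refine hφP fun u hu => ?_
    simp only
    have hcl := Char.isCharacter_isClassFunction (hresC φ)
    rw [Char.classFunction_apply_eq_sum hcl u, Char.classFunction_apply_eq_sum hcl 1]
    refine Finset.sum_congr rfl fun θ _ => ?_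
    rw [hF]
    rcases Nat.eq_zero_or_pos (F φ θ) with h0 | h0
    · simp [h0]
    · rw [hc θ h0 u hu]
  obtain ⟨β, hβ, hβt, l₀, hl₀⟩ := exists_tw h θ₀.2
  have hl₀1 : l₀ ≠ 1 := fun e => hθ₀nt (by rw [hl₀, e, tw_one]; exact hβt)
  -- a nontrivial linear character of the Sylow subgroup missing in the constituent
  obtain ⟨μ, hμ⟩ : ∃ μ : {l : (sylC h : Subgroup C) →* ℂˣ // l ≠ 1},
      F φ ⟨_, tw_irr h Char.isIrrCharacter_one μ⟩ = 0 := by
    by_contra hc
    push Not at hc
    have h1 := hbound Char.isIrrCharacter_one (ptriv_one h)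
    have h2 : ∑ _μ : {l : (sylC h : Subgroup C) →* ℂˣ // l ≠ 1}, (1 : ℤ) ≤
        ∑ μ : {l : (sylC h : Subgroup C) →* ℂˣ // l ≠ 1},
          (F φ ⟨_, tw_irr h Char.isIrrCharacter_one μ⟩ : ℤ) :=
      Finset.sum_le_sum fun μ _ => by have := Nat.pos_of_ne_zero (hc μ); omega
    simp only [Finset.sum_const, Finset.card_univ, nsmul_eq_mul, mul_one] at h2
    omega
  set M : Cfsg.IrrCharacter C := ⟨_, tw_irr h Char.isIrrCharacter_one μ⟩ with hM
  have hMnt : ¬ PTriv h (M : C → ℂ) := fun e =>
    μ.2 ((tw_ptriv_iff h Char.isIrrCharacter_one (ptriv_one h)).mp e)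
  have honeM : ∀ c, proj h c = 1 → (one : C → ℂ) c = (M : C → ℂ) c := fun c hc =>
    (tw_eq_of_proj h (β := fun _ => (1 : ℂ)) μ hc).symm
  let T : {l : (sylC h : Subgroup C) →* ℂˣ // l ≠ 1} → Cfsg.IrrCharacter C := fun l =>
    ⟨_, tw_irr h hβ l⟩
  have hTnt : ∀ l, ¬ PTriv h (T l : C → ℂ) := fun l e => l.2 ((tw_ptriv_iff h hβ hβt).mp e)
  have hTsame : ∀ l l', ∀ c, proj h c = 1 → (T l : C → ℂ) c = (T l' : C → ℂ) c := fun l l' c hc =>
    (tw_eq_of_proj h l hc).trans (tw_eq_of_proj h l' hc).symm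
  have hC0 : (Nat.card C : ℂ) ≠ 0 := Char.natCard_ne_zero
  have hS : ∀ a b : Cfsg.IrrCharacter C, ¬ PTriv h (b : C → ℂ) →
      (Nat.card C : ℂ)⁻¹ * ∑ x : N, Cfsg.classInner (a : C → ℂ) ((b : C → ℂ) ∘ cj x) =
        if Conjg (a : C → ℂ) (b : C → ℂ) then 1 else 0 := fun a b hb => by
    rw [sum_cj h a.2 b.2 hb]
    split_ifs
    · exact inv_mul_cancel₀ hC0
    · exact mul_zero _
  have hS1 : ∀ a : Cfsg.IrrCharacter C,
      (Nat.card C : ℂ)⁻¹ * ∑ x : N, Cfsg.classInner (a : C → ℂ) ((one : C → ℂ) ∘ cj x) =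
        if a = one then (e : ℂ) else 0 := fun a => by
    rw [show ∑ x : N, Cfsg.classInner (a : C → ℂ) ((one : C → ℂ) ∘ cj x) =
      (Nat.card N : ℂ) * Cfsg.classInner (a : C → ℂ) (one : C → ℂ) by
      simp only [one, Function.comp_def, Finset.sum_const, Finset.card_univ, nsmul_eq_mul,
        ← Nat.card_eq_fintype_card], hN]
    split_ifs with h1
    · rw [h1, Char.irr_classInner_self one.2]; field_simp
    · rw [Char.irr_classInner_ne a.2 one.2 fun e => h1 (Subtype.ext e)]; simp
  have hn1 : ∀ {a : Cfsg.IrrCharacter C}, ¬ PTriv h (a : C → ℂ) → a ≠ one := fun ha e => by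
    rw [e] at ha; exact ha (ptriv_one h)
  have hn2 : ∀ {a : Cfsg.IrrCharacter C}, ¬ PTriv h (a : C → ℂ) →
      ¬ Conjg (one : C → ℂ) (a : C → ℂ) := fun {a} ha hc =>
    hn1 ha (Subtype.ext (conjg_one_iff.mp (conjg_symm hc)))
  have key := degree_bound_of_gram
    (fun i : Cfsg.IrrCharacter G => Cfsg.charDegree (i : G → ℂ))
    (fun i => by
      obtain ⟨n, hn, hn1⟩ := Char.irr_apply_one_pos i.2
      rw [← BlockB.charDegree_cast (Char.irr_isCharacter i.2)] at hn1
      rw [show Cfsg.charDegree (i : G → ℂ) = n by exact_mod_cast hn1]; exact hn)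
    (fun i l => (F i (T l) : ℤ)) (fun i => (F i one : ℤ) - F i M)
    (fun a b => Conjg (T a : C → ℂ) (T b : C → ℂ)) (fun a => ⟨1, funext fun c => congrArg (T a : C → ℂ) (cj_one c)⟩)
    (fun a b => conjg_symm) (fun i a b hab => by exact_mod_cast hFinv i (T a) (T b) hab) e
    (Nat.card P) ?hcls ?hinner ?hdegf ?hg2 ?hdg (fun a => Conjg (T a : C → ℂ) (M : C → ℂ)) ?hgf
    (i₀ := ⟨fun _ => 1, Char.isIrrCharacter_one⟩) (φ := φ) (fun e => hφ1 (congrArg Subtype.val e))
    ?hi0 ?hg0 (d := d) (by exact_mod_cast hd) ?hgphi (fun a => Int.natCast_nonneg _)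
    (fun a ha => by rw [hFinv φ (T a) M ha]; exact_mod_cast hμ)
    (fun a b ha hb => conjg_trans ha (conjg_symm hb)) (a₀ := ⟨l₀, hl₀1⟩)
    (by rw [show T ⟨l₀, hl₀1⟩ = θ₀ from Subtype.ext hl₀.symm]; exact_mod_cast hθ₀)
    (hbound hβ hβt) hcard he hyq
  · omega
  case hcls =>
    intro a
    set C' := Finset.univ.filter fun b => Conjg (T a : C → ℂ) (T b : C → ℂ)
    have h2 : C'.card * Nat.card C ≤ Fintype.card N := by
      have hfib : ∀ b ∈ C', (Nat.card C) ≤
          (Finset.univ.filter fun x : N => (T a : C → ℂ) ∘ cj x = (T b : C → ℂ)).card := by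
        intro b hb
        have hc := conjg_symm (Finset.mem_filter.mp hb).2
        have h5 := sum_cj h (T b).2 (T a).2 (hTnt a)
        rw [if_pos hc, Finset.sum_congr rfl fun x _ => show Cfsg.classInner (T b : C → ℂ)
            ((T a : C → ℂ) ∘ cj x) = if (T a : C → ℂ) ∘ cj x = (T b : C → ℂ) then 1 else 0 by
          split_ifs with e
          · rw [e, Char.irr_classInner_self (T b).2]
          · exact Char.irr_classInner_ne (T b).2 (irr_cj x (T a).2) fun e' => e e'.symm,
          Finset.sum_boole] at h5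
        exact (Nat.cast_injective h5).ge
      have hdisj : (C' : Set _).PairwiseDisjoint
          (fun b => Finset.univ.filter fun x : N => (T a : C → ℂ) ∘ cj x = (T b : C → ℂ)) :=
        fun b _ b' _ hne => Finset.disjoint_left.mpr fun x hx hx' =>
          hne (Subtype.ext (tw_inj h hβ
            (((Finset.mem_filter.mp hx).2 : (T a : C → ℂ) ∘ cj x = (T b : C → ℂ)).symm.trans
              ((Finset.mem_filter.mp hx').2 : (T a : C → ℂ) ∘ cj x = (T b' : C → ℂ)))))
      refine le_trans ?_ ((Finset.card_biUnion hdisj).ge.trans (Finset.card_le_univ _))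
      exact Finset.card_nsmul_le_sum _ _ _ hfib
    have h3 : Fintype.card N = e * Nat.card C := by
      rw [← Nat.card_eq_fintype_card]
      exact_mod_cast hN
    rw [h3] at h2
    exact Nat.le_of_mul_le_mul_right h2 Nat.card_pos
  case hinner =>
    intro a a' b b'
    rw [← Int.cast_inj (α := ℂ), hgram _ _ _ _ (hTsame a a')]
    simp only [Finset.sum_add_distrib, Finset.sum_sub_distrib, mul_add, mul_sub,
      hS _ _ (hTnt _)]
    push_cast
    rfl
  case hdegf =>
    intro a a'
    have h1 := Char.classFunction_apply_eq_sum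
      (Char.indFun_isClassFunction C ((T a : C → ℂ) - (T a' : C → ℂ))) (1 : G)
    simp only [hcoef, ← BlockB.charDegree_cast (Char.irr_isCharacter (Subtype.prop _))] at h1
    rw [Char.indFun_apply_one, Pi.sub_apply] at h1
    simp only [T, tw_apply_one, sub_self, mul_zero] at h1
    rw [← Int.cast_inj (α := ℂ), Int.cast_zero, h1, Int.cast_sum]
    exact Finset.sum_congr rfl fun i _ => by push_cast; ring
  case hg2 =>
    rw [← Int.cast_inj (α := ℂ)]
    simp only [pow_two]
    rw [hgram one M one M honeM]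
    simp only [Finset.sum_add_distrib, Finset.sum_sub_distrib, mul_add, mul_sub, hS _ _ hMnt, hS1]
    rw [if_pos trivial, if_neg (hn2 hMnt), if_neg (hn1 hMnt), if_pos ⟨1, funext fun c => congrArg (M : C → ℂ) (cj_one c)⟩]
    push_cast; ring
  case hdg =>
    have h1 := Char.classFunction_apply_eq_sum
      (Char.indFun_isClassFunction C ((one : C → ℂ) - (M : C → ℂ))) (1 : G)
    simp only [hcoef, ← BlockB.charDegree_cast (Char.irr_isCharacter (Subtype.prop _))] at h1
    rw [Char.indFun_apply_one, Pi.sub_apply] at h1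
    simp only [M, one, tw_apply_one, sub_self, mul_zero] at h1
    rw [← Int.cast_inj (α := ℂ), Int.cast_zero, h1, Int.cast_sum]
    exact Finset.sum_congr rfl fun i _ => by push_cast; ring
  case hgf =>
    intro a a' ha ha'
    rw [← Int.cast_inj (α := ℂ), hgram one M (T a) (T a') honeM]
    simp only [Finset.sum_add_distrib, Finset.sum_sub_distrib, mul_add, mul_sub,
      hS _ _ (hTnt _)]
    rw [if_neg (hn2 (hTnt a)), if_neg (hn2 (hTnt a')), if_neg fun h => ha (conjg_symm h),
      if_neg fun h => ha' (conjg_symm h)]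
    simp
  case hi0 =>
    intro a
    have h1 := hF ⟨fun _ => 1, Char.isIrrCharacter_one⟩ (T a)
    rw [Char.irr_classInner_ne Char.isIrrCharacter_one (T a).2
      fun e => hn1 (hTnt a) (Subtype.ext e.symm)] at h1
    exact_mod_cast h1.symm
  case hg0 =>
    have h1 := hF ⟨fun _ => 1, Char.isIrrCharacter_one⟩ M
    rw [Char.irr_classInner_ne Char.isIrrCharacter_one M.2
      fun e => hn1 hMnt (Subtype.ext e.symm)] at h1
    have h2 := hF ⟨fun _ => 1, Char.isIrrCharacter_one⟩ one
    rw [Char.irr_classInner_self Char.isIrrCharacter_one] at h2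
    rw [← Int.cast_inj (α := ℂ)]
    push_cast
    rw [← h1, ← h2, sub_zero]
  case hgphi =>
    have h5 := hF φ one
    rw [hd'] at h5
    have h6 : F φ one = d := by exact_mod_cast h5.symm
    rw [h6, hμ]
    simp

open scoped Classical in
/-- A nonprincipal character of degree `x` with `x² < |P| - 1`: either its degree is one and the
Sylow subgroup has a normal complement, or some proper normal subgroup contains the Sylow
subgroup. -/
theorem dichotomy (χ : Cfsg.IrrCharacter G) (hχ1 : (χ : G → ℂ) ≠ fun _ => 1)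
    (hdeg : Cfsg.charDegree (χ : G → ℂ) ^ 2 + 1 < Nat.card P) :
    (∃ K : Subgroup G, K.Normal ∧ K ≠ ⊤ ∧ (P : Subgroup G) ≤ K) ∨
      ((∃ M : Subgroup G, M.Normal ∧ M.index = Nat.card P) ∧
        Cfsg.charDegree (χ : G → ℂ) = 1) := by
  by_cases hK : ∃ K : Subgroup G, K.Normal ∧ K ≠ ⊤ ∧ (P : Subgroup G) ≤ K
  · exact Or.inl hK
  right
  have := Fintype.ofFinite C
  have := Fintype.ofFinite N
  have := Fintype.ofFinite (Cfsg.IrrCharacter C)
  have := Fintype.ofFinite (Cfsg.IrrCharacter G)
  let one : Cfsg.IrrCharacter G := ⟨fun _ => 1, Char.isIrrCharacter_one⟩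
  have hker : ∀ φ : Cfsg.IrrCharacter G, φ ≠ one → ¬ PTriv h (fun c : C => (φ : G → ℂ) c) := by
    intro φ hφ ht
    refine hK ⟨BlockB.charKer φ, inferInstance, fun htop => hφ (Subtype.ext (funext fun g => ?_)),
      fun u hu => ?_⟩
    · have hconst : ∀ g : G, (φ : G → ℂ) g = (φ : G → ℂ) 1 := fun g =>
        BlockB.mem_charKer.mp (htop ▸ Subgroup.mem_top g)
      obtain ⟨n, hn, hn1⟩ := Char.irr_apply_one_pos φ.2
      have h1 := Char.irr_classInner_self φ.2
      simp only [Char.classInner_def, hconst, hn1, map_natCast, Finset.sum_const, Finset.card_univ,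
        nsmul_eq_mul, ← Nat.card_eq_fintype_card, inv_mul_cancel_left₀ Char.natCard_ne_zero] at h1
      have h2 : n * n = 1 := by exact_mod_cast h1
      rw [hconst, hn1, Nat.eq_one_of_mul_eq_one_left h2, Nat.cast_one]
    · exact BlockB.mem_charKer.mpr ((ht ⟨u, le_cen h hu⟩ ((mem_sylC h).mpr hu)).trans rfl)
  set e := (C).relIndex N with he
  have he0 : 1 ≤ e := Nat.pos_of_ne_zero Subgroup.index_ne_zero_of_finite
  set x := Cfsg.charDegree (χ : G → ℂ) with hx
  -- the restriction of the character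
  have hresC : ∀ i : Cfsg.IrrCharacter G, Cfsg.IsCharacter C (fun c : C => (i : G → ℂ) c) :=
    fun i => Char.isCharacter_restrict (Char.irr_isCharacter i.2) C
  choose F hF using fun (i : Cfsg.IrrCharacter G) (θ : Cfsg.IrrCharacter C) =>
    Char.classInner_isCharacter_nat (hresC i) (Char.irr_isCharacter θ.2)
  choose dg hdg hdg1 using fun θ : Cfsg.IrrCharacter C => Char.irr_apply_one_pos θ.2
  have hsumdeg : ∀ i : Cfsg.IrrCharacter G,
      Cfsg.charDegree (i : G → ℂ) = ∑ θ, F i θ * dg θ := by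
    intro i
    have h1 := Char.classFunction_apply_eq_sum (Char.isCharacter_isClassFunction (hresC i)) (1 : C)
    simp only [hF, hdg1, OneMemClass.coe_one,
      ← BlockB.charDegree_cast (Char.irr_isCharacter i.2)] at h1
    exact_mod_cast h1
  set S := Finset.univ.filter fun θ => F χ θ ≠ 0 with hS
  have hSe : e ≤ S.card := by
    obtain ⟨θ, hθ, hnt⟩ : ∃ θ : Cfsg.IrrCharacter C, F χ θ ≠ 0 ∧ ¬ PTriv h (θ : C → ℂ) := by
      by_contra hc
      push Not at hc
      refine hker χ (fun e => hχ1 (congrArg Subtype.val e)) fun u hu => ?_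
      simp only
      have hcl := Char.isCharacter_isClassFunction (hresC χ)
      rw [Char.classFunction_apply_eq_sum hcl u, Char.classFunction_apply_eq_sum hcl 1]
      refine Finset.sum_congr rfl fun θ _ => ?_
      rw [hF]
      by_cases h0 : F χ θ = 0
      · simp [h0]
      · rw [hc θ h0 u hu]
    refine relIndex_le_card h S θ hnt fun y => ?_
    refine Finset.mem_filter.mpr ⟨Finset.mem_univ _, ?_⟩
    suffices F χ ⟨_, irr_cj y θ.2⟩ = F χ θ by rwa [this]
    rw [← Nat.cast_inj (R := ℂ), ← hF, ← hF, Char.classInner_def, Char.classInner_def]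
    congr 1
    refine Fintype.sum_equiv ⟨cj y, cj y⁻¹, fun t => by rw [cj_comp, mul_inv_cancel, cj_one],
      fun t => by rw [cj_comp, inv_mul_cancel, cj_one]⟩ _ _ fun t => ?_
    have e := Char.irr_isClassFunction χ.2 (t : G) (y : G)⁻¹
    rw [inv_inv] at e
    show (χ : G → ℂ) t * _ = (χ : G → ℂ) ((y : G)⁻¹ * t * y) * conj ((θ : C → ℂ) (cj y t))
    rw [e]; rfl
  have hSx : S.card ≤ x := by
    rw [Finset.card_eq_sum_ones, hx, hsumdeg]
    exact (Finset.sum_le_sum fun θ hθ => Nat.one_le_iff_ne_zero.mpr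
      (Nat.mul_ne_zero (Finset.mem_filter.mp hθ).2 (hdg θ).ne')).trans
      (Finset.sum_le_sum_of_subset (Finset.subset_univ S))
  have hee : e ^ 2 + 1 < Nat.card P :=
    lt_of_le_of_lt (by nlinarith : e ^ 2 + 1 ≤ x ^ 2 + 1) hdeg
  -- the product with the complex conjugate
  let X : G → ℂ := fun g => (χ : G → ℂ) g * conj ((χ : G → ℂ) g)
  have hX : Cfsg.IsCharacter G X := Char.isCharacter_mul (Char.irr_isCharacter χ.2)
    (Char.isCharacter_conj (Char.irr_isCharacter χ.2))
  choose m hm using fun i : Cfsg.IrrCharacter G =>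
    Char.classInner_isCharacter_nat hX (Char.irr_isCharacter i.2)
  have hXsum : ∀ g, X g = ∑ i : Cfsg.IrrCharacter G, (m i : ℂ) * (i : G → ℂ) g := fun g => by
    rw [Char.classFunction_apply_eq_sum (Char.isCharacter_isClassFunction hX) g]
    simp only [hm]
  have hxx : x ^ 2 = ∑ i, m i * Cfsg.charDegree (i : G → ℂ) := by
    have h1 := hXsum 1
    simp only [X, ← BlockB.charDegree_cast (Char.irr_isCharacter (Subtype.prop _)), map_natCast]
      at h1
    rw [pow_two]
    exact_mod_cast h1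
  have hm1 : m one = 1 := by
    rw [← Nat.cast_inj (R := ℂ), ← hm, Nat.cast_one, ← Char.irr_classInner_self χ.2,
      Char.classInner_def, Char.classInner_def]
    simp [X, one]
  set cn := ∑ θ, F χ θ * F χ θ with hcn
  let oneC : Cfsg.IrrCharacter C := ⟨fun _ => 1, Char.isIrrCharacter_one⟩
  have hnormC : Cfsg.classInner (fun c : C => (χ : G → ℂ) c) (fun c : C => (χ : G → ℂ) c) = cn := by
    rw [Char.classInner_eq_sum_mul (Char.isCharacter_isClassFunction (hresC χ))]
    simp only [hF, map_natCast, hcn, Nat.cast_sum, Nat.cast_mul]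
  have hcnm : cn = ∑ i, m i * F i oneC := by
    rw [← Nat.cast_inj (R := ℂ), ← hnormC, Nat.cast_sum]
    simp only [Nat.cast_mul, ← hF, oneC, Char.classInner_def (G := C), map_one, mul_one]
    simp only [Finset.mul_sum]
    rw [Finset.sum_comm]
    refine Finset.sum_congr rfl fun c _ => ?_
    rw [← show X (c : G) = (χ : G → ℂ) c * conj ((χ : G → ℂ) c) from rfl, hXsum, Finset.mul_sum]
    exact Finset.sum_congr rfl fun i _ => by ring
  have hScn : S.card ≤ cn := by
    rw [Finset.card_eq_sum_ones, hcn]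
    exact (Finset.sum_le_sum fun θ hθ => Nat.one_le_iff_ne_zero.mpr
      (Nat.mul_ne_zero (Finset.mem_filter.mp hθ).2 (Finset.mem_filter.mp hθ).2)).trans
      (Finset.sum_le_sum_of_subset (Finset.subset_univ S))
  have hFy : ∀ i, F i oneC ≤ Cfsg.charDegree (i : G → ℂ) := fun i => by
    rw [hsumdeg]
    exact (Nat.le_mul_of_pos_right _ (hdg oneC)).trans
      (Finset.single_le_sum (f := fun θ => F i θ * dg θ) (fun θ _ => Nat.zero_le _)
        (Finset.mem_univ oneC))
  -- no other constituent meets the principal character of the centralizer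
  have hzero : ∀ i, i ≠ one → m i * F i oneC = 0 := by
    intro φ hφ
    by_contra hne
    rw [Nat.mul_eq_zero, not_or] at hne
    have hy : Cfsg.charDegree (φ : G → ℂ) ≤ x ^ 2 := by
      rw [hxx]
      exact (Nat.le_mul_of_pos_left _ (Nat.pos_of_ne_zero hne.1)).trans
        (Finset.single_le_sum (f := fun i : Cfsg.IrrCharacter G =>
          m i * Cfsg.charDegree (i : G → ℂ)) (fun i _ => Nat.zero_le _) (Finset.mem_univ φ))
    have hb := degree_lower_bound h φ (fun e => hφ (Subtype.ext e)) (hker φ hφ)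
      (Nat.one_le_iff_ne_zero.mpr hne.2) (hF φ oneC) (by omega) hee
    have hsplit : ∀ i, m i * Cfsg.charDegree (i : G → ℂ) =
        m i * F i oneC + m i * (Cfsg.charDegree (i : G → ℂ) - F i oneC) := fun i => by
      rw [← Nat.mul_add, Nat.add_sub_cancel' (hFy i)]
    rw [Finset.sum_congr rfl fun i _ => hsplit i, Finset.sum_add_distrib, ← hcnm] at hxx
    have h1 : Cfsg.charDegree (φ : G → ℂ) - F φ oneC ≤
        ∑ i, m i * (Cfsg.charDegree (i : G → ℂ) - F i oneC) :=
      (Nat.le_mul_of_pos_left _ (Nat.pos_of_ne_zero hne.1)).trans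
        (Finset.single_le_sum (f := fun i : Cfsg.IrrCharacter G =>
          m i * (Cfsg.charDegree (i : G → ℂ) - F i oneC))
          (fun i _ => Nat.zero_le _) (Finset.mem_univ φ))
    omega
  have hcn1 : cn = 1 := by
    rw [hcnm, Finset.sum_eq_single one (fun i _ hi => hzero i hi) (by simp), hm1, one_mul]
    have h1 := hF one oneC
    rw [show (fun c : C => (one : G → ℂ) c) = (oneC : C → ℂ) from rfl,
      Char.irr_classInner_self oneC.2] at h1
    exact_mod_cast h1.symm
  have he1 : e = 1 := by omega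
  refine ⟨?_, ?_⟩
  · have hle : N ≤ C := Subgroup.relIndex_eq_one.mp he1
    exact ⟨(MonoidHom.transferSylow P hle).ker, inferInstance,
      (MonoidHom.ker_transferSylow_isComplement' P hle).symm.index_eq_card⟩
  -- the degree is one
  have hirr : Cfsg.IsIrrCharacter C (fun c : C => (χ : G → ℂ) c) :=
    Char.isIrrCharacter_iff.mpr ⟨hresC χ, by rw [hnormC, hcn1, Nat.cast_one]⟩
  have hXP : ∀ u : G, u ∈ (P : Subgroup G) → X u = X 1 := fun u hu => by
    have hu' : (⟨u, le_cen h hu⟩ : C) ∈ (sylC h : Subgroup C) := (mem_sylC h).mpr hu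
    have h1 := central_mul h hirr (inv_mem hu') ⟨u, le_cen h hu⟩
    rw [mul_inv_cancel, Char.char_inv (hresC χ)] at h1
    obtain ⟨n, -, hn⟩ := Char.irr_apply_one_pos χ.2
    simp only [OneMemClass.coe_one, hn] at h1
    simp only [X, hn, map_natCast]
    exact h1.symm
  have honly : ∀ i, i ≠ one → m i = 0 := by
    intro i hi
    by_contra h0
    refine hker i hi fun u hu => ?_
    exact Clifford.constituent_eq_one hX i.2 (by rw [hm]; exact_mod_cast h0)
      (hXP u ((mem_sylC h).mp hu))
  rw [Finset.sum_eq_single one (fun i _ hi => by rw [honly i hi, zero_mul]) (by simp), hm1,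
    one_mul] at hxx
  have h1 : Cfsg.charDegree (one : G → ℂ) = 1 := by simp [Cfsg.charDegree, one]
  rw [h1] at hxx
  exact Nat.pow_eq_one.mp hxx |>.resolve_right (by norm_num)

end CfsgLib.Clifford.SmallDegreeTI
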