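import Cfsg.Agent.Lib.Clifford.Correspondence
import Cfsg.Agent.Lib.Clifford.Dade
import Cfsg.Agent.Lib.PF.Est13

/-!
# Characters of a split extension of an abelian group by an abelian group

For `K = P U` with `P` normal abelian, `U` abelian and `P ⊓ U = ⊥`: the extensions of a linear
character of `P` to `P ⊔ V`, the functions induced from them, and the Fourier coefficients of a class
function on the cosets of `P`.
-/

set_option autoImplicit false
set_option linter.unusedSectionVars false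

namespace CfsgLib.Clifford.SplitAbelian

open scoped Classical ComplexConjugate
open CfsgLib.PF.S13 (coef)

universe u

variable {K : Type u} [Group K]

/-- `K` is split over the abelian normal subgroup `P` by the abelian subgroup `U`. -/
structure IsSplit (P U : Subgroup K) : Prop where
  P_comm : ∀ x ∈ P, ∀ y ∈ P, x * y = y * x
  U_comm : ∀ x ∈ U, ∀ y ∈ U, x * y = y * x
  inf : P ⊓ U = ⊥
  exists_mul : ∀ k : K, ∃ h ∈ P, ∃ z ∈ U, k = h * z

variable {P : Subgroup K} [P.Normal] (U : Subgroup K)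

/-- The stabiliser in `U` of a linear character of `P`. -/
def stab (lam : P →* ℂˣ) : Subgroup K := U ⊓ inertia (fun y : P => (lam y : ℂ))

/-- A function on the coset `P z`, as a function on `P`. -/
def slice (F : K → ℂ) (z : K) : P → ℂ := fun y => F (y * z)

variable {U}

theorem mem_stab {lam : P →* ℂˣ} {z : K} :
    z ∈ stab U lam ↔ z ∈ U ∧ ∀ y : P, lam (conjN z y) = lam y :=
  ⟨fun h => ⟨h.1, fun y => Units.ext (h.2 y)⟩, fun h => ⟨h.1, fun y => congrArg Units.val (h.2 y)⟩⟩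

theorem stab_le (lam : P →* ℂˣ) : stab U lam ≤ U := inf_le_left

variable (hs : IsSplit P U) {V : Subgroup K} (hV : V ≤ U)

include hs hV

omit hV in
/-- Uniqueness of the factors. -/
theorem factor_unique {y y' z z' : K} (hy : y ∈ P) (hy' : y' ∈ P) (hz : z ∈ U) (hz' : z' ∈ U)
    (e : y * z = y' * z') : y = y' ∧ z = z' := by
  have hm : y'⁻¹ * y ∈ P ⊓ U := by
    refine ⟨P.mul_mem (P.inv_mem hy') hy, ?_⟩
    have e' : y'⁻¹ * y = z' * z⁻¹ := by
      rw [eq_mul_inv_iff_mul_eq, mul_assoc, e, inv_mul_cancel_left]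
    rw [e']
    exact U.mul_mem hz' (U.inv_mem hz)
  rw [hs.inf, Subgroup.mem_bot, inv_mul_eq_one] at hm
  subst hm
  exact ⟨rfl, mul_left_cancel e⟩

omit hs hV in
/-- An element of `P ⊔ V` is a product. -/
theorem mem_sup_iff {x : K} : x ∈ P ⊔ V ↔ ∃ y ∈ P, ∃ z ∈ V, x = y * z := by
  rw [← SetLike.mem_coe, Subgroup.normal_mul, Set.mem_mul]
  simp [eq_comm]

theorem normal_sup : (P ⊔ V).Normal := by
  refine ⟨fun x hx k => ?_⟩
  obtain ⟨y, hy, z, hz, rfl⟩ := mem_sup_iff.mp hx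
  obtain ⟨a, ha, b, hb, rfl⟩ := hs.exists_mul k
  rw [show a * b * (y * z) * (a * b)⁻¹ = (a * (b * y * b⁻¹)) * (b * z * b⁻¹) * a⁻¹ by group,
    hs.U_comm b hb z (hV hz), mul_inv_cancel_right]
  exact Subgroup.mul_mem _ (Subgroup.mul_mem_sup
    (P.mul_mem ha (‹P.Normal›.conj_mem y hy b)) hz) (Subgroup.mem_sup_left (P.inv_mem ha))

theorem card_sup [Finite K] : Nat.card ↥(P ⊔ V) = Nat.card P * Nat.card V := by
  have := Fintype.ofFinite K
  exact Dade.card_sup (Subgroup.normalizer_eq_top (H := P) ▸ le_top)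
    (le_bot_iff.mp ((inf_le_inf_left P hV).trans hs.inf.le))

theorem exists_ext {lam : P →* ℂˣ} (hVs : V ≤ stab U lam) (ψ : V →* ℂˣ) :
    ∃ γ : ↥(P ⊔ V) →* ℂˣ, ∀ (y : P) (z : V),
      γ ⟨(y : K) * z, Subgroup.mul_mem_sup y.2 z.2⟩ = lam y * ψ z := by
  choose fy hfy fz hfz hf using fun x : ↥(P ⊔ V) => mem_sup_iff.mp x.2
  have huniq : ∀ (x : ↥(P ⊔ V)) (y : P) (z : V), (x : K) = y * z →
      (⟨fy x, hfy x⟩ : P) = y ∧ (⟨fz x, hfz x⟩ : V) = z := fun x y z e => by
    obtain ⟨h1, h2⟩ := factor_unique hs (hfy x) y.2 (hV (hfz x)) (hV z.2) ((hf x).symm.trans e)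
    exact ⟨Subtype.ext h1, Subtype.ext h2⟩
  refine ⟨MonoidHom.mk' (fun x => lam ⟨fy x, hfy x⟩ * ψ ⟨fz x, hfz x⟩) fun a b => ?_, fun y z => ?_⟩
  · set za : V := ⟨fz a, hfz a⟩
    set yb : P := ⟨fy b, hfy b⟩
    obtain ⟨e1, e2⟩ := huniq (a * b) (⟨fy a, hfy a⟩ * conjN (za : K) yb) (za * ⟨fz b, hfz b⟩) (by
      simp only [Subgroup.coe_mul, coe_conjN, za, yb]
      conv_lhs => rw [hf a, hf b]
      group)
    rw [e1, e2, map_mul, map_mul, (mem_stab.mp (hVs za.2)).2 yb]
    exact mul_mul_mul_comm _ _ _ _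
  · obtain ⟨e1, e2⟩ := huniq ⟨(y : K) * z, Subgroup.mul_mem_sup y.2 z.2⟩ y z rfl
    simp only [MonoidHom.mk'_apply, e1, e2]

/-- The extension of `lam` by `ψ`. -/
noncomputable def ext {lam : P →* ℂˣ} (hVs : V ≤ stab U lam) (ψ : V →* ℂˣ) : ↥(P ⊔ V) →* ℂˣ :=
  (exists_ext hs hV hVs ψ).choose

theorem ext_apply {lam : P →* ℂˣ} (hVs : V ≤ stab U lam) (ψ : V →* ℂˣ) (y : P) (z : V) :
    ext hs hV hVs ψ ⟨(y : K) * z, Subgroup.mul_mem_sup y.2 z.2⟩ = lam y * ψ z :=
  (exists_ext hs hV hVs ψ).choose_spec y z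

theorem ext_apply_left {lam : P →* ℂˣ} (hVs : V ≤ stab U lam) (ψ : V →* ℂˣ) (y : P) :
    ext hs hV hVs ψ ⟨y, Subgroup.mem_sup_left y.2⟩ = lam y := by
  simpa using ext_apply hs hV hVs ψ y 1

theorem ext_apply_right {lam : P →* ℂˣ} (hVs : V ≤ stab U lam) (ψ : V →* ℂˣ) (z : V) :
    ext hs hV hVs ψ ⟨z, Subgroup.mem_sup_right z.2⟩ = ψ z := by
  simpa using ext_apply hs hV hVs ψ 1 z

variable [Fintype K]

omit hs hV in
/-- A class function has no coefficient on a coset at a character its element does not fix. -/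
theorem coef_slice_eq_zero (hP : ∀ x ∈ P, ∀ y ∈ P, x * y = y * x) [Fintype P] {F : K → ℂ}
    (hF : Cfsg.IsClassFunction K F) {z : K}
    (hz : z ∈ U) {lam : P →* ℂˣ} (hn : z ∉ stab U lam) : coef (slice F z) lam = 0 := by
  obtain ⟨y₀, hy₀⟩ : ∃ y₀ : P, lam (conjN z y₀) ≠ lam y₀ := by
    by_contra hc
    push Not at hc
    exact hn (mem_stab.mpr ⟨hz, hc⟩)
  set c : P := y₀ * (conjN z y₀)⁻¹ with hc
  have hcc : lam c ≠ 1 := fun e => hy₀ (by
    rw [hc, map_mul, map_inv, mul_inv_eq_one] at e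
    exact e.symm)
  have hshift : ∀ y : P, slice F z (y * c) = slice F z y := fun y => by
    rw [slice, slice, ← hF ((y : K) * z) y₀]
    congr 1
    simp only [hc, Subgroup.coe_mul, InvMemClass.coe_inv, coe_conjN]
    rw [← mul_assoc (y : K), hP y y.2 y₀ y₀.2]
    group
  have key : coef (slice F z) lam = conj ((lam c : ℂˣ) : ℂ) * coef (slice F z) lam := by
    simp only [coef, Char.classInner_def, Finset.mul_sum]
    refine (Equiv.sum_comp (Equiv.mulRight c) _).symm.trans (Finset.sum_congr rfl fun y _ => ?_)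
    rw [Equiv.coe_mulRight, hshift, map_mul, Units.val_mul, map_mul]
    ring
  rcases mul_right_eq_self₀.mp ((mul_comm _ _).trans key.symm) with h1 | h1
  · exfalso
    refine hcc (Units.ext ?_)
    have := congrArg conj h1
    simpa using this
  · exact h1

/-- The coefficient at an extension. -/
theorem coef_slice_ext [Fintype P] [Fintype V] [Fintype ↥(P ⊔ V)] (F : K → ℂ) {lam : P →* ℂˣ}
    (hVs : V ≤ stab U lam) (ψ : V →* ℂˣ) :
    coef (fun x : ↥(P ⊔ V) => F x) (ext hs hV hVs ψ) =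
      coef (fun z : V => coef (slice F z) lam) ψ := by
  let e : P × V → ↥(P ⊔ V) := fun w => ⟨(w.1 : K) * w.2, Subgroup.mul_mem_sup w.1.2 w.2.2⟩
  have he : Function.Bijective e := by
    refine ⟨fun a b h => ?_, fun x => ?_⟩
    · obtain ⟨h1, h2⟩ := factor_unique hs a.1.2 b.1.2 (hV a.2.2) (hV b.2.2) (congrArg Subtype.val h)
      exact Prod.ext (Subtype.ext h1) (Subtype.ext h2)
    · obtain ⟨y, hy, z, hz, h⟩ := mem_sup_iff.mp x.2
      exact ⟨(⟨y, hy⟩, ⟨z, hz⟩), Subtype.ext h.symm⟩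
  simp only [coef, slice, Char.classInner_def]
  rw [card_sup hs hV, Nat.cast_mul, mul_inv, mul_comm ((Nat.card P : ℂ)⁻¹), mul_assoc]
  congr 1
  rw [← Fintype.sum_bijective e he (fun w => F ((w.1 : K) * w.2) *
    conj (((ext hs hV hVs ψ (e w) : ℂˣ) : ℂ))) _ (fun w => rfl), Fintype.sum_prod_type,
    Finset.sum_comm, Finset.mul_sum]
  refine Finset.sum_congr rfl fun z _ => ?_
  rw [Finset.mul_sum, Finset.mul_sum, Finset.sum_mul]
  refine Finset.sum_congr rfl fun y _ => ?_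
  rw [ext_apply hs hV hVs ψ y z, Units.val_mul, map_mul]
  ring

/-- Frobenius reciprocity for the coefficient on a coset. -/
theorem coef_slice_eq_sum [Fintype P] [Fintype V] [Fintype ↥(P ⊔ V)] [Fintype (V →* ℂˣ)]
    {F : K → ℂ} (hF : Cfsg.IsClassFunction K F) {lam : P →* ℂˣ} (hVs : V ≤ stab U lam) (z : V) :
    coef (slice F z) lam = ∑ ψ : V →* ℂˣ, Cfsg.classInner F
      (Cfsg.indFun (P ⊔ V) (fun x => (ext hs hV hVs ψ x : ℂ))) * (ψ z : ℂ) := by
  rw [PF.S13.apply_eq_sum_coef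
    (fun a b => Subtype.ext (hs.U_comm _ (hV a.2) _ (hV b.2))) (fun z : V => coef (slice F z) lam) z]
  refine Finset.sum_congr rfl fun ψ _ => ?_
  congr 1
  rw [← coef_slice_ext hs hV F hVs ψ, coef, ← Char.classInner_conj_symm,
    ← Char.classInner_conj_symm (Cfsg.indFun (P ⊔ V) _) F,
    Char.frobenius_reciprocity _ _ _ hF]

section Full

variable {lam : P →* ℂˣ} (hVe : V = stab U lam)

include hVe

/-- What fixes an extension lies in `P ⊔ V`. -/
theorem fix_iff [(P ⊔ V).Normal] (ψ : V →* ℂˣ) (x : K) :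
    conjFn x (fun t => (ext hs hV hVe.le ψ t : ℂ)) = (fun t => (ext hs hV hVe.le ψ t : ℂ)) ↔
      x ∈ P ⊔ V := by
  refine ⟨fun e => ?_, fun hx => mem_inertia_iff_conjFn.mp
    (le_inertia (Char.irr_isClassFunction (Char.isIrrCharacter_linear _)) hx)⟩
  obtain ⟨a, ha, b, hb, rfl⟩ := hs.exists_mul x
  refine Subgroup.mul_mem_sup ha ?_
  rw [hVe]
  refine mem_stab.mpr ⟨hb, fun y => Units.ext ?_⟩
  have h1 := congrFun e ⟨(y : K), Subgroup.mem_sup_left y.2⟩
  simp only [conjFn_apply] at h1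
  have h2 : (conjN (a * b) (⟨(y : K), Subgroup.mem_sup_left y.2⟩ : ↥(P ⊔ V))) =
      (⟨((conjN b y : P) : K), Subgroup.mem_sup_left (conjN b y).2⟩ : ↥(P ⊔ V)) := by
    refine Subtype.ext ?_
    simp only [coe_conjN]
    have hc := hs.P_comm a ha _ (‹P.Normal›.conj_mem (y : K) y.2 b)
    calc a * b * (y : K) * (a * b)⁻¹ = a * (b * y * b⁻¹) * a⁻¹ := by group
      _ = b * y * b⁻¹ := by rw [hc, mul_inv_cancel_right]
  rw [h2, ext_apply_left, ext_apply_left] at h1
  exact h1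

/-- An extension to the whole stabiliser induces irreducibly. -/
theorem isIrr_ind (ψ : V →* ℂˣ) :
    Cfsg.IsIrrCharacter K (Cfsg.indFun (P ⊔ V) (fun t => (ext hs hV hVe.le ψ t : ℂ))) := by
  have := normal_sup hs hV
  have := Fintype.ofFinite ↥(P ⊔ V)
  refine Char.isIrrCharacter_iff.mpr ⟨Char.isCharacter_indFun _
    (Char.irr_isCharacter (Char.isIrrCharacter_linear _)), ?_⟩
  rw [classInner_indFun_indFun (Char.isIrrCharacter_linear _) (Char.isIrrCharacter_linear _),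
    Nat.card_congr (Equiv.subtypeEquivRight (fix_iff hs hV hVe ψ))]
  exact inv_mul_cancel₀ Char.natCard_ne_zero

theorem ind_apply_one (ψ : V →* ℂˣ) :
    Cfsg.indFun (P ⊔ V) (fun t => (ext hs hV hVe.le ψ t : ℂ)) 1 = (V.relIndex U : ℂ) := by
  rw [Char.indFun_apply_one, map_one, Units.val_one, mul_one]
  have h1 := Subgroup.card_mul_index (P ⊔ V)
  have h2 : Nat.card K = Nat.card P * Nat.card U := by
    have e := card_sup hs (le_refl U)
    have : P ⊔ U = ⊤ := eq_top_iff.mpr fun k _ => by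
      obtain ⟨h, hh, z, hz, rfl⟩ := hs.exists_mul k
      exact Subgroup.mul_mem_sup hh hz
    rwa [this, Nat.card_congr Subgroup.topEquiv.toEquiv] at e
  have h3 : Nat.card V * V.relIndex U = Nat.card U := by
    rw [← Nat.card_congr (Subgroup.subgroupOfEquivOfLe hV).toEquiv]
    exact Subgroup.card_mul_index _
  rw [card_sup hs hV, h2, ← h3, ← mul_assoc] at h1
  exact_mod_cast Nat.eq_of_mul_eq_mul_left (by
    exact Nat.mul_pos Nat.card_pos Nat.card_pos) h1

/-- Equal induced functions come from conjugate characters. -/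
theorem ind_eq {lam' : P →* ℂˣ} (hVe' : V = stab U lam') {ψ ψ' : V →* ℂˣ}
    (h : Cfsg.indFun (P ⊔ V) (fun t => (ext hs hV hVe.le ψ t : ℂ)) =
      Cfsg.indFun (P ⊔ V) (fun t => (ext hs hV hVe'.le ψ' t : ℂ))) :
    ψ' = ψ ∧ ∃ z ∈ U, ∀ y : P, lam' (conjN z y) = lam y := by
  have := normal_sup hs hV
  have := Fintype.ofFinite ↥(P ⊔ V)
  have h1 := Char.irr_classInner_self (isIrr_ind hs hV hVe ψ)
  conv_lhs at h1 => arg 2; rw [h]
  rw [classInner_indFun_indFun (Char.isIrrCharacter_linear _) (Char.isIrrCharacter_linear _)] at h1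
  obtain ⟨⟨x, hx⟩⟩ : Nonempty {x : K // conjFn x (fun t => (ext hs hV hVe'.le ψ' t : ℂ)) =
      fun t => (ext hs hV hVe.le ψ t : ℂ)} := by
    by_contra hn
    rw [not_nonempty_iff] at hn
    simp at h1
  obtain ⟨a, ha, b, hb, rfl⟩ := hs.exists_mul x
  rw [← conjFn_conjFn, (fix_iff hs hV hVe' ψ' a).mpr (Subgroup.mem_sup_left ha)] at hx
  refine ⟨MonoidHom.ext fun z => ?_, b, hb, fun y => ?_⟩
  · have e := congrFun hx ⟨(z : K), Subgroup.mem_sup_right z.2⟩
    simp only [conjFn_apply] at e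
    rw [show conjN b (⟨(z : K), Subgroup.mem_sup_right z.2⟩ : ↥(P ⊔ V)) =
      ⟨(z : K), Subgroup.mem_sup_right z.2⟩ from Subtype.ext (by
        simp only [coe_conjN]; rw [hs.U_comm b hb z (hV z.2), mul_inv_cancel_right]),
      ext_apply_right, ext_apply_right] at e
    exact Units.ext e
  · have e := congrFun hx ⟨(y : K), Subgroup.mem_sup_left y.2⟩
    simp only [conjFn_apply] at e
    rw [show conjN b (⟨(y : K), Subgroup.mem_sup_left y.2⟩ : ↥(P ⊔ V)) =
      ⟨((conjN b y : P) : K), Subgroup.mem_sup_left (conjN b y).2⟩ from Subtype.ext (by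
        simp only [coe_conjN]), ext_apply_left, ext_apply_left] at e
    exact Units.ext e

/-- The induced function contains `lam` once on `P`, and `ψ` on the cosets. -/
theorem coef_ind_self [Fintype P] (ψ : V →* ℂˣ) (z : V) :
    coef (slice (Cfsg.indFun (P ⊔ V) (fun t => (ext hs hV hVe.le ψ t : ℂ))) z) lam = (ψ z : ℂ) := by
  have := Fintype.ofFinite ↥(P ⊔ V)
  have := Fintype.ofFinite V
  have : Finite (V →* ℂˣ) := Nat.finite_of_card_ne_zero (by
    rw [Char.natCard_linear]; exact Subgroup.index_ne_zero_of_finite)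
  have := Fintype.ofFinite (V →* ℂˣ)
  rw [coef_slice_eq_sum hs hV (Char.indFun_isClassFunction _ _) hVe.le z, Finset.sum_eq_single ψ]
  · rw [Char.irr_classInner_self (isIrr_ind hs hV hVe ψ), one_mul]
  · intro ψ' _ hne
    rw [Char.irr_classInner_ne (isIrr_ind hs hV hVe ψ) (isIrr_ind hs hV hVe ψ') fun e =>
      hne (ind_eq hs hV hVe hVe e).1, zero_mul]
  · exact fun hn => absurd (Finset.mem_univ _) hn

end Full

omit hV in
/-- An irreducible character over `lam` is induced from an extension to the stabiliser. -/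
theorem exists_eq_ind [Fintype P] {lam : P →* ℂˣ} {θ : K → ℂ} (hθ : Cfsg.IsIrrCharacter K θ)
    (hne : coef (fun y : P => θ y) lam ≠ 0) :
    ∃ ψ : stab U lam →* ℂˣ, θ = Cfsg.indFun (P ⊔ stab U lam)
      (fun t => (ext hs (stab_le lam) le_rfl ψ t : ℂ)) := by
  have := Fintype.ofFinite (stab U lam)
  have := Fintype.ofFinite ↥(P ⊔ stab U lam)
  have : Finite (stab U lam →* ℂˣ) := Nat.finite_of_card_ne_zero (by
    rw [Char.natCard_linear]; exact Subgroup.index_ne_zero_of_finite)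
  have := Fintype.ofFinite (stab U lam →* ℂˣ)
  have e := coef_slice_eq_sum hs (stab_le lam) (Char.irr_isClassFunction hθ) le_rfl
    (1 : stab U lam)
  rw [show slice θ ((1 : stab U lam) : K) = fun y : P => θ y from
    funext fun y => by simp [slice]] at e
  rw [e] at hne
  obtain ⟨ψ, -, hψ⟩ := Finset.exists_ne_zero_of_sum_ne_zero hne
  exact ⟨ψ, by_contra fun hn => left_ne_zero_of_mul hψ
    (Char.irr_classInner_ne hθ (isIrr_ind hs (stab_le lam) rfl ψ) hn)⟩

omit hV in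
/-- Two characters of `P` under one irreducible character are conjugate under `U`. -/
theorem exists_conj [Fintype P] {lam lam' : P →* ℂˣ} {θ : K → ℂ} (hθ : Cfsg.IsIrrCharacter K θ)
    (h : coef (fun y : P => θ y) lam ≠ 0) (h' : coef (fun y : P => θ y) lam' ≠ 0) :
    ∃ z ∈ U, ∀ y : P, lam (conjN z y) = lam' y := by
  obtain ⟨g, hg⟩ := exists_conj_of_constituents hθ (Char.isIrrCharacter_linear lam)
    (Char.isIrrCharacter_linear lam') h h'
  obtain ⟨a, ha, b, hb, rfl⟩ := hs.exists_mul g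
  refine ⟨b, hb, fun y => Units.ext ?_⟩
  have e := congrFun hg y
  rw [conjFn_apply] at e
  rw [← e]
  refine congrArg (fun w => ((lam w : ℂˣ) : ℂ)) (Subtype.ext ?_)
  simp only [coe_conjN]
  calc b * (y : K) * b⁻¹ = a * (b * y * b⁻¹) * a⁻¹ := by
        rw [hs.P_comm a ha _ (‹P.Normal›.conj_mem (y : K) y.2 b), mul_inv_cancel_right]
    _ = a * b * y * (a * b)⁻¹ := by group

end CfsgLib.Clifford.SplitAbelian
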