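import Cfsg.Agent.Lib.Clifford.Coherence
import Cfsg.Agent.Lib.Clifford.Frobenius
import Cfsg.Agent.Lib.Char.Induce
import Cfsg.Agent.Lib.Char.Column
import Cfsg.Agent.Lib.Char.Integral

/-!
# Coherent sets of characters of a Frobenius subgroup and values on its kernel
-/

namespace CfsgLib.Clifford.Coh

open scoped ComplexConjugate

universe u

variable {N : Type u} [Group N] [Fintype N] (K : Subgroup N)

/-- The irreducible characters not trivial on `K`. -/
def relevant : Set (N → ℂ) := {χ | Cfsg.IsIrrCharacter N χ ∧ ∃ k ∈ K, χ k ≠ χ 1}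

/-- Irreducible characters trivial on `K` take their degree on `K`. -/
theorem eq_one_of_not_relevant {η : N → ℂ} (hη : Cfsg.IsIrrCharacter N η) (h : η ∉ relevant K)
    {k : N} (hk : k ∈ K) : η k = η 1 :=
  by_contra fun hne => h ⟨hη, k, hk, hne⟩

open Classical in
/-- Sum of `η 1 • η` over the relevant characters is constant on the non-identity elements. -/
theorem exists_sum_relevant_const [Fintype (Cfsg.IrrCharacter N)] :
    ∃ c : ℂ, ∀ k ∈ K, k ≠ 1 →
      ∑ η ∈ (Finset.univ : Finset (Cfsg.IrrCharacter N)).filter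
        (fun η : Cfsg.IrrCharacter N => (η : N → ℂ) ∈ relevant K), (η : N → ℂ) 1 * (η : N → ℂ) k = c := by
  refine ⟨-(∑ η ∈ (Finset.univ : Finset (Cfsg.IrrCharacter N)).filter
      (fun η : Cfsg.IrrCharacter N => ¬ (η : N → ℂ) ∈ relevant K), (η : N → ℂ) 1 * (η : N → ℂ) 1), fun k hk hk1 => ?_⟩
  have h := CfsgLib.Char.column_orthogonality k (1 : N)
  rw [if_neg (fun h => hk1 (isConj_one_left.mp h)),
    ← Finset.sum_filter_add_sum_filter_not _ (fun η : Cfsg.IrrCharacter N => (η : N → ℂ) ∈ relevant K)] at h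
  have hreal : ∀ η : Cfsg.IrrCharacter N, conj ((η : N → ℂ) 1) = (η : N → ℂ) 1 := fun η => by
    obtain ⟨d, -, hd⟩ := CfsgLib.Char.irr_apply_one_pos η.2
    rw [hd, map_natCast]
  simp only [hreal] at h
  rw [Finset.sum_congr rfl (s₁ := Finset.univ.filter fun η : Cfsg.IrrCharacter N =>
    ¬ (η : N → ℂ) ∈ relevant K) fun η hη => by
      rw [eq_one_of_not_relevant K η.2 (Finset.mem_filter.mp hη).2 hk]] at h
  rw [eq_neg_iff_add_eq_zero, ← h]
  congr 1
  exact Finset.sum_congr rfl fun η _ => mul_comm _ _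

section Star

variable {G : Type u} [Group G] [Fintype G] {M : Subgroup G} [Fintype M] (L : Subgroup M)
variable {star : (M → ℂ) → (G → ℂ)}

open Classical in
/-- Values on the kernel through a coherent extension of induction. -/
theorem exists_value_formula (hstar : Cfsg.IsLinearIsometryOn (Cfsg.zspan (relevant L)) star)
    (hext : ∀ α ∈ Cfsg.zspanOn (relevant L) ({1}ᶜ : Set M), star α = Cfsg.indFun M α)
    [Fintype (Cfsg.IrrCharacter M)] {ψ : G → ℂ} (hψ : Cfsg.IsClassFunction G ψ) :
    ∃ C : ℂ, ∀ k ∈ L, k ≠ 1 → ψ (k : G) =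
      ∑ η ∈ (Finset.univ : Finset (Cfsg.IrrCharacter M)).filter
        (fun η : Cfsg.IrrCharacter M => (η : M → ℂ) ∈ relevant L),
        Cfsg.classInner ψ (star (η : M → ℂ)) * (η : M → ℂ) k + C := by
  obtain ⟨c, hc⟩ := exists_sum_relevant_const L
  set res : M → ℂ := fun x => ψ x with hres
  have hresc : Cfsg.IsClassFunction M res := fun x y => hψ x y
  set S := (Finset.univ : Finset (Cfsg.IrrCharacter M)).filter
    (fun η : Cfsg.IrrCharacter M => (η : M → ℂ) ∈ relevant L) with hS
  -- the correction is proportional to the degree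
  have hprop : ∀ χ ∈ S, ∀ ξ ∈ S,
      (ξ : M → ℂ) 1 * (Cfsg.classInner res χ - Cfsg.classInner ψ (star χ)) =
        (χ : M → ℂ) 1 * (Cfsg.classInner res ξ - Cfsg.classInner ψ (star ξ)) := by
    intro χ hχ ξ hξ
    obtain ⟨a, -, ha⟩ := CfsgLib.Char.irr_apply_one_pos χ.2
    obtain ⟨b, -, hb⟩ := CfsgLib.Char.irr_apply_one_pos ξ.2
    have hχ' := mem_zspan_of_mem (Finset.mem_filter.mp hχ).2
    have hξ' := mem_zspan_of_mem (Finset.mem_filter.mp hξ).2
    have hm : (b : ℤ) • (χ : M → ℂ) - (a : ℤ) • (ξ : M → ℂ) ∈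
        Cfsg.zspanOn (relevant L) ({1}ᶜ : Set M) :=
      mem_zspanOn_compl.mpr ⟨Submodule.sub_mem _ (Submodule.smul_mem _ _ hχ')
        (Submodule.smul_mem _ _ hξ'), by simp [ha, hb, mul_comm]⟩
    have h := congr_arg (fun z => Cfsg.classInner z ψ) (hext _ hm)
    simp only [iso_zspan_sub hstar (Submodule.smul_mem _ _ hχ') (Submodule.smul_mem _ _ hξ'),
      hstar.2.1 _ hχ', hstar.2.1 _ hξ', CfsgLib.Char.frobenius_reciprocity M _ _ hψ,
      CfsgLib.Char.classInner_sub_left, classInner_zsmul_left, Int.cast_natCast] at h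
    have h2 := congr_arg conj h
    simp only [map_sub, map_mul, map_natCast, CfsgLib.Char.classInner_conj_symm] at h2
    rw [ha, hb]
    linear_combination -h2
  obtain ⟨b, hb⟩ : ∃ b : ℂ, ∀ η ∈ S,
      Cfsg.classInner res η = Cfsg.classInner ψ (star η) + b * (η : M → ℂ) 1 := by
    rcases S.eq_empty_or_nonempty with h | ⟨η₀, hη₀⟩
    · exact ⟨0, fun η hη => absurd hη (by simp [h])⟩
    · refine ⟨(Cfsg.classInner res η₀ - Cfsg.classInner ψ (star η₀)) / (η₀ : M → ℂ) 1,
        fun η hη => ?_⟩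
      have h := hprop η hη η₀ hη₀
      have hne := CfsgLib.Char.irr_apply_one_ne_zero η₀.2
      field_simp
      linear_combination h
  refine ⟨b * c + ∑ η ∈ (Finset.univ : Finset (Cfsg.IrrCharacter M)).filter
    (fun η : Cfsg.IrrCharacter M => ¬ (η : M → ℂ) ∈ relevant L), Cfsg.classInner res η * (η : M → ℂ) 1, fun k hk hk1 => ?_⟩
  have hexp := congr_fun (CfsgLib.Char.classFunction_eq_sum hresc) k
  simp only [Finset.sum_apply, Pi.smul_apply, smul_eq_mul] at hexp
  rw [← Finset.sum_filter_add_sum_filter_not _ (fun η : Cfsg.IrrCharacter M => (η : M → ℂ) ∈ relevant L),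
    Finset.sum_congr rfl (s₁ := Finset.univ.filter fun η : Cfsg.IrrCharacter M =>
      ¬ (η : M → ℂ) ∈ relevant L) fun η hη => by
        rw [eq_one_of_not_relevant L η.2 (Finset.mem_filter.mp hη).2 hk]] at hexp
  rw [show ψ (k : G) = res k from rfl, hexp, ← hc k hk hk1, ← hS, ← add_assoc, Finset.mul_sum,
    ← Finset.sum_add_distrib]
  congr 1
  exact Finset.sum_congr rfl fun η hη => by rw [hb η hη]; ring

end Star

/-- A complex number whose multiples by all non-principal degrees are integers is an integer. -/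
theorem exists_int_of_mul_degree {H : Type u} [Group H] [Fintype H] [Nontrivial H] (q : ℂ)
    (h : ∀ φ, Cfsg.IsIrrCharacter H φ → φ ≠ (fun _ => 1) → ∃ n : ℤ, q * φ 1 = n) :
    ∃ n : ℤ, q = n := by
  classical
  have := Fintype.ofFinite (Cfsg.IrrCharacter H)
  let one : Cfsg.IrrCharacter H := ⟨fun _ => 1, CfsgLib.Char.isIrrCharacter_one⟩
  choose! n hn using fun η : Cfsg.IrrCharacter H => fun hne : η ≠ one =>
    h η η.2 fun e => hne (Subtype.ext e)
  choose d hd0 hd using fun η : Cfsg.IrrCharacter H => CfsgLib.Char.irr_apply_one_pos η.2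
  have hsum := CfsgLib.Char.column_orthogonality (1 : H) (1 : H)
  rw [if_pos (IsConj.refl 1), ← Finset.add_sum_erase _ _ (Finset.mem_univ one)] at hsum
  have hcen : Subgroup.centralizer ({1} : Set H) = ⊤ :=
    Subgroup.ext fun x => by simp [Subgroup.mem_centralizer_singleton_iff]
  rw [hcen, Subgroup.card_top] at hsum
  have hsum' : (Nat.card H : ℂ) - 1 = ∑ η ∈ Finset.univ.erase one, (d η : ℂ) * d η := by
    rw [← hsum]
    simp only [hd, map_natCast]
    have : (d one : ℂ) = 1 := (hd one).symm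
    rw [this]; ring
  have h1 : q * ((Nat.card H : ℂ) - 1) = ((∑ η ∈ Finset.univ.erase one, n η * d η : ℤ) : ℂ) := by
    rw [hsum', Finset.mul_sum]
    push_cast
    refine Finset.sum_congr rfl fun η hη => ?_
    rw [← hn η (Finset.mem_erase.mp hη).1, hd]; ring
  obtain ⟨η, hη⟩ : ∃ η : Cfsg.IrrCharacter H, η ≠ one := by
    by_contra hall
    push Not at hall
    have hc : Nat.card H = 1 := by
      rw [show Finset.univ.erase one = ∅ from Finset.eq_empty_of_forall_notMem fun η hη =>
        (Finset.mem_erase.mp hη).1 (hall η), Finset.sum_empty, sub_eq_zero] at hsum'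
      exact_mod_cast hsum'
    have := Finite.one_lt_card (α := H)
    omega
  obtain ⟨m, hm⟩ : ∃ m : ℕ, Nat.card H = d η * m := by
    obtain ⟨k, ρ, hρ, hη'⟩ := η.2
    have hk : k = d η := by
      have := hd η
      rw [← hη', Representation.char_one, Module.finrank_fin_fun] at this
      exact_mod_cast this
    have h := CfsgLib.Char.degree_dvd_card ρ
    rwa [Module.finrank_fin_fun, hk] at h
  refine ⟨n η * m - ∑ η ∈ Finset.univ.erase one, n η * d η, ?_⟩
  rw [Int.cast_sub, ← h1, Int.cast_mul, ← hn η hη, Int.cast_natCast, hd, hm]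
  push_cast; ring

end CfsgLib.Clifford.Coh
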