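import Cfsg.Agent.Lib.Clifford.Zass
import Cfsg.Agent.Lib.Char.Column

/-!
# Counting in Zassenhaus groups: fixed point free classes, induced linear characters
-/

set_option autoImplicit false
set_option linter.unusedSectionVars false

namespace CfsgLib.Clifford

open MulAction
open scoped ComplexConjugate

universe u v

variable {G : Type u} {Ω : Type v} [Group G] [MulAction G Ω] [Fintype Ω]

open scoped Classical in
/-- Twice the number of fixed point free elements. -/
theorem zass_fpf_count [Fintype G] (hZ : Cfsg.IsZassenhausGroup G Ω) {a b : Ω} (hab : a ≠ b) :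
    2 * (Finset.univ.filter fun g : G => ∀ c : Ω, g • c ≠ c).card +
      (Fintype.card Ω - 1) * (Fintype.card Ω - 2) = Nat.card G := by
  obtain ⟨-, hbig⟩ := zass_big hZ hab
  obtain ⟨hf, h2t, h3, -, -⟩ := hZ
  haveI := isPretransitive_of_is_two_pretransitive (h2 := h2t)
  set n := Fintype.card Ω with hn
  let F : G → Finset Ω := fun g => Finset.univ.filter fun c : Ω => g • c = c
  have hstab : ∀ c : Ω, n * (Finset.univ.filter fun g : G => g • c = c).card = Nat.card G := by
    intro c
    rw [← (stabilizer G c).index_mul_card, index_stabilizer, orbit_eq_univ, Set.ncard_univ,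
      Nat.card_eq_fintype_card, ← hn, Nat.card_eq_fintype_card, Fintype.card_subtype]
    rfl
  have h1 : ∑ g : G, (F g).card = Nat.card G := by
    simp only [F, Finset.card_filter]
    rw [Finset.sum_comm]
    simp only [← Finset.card_filter]
    refine Nat.eq_of_mul_eq_mul_left (show 0 < n by omega) ?_
    rw [Finset.mul_sum, Finset.sum_congr rfl fun c _ => hstab c, Finset.sum_const, Finset.card_univ,
      smul_eq_mul]
  have h2 : ∑ g : G, (F g).offDiag.card = Nat.card G := by
    have e : ∀ g : G, (F g).offDiag =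
        (Finset.univ : Finset Ω).offDiag.filter fun p => g • p.1 = p.1 ∧ g • p.2 = p.2 := fun g => by
      ext ⟨x, y⟩
      simp only [F, Finset.mem_offDiag, Finset.mem_filter, Finset.mem_univ, true_and]
      tauto
    simp only [e, Finset.card_filter]
    rw [Finset.sum_comm]
    simp only [← Finset.card_filter]
    have hp : ∀ p ∈ (Finset.univ : Finset Ω).offDiag,
        (n * (n - 1)) * (Finset.univ.filter fun g : G => g • p.1 = p.1 ∧ g • p.2 = p.2).card =
          Nat.card G := by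
      rintro ⟨x, y⟩ hxy
      rw [CfsgLib.Perm.natCard_two_transitive h2t (Finset.mem_offDiag.mp hxy).2.2,
        mul_comm, ← hn, Nat.card_eq_fintype_card, Fintype.card_subtype]
      simp only [Subgroup.mem_inf, mem_stabilizer_iff]
    refine Nat.eq_of_mul_eq_mul_left (show 0 < n * (n - 1) from Nat.mul_pos (by omega) (by omega)) ?_
    rw [Finset.mul_sum, Finset.sum_congr rfl hp, Finset.sum_const, Finset.offDiag_card,
      Finset.card_univ, smul_eq_mul, ← hn]
    rw [Nat.mul_sub, mul_one]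
  have key : ∀ g : G, ((if (∀ c : Ω, g • c ≠ c) then 2 else 0 : ℤ)) =
      2 - 2 * (F g).card + (F g).offDiag.card -
        if g = 1 then (2 - 2 * (n : ℤ) + n * (n - 1)) else 0 := by
    intro g
    have hoff : ((F g).offDiag.card : ℤ) = (F g).card * (F g).card - (F g).card := by
      rw [Finset.offDiag_card, Nat.cast_sub (Nat.le_mul_self _)]; push_cast; rfl
    by_cases hg : g = 1
    · subst hg
      have : F 1 = Finset.univ := by simp [F]
      rw [hoff, this, Finset.card_univ, ← hn, if_pos rfl, if_neg ?_]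
      · ring
      · intro h
        exact h a (one_smul _ _)
    rw [if_neg hg, sub_zero, hoff]
    have hle : (F g).card ≤ 2 := by
      by_contra hlt
      obtain ⟨x, hx, y, hy, z, hz, hxy, hxz, hyz⟩ := Finset.two_lt_card.mp (not_le.mp hlt)
      simp only [F, Finset.mem_filter, Finset.mem_univ, true_and] at hx hy hz
      exact hg (h3 g x y z hxy hyz hxz hx hy hz)
    by_cases h0 : ∀ c : Ω, g • c ≠ c
    · rw [if_pos h0, show (F g).card = 0 from Finset.card_eq_zero.mpr
        (Finset.filter_eq_empty_iff.mpr fun c _ => h0 c)]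
      simp
    · rw [if_neg h0]
      have h0' : (F g).card ≠ 0 := by
        rw [Ne, Finset.card_eq_zero, Finset.filter_eq_empty_iff]
        exact fun h => h0 fun c => h (Finset.mem_univ c)
      rcases (show (F g).card = 1 ∨ (F g).card = 2 by omega) with h | h <;> rw [h] <;> norm_num
  have hs := Finset.sum_congr (s₁ := (Finset.univ : Finset G)) rfl fun g _ => key g
  rw [← Finset.sum_filter, Finset.sum_const, nsmul_eq_mul, Finset.sum_sub_distrib,
    Finset.sum_add_distrib, Finset.sum_sub_distrib, Finset.sum_ite_eq', if_pos (Finset.mem_univ _),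
    ← Finset.mul_sum, Finset.sum_const, Finset.card_univ, nsmul_eq_mul, ← Nat.cast_sum,
    ← Nat.cast_sum, h1, h2, ← Nat.card_eq_fintype_card] at hs
  zify [show 1 ≤ n by omega, show 2 ≤ n by omega]
  linear_combination hs

/-- Not all fixed point free elements are conjugate. -/
theorem zass_two_fpf_classes [Finite G] (hZ : Cfsg.IsZassenhausGroup G Ω) {a b : Ω} (hab : a ≠ b)
    (hodd : Odd (Nat.card (stabilizer G a ⊓ stabilizer G b : Subgroup G))) :
    ∃ x y : G, (∀ c : Ω, x • c ≠ c) ∧ (∀ c : Ω, y • c ≠ c) ∧ ¬ IsConj x y := by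
  classical
  have := Fintype.ofFinite G
  obtain ⟨he, hbig⟩ := zass_big hZ hab
  have hD := zass_fpf_count hZ hab
  have hG := CfsgLib.Perm.natCard_two_transitive (G := G) hZ.2.1 hab
  set D := Finset.univ.filter fun g : G => ∀ c : Ω, g • c ≠ c with hDdef
  set e := Nat.card (stabilizer G a ⊓ stabilizer G b : Subgroup G) with hedef
  obtain ⟨m, hm⟩ : ∃ m, Fintype.card Ω = m + 3 := ⟨Fintype.card Ω - 3, by omega⟩
  rw [hm] at hD hG
  rw [show m + 3 - 1 = m + 2 by omega, show m + 3 - 2 = m + 1 by omega] at hD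
  rw [show m + 3 - 1 = m + 2 by omega] at hG
  have he3 : 3 ≤ e := by
    obtain ⟨t, ht⟩ := hodd
    omega
  have hpos : 0 < D.card := by
    by_contra h0
    have : D.card = 0 := by omega
    have hlt : (m + 2) * (m + 1) < e * ((m + 3) * (m + 2)) := by nlinarith
    omega
  obtain ⟨x, hx⟩ := Finset.card_pos.mp hpos
  by_contra hcon
  push Not at hcon
  have hclass : D = Finset.univ.filter (IsConj x) := by
    ext y
    simp only [hDdef, Finset.mem_filter, Finset.mem_univ, true_and]
    refine ⟨fun hy => hcon x y (Finset.mem_filter.mp hx).2 hy, fun hy c hc => ?_⟩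
    obtain ⟨g, rfl⟩ := isConj_iff.mp hy
    refine (Finset.mem_filter.mp hx).2 (g⁻¹ • c) ?_
    rw [mul_smul, mul_smul, smul_eq_iff_eq_inv_smul] at hc
    exact hc
  have hdvd : D.card ∣ Nat.card G := by
    refine ⟨Nat.card (Subgroup.centralizer ({x} : Set G)), ?_⟩
    rw [← CfsgLib.Char.natCard_carrier_mul_centralizer x, Nat.card_eq_fintype_card, hclass,
      ← Fintype.card_subtype]
    congr 1
  obtain ⟨k, hk⟩ := hdvd
  have hk3 : 3 ≤ k := by
    by_contra hlt
    have : D.card * k ≤ D.card * 2 := Nat.mul_le_mul_left _ (by omega)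
    nlinarith
  have h3 : D.card * 3 ≤ D.card * k := Nat.mul_le_mul_left _ hk3
  have h4 : 3 * ((m + 3) * (m + 2)) ≤ e * ((m + 3) * (m + 2)) := Nat.mul_le_mul_right _ he3
  nlinarith

namespace Zass

variable {a b : Ω} {H : Subgroup G} (C : Zass G Ω a b H)

local notation "𝐄" => (stabilizer G a ⊓ stabilizer G b : Subgroup G)
local notation "𝐁" => stabilizer G a

include C

open scoped Classical in
/-- At least `|E|` classes avoid the kernel. -/
theorem classes_avoiding_kernel [Fintype G] (hlt : Nat.card 𝐄 < Nat.card H) :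
    Nat.card 𝐄 ≤ Nat.card {K : ConjClasses G // ∀ g : G, ConjClasses.mk g = K → g ∉ H} := by
  have : Fintype (ConjClasses G) := Fintype.ofFinite _
  have hh := C.card_H
  let T := Finset.univ.filter fun g : G => g * g = 1 ∧ g ≠ 1
  let N : G → ℕ := fun u => (T.filter fun x => x * u ∈ T).card
  have hT : ∀ g, g ∈ T ↔ g * g = 1 ∧ g ≠ 1 := fun g => by simp [T]
  have hTi : ∀ g ∈ T, g⁻¹ = g := fun g hg => inv_eq_of_mul_eq_one_right ((hT g).mp hg).1
  have hN : ∀ u, N u ≤ Nat.card (Subgroup.centralizer ({u} : Set G)) := by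
    intro u
    rcases (T.filter fun x => x * u ∈ T).eq_empty_or_nonempty with h | ⟨x₀, hx₀⟩
    · simp [N, h]
    have hflip : ∀ x ∈ T.filter (fun x => x * u ∈ T), x * u * x = u⁻¹ := by
      intro x hx
      obtain ⟨h1, h2⟩ := Finset.mem_filter.mp hx
      have e := ((hT _).mp h2).1
      rw [eq_inv_iff_mul_eq_one]
      rwa [mul_assoc (x * u) x u]
    rw [Nat.card_eq_fintype_card, ← Finset.card_univ]
    refine Finset.card_le_card_of_injOn (fun x => if hx : x ∈ T.filter (fun x => x * u ∈ T) then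
      (⟨x₀ * x, ?_⟩ : Subgroup.centralizer ({u} : Set G)) else 1) (fun _ _ => Finset.mem_coe.mpr (Finset.mem_univ _)) ?_
    · rw [Subgroup.mem_centralizer_singleton_iff]
      have h1 := hflip x hx
      have h2 := hflip x₀ hx₀
      have h1' : x * u = u⁻¹ * x := by
        rw [← h1, mul_assoc (x * u), ((hT x).mp (Finset.mem_filter.mp hx).1).1, mul_one]
      have h2' : x₀ * u⁻¹ = u * x₀ := by
        rw [← h2, ← mul_assoc, ← mul_assoc, ((hT x₀).mp (Finset.mem_filter.mp hx₀).1).1, one_mul]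
      rw [mul_assoc, h1', ← mul_assoc, h2', mul_assoc]
    · intro x hx y hy e
      rw [Finset.mem_coe] at hx hy
      simp only [dif_pos hx, dif_pos hy, Subtype.mk.injEq] at e
      exact mul_left_cancel e
  -- the good classes
  let R := Finset.univ.filter fun K : ConjClasses G => ∀ g : G, ConjClasses.mk g = K → g ∉ H
  have hgood : ∑ u ∈ Finset.univ.filter (fun u => ConjClasses.mk u ∈ R), N u ≤ R.card * Nat.card G := by
    rw [← Finset.sum_fiberwise_of_maps_to (g := ConjClasses.mk) (t := R)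
      (fun u hu => (Finset.mem_filter.mp hu).2), ← smul_eq_mul]
    refine Finset.sum_le_card_nsmul _ _ _ fun K hK => ?_
    obtain ⟨u₀, rfl⟩ := ConjClasses.mk_surjective K
    refine le_trans (Finset.sum_le_card_nsmul _ _ (Nat.card (Subgroup.centralizer ({u₀} : Set G)))
      fun u hu => ?_) ?_
    · obtain ⟨g, hg⟩ := isConj_iff.mp
        (ConjClasses.mk_eq_mk_iff_isConj.mp (Finset.mem_filter.mp hu).2).symm
      refine (hN u).trans (le_of_eq ?_)
      rw [← hg]
      refine Nat.card_congr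
        { toFun := fun z => ⟨g⁻¹ * z * g, Subgroup.mem_centralizer_singleton_iff.mpr ?_⟩
          invFun := fun z => ⟨g * z * g⁻¹, Subgroup.mem_centralizer_singleton_iff.mpr ?_⟩
          left_inv := fun z => Subtype.ext (by simp [mul_assoc])
          right_inv := fun z => Subtype.ext (by simp [mul_assoc]) }
      · have := Subgroup.mem_centralizer_singleton_iff.mp z.2
        calc g⁻¹ * z * g * u₀ = g⁻¹ * ((z : G) * (g * u₀ * g⁻¹)) * g := by group
          _ = u₀ * (g⁻¹ * z * g) := by rw [this]; group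
      · have := Subgroup.mem_centralizer_singleton_iff.mp z.2
        calc g * z * g⁻¹ * (g * u₀ * g⁻¹) = g * ((z : G) * u₀) * g⁻¹ := by group
          _ = g * u₀ * g⁻¹ * (g * z * g⁻¹) := by rw [this]; group
    · rw [smul_eq_mul, ← CfsgLib.Char.natCard_carrier_mul_centralizer u₀]
      refine Nat.mul_le_mul_right _ ?_
      rw [Nat.card_eq_fintype_card, ← Set.toFinset_card]
      refine Finset.card_le_card fun u hu => ?_
      rw [Set.mem_toFinset, ConjClasses.mem_carrier_iff_mk_eq]
      exact (Finset.mem_filter.mp hu).2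
  -- the pairs with product conjugate into the kernel
  let Bad : G → Finset G := fun x => T.filter fun y => ConjClasses.mk (x * y) ∉ R
  have hsum : T.card * T.card ≤ R.card * Nat.card G + ∑ x ∈ T, (Bad x).card := by
    have hx : ∀ x ∈ T, T.card = (T.filter fun y => ConjClasses.mk (x * y) ∈ R).card + (Bad x).card :=
      fun x _ => (Finset.card_filter_add_card_filter_not _).symm
    calc T.card * T.card = ∑ x ∈ T, T.card := by rw [Finset.sum_const, smul_eq_mul]
      _ = ∑ x ∈ T, (T.filter fun y => ConjClasses.mk (x * y) ∈ R).card + ∑ x ∈ T, (Bad x).card := by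
          rw [← Finset.sum_add_distrib]; exact Finset.sum_congr rfl hx
      _ ≤ _ := by
          refine Nat.add_le_add_right (le_trans (le_of_eq ?_) hgood) _
          rw [← Finset.card_sigma, ← Finset.card_sigma]
          refine Finset.card_bij' (fun p _ => ⟨p.1 * p.2, p.1⟩) (fun p _ => ⟨p.2, p.2 * p.1⟩)
            ?_ ?_ ?_ ?_
          · rintro ⟨x, y⟩ hp
            simp only [Finset.mem_sigma, Finset.mem_filter] at hp
            simp only [Finset.mem_sigma, Finset.mem_filter, Finset.mem_univ, true_and]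
            refine ⟨hp.2.2, hp.1, ?_⟩
            rw [← mul_assoc, ((hT x).mp hp.1).1, one_mul]
            exact hp.2.1
          · rintro ⟨u, x⟩ hp
            simp only [Finset.mem_sigma, Finset.mem_filter, Finset.mem_univ, true_and] at hp
            simp only [Finset.mem_sigma, Finset.mem_filter]
            refine ⟨hp.2.1, hp.2.2, ?_⟩
            rw [← mul_assoc, ((hT x).mp hp.2.1).1, one_mul]
            exact hp.1
          · rintro ⟨x, y⟩ hp
            simp only [Finset.mem_sigma, Finset.mem_filter] at hp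
            simp [← mul_assoc, ((hT x).mp hp.1).1]
          · rintro ⟨u, x⟩ hp
            simp only [Finset.mem_sigma, Finset.mem_filter, Finset.mem_univ, true_and] at hp
            simp [← mul_assoc, ((hT x).mp hp.2.1).1]
  have hbad : ∀ x ∈ T, ∀ y ∈ Bad x, y = x ∨ ∃ c : Ω, x • c = c ∧ y • c = c := by
    intro x hx y hy
    obtain ⟨hy, hR⟩ := Finset.mem_filter.mp hy
    by_cases he : y = x
    · exact Or.inl he
    simp only [R, Finset.mem_filter, Finset.mem_univ, true_and, not_forall, not_not] at hR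
    obtain ⟨v, hv, hvH⟩ := hR
    obtain ⟨g, hg⟩ := isConj_iff.mp (ConjClasses.mk_eq_mk_iff_isConj.mp hv)
    have hsq : ∀ w ∈ T, (g⁻¹ * w * g) * (g⁻¹ * w * g) = 1 := fun w hw => by
      rw [show (g⁻¹ * w * g) * (g⁻¹ * w * g) = g⁻¹ * (w * w) * g by group, ((hT w).mp hw).1]
      group
    have hv1 : v ≠ 1 := by
      intro h1
      rw [h1] at hg
      have : x * y = 1 := by rw [← hg]; group
      exact he (by rw [eq_inv_of_mul_eq_one_right this, hTi x hx])
    obtain ⟨h1, h2, -⟩ := C.mem_of_mul_mem (x := g⁻¹ * x * g) (y := g⁻¹ * y * g) (hsq x hx) (hsq y hy)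
      hvH hv1 (by
        rw [show (g⁻¹ * x * g) * (g⁻¹ * y * g) = g⁻¹ * (x * y) * g by group, ← hg]; group)
    refine Or.inr ⟨g • a, ?_, ?_⟩
    · have := C.fix _ h1
      rwa [mul_smul, mul_smul, inv_smul_eq_iff] at this
    · have := C.fix _ h2
      rwa [mul_smul, mul_smul, inv_smul_eq_iff] at this
  have hTc := C.card_involutions
  have hG := C.card_G
  have hR : Nat.card {K : ConjClasses G // ∀ g : G, ConjClasses.mk g = K → g ∉ H} = R.card := by
    rw [Nat.card_eq_fintype_card, Fintype.card_subtype]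
  rw [hR]
  change T.card = _ at hTc
  set e := Nat.card 𝐄 with hedef
  set h := Nat.card H with hhdef
  have he0 : 0 < e := Nat.card_pos
  have hh0 : 0 < h := Nat.card_pos
  rcases Nat.even_or_odd h with hev | hodd
  · rw [if_pos hev] at hTc
    have hn : Odd (Fintype.card Ω) := hh ▸ hev.add_one
    haveI := isPretransitive_of_is_two_pretransitive (h2 := C.two)
    have hb : ∀ x ∈ T, (Bad x).card ≤ e := by
      intro x hx
      obtain ⟨c, hc⟩ := C.exists_fixed_of_odd hn ((hT x).mp hx).1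
      obtain ⟨t, ht⟩ := exists_smul_eq G a c
      refine le_trans (Finset.card_le_card_of_injOn (fun y => t⁻¹ * y * t) (fun y hy => ?_) ?_)
        (le_of_eq (C.card_kernel_involutions hev))
      · rw [Finset.mem_coe] at hy
        obtain ⟨hy1, hy2⟩ := (hT y).mp (Finset.mem_filter.mp hy).1
        have hyc : y • c = c := by
          rcases hbad x hx y hy with rfl | ⟨d, hd1, hd2⟩
          · exact hc
          · rwa [C.unique_fixed ((hT x).mp hx).1 ((hT x).mp hx).2 hc hd1]
        have hsq : t⁻¹ * y * t * (t⁻¹ * y * t) = 1 := by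
          rw [show t⁻¹ * y * t * (t⁻¹ * y * t) = t⁻¹ * (y * y) * t by group, hy1]; group
        refine Finset.mem_filter.mpr ⟨Finset.mem_univ _, hsq, fun e => hy2 ?_, C.involution_mem hsq ?_⟩
        · change t⁻¹ * y * t = 1 at e
          rw [show y = t * (t⁻¹ * y * t) * t⁻¹ by group, e]; group
        · rw [mul_smul, mul_smul, ht, hyc, inv_smul_eq_iff, ht]
      · intro y _ z _ e
        exact mul_left_cancel (mul_right_cancel e)
    have h1 : T.card * T.card ≤ R.card * Nat.card G + T.card * e := hsum.trans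
      (Nat.add_le_add_left ((Finset.sum_le_card_nsmul _ _ _ hb).trans (le_of_eq (smul_eq_mul _ _))) _)
    rw [hTc, hG] at h1
    by_contra hlt'
    have h2 : (R.card + 1) * (e * ((h + 1) * h)) ≤ e * (e * ((h + 1) * h)) :=
      Nat.mul_le_mul_right _ (by omega)
    have h3 : 0 < e * ((h + 1) * h) := by positivity
    nlinarith
  · rw [if_neg (Nat.not_even_iff_odd.mpr hodd)] at hTc
    have hn : Even (Fintype.card Ω) := hh ▸ hodd.add_one
    have hb : ∀ x ∈ T, (Bad x).card ≤ 1 := fun x hx => Finset.card_le_one_iff_subset_singleton.mpr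
      ⟨x, fun y hy => Finset.mem_singleton.mpr ((hbad x hx y hy).resolve_right fun ⟨c, hc, _⟩ =>
        C.no_fixed_of_even hn ((hT x).mp hx).1 ((hT x).mp hx).2 c hc)⟩
    have h1 : T.card * T.card ≤ R.card * Nat.card G + T.card * 1 := hsum.trans
      (Nat.add_le_add_left ((Finset.sum_le_card_nsmul _ _ _ hb).trans (le_of_eq (smul_eq_mul _ _))) _)
    rw [hTc, hG] at h1
    by_contra hlt'
    have h2 : (R.card + 1) * (e * ((h + 1) * h)) ≤ e * (e * ((h + 1) * h)) :=
      Nat.mul_le_mul_right _ (by omega)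
    have h3 : e * h * (e + 1) ≤ e * h * h := Nat.mul_le_mul_left _ (by omega)
    have h4 : 0 < e * h := Nat.mul_pos he0 hh0
    nlinarith

/-- The sum of a function over the point stabiliser. -/
theorem sum_stabilizer [Finite G] [Fintype H] [Fintype 𝐄] [Fintype 𝐁] (f : G → ℂ)
    (hf : ∀ u ∈ H, ∀ k ∈ 𝐄, f (u * k * u⁻¹) = f k) :
    ∑ g : 𝐁, f g = ∑ x : H, f x + (Nat.card H : ℂ) * (∑ k : 𝐄, f k - f 1) := by
  classical
  have hbij : Function.Bijective (fun p : H × 𝐄 => (⟨(p.1 : G) * p.2,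
      mul_mem (show (p.1 : G) ∈ 𝐁 from C.fix p.1 p.1.2) p.2.2.1⟩ : 𝐁)) := by
    constructor
    · rintro ⟨u, k⟩ ⟨u', k'⟩ e
      obtain ⟨h1, h2⟩ := C.decomp_unique u.2 u'.2 k.2 k'.2 (congr_arg Subtype.val e)
      exact Prod.ext (Subtype.ext h1) (Subtype.ext h2)
    · rintro ⟨g, hg⟩
      obtain ⟨u, hu, k, hk, e⟩ := C.exists_decomp hg
      exact ⟨(⟨u, hu⟩, ⟨k, hk⟩), Subtype.ext e.symm⟩
  rw [← (Equiv.ofBijective _ hbij).sum_comp, Fintype.sum_prod_type,
    Nat.card_eq_fintype_card, ← Finset.card_univ, ← nsmul_eq_mul, ← Finset.sum_const,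
    ← Finset.sum_add_distrib]
  refine Finset.sum_congr rfl fun u _ => ?_
  rw [← Finset.add_sum_erase _ _ (Finset.mem_univ (1 : 𝐄)),
    ← Finset.add_sum_erase _ (fun k : 𝐄 => f k) (Finset.mem_univ (1 : 𝐄))]
  simp only [Equiv.ofBijective_apply, OneMemClass.coe_one, mul_one, add_sub_cancel_left]
  congr 1
  refine Finset.sum_congr rfl fun k hk => ?_
  have hk1 : (k : G) ≠ 1 := fun e => (Finset.mem_erase.mp hk).1 (Subtype.ext e)
  obtain ⟨v, hv, e⟩ := C.exists_conj k.2 hk1 u.2
  rw [e, hf v hv k k.2]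

theorem ind_lam_kernel [Fintype G] (lam : stabilizer G a →* ℂˣ)
    (hlam : ∀ x : stabilizer G a, (x : G) ∈ H → lam x = 1) {x : G} (hx : x ∈ H) (hx1 : x ≠ 1) :
    Cfsg.indFun 𝐁 (fun g => (lam g : ℂ)) x = 1 := by
  classical
  have hterm : ∀ g : G, Cfsg.extendByZero 𝐁 (fun g => (lam g : ℂ)) (g⁻¹ * x * g) =
      if g ∈ 𝐁 then 1 else 0 := by
    intro g
    split_ifs with hg
    · have hm : g⁻¹ * x * g ∈ H := by
        have := C.normal g⁻¹ (by rw [inv_smul_eq_iff]; exact (mem_stabilizer_iff.mp hg).symm) x hx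
        simpa using this
      rw [CfsgLib.Char.extendByZero_of_mem _ (show g⁻¹ * x * g ∈ 𝐁 from C.fix _ hm), hlam _ hm,
        Units.val_one]
    · refine CfsgLib.Char.extendByZero_of_not_mem _ fun h => hg ?_
      have h' : (g⁻¹ * x * g) • a = a := h
      rw [mul_smul, mul_smul, inv_smul_eq_iff] at h'
      exact C.fix_only hx hx1 h'
  rw [CfsgLib.Char.indFun_def, Finset.sum_congr rfl fun g _ => hterm g, Finset.sum_boole,
    ← Fintype.card_subtype, Nat.card_eq_fintype_card,
    inv_mul_cancel₀ (Nat.cast_ne_zero.mpr Fintype.card_ne_zero)]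

theorem ind_lam_stab [Fintype G] (lam : stabilizer G a →* ℂˣ) (k : 𝐄) (hk : k ≠ 1) :
    Cfsg.indFun 𝐁 (fun g => (lam g : ℂ)) (k : G) =
      (lam ⟨(k : G), k.2.1⟩ : ℂ) + (((lam ⟨(k : G), k.2.1⟩)⁻¹ : ℂˣ) : ℂ) := by
  classical
  obtain ⟨s, hsa, hsb⟩ := C.exists_swap
  have hss := C.swap_sq hsa hsb
  have hsi : s⁻¹ = s := inv_eq_of_mul_eq_one_right hss
  set kB : 𝐁 := ⟨(k : G), k.2.1⟩ with hkB
  have hconj : ∀ u v : 𝐁, lam (u⁻¹ * v * u) = lam v := fun u v => by
    rw [map_mul, map_mul, map_inv, mul_right_comm, inv_mul_cancel, one_mul]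
  have hterm : ∀ g : G, Cfsg.extendByZero 𝐁 (fun g => (lam g : ℂ)) (g⁻¹ * (k : G) * g) =
      (if g ∈ 𝐁 then (lam kB : ℂ) else 0) +
        if g • a = b then (((lam kB)⁻¹ : ℂˣ) : ℂ) else 0 := by
    intro g
    by_cases h1 : g • a = a
    · have hg : g ∈ 𝐁 := h1
      rw [if_pos hg, if_neg (by rw [h1]; exact C.ab), add_zero]
      rw [show g⁻¹ * (k : G) * g = ((⟨g, hg⟩⁻¹ * kB * ⟨g, hg⟩ : 𝐁) : G) from rfl,
        CfsgLib.Char.extendByZero_coe, hconj]
    rw [if_neg (show g ∉ 𝐁 from h1), zero_add]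
    split_ifs with h2
    · have hg : s * g ∈ 𝐁 := show (s * g) • a = a by rw [mul_smul, h2, hsb]
      have hi : s * (k : G) * s = ((kB⁻¹ : 𝐁) : G) := by
        have := C.inv s hsa hsb k k.2
        rwa [hsi] at this
      rw [show g⁻¹ * (k : G) * g = (s * g)⁻¹ * (s * (k : G) * s) * (s * g) by
        rw [mul_inv_rev, hsi]; simp [mul_assoc, hss, show ∀ t : G, s * (s * t) = t from
          fun t => by rw [← mul_assoc, hss, one_mul]],
        hi, show (s * g)⁻¹ * ((kB⁻¹ : 𝐁) : G) * (s * g) =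
          ((⟨s * g, hg⟩⁻¹ * kB⁻¹ * ⟨s * g, hg⟩ : 𝐁) : G) from rfl, CfsgLib.Char.extendByZero_coe,
        hconj, map_inv]
    · refine CfsgLib.Char.extendByZero_of_not_mem _ fun h => hk (Subtype.ext ?_)
      have h' : (g⁻¹ * (k : G) * g) • a = a := h
      rw [mul_smul, mul_smul, inv_smul_eq_iff] at h'
      exact C.three k a b (g • a) C.ab (Ne.symm h2) (Ne.symm h1) k.2.1 k.2.2 h'
  have hB : ((Finset.univ : Finset G).filter fun g => g • a = b).card = Nat.card 𝐁 := by
    rw [Nat.card_eq_fintype_card, Fintype.card_subtype]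
    refine Finset.card_equiv (Equiv.mulLeft s) fun g => ?_
    simp only [Finset.mem_filter, Finset.mem_univ, true_and, Equiv.coe_mulLeft, mem_stabilizer_iff,
      mul_smul]
    exact ⟨fun h => by rw [h, hsb], fun h => MulAction.injective s (h.trans hsb.symm)⟩
  have hB' : ((Finset.univ : Finset G).filter fun g => g ∈ 𝐁).card = Nat.card 𝐁 := by
    rw [Nat.card_eq_fintype_card, Fintype.card_subtype]
  rw [CfsgLib.Char.indFun_def, Finset.sum_congr rfl fun g _ => hterm g, Finset.sum_add_distrib,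
    ← Finset.sum_filter, ← Finset.sum_filter, Finset.sum_const, Finset.sum_const, hB, hB',
    nsmul_eq_mul, nsmul_eq_mul, ← mul_add, inv_mul_cancel_left₀ CfsgLib.Char.natCard_ne_zero]

/-- Induced linear characters of the point stabiliser are irreducible. -/
theorem ind_lam_irr [Fintype G] (lam : stabilizer G a →* ℂˣ)
    (hlam : ∀ x : stabilizer G a, (x : G) ∈ H → lam x = 1) (hne : lam ≠ 1) :
    Cfsg.IsIrrCharacter G (Cfsg.indFun 𝐁 fun g => (lam g : ℂ)) := by
  classical
  have hirr := CfsgLib.Char.isIrrCharacter_linear lam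
  refine CfsgLib.Char.isIrrCharacter_iff.mpr
    ⟨CfsgLib.Char.isCharacter_indFun _ (CfsgLib.Char.irr_isCharacter hirr), ?_⟩
  set I := Cfsg.indFun 𝐁 fun g => (lam g : ℂ) with hI
  rw [CfsgLib.Char.frobenius_reciprocity _ _ _ (CfsgLib.Char.indFun_isClassFunction _ _),
    CfsgLib.Char.classInner_def]
  let j : 𝐄 → 𝐁 := fun k => ⟨(k : G), k.2.1⟩
  let f : G → ℂ := fun g => Cfsg.extendByZero 𝐁 (fun g => (lam g : ℂ)) g * conj (I g)
  have hf : ∀ g : 𝐁, (lam g : ℂ) * conj (I g) = f g := fun g => by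
    simp only [f, CfsgLib.Char.extendByZero_coe]
  rw [Finset.sum_congr rfl fun g _ => hf g, C.sum_stabilizer f ?_]
  swap
  · intro u hu k hk
    have hu' : u ∈ 𝐁 := C.fix u hu
    simp only [f, hI]
    rw [CfsgLib.Char.indFun_isClassFunction _ _ k u, CfsgLib.Char.extendByZero_of_mem _ hk.1,
      CfsgLib.Char.extendByZero_of_mem _ (mul_mem (mul_mem hu' hk.1) (inv_mem hu'))]
    congr 2
    show lam ((⟨u, hu'⟩ : 𝐁) * ⟨k, hk.1⟩ * (⟨u, hu'⟩ : 𝐁)⁻¹) = _
    rw [map_mul, map_mul, map_inv, mul_right_comm, mul_inv_cancel, one_mul]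
  have hidx : (𝐁).index = Nat.card H + 1 := by
    haveI := isPretransitive_of_is_two_pretransitive (h2 := C.two)
    rw [index_stabilizer, orbit_eq_univ, Set.ncard_univ, Nat.card_eq_fintype_card, C.card_H]
  have hFs : ∑ x : H, f x = ((Nat.card H + 1 : ℕ) : ℂ) + ((Nat.card H : ℂ) - 1) := by
    rw [← Finset.add_sum_erase _ _ (Finset.mem_univ (1 : H))]
    congr 1
    · simp only [f, hI, OneMemClass.coe_one, CfsgLib.Char.indFun_apply_one, hidx]
      rw [show (1 : G) = ((1 : 𝐁) : G) from rfl, CfsgLib.Char.extendByZero_coe, map_one,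
        Units.val_one, one_mul, mul_one, map_natCast]
    · rw [Finset.sum_congr rfl (g := fun _ => (1 : ℂ)) fun x hx => ?_, Finset.sum_const,
        Finset.card_erase_of_mem (Finset.mem_univ _), Finset.card_univ, nsmul_eq_mul, mul_one,
        ← Nat.card_eq_fintype_card, Nat.cast_sub Nat.card_pos, Nat.cast_one]
      simp only [f, hI]
      rw [C.ind_lam_kernel lam hlam x.2 (fun e => (Finset.mem_erase.mp hx).1 (Subtype.ext e)),
        CfsgLib.Char.extendByZero_of_mem _ (show (x : G) ∈ 𝐁 from C.fix x x.2), hlam _ x.2,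
        Units.val_one, map_one, one_mul]
  have hc : ∀ u : 𝐁, conj (lam u : ℂ) = ((lam u)⁻¹ : ℂˣ) := fun u => by
    rw [← map_inv]
    exact (CfsgLib.Char.char_inv (CfsgLib.Char.irr_isCharacter hirr) u).symm
  have hHs : ∑ k : 𝐄, f k - f 1 = ∑ k : 𝐄, ((lam (j k) : ℂ) ^ 2 + 1) - 2 := by
    rw [← Finset.add_sum_erase _ _ (Finset.mem_univ (1 : 𝐄)),
      ← Finset.add_sum_erase _ (fun k : 𝐄 => (lam (j k) : ℂ) ^ 2 + 1) (Finset.mem_univ (1 : 𝐄))]
    have e : (lam (j 1) : ℂ) ^ 2 + 1 = 2 := by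
      rw [show j 1 = 1 from rfl, map_one, Units.val_one]; norm_num
    rw [OneMemClass.coe_one, add_sub_cancel_left, e, add_sub_cancel_left]
    refine Finset.sum_congr rfl fun k hk => ?_
    simp only [f, hI]
    rw [C.ind_lam_stab lam k (Finset.mem_erase.mp hk).1]
    show Cfsg.extendByZero 𝐁 (fun g => (lam g : ℂ)) ((j k : 𝐁) : G) *
      conj ((lam (j k) : ℂ) + (((lam (j k))⁻¹ : ℂˣ) : ℂ)) = _
    rw [CfsgLib.Char.extendByZero_coe, map_add, mul_add, hc, Units.mul_inv, add_comm, pow_two]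
    congr 1
    have h2 := hc (j k)
    rw [← Complex.conj_conj (lam (j k) : ℂ), h2]
  have hsum : ∑ k : 𝐄, (lam (j k) : ℂ) ^ 2 = 0 := by
    obtain ⟨k₀, hk₀⟩ : ∃ k₀ : 𝐄, lam (j k₀) ^ 2 ≠ 1 := by
      by_contra hc'
      push Not at hc'
      refine hne (MonoidHom.ext fun g => ?_)
      obtain ⟨u, hu, k, hk, e⟩ := C.exists_decomp (g.2 : (g : G) • a = a)
      rw [show g = (⟨u, C.fix u hu⟩ : 𝐁) * j ⟨k, hk⟩ from Subtype.ext e, map_mul,
        hlam ⟨u, C.fix u hu⟩ hu, one_mul]
      have h1 : lam (j ⟨k, hk⟩) ^ Nat.card 𝐄 = 1 := by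
        rw [← map_pow, show j ⟨k, hk⟩ ^ Nat.card 𝐄 = 1 from Subtype.ext (by
          show k ^ Nat.card 𝐄 = 1
          exact congr_arg Subtype.val (pow_card_eq_one' (x := (⟨k, hk⟩ : 𝐄)))), map_one]
      have h3 := pow_gcd_eq_one.mpr ⟨h1, hc' ⟨k, hk⟩⟩
      rwa [(Nat.coprime_two_right.mpr C.odd).gcd_eq_one, pow_one] at h3
    have h1 : (lam (j k₀) : ℂ) ^ 2 * ∑ k : 𝐄, (lam (j k) : ℂ) ^ 2 =
        ∑ k : 𝐄, (lam (j k) : ℂ) ^ 2 := by
      rw [Finset.mul_sum]
      refine Fintype.sum_equiv (Equiv.mulLeft k₀) _ _ fun k => ?_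
      simp only [Equiv.coe_mulLeft, show j (k₀ * k) = j k₀ * j k from rfl, map_mul, Units.val_mul,
        mul_pow]
    have h2 : (lam (j k₀) : ℂ) ^ 2 - 1 ≠ 0 := sub_ne_zero.mpr fun e => hk₀ (Units.ext (by
      rw [Units.val_pow_eq_pow_val]; exact e))
    exact (mul_eq_zero.mp (show ((lam (j k₀) : ℂ) ^ 2 - 1) * _ = 0 by
      rw [sub_mul, h1, one_mul, sub_self])).resolve_left h2
  have hcardB : Nat.card 𝐁 = Nat.card H * Nat.card 𝐄 := by
    refine Nat.eq_of_mul_eq_mul_left (show 0 < Nat.card H + 1 by omega) ?_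
    rw [← hidx, (𝐁).index_mul_card, C.card_G, hidx]; ring
  rw [hFs, hHs, Finset.sum_add_distrib, hsum, zero_add, Finset.sum_const, Finset.card_univ,
    nsmul_eq_mul, mul_one, ← Nat.card_eq_fintype_card, hcardB]
  have hq : (Nat.card H : ℂ) ≠ 0 := CfsgLib.Char.natCard_ne_zero
  have hh : (Nat.card 𝐄 : ℂ) ≠ 0 := CfsgLib.Char.natCard_ne_zero
  push_cast
  field_simp
  ring

end Zass

end CfsgLib.Clifford
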